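import Cfsg.Statements.S5083
import Mathlib
import Cfsg.Agent.Lib.Helper1.FusAlp
import Cfsg.Agent.Lib.Helper7.PCore
import Cfsg.Agent.S5080

set_option autoImplicit false
open Cfsg

namespace Cfsg.Agent.S5083

open Cfsg.Agent.Lib.Helper1 Cfsg.Agent.Lib.Helper7

theorem fs_ext {Ω : Type*} [Group Ω] {S : Subgroup Ω} (F E : Cfsg.FusionSystem S)
    (h : ∀ P : Subgroup Ω, F.Hom P = E.Hom P) : F = E := by
  cases F
  cases E
  simp only [Cfsg.FusionSystem.mk.injEq]
  funext P
  exact h P

theorem autInducedBy_le_inner {Ω : Type*} [Group Ω] (S : Subgroup Ω) {P : Subgroup Ω}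
    (hP : P ≤ S) : Cfsg.autInducedBy S P ≤ (Cfsg.innerFusionSystem S).autGroup P := by
  unfold Cfsg.autInducedBy
  rw [Subgroup.closure_le]
  rintro α ⟨g, hg, hα⟩
  exact Subgroup.subset_closure ⟨hP, g, hg, fun x => hα x⟩

theorem sylow_eq_top_of_isPGroup {X : Type*} [Group X] [Finite X] {p : ℕ} [Fact p.Prime]
    (hX : IsPGroup p X) (R : Sylow p X) : (R : Subgroup X) = ⊤ := by
  rw [← Subgroup.index_eq_one]
  obtain ⟨k, hk⟩ := IsPGroup.iff_card.mp hX
  have h1 : (R : Subgroup X).index ∣ p ^ k := by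
    rw [← hk]; exact Subgroup.index_dvd_card _
  obtain ⟨j, -, hj⟩ := (Nat.dvd_prime_pow Fact.out).mp h1
  rcases Nat.eq_zero_or_pos j with h0 | hpos
  · rw [hj, h0, pow_zero]
  · exfalso
    apply R.not_dvd_index
    rw [hj]
    exact dvd_pow_self p (by omega)

/-- If F is a saturated fusion system over a finite p-group S in which Aut_F(P) is a p-group for every P ≤ S, then F is the inner fusion system of S (all its maps are conjugations by elements of S). -/
theorem result {Ω : Type*} [Group Ω] {S : Subgroup Ω} [Finite S] (p : ℕ) [Fact p.Prime] (hS : IsPGroup p S) (F : Cfsg.FusionSystem S) (hF : F.IsSaturated p) (h : ∀ P : Subgroup Ω, P ≤ S → IsPGroup p (F.autGroup P)) : F = Cfsg.innerFusionSystem S := by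
  have hle : ∀ (P : Subgroup Ω) (φ : P →* Ω), φ ∈ F.Hom P → φ ∈ (Cfsg.innerFusionSystem S).Hom P := by
    apply fs_alperin p hS F hF
    rintro P (rfl | hess)
    · have hfn : F.IsFullyNormalized P := by
        refine ⟨le_rfl, fun Q _ => ?_⟩
        have e : Cfsg.FusionSystem.normalizerIn P P = P := inf_eq_left.mpr Subgroup.le_normalizer
        rw [e]
        exact Subgroup.card_le_of_le inf_le_left
      obtain ⟨-, R, hR⟩ := fs_fullyAutomized_of_fullyNormalized p hS F hF P hfn
      have hRtop := sylow_eq_top_of_isPGroup (h P le_rfl) R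
      intro α hα
      have h1 : (⟨α, hα⟩ : ↥(F.autGroup P)) ∈ (R : Subgroup ↥(F.autGroup P)) := by
        rw [hRtop]; exact Subgroup.mem_top _
      rw [hR, Subgroup.mem_subgroupOf] at h1
      exact autInducedBy_le_inner P le_rfl h1
    · exfalso
      obtain ⟨hcen, hfn, hI, M, hM⟩ := hess
      have hPS := hfn.1
      haveI : Finite P := fs_finite_of_le hPS
      have hO := Cfsg.Agent.S5080.pCore_eq_bot_of_spe hM
      have hXp : IsPGroup p (↥(F.autGroup P) ⧸ (Cfsg.Inn P).subgroupOf (F.autGroup P)) :=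
        (h P hPS).to_quotient _
      have htop : (⊤ : Subgroup (↥(F.autGroup P) ⧸ (Cfsg.Inn P).subgroupOf (F.autGroup P))) ≤
          Cfsg.pCore p (↥(F.autGroup P) ⧸ (Cfsg.Inn P).subgroupOf (F.autGroup P)) :=
        le_pCore Subgroup.normal_top (hXp.to_subgroup _)
      rw [hO] at htop
      have hcard : Nat.card (↥(F.autGroup P) ⧸ (Cfsg.Inn P).subgroupOf (F.autGroup P)) = 1 := by
        rw [← Subgroup.card_top, le_bot_iff.mp htop, Subgroup.card_bot]
      have := hM.1
      rw [hcard] at this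
      exact (Fact.out : p.Prime).one_lt.ne' (Nat.dvd_one.mp this)
  apply fs_ext
  intro P
  apply Set.Subset.antisymm
  · exact fun φ hφ => hle P φ hφ
  · rintro φ ⟨hP, g, hg, hφ⟩
    have h1 := F.conj_mem (g := g) hP hg
    have e : Cfsg.conjHom P g = φ := by
      ext x
      exact (hφ x).symm
    rwa [e] at h1

end Cfsg.Agent.S5083
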