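import Cfsg.Statements.S0071
import Cfsg.Agent.Lib.Helper2.Frobenius
import Cfsg.Agent.Lib.Helper2.Burnside
-- import your own Cfsg.Agent.* helpers here

set_option autoImplicit false
open Cfsg

namespace Cfsg.Agent.S0071

open Cfsg.Agent.Lib.Helper2

/-- The Frobenius normal p-complement Theorem states that a Sylow p-subgroup has a normal complement exactly when, for each of its subgroups Q, every element of the normalizer of Q of order prime to p centralizes Q. -/
theorem result {G : Type*} [Group G] [Finite G] {p : ℕ} [Fact p.Prime] (P : Sylow p G) : (∃ N : Subgroup G, N.Normal ∧ N.IsComplement' (P : Subgroup G)) ↔ ∀ Q : Subgroup G, Q ≤ (P : Subgroup G) → ∀ g ∈ Subgroup.normalizer (Q : Set G), Nat.Coprime (orderOf g) p → g ∈ Subgroup.centralizer (Q : Set G) := by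
  constructor
  · rintro ⟨N, hN, hc⟩ Q hQP g hg hgp
    obtain ⟨b, hb⟩ := P.2.exists_card_eq
    have hidx : N.index = p ^ b := by rw [hc.symm.index_eq_card, hb]
    have hgN : g ∈ N := mem_of_index_pow_of_coprime_orderOf N hidx g hgp
    rw [Subgroup.mem_centralizer_iff]
    intro q hq
    have hc1 : g * q * g⁻¹ * q⁻¹ ∈ N := by
      have h2 := hN.conj_mem _ (N.inv_mem hgN) q
      have h3 := N.mul_mem hgN h2
      convert h3 using 1; group
    have hc2 : g * q * g⁻¹ * q⁻¹ ∈ (P : Subgroup G) := by
      have h2 : g * q * g⁻¹ ∈ Q := (Subgroup.mem_normalizer_iff.mp hg q).mp hq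
      exact hQP (Q.mul_mem h2 (Q.inv_mem hq))
    have h5 : g * q * g⁻¹ * q⁻¹ = 1 := by
      have h6 : g * q * g⁻¹ * q⁻¹ ∈ N ⊓ (P : Subgroup G) := ⟨hc1, hc2⟩
      rw [hc.disjoint.eq_bot] at h6
      exact h6
    have h6 : g * q * g⁻¹ * q⁻¹ * q * g = q * g := by rw [h5, one_mul]
    rw [← h6]; group
  · intro h
    exact exists_isComplement'_of_hasNormalPComplement (frobenius (frobCond_of_sylow P h)) P

end Cfsg.Agent.S0071
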