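import Cfsg.Statements.S0607
import Cfsg.Agent.Lib.Helper3.Nilp

set_option autoImplicit false
open Cfsg
open Cfsg.Agent.Lib.Helper3
open scoped commutatorElement

namespace Cfsg.Agent.S0607

/-- The replacement Theorem for the Thompson subgroup: from A of maximal order among elementary abelian p-subgroups one obtains A₀ = [V, A] C_A([V, A]) of the same kind, quadratic on V and nontrivial on V when A is. -/
theorem result {G : Type*} [Group G] [Finite G] {p : ℕ} [Fact p.Prime] (V : Subgroup G) [V.Normal] (hV : Cfsg.IsElementaryAbelian p V) (A : Subgroup G) (hA : A ∈ Cfsg.maxElementaryAbelianSubgroups p G) : (⁅V, A⁆ ⊔ (A ⊓ Subgroup.centralizer ((⁅V, A⁆ : Subgroup G) : Set G))) ∈ Cfsg.maxElementaryAbelianSubgroups p G ∧ ⁅⁅V, ⁅V, A⁆ ⊔ (A ⊓ Subgroup.centralizer ((⁅V, A⁆ : Subgroup G) : Set G))⁆, ⁅V, A⁆ ⊔ (A ⊓ Subgroup.centralizer ((⁅V, A⁆ : Subgroup G) : Set G))⁆ = ⊥ ∧ (⁅V, A⁆ ≠ ⊥ → ⁅V, ⁅V, A⁆ ⊔ (A ⊓ Subgroup.centralizer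 ((⁅V, A⁆ : Subgroup G) : Set G))⁆ ≠ ⊥) := by
  obtain ⟨hAEA, hAmax⟩ := hA
  have hA' := isEA_iff.mp hAEA
  have hVc := (isEA_iff.mp hV).1
  have hAV : A ≤ Subgroup.normalizer (V : Set G) := by
    rw [Subgroup.normalizer_eq_top]; exact le_top
  have hab : ⁅A, A⁆ ≤ Subgroup.centralizer (V : Set G) := by
    have : ⁅A, A⁆ = ⊥ := by
      rw [Subgroup.commutator_eq_bot_iff_le_centralizer]
      exact Subgroup.le_centralizer_iff_isMulCommutative.mpr hAEA.1
    rw [this]; exact bot_le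
  have hp : ∀ a ∈ A, a ^ p ∈ Subgroup.centralizer (V : Set G) := fun a ha => by
    rw [hA'.2 a ha]; exact Subgroup.one_mem _
  obtain ⟨hbest, hmA, hCA⟩ := maxEA_best hV (⟨hAEA, hAmax⟩ : A ∈ maxElementaryAbelianSubgroups p G)
  obtain ⟨h1, h2⟩ := timmesfeld_core hV hAV hab hbest V le_rfl
  have hnt := timmesfeld_nontrivial hV hAV hab hp hbest V le_rfl
  have hXV : ⁅V, A⁆ ≤ V := (Subgroup.le_normalizer_iff_commutator_le_left).mp hAV
  generalize hX : ⁅V, A⁆ = X at *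
  generalize hB₀ : A ⊓ Subgroup.centralizer (X : Set G) = B₀ at *
  have hB₀A : B₀ ≤ A := by rw [← hB₀]; exact inf_le_left
  have hB₀X : B₀ ≤ Subgroup.centralizer (X : Set G) := by rw [← hB₀]; exact inf_le_right
  have hf := offM_EA_formula hV hAEA B₀ hB₀A
  have hc1 : Nat.card ↥(B₀ ⊔ (V ⊓ Subgroup.centralizer (B₀ : Set G))) ≤ Nat.card A := hAmax _ hf.2
  have hc2 : Nat.card ↥(B₀ ⊓ V) ≤ Nat.card ↥(A ⊓ V) :=
    Subgroup.card_le_of_le (inf_le_inf_right V hB₀A)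
  have hprod : Nat.card ↥(B₀ ⊔ (V ⊓ Subgroup.centralizer (B₀ : Set G))) * Nat.card ↥(B₀ ⊓ V) =
      Nat.card A * Nat.card ↥(A ⊓ V) := by rw [← hf.1, ← hmA, h1]
  have heq1 : Nat.card ↥(B₀ ⊔ (V ⊓ Subgroup.centralizer (B₀ : Set G))) = Nat.card A := by
    by_contra hne
    have hlt := lt_of_le_of_ne hc1 hne
    have hpos : 0 < Nat.card ↥(A ⊓ V) := Nat.card_pos
    have := Nat.mul_lt_mul_of_lt_of_le hlt hc2 hpos
    omega
  have heq2 : Nat.card ↥(B₀ ⊓ V) = Nat.card ↥(A ⊓ V) := by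
    rw [heq1] at hprod
    exact Nat.eq_of_mul_eq_mul_left Nat.card_pos hprod
  have hBV : B₀ ⊓ V = A ⊓ V :=
    Subgroup.eq_of_le_of_card_ge (inf_le_inf_right V hB₀A) heq2.ge
  have hA₀ : X ⊔ B₀ = B₀ ⊔ (V ⊓ Subgroup.centralizer (B₀ : Set G)) := by
    rw [h2, hCA, ← hBV]
    apply le_antisymm
    · exact sup_le (le_sup_left.trans le_sup_right) le_sup_left
    · exact sup_le le_sup_right (sup_le le_sup_left (inf_le_left.trans le_sup_right))
  refine ⟨?_, ?_, ?_⟩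
  · rw [hA₀]
    refine ⟨hf.2, fun B hB => ?_⟩
    rw [heq1]; exact hAmax B hB
  · have h3 : ⁅V, X ⊔ B₀⁆ ≤ X := by
      rw [Subgroup.commutator_le]
      intro v hv g hg
      have hn : B₀ ≤ Subgroup.normalizer (X : Set G) :=
        hB₀X.trans (Subgroup.centralizer_le_normalizer _)
      have hg' : g ∈ ((B₀ ⊔ X : Subgroup G) : Set G) := by rw [sup_comm]; exact hg
      rw [Subgroup.coe_mul_of_left_le_normalizer_right _ _ hn] at hg'
      obtain ⟨b, hb, x, hx, rfl⟩ := hg'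
      rw [commutatorElement_mul_right_eq_mul_conj]
      have hvx : ⁅v, x⁆ = 1 := by
        rw [commutatorElement_eq_one_iff_mul_comm]; exact hVc v hv x (hXV hx)
      rw [hvx, mul_one, mul_inv_cancel_right, ← hX]
      exact Subgroup.commutator_mem_commutator hv (hB₀A hb)
    rw [Subgroup.commutator_eq_bot_iff_le_centralizer]
    refine h3.trans ?_
    rw [Subgroup.le_centralizer_iff]
    apply sup_le
    · intro x hx
      exact Subgroup.mem_centralizer_iff.mpr (fun y hy => hVc y (hXV hy) x (hXV hx))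
    · exact hB₀X
  · intro hne hbot
    apply hnt hne
    rw [eq_bot_iff, ← hbot]
    exact Subgroup.commutator_mono le_rfl le_sup_right

end Cfsg.Agent.S0607
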