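import Cfsg.Statements.S2908
import Cfsg.Agent.Lib.Helper9.ConjLemmas
import Cfsg.Agent.Lib.Helper7.Coprime2

set_option autoImplicit false
open Cfsg

namespace Cfsg.Agent.S2908


open Cfsg.Agent.Lib.Helper9 Cfsg.Agent.Lib.Helper7
open scoped Pointwise
open scoped commutatorElement

universe u

theorem mem_normalizer_comm {G : Type u} [Group G] {H₁ H₂ : Subgroup G} {g : G}
    (h1 : g ∈ Subgroup.normalizer (H₁ : Set G)) (h2 : g ∈ Subgroup.normalizer (H₂ : Set G)) :
    g ∈ Subgroup.normalizer ((⁅H₁, H₂⁆ : Subgroup G) : Set G) := by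
  rw [← Cfsg.Agent.Lib.Helper9.conj_smul_eq_self_iff_mem_normalizer] at h1 h2 ⊢
  have h3 : MulAut.conj g • ⁅H₁, H₂⁆ = ⁅MulAut.conj g • H₁, MulAut.conj g • H₂⁆ := by
    simp only [Subgroup.pointwise_smul_def]
    exact Subgroup.map_commutator _ _ _
  rw [h3, h1, h2]

theorem mem_normalizer_of_commute {G : Type u} [Group G] (X : Subgroup G) (g : G)
    (h : ∀ x ∈ X, g * x = x * g) : g ∈ Subgroup.normalizer (X : Set G) := by
  rw [Subgroup.mem_normalizer_iff]
  intro x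
  constructor
  · intro hx
    have h1 : g * x * g⁻¹ = x := by rw [h x hx]; group
    rw [h1]; exact hx
  · intro hx
    have h2 := h _ hx
    have h3 : g * (g * x * g⁻¹) = g * x := by rw [h2]; group
    have h4 : g * x * g⁻¹ = x := mul_left_cancel h3
    rw [← h4]; exact hx

theorem eq_bot_of_le_commutator {G : Type u} [Group G] (R Q : Subgroup G)
    (hR : Group.IsNilpotent R) (hQR : Q ≤ R) (h : Q ≤ ⁅Q, R⁆) : Q = ⊥ := by
  have key : ∀ n, Q ≤ R.lowerCentralSeries n := by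
    intro n
    induction n with
    | zero => exact hQR
    | succ n ih =>
      rw [Subgroup.lowerCentralSeries_succ]
      exact h.trans (Subgroup.commutator_mono ih le_rfl)
  obtain ⟨n, hn⟩ := (Subgroup.isNilpotent_iff_lowerCentralSeries R).mp hR
  have h2 := key n
  rw [hn, le_bot_iff] at h2
  exact h2

theorem main {G : Type u} [Group G] [Finite G] {p : ℕ} [Fact p.Prime] (P A B : Subgroup G)
    (hP : IsPGroup p ↥P) (hA : IsPGroup p ↥A) (hB : ¬ p ∣ Nat.card ↥B)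
    (hnA : A ≤ Subgroup.normalizer (P : Set G)) (hnB : B ≤ Subgroup.normalizer (P : Set G))
    (hAB : ⁅A, B⁆ = ⊥) (hcomm : ⁅P, B⁆ ≤ ⁅P, A⁆) : ⁅P, B⁆ = ⊥ := by
  have hp := (Fact.out : p.Prime)
  obtain ⟨k, hk⟩ := IsPGroup.iff_card.mp hP
  have hcop : (Nat.card B).Coprime (Nat.card P) := by
    rw [hk]; exact ((Nat.Prime.coprime_iff_not_dvd hp).mpr hB).symm.pow_right k
  have hsolv : Group.IsSolvable B ∨ Group.IsSolvable P :=
    Or.inr (by have := hP.isNilpotent; infer_instance)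
  obtain ⟨Q, hQdef⟩ : ∃ Q : Subgroup G, Q = ⁅P, B⁆ := ⟨_, rfl⟩
  obtain ⟨R, hRdef⟩ : ∃ R : Subgroup G, R = P ⊔ A := ⟨_, rfl⟩
  obtain ⟨C, hCdef⟩ : ∃ C : Subgroup G, C = P ⊓ Subgroup.centralizer (B : Set G) := ⟨_, rfl⟩
  have hQP : Q ≤ P := by rw [hQdef]; exact commutator_le_of_le_normalizer hnB
  have hPR : P ≤ R := by rw [hRdef]; exact le_sup_left
  have hAR : A ≤ R := by rw [hRdef]; exact le_sup_right
  have hQQ : ⁅Q, B⁆ = Q := by rw [hQdef]; exact commutator_commutator_eq B P hnB hcop hsolv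
  have hab : ∀ a ∈ A, ∀ b ∈ B, a * b = b * a := by
    intro a ha b hb
    have h1 : ⁅a, b⁆ ∈ ⁅A, B⁆ := Subgroup.commutator_mem_commutator ha hb
    rw [hAB, Subgroup.mem_bot, commutatorElement_eq_one_iff_mul_comm] at h1
    exact h1
  have hAQ : A ≤ Subgroup.normalizer (Q : Set G) := by
    intro a ha
    rw [hQdef]
    exact mem_normalizer_comm (hnA ha) (mem_normalizer_of_commute B a (fun b hb => hab a ha b hb))
  have hRQ : R ≤ Subgroup.normalizer (Q : Set G) := by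
    rw [hRdef]
    exact sup_le (by rw [hQdef]; exact le_normalizer_commutator_left P B) hAQ
  obtain ⟨Q₁, hQ₁def⟩ : ∃ Q₁ : Subgroup G, Q₁ = ⁅Q, R⁆ := ⟨_, rfl⟩
  have hRQ₁ : R ≤ Subgroup.normalizer (Q₁ : Set G) := by
    rw [hQ₁def]; exact le_normalizer_commutator_right Q R
  have hBQ : B ≤ Subgroup.normalizer (Q : Set G) := by
    rw [hQdef]; exact le_normalizer_commutator_right P B
  have hBR : B ≤ Subgroup.normalizer (R : Set G) := by
    intro b hb
    have h1 := hnB hb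
    have h2 : b ∈ Subgroup.normalizer (A : Set G) :=
      mem_normalizer_of_commute A b (fun a ha => (hab a ha b hb).symm)
    rw [← Cfsg.Agent.Lib.Helper9.conj_smul_eq_self_iff_mem_normalizer] at h1 h2 ⊢
    rw [hRdef, Subgroup.smul_sup, h1, h2]
  have hBQ₁ : B ≤ Subgroup.normalizer (Q₁ : Set G) := by
    intro b hb; rw [hQ₁def]; exact mem_normalizer_comm (hBQ hb) (hBR hb)
  have hCR : C ≤ R := by rw [hCdef]; exact inf_le_left.trans hPR
  have hkey : ⁅P, A⁆ ≤ Q₁ ⊔ C := by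
    rw [Subgroup.commutator_le]
    intro x hx a ha
    obtain ⟨q, hq, c, hc, rfl⟩ := exists_commutator_mul_centralizer B P hnB hcop hsolv x hx
    rw [← hQdef] at hq
    have hcP : c ∈ P := hc.1
    have hcB : c ∈ Subgroup.centralizer (B : Set G) := hc.2
    obtain ⟨d, hddef⟩ : ∃ d, d = c * a * c⁻¹ * a⁻¹ := ⟨_, rfl⟩
    have hdC : d ∈ C := by
      rw [hCdef, hddef]
      refine ⟨?_, ?_⟩
      · have h1 : a * c⁻¹ * a⁻¹ ∈ P :=
          (Subgroup.mem_normalizer_iff.mp (hnA ha) c⁻¹).mp (P.inv_mem hcP)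
        have h2 : c * a * c⁻¹ * a⁻¹ = c * (a * c⁻¹ * a⁻¹) := by group
        rw [h2]; exact P.mul_mem hcP h1
      · have haB : a ∈ Subgroup.centralizer (B : Set G) := by
          rw [Subgroup.mem_centralizer_iff]; intro b hb; exact (hab a ha b hb).symm
        exact Subgroup.mul_mem _ (Subgroup.mul_mem _ (Subgroup.mul_mem _ hcB haB)
          (Subgroup.inv_mem _ hcB)) (Subgroup.inv_mem _ haB)
    have h3 : ⁅q * c, a⁆ = ⁅q, d⁆ * d * ⁅q, a⁆ := by
      rw [commutatorElement_def, commutatorElement_def, commutatorElement_def, hddef]; group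
    rw [h3]
    have h4 : ⁅q, d⁆ ∈ Q₁ := by
      rw [hQ₁def]; exact Subgroup.commutator_mem_commutator hq (hCR hdC)
    have h5 : ⁅q, a⁆ ∈ Q₁ := by
      rw [hQ₁def]; exact Subgroup.commutator_mem_commutator hq (hAR ha)
    exact Subgroup.mul_mem _ (Subgroup.mul_mem _ (Subgroup.mem_sup_left h4)
      (Subgroup.mem_sup_right hdC)) (Subgroup.mem_sup_left h5)
  have hQle : Q ≤ Q₁ := by
    rw [← hQQ, Subgroup.commutator_le]
    intro q hq b hb
    have h1 : q ∈ Q₁ ⊔ C := hkey (hcomm (by rw [← hQdef]; exact hq))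
    obtain ⟨x, hx, y, hy, rfl⟩ := exists_mul_of_mem_sup (hCR.trans hRQ₁) h1
    have hyB : y ∈ Subgroup.centralizer (B : Set G) := by rw [hCdef] at hy; exact hy.2
    have hyb : b * y = y * b := Subgroup.mem_centralizer_iff.mp hyB b hb
    have h2 : ⁅x * y, b⁆ = x * (b * x⁻¹ * b⁻¹) := by
      rw [commutatorElement_def]
      calc x * y * b * (x * y)⁻¹ * b⁻¹ = x * (y * b) * y⁻¹ * x⁻¹ * b⁻¹ := by group
        _ = x * (b * y) * y⁻¹ * x⁻¹ * b⁻¹ := by rw [hyb]
        _ = x * (b * x⁻¹ * b⁻¹) := by group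
    rw [h2]
    exact Q₁.mul_mem hx ((Subgroup.mem_normalizer_iff.mp (hBQ₁ hb) x⁻¹).mp (Q₁.inv_mem hx))
  have hRp : IsPGroup p R := by rw [hRdef]; exact IsPGroup.to_sup_of_normal_left' hP hA hnA
  have hRnil : Group.IsNilpotent R := hRp.isNilpotent
  have hQbot : Q = ⊥ :=
    eq_bot_of_le_commutator R Q hRnil (hQP.trans hPR) (by rw [← hQ₁def]; exact hQle)
  rw [← hQdef]; exact hQbot


/-- Let P be a p-subgroup of a finite group, normalized by a p-subgroup A and by a subgroup B of order prime to p that commutes elementwise with A. If [P, B] ≤ [P, A], then B centralizes P. -/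
theorem result {G : Type*} [Group G] [Finite G] {p : ℕ} [Fact p.Prime] (P A B : Subgroup G) (hP : IsPGroup p ↥P) (hA : IsPGroup p ↥A) (hB : ¬ p ∣ Nat.card ↥B) (hnA : A ≤ Subgroup.normalizer (P : Set G)) (hnB : B ≤ Subgroup.normalizer (P : Set G)) (hAB : ⁅A, B⁆ = ⊥) (hcomm : ⁅P, B⁆ ≤ ⁅P, A⁆) : ⁅P, B⁆ = ⊥ := by
  exact main P A B hP hA hB hnA hnB hAB hcomm

end Cfsg.Agent.S2908
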