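import Mathlib
import Cfsg.Statements.S2961
import Cfsg.Agent.Lib.Helper7.PQ
import Cfsg.Agent.Lib.Helper7.PCore

set_option autoImplicit false
open Cfsg Cfsg.Agent.Lib.Helper7
open scoped commutatorElement

namespace Cfsg.Agent.S2961

theorem pCore_char (p : ℕ) [Fact p.Prime] (H : Type*) [Group H] [Finite H] :
    (Cfsg.pCore p H).Characteristic := by
  rw [Subgroup.characteristic_iff_map_le]
  intro φ
  haveI : (Cfsg.pCore p H).Normal := pCore_normal p H
  apply le_pCore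
  · exact Subgroup.Normal.map inferInstance _ φ.surjective
  · exact (pCore_isPGroup p H).map _

theorem le_pCore_of_normal_in_normal {p : ℕ} [Fact p.Prime] {H : Type*} [Group H] [Finite H]
    (C Z : Subgroup H) [C.Normal] (hZC : Z ≤ C) (hCZ : C ≤ Subgroup.normalizer (Z : Set H))
    (hZ : IsPGroup p Z) : Z ≤ Cfsg.pCore p H := by
  haveI := pCore_char p ↥C
  have h1 : Z.subgroupOf C ≤ Cfsg.pCore p ↥C := by
    apply le_pCore
    · constructor
      intro n hn g
      rw [Subgroup.mem_subgroupOf] at hn ⊢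
      have := (Subgroup.mem_normalizer_iff.mp (hCZ g.2) n).mp hn
      simpa using this
    · exact hZ.comap_subtype
  have h2 : ((Cfsg.pCore p ↥C).map C.subtype).Normal := inferInstance
  have h3 : IsPGroup p ((Cfsg.pCore p ↥C).map C.subtype) := (pCore_isPGroup p ↥C).map _
  have h4 : Z ≤ (Cfsg.pCore p ↥C).map C.subtype := by
    intro z hz
    exact ⟨⟨z, hZC hz⟩, h1 (by rw [Subgroup.mem_subgroupOf]; exact hz), rfl⟩
  exact h4.trans (le_pCore h2 h3)

theorem eq_one_of_pgroup_coprime {G : Type*} [Group G] {p : ℕ} [Fact p.Prime] {K : Subgroup G}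
    (hK : IsPGroup p K) {x : G} (hx : x ∈ K) (hc : (orderOf x).Coprime p) : x = 1 := by
  obtain ⟨k, hk⟩ := hK ⟨x, hx⟩
  have hk' : x ^ (p ^ k) = 1 := by
    have h4 : ((⟨x, hx⟩ : K) : G) ^ (p ^ k) = 1 := by
      rw [← Subgroup.coe_pow, hk]; rfl
    exact h4
  have h1 : orderOf x ∣ p ^ k := orderOf_dvd_of_pow_eq_one hk'
  have h2 : (orderOf x).Coprime (p ^ k) := Nat.Coprime.pow_right k hc
  have h3 : orderOf x = 1 := Nat.Coprime.eq_one_of_dvd h2 h1
  exact orderOf_eq_one_iff.mp h3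

theorem isPGroup_of_pprime_trivial {H : Type*} [Group H] [Finite H] {p : ℕ} [Fact p.Prime]
    (K : Subgroup H) (h : ∀ x ∈ K, (orderOf x).Coprime p → x = 1) : IsPGroup p K := by
  have hp : p.Prime := Fact.out
  intro g
  have hpos : orderOf (g : H) ≠ 0 := (orderOf_pos (g : H)).ne'
  obtain ⟨e, n', hn', he⟩ := Nat.exists_eq_pow_mul_and_not_dvd hpos p hp.ne_one
  refine ⟨e, ?_⟩
  have h1 : orderOf ((g : H) ^ (p ^ e)) = orderOf (g : H) / p ^ e :=
    orderOf_pow_of_dvd (pow_pos hp.pos e).ne' (by rw [he]; exact Dvd.intro _ rfl)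
  have h2 : orderOf (g : H) / p ^ e = n' := by
    rw [he]; exact Nat.mul_div_cancel_left _ (pow_pos hp.pos e)
  have h3 : (orderOf ((g : H) ^ (p ^ e))).Coprime p := by
    rw [h1, h2]
    exact ((Nat.Prime.coprime_iff_not_dvd hp).mpr hn').symm
  have h4 := h _ (K.pow_mem g.2 _) h3
  apply Subtype.ext
  rw [Subgroup.coe_pow]
  exact h4

theorem coprime_stab {G : Type*} [Group G] [Finite G] {p : ℕ} [Fact p.Prime] (D : Subgroup G)
    (hD : IsPGroup p D) (y r : G) (hy : (orderOf y).Coprime p)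
    (hyD : ∀ d ∈ D, y * d = d * y) (hr : y * r * y⁻¹ * r⁻¹ ∈ D) : y * r = r * y := by
  obtain ⟨d, hd⟩ : ∃ d : G, d = y * r * y⁻¹ * r⁻¹ := ⟨_, rfl⟩
  rw [← hd] at hr
  have hyr : y * r * y⁻¹ = d * r := by rw [hd]; group
  have hpow : ∀ k : ℕ, y ^ k * r * (y ^ k)⁻¹ = d ^ k * r := by
    intro k
    induction k with
    | zero => simp
    | succ k ih =>
      have hc : y * d ^ k = d ^ k * y := hyD _ (D.pow_mem hr k)
      calc y ^ (k + 1) * r * (y ^ (k + 1))⁻¹ = y * (y ^ k * r * (y ^ k)⁻¹) * y⁻¹ := by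
            rw [pow_succ']; group
        _ = y * (d ^ k * r) * y⁻¹ := by rw [ih]
        _ = (y * d ^ k) * r * y⁻¹ := by group
        _ = d ^ k * y * r * y⁻¹ := by rw [hc]
        _ = d ^ k * (y * r * y⁻¹) := by group
        _ = d ^ k * (d * r) := by rw [hyr]
        _ = d ^ (k + 1) * r := by rw [pow_succ]; group
  have h1 := hpow (orderOf y)
  rw [pow_orderOf_eq_one] at h1
  have h2 : d ^ orderOf y = 1 := by
    have : d ^ orderOf y * r = 1 * r := by rw [← h1]; group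
    exact mul_right_cancel this
  have h3 : orderOf d ∣ orderOf y := orderOf_dvd_of_pow_eq_one h2
  have h4 : (orderOf d).Coprime p := Nat.Coprime.coprime_dvd_left h3 hy
  have h5 : d = 1 := eq_one_of_pgroup_coprime hD hr h4
  rw [h5] at hyr
  calc y * r = (y * r * y⁻¹) * y := by group
    _ = r * y := by rw [hyr, one_mul]

/-- the subgroup of elements normalizing `D` and acting trivially on `R` modulo `D` -/
def Ksub {G : Type*} [Group G] (D R : Subgroup G) : Subgroup G where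
  carrier := {g | g ∈ Subgroup.normalizer (D : Set G) ∧ ∀ r ∈ R, g * r * g⁻¹ * r⁻¹ ∈ D}
  one_mem' := by
    refine ⟨one_mem _, ?_⟩
    intro r _
    have : (1 : G) * r * 1⁻¹ * r⁻¹ = 1 := by group
    rw [this]; exact one_mem _
  mul_mem' := by
    rintro g h ⟨hg1, hg2⟩ ⟨hh1, hh2⟩
    refine ⟨mul_mem hg1 hh1, ?_⟩
    intro r hr
    have h1 : g * h * r * (g * h)⁻¹ * r⁻¹ = g * (h * r * h⁻¹ * r⁻¹) * g⁻¹ * (g * r * g⁻¹ * r⁻¹) := by
      group
    rw [h1]
    exact mul_mem ((Subgroup.mem_normalizer_iff.mp hg1 _).mp (hh2 r hr)) (hg2 r hr)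
  inv_mem' := by
    rintro g ⟨hg1, hg2⟩
    refine ⟨inv_mem hg1, ?_⟩
    intro r hr
    have h1 : g⁻¹ * r * g⁻¹⁻¹ * r⁻¹ = g⁻¹ * (g * r * g⁻¹ * r⁻¹)⁻¹ * g⁻¹⁻¹ := by group
    rw [h1]
    exact (Subgroup.mem_normalizer_iff.mp (inv_mem hg1) _).mp (inv_mem (hg2 r hr))

/-- Let G be a finite group of characteristic p (C_G(O_p(G)) ≤ O_p(G)), p prime, T a Sylow p-subgroup of G and Q a normal subgroup of T with C_T(Q) ≤ Q. Then every subgroup L of G containing Q has characteristic p: C_L(O_p(L)) ≤ O_p(L). -/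
theorem result {G : Type*} [Group G] [Finite G] {p : ℕ} [Fact p.Prime] (hG : Subgroup.centralizer (Cfsg.pCore p G : Set G) ≤ Cfsg.pCore p G) (T : Sylow p G) (Q : Subgroup G) (hQT : Q ≤ (T : Subgroup G)) (hQn : (T : Subgroup G) ≤ Subgroup.normalizer (Q : Set G)) (hC : (T : Subgroup G) ⊓ Subgroup.centralizer (Q : Set G) ≤ Q) (L : Subgroup G) (hQL : Q ≤ L) : Subgroup.centralizer (Cfsg.pCore p ↥L : Set ↥L) ≤ Cfsg.pCore p ↥L := by
  classical
  have hp : p.Prime := Fact.out
  haveI hRn : (Cfsg.pCore p G).Normal := pCore_normal p G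
  have hRp : IsPGroup p (Cfsg.pCore p G) := pCore_isPGroup p G
  have hRT : Cfsg.pCore p G ≤ (T : Subgroup G) := hRp.le_sylow_of_normal T
  have hQp : IsPGroup p Q := T.isPGroup'.to_le hQT
  -- Step 1
  have step1 : ∀ x ∈ Subgroup.centralizer (Q : Set G), (orderOf x).Coprime p → x = 1 := by
    intro x hx hxc
    have h1 : Subgroup.zpowers x ≤ Subgroup.centralizer (Cfsg.pCore p G : Set G) := by
      apply pxq_lemma p Q (Subgroup.zpowers x) (Cfsg.pCore p G) hQp
        (by rw [Nat.card_zpowers]; exact hxc) hRp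
      · rw [Subgroup.le_centralizer_iff, Subgroup.zpowers_le]; exact hx
      · intro g _; rw [Subgroup.normalizer_eq_top]; trivial
      · intro g _; rw [Subgroup.normalizer_eq_top]; trivial
      · intro g hg
        have hgQ : g ∈ Q := hC ⟨hRT hg.1, hg.2⟩
        have hxg : g * x = x * g := (Subgroup.mem_centralizer_iff.mp hx) g hgQ
        rw [Subgroup.mem_centralizer_iff]
        intro h hh
        obtain ⟨k, rfl⟩ := Subgroup.mem_zpowers_iff.mp hh
        have hcm : Commute x g := hxg.symm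
        exact (hcm.zpow_left k).eq
    have h2 : x ∈ Cfsg.pCore p G := hG (h1 (Subgroup.mem_zpowers x))
    exact eq_one_of_pgroup_coprime hRp h2 hxc
  haveI hPLn : (Cfsg.pCore p ↥L).Normal := pCore_normal p ↥L
  have hPLp : IsPGroup p (Cfsg.pCore p ↥L) := pCore_isPGroup p ↥L
  -- R ∩ L ≤ O_p(L)
  have hRL : (Cfsg.pCore p G).subgroupOf L ≤ Cfsg.pCore p ↥L := by
    apply le_pCore
    · infer_instance
    · exact hRp.comap_subtype
  -- D = Q ⊓ R
  obtain ⟨D, hDdef⟩ : ∃ D : Subgroup G, D = Q ⊓ Cfsg.pCore p G := ⟨_, rfl⟩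
  have hDp : IsPGroup p D := by rw [hDdef]; exact hQp.to_le inf_le_left
  have hDQ : D ≤ Q := by rw [hDdef]; exact inf_le_left
  have hDR : D ≤ Cfsg.pCore p G := by rw [hDdef]; exact inf_le_right
  -- elements of CL centralize D
  have hCD : ∀ c : ↥L, c ∈ Subgroup.centralizer (Cfsg.pCore p ↥L : Set ↥L) → ∀ d ∈ D,
      (c : G) * d = d * (c : G) := by
    intro c hc d hd
    have hdL : d ∈ L := hQL (hDQ hd)
    have h1 : (⟨d, hdL⟩ : ↥L) ∈ Cfsg.pCore p ↥L := hRL (by
      rw [Subgroup.mem_subgroupOf]; exact hDR hd)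
    have h2 := (Subgroup.mem_centralizer_iff.mp hc) _ h1
    have h3 := congrArg Subtype.val h2
    simp only [Subgroup.coe_mul] at h3
    exact h3.symm
  -- Q ≤ K
  have hQK : Q ≤ Ksub D (Cfsg.pCore p G) := by
    intro q hq
    refine ⟨?_, ?_⟩
    · rw [Subgroup.mem_normalizer_iff]
      intro d
      rw [hDdef, Subgroup.mem_inf, Subgroup.mem_inf]
      constructor
      · rintro ⟨h1, h2⟩
        exact ⟨mul_mem (mul_mem hq h1) (inv_mem hq), hRn.conj_mem d h2 q⟩
      · rintro ⟨h1, h2⟩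
        refine ⟨?_, ?_⟩
        · have : d = q⁻¹ * (q * d * q⁻¹) * q := by group
          rw [this]; exact mul_mem (mul_mem (inv_mem hq) h1) hq
        · have h3 := hRn.conj_mem _ h2 q⁻¹
          have : d = q⁻¹ * (q * d * q⁻¹) * q⁻¹⁻¹ := by group
          rw [this]; exact h3
    · intro r hr
      rw [hDdef, Subgroup.mem_inf]
      refine ⟨?_, ?_⟩
      · have h1 : r * q⁻¹ * r⁻¹ ∈ Q :=
          (Subgroup.mem_normalizer_iff.mp (hQn (hRT hr)) _).mp (inv_mem hq)
        have : q * r * q⁻¹ * r⁻¹ = q * (r * q⁻¹ * r⁻¹) := by group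
        rw [this]; exact mul_mem hq h1
      · exact mul_mem (hRn.conj_mem r hr q) (inv_mem hr)
  -- conjugation by CL preserves K
  have hKc : ∀ c : ↥L, c ∈ Subgroup.centralizer (Cfsg.pCore p ↥L : Set ↥L) →
      ∀ g ∈ Ksub D (Cfsg.pCore p G), (c : G) * g * (c : G)⁻¹ ∈ Ksub D (Cfsg.pCore p G) := by
    intro c hc g hg
    have hcN : (c : G) ∈ Subgroup.normalizer (D : Set G) := by
      rw [Subgroup.mem_normalizer_iff]
      intro d
      constructor
      · intro hd
        have := hCD c hc d hd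
        have h2 : (c : G) * d * (c : G)⁻¹ = d := by rw [this]; group
        rw [h2]; exact hd
      · intro hd
        have := hCD c hc _ hd
        have h2 : d = (c : G) * d * (c : G)⁻¹ := by
          have h4 : (c : G) * ((c : G) * d * (c : G)⁻¹) = (c : G) * d := by
            rw [this]; group
          exact (mul_left_cancel h4).symm
        rw [h2]; exact hd
    refine ⟨mul_mem (mul_mem hcN hg.1) (inv_mem hcN), ?_⟩
    intro r hr
    have hr' : (c : G)⁻¹ * r * (c : G)⁻¹⁻¹ ∈ Cfsg.pCore p G := hRn.conj_mem r hr _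
    have h1 := hg.2 _ hr'
    have h2 := hCD c hc _ h1
    have h3 : (c : G) * g * (c : G)⁻¹ * r * ((c : G) * g * (c : G)⁻¹)⁻¹ * r⁻¹ =
        (c : G) * (g * ((c : G)⁻¹ * r * (c : G)⁻¹⁻¹) * g⁻¹ * ((c : G)⁻¹ * r * (c : G)⁻¹⁻¹)⁻¹)
          * (c : G)⁻¹ := by group
    rw [h3, h2]
    have h4 : g * ((c : G)⁻¹ * r * (c : G)⁻¹⁻¹) * g⁻¹ * ((c : G)⁻¹ * r * (c : G)⁻¹⁻¹)⁻¹ * (c : G) * (c : G)⁻¹
        = g * ((c : G)⁻¹ * r * (c : G)⁻¹⁻¹) * g⁻¹ * ((c : G)⁻¹ * r * (c : G)⁻¹⁻¹)⁻¹ := by group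
    rw [h4]; exact h1
  -- Z1 = [CL, QL]
  obtain ⟨CL, hCLdef⟩ : ∃ CL : Subgroup ↥L, CL = Subgroup.centralizer (Cfsg.pCore p ↥L : Set ↥L) :=
    ⟨_, rfl⟩
  haveI hCLn : CL.Normal := by rw [hCLdef]; infer_instance
  have hZ1C : ⁅CL, Q.subgroupOf L⁆ ≤ CL := Subgroup.commutator_le_left _ _
  -- every element of Z1 lies in K (after coercion)
  have hZ1K : ∀ y ∈ ⁅CL, Q.subgroupOf L⁆, (y : G) ∈ Ksub D (Cfsg.pCore p G) := by
    have : ⁅CL, Q.subgroupOf L⁆ ≤ (Ksub D (Cfsg.pCore p G)).subgroupOf L := by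
      rw [Subgroup.commutator_le]
      intro c hc q hq
      rw [Subgroup.mem_subgroupOf]
      rw [Subgroup.mem_subgroupOf] at hq
      have h1 := hKc c (by rw [← hCLdef]; exact hc) _ (hQK hq)
      have h2 : ((⁅c, q⁆ : ↥L) : G) = (c : G) * (q : G) * (c : G)⁻¹ * (q : G)⁻¹ := by
        rw [commutatorElement_def]; simp
      rw [h2]
      exact mul_mem h1 (inv_mem (hQK hq))
    intro y hy
    exact Subgroup.mem_subgroupOf.mp (this hy)
  have step2 : ∀ y ∈ ⁅CL, Q.subgroupOf L⁆, (orderOf y).Coprime p → y = 1 := by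
    intro y hy hyc
    have hyG : (orderOf (y : G)).Coprime p := by rw [Subgroup.orderOf_coe]; exact hyc
    have hyK := hZ1K y hy
    have hyCL : y ∈ Subgroup.centralizer (Cfsg.pCore p ↥L : Set ↥L) := by
      rw [← hCLdef]; exact hZ1C hy
    have hyR : (y : G) ∈ Subgroup.centralizer (Cfsg.pCore p G : Set G) := by
      rw [Subgroup.mem_centralizer_iff]
      intro r hr
      exact (coprime_stab D hDp (y : G) r hyG (hCD y hyCL) (hyK.2 r hr)).symm
    have h1 : (y : G) = 1 := eq_one_of_pgroup_coprime hRp (hG hyR) hyG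
    exact Subtype.ext h1
  have hZ1p : IsPGroup p ↥(⁅CL, Q.subgroupOf L⁆ : Subgroup ↥L) := isPGroup_of_pprime_trivial _ step2
  have hZ1PL : ⁅CL, Q.subgroupOf L⁆ ≤ Cfsg.pCore p ↥L :=
    le_pCore_of_normal_in_normal CL _ hZ1C (le_normalizer_commutator_left _ _) hZ1p
  -- Step 5
  have step5 : ∀ c ∈ CL, (orderOf c).Coprime p → c = 1 := by
    intro c hc hcc
    have hcG : (orderOf (c : G)).Coprime p := by rw [Subgroup.orderOf_coe]; exact hcc
    have hcC : (c : G) ∈ Subgroup.centralizer (Q : Set G) := by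
      rw [Subgroup.mem_centralizer_iff]
      intro q hq
      obtain ⟨q', hq'⟩ : ∃ q' : ↥L, q' = ⟨q, hQL hq⟩ := ⟨_, rfl⟩
      have hq'Q : q' ∈ Q.subgroupOf L := by
        rw [Subgroup.mem_subgroupOf, hq']; exact hq
      obtain ⟨z, hz⟩ : ∃ z : ↥L, z = c * q' * c⁻¹ * q'⁻¹ := ⟨_, rfl⟩
      have hzZ : z ∈ ⁅CL, Q.subgroupOf L⁆ := by
        rw [hz]; exact Subgroup.commutator_mem_commutator hc hq'Q
      have hzc : z * c = c * z := by
        have hc' : c ∈ Subgroup.centralizer (Cfsg.pCore p ↥L : Set ↥L) := by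
          rw [← hCLdef]; exact hc
        exact (Subgroup.mem_centralizer_iff.mp hc') z (hZ1PL hzZ)
      have h1 : q' * c * q'⁻¹ = z⁻¹ * c := by rw [hz]; group
      have h2 : (q' * c * q'⁻¹) ^ orderOf c = 1 := by
        have : (q' * c * q'⁻¹) ^ orderOf c = q' * c ^ orderOf c * q'⁻¹ := by
          rw [conj_pow]
        rw [this, pow_orderOf_eq_one]; group
      have hcm : Commute z⁻¹ c := (Commute.inv_left (show Commute z c from hzc))
      rw [h1, hcm.mul_pow, pow_orderOf_eq_one, mul_one] at h2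
      have h3 : z ^ orderOf c = 1 := by
        rw [inv_pow] at h2
        exact inv_eq_one.mp h2
      have h4 : (orderOf z).Coprime p :=
        Nat.Coprime.coprime_dvd_left (orderOf_dvd_of_pow_eq_one h3) hcc
      have h5 : z = 1 := eq_one_of_pgroup_coprime hZ1p hzZ h4
      rw [h5, inv_one, one_mul] at h1
      have h6 : q' * c = c * q' := by
        calc q' * c = (q' * c * q'⁻¹) * q' := by group
          _ = c * q' := by rw [h1]
      have h7 := congrArg Subtype.val h6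
      simp only [Subgroup.coe_mul] at h7
      rw [hq'] at h7
      exact h7
    have h1 : (c : G) = 1 := step1 _ hcC hcG
    exact Subtype.ext h1
  have hCLp : IsPGroup p CL := isPGroup_of_pprime_trivial _ step5
  rw [← hCLdef]
  exact le_pCore hCLn hCLp

end Cfsg.Agent.S2961
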