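import Cfsg.Statements.S3011
import Cfsg.Agent.Lib.Helper5.BaerSuzuki
import Cfsg.Agent.Lib.Helper7.PCore

set_option autoImplicit false
open Cfsg

namespace Cfsg.Agent.S3011

theorem dihedral_pgroup {G : Type*} [Group G] (x y : G) (hx : x * x = 1) (hy : y * y = 1) (s : ℕ)
    (hz : (x * y) ^ (2 ^ s) = 1) : IsPGroup 2 (Subgroup.closure ({x, y} : Set G)) := by
  have hxi : x⁻¹ = x := inv_eq_of_mul_eq_one_left hx
  have hyi : y⁻¹ = y := inv_eq_of_mul_eq_one_left hy
  have hc : x * (x * y) * x⁻¹ = (x * y)⁻¹ := by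
    rw [mul_inv_rev, hxi, hyi, ← mul_assoc, hx, one_mul]
  have hzx : ∀ i : ℤ, (x * y) ^ i * x = x * (x * y) ^ (-i) := by
    intro i
    have h1 : x * (x * y) ^ (-i) * x⁻¹ = (x * y) ^ i := by
      rw [← conj_zpow, hc, inv_zpow', neg_neg]
    rw [← h1, inv_mul_cancel_right]
  have key : ∀ g ∈ Subgroup.closure ({x, y} : Set G),
      ∃ i : ℤ, g = (x * y) ^ i ∨ g = x * (x * y) ^ i := by
    intro g hg
    induction hg using Subgroup.closure_induction with
    | mem a ha =>
      rcases ha with ha | ha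
      · exact ⟨0, Or.inr (by rw [ha, zpow_zero, mul_one])⟩
      · refine ⟨1, Or.inr ?_⟩
        have ha' : a = y := ha
        rw [ha', zpow_one, ← mul_assoc, hx, one_mul]
    | one => exact ⟨0, Or.inl (by rw [zpow_zero])⟩
    | mul a b _ _ ha hb =>
      obtain ⟨i, rfl | rfl⟩ := ha <;> obtain ⟨j, rfl | rfl⟩ := hb
      · exact ⟨i + j, Or.inl (zpow_add _ _ _).symm⟩
      · refine ⟨-i + j, Or.inr ?_⟩
        rw [← mul_assoc, hzx, mul_assoc, ← zpow_add]
      · refine ⟨i + j, Or.inr ?_⟩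
        rw [mul_assoc, ← zpow_add]
      · refine ⟨-i + j, Or.inl ?_⟩
        rw [mul_assoc, ← mul_assoc _ x, hzx, ← mul_assoc, ← mul_assoc, hx, one_mul, ← zpow_add]
    | inv a _ ha =>
      obtain ⟨i, rfl | rfl⟩ := ha
      · exact ⟨-i, Or.inl (zpow_neg _ _).symm⟩
      · refine ⟨i, Or.inr ?_⟩
        rw [mul_inv_rev, hxi, ← zpow_neg, hzx, neg_neg]
  intro g
  obtain ⟨i, h | h⟩ := key g.1 g.2
  · refine ⟨s, Subtype.ext ?_⟩
    rw [Subgroup.coe_pow, h, Subgroup.coe_one, ← zpow_natCast, ← zpow_mul, mul_comm i, zpow_mul,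
      zpow_natCast, hz, one_zpow]
  · refine ⟨1, Subtype.ext ?_⟩
    have e : (x * (x * y) ^ i) * (x * (x * y) ^ i) = 1 := by
      rw [mul_assoc, ← mul_assoc _ x, hzx, ← mul_assoc, ← mul_assoc, hx, one_mul, ← zpow_add,
        neg_add_cancel, zpow_zero]
    rw [Subgroup.coe_pow, h, Subgroup.coe_one, pow_one, pow_two, e]

theorem orderOf_conj_eq {G : Type*} [Group G] (g h : G) : orderOf (g⁻¹ * h * g) = orderOf h := by
  have h2 := orderOf_injective (MulAut.conj g⁻¹).toMonoidHom (MulAut.conj g⁻¹).injective h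
  have e3 : (MulAut.conj g⁻¹).toMonoidHom h = g⁻¹ * h * g := by
    simp
  rw [e3] at h2
  exact h2

theorem invol_mem_pCore {G : Type*} [Group G] [Finite G] (v : G) (hv : v * v = 1)
    (hno : ∀ h : G, Odd (orderOf h) → v * h * v⁻¹ = h⁻¹ → h = 1) : v ∈ Cfsg.pCore 2 G := by
  have : Fact (Nat.Prime 2) := ⟨Nat.prime_two⟩
  obtain ⟨K, hKdef⟩ : ∃ K : Set G, K = {x | ∃ g : G, x = g * v * g⁻¹} := ⟨_, rfl⟩
  have hK : ∀ g x : G, x ∈ K → g * x * g⁻¹ ∈ K := by
    intro g x hx
    rw [hKdef] at hx ⊢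
    obtain ⟨g1, rfl⟩ := hx
    exact ⟨g * g1, by group⟩
  have hsq : ∀ x ∈ K, x * x = 1 := by
    intro x hx
    rw [hKdef] at hx
    obtain ⟨g, rfl⟩ := hx
    calc g * v * g⁻¹ * (g * v * g⁻¹) = g * (v * v) * g⁻¹ := by group
      _ = 1 := by rw [hv, mul_one, mul_inv_cancel]
  have hpair : ∀ x ∈ K, ∀ y ∈ K, IsPGroup 2 (Subgroup.closure ({x, y} : Set G)) := by
    intro x hxK y hyK
    have hx := hsq x hxK
    have hy := hsq y hyK
    rw [hKdef] at hxK
    obtain ⟨g, hg⟩ := hxK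
    have hpos : 0 < orderOf (x * y) := orderOf_pos _
    obtain ⟨s, m, hm, hsm⟩ := Nat.exists_eq_two_pow_mul_odd hpos.ne'
    apply dihedral_pgroup x y hx hy s
    obtain ⟨h', hh'⟩ : ∃ h' : G, h' = (x * y) ^ (2 ^ s) := ⟨_, rfl⟩
    rw [← hh']
    have hodd : Odd (orderOf h') := by
      have hdvd : orderOf h' ∣ m := by
        apply orderOf_dvd_of_pow_eq_one
        rw [hh', ← pow_mul, ← hsm, pow_orderOf_eq_one]
      exact Odd.of_dvd_nat hm hdvd
    have hxi : x⁻¹ = x := inv_eq_of_mul_eq_one_left hx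
    have hyi : y⁻¹ = y := inv_eq_of_mul_eq_one_left hy
    have hc : x * (x * y) * x⁻¹ = (x * y)⁻¹ := by
      rw [mul_inv_rev, hxi, hyi, ← mul_assoc, hx, one_mul]
    have hinv : x * h' * x⁻¹ = h'⁻¹ := by
      rw [hh', ← conj_pow, hc, inv_pow]
    have h1 : g⁻¹ * h' * g = 1 := by
      apply hno
      · rw [orderOf_conj_eq]; exact hodd
      · have e : v = g⁻¹ * x * g := by rw [hg]; group
        have e2 : v * (g⁻¹ * h' * g) * v⁻¹ = g⁻¹ * (x * h' * x⁻¹) * g := by rw [e]; group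
        rw [e2, hinv]; group
    have e : h' = g * (g⁻¹ * h' * g) * g⁻¹ := by group
    rw [e, h1]; group
  have hvK : v ∈ K := by
    rw [hKdef]
    exact ⟨1, by group⟩
  have hnorm : (Subgroup.closure K).Normal :=
    Cfsg.Agent.Lib.Helper5.closure_normal_of_conj_invariant_bs K hK
  obtain ⟨R⟩ : Nonempty (Sylow 2 G) := inferInstance
  have hle : Subgroup.closure K ≤ (R : Subgroup G) := by
    rw [Subgroup.closure_le]
    intro x hx
    exact Cfsg.Agent.Lib.Helper5.baer_suzuki_set 2 K hK hpair x hx R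
  have hp : IsPGroup 2 (Subgroup.closure K) := R.isPGroup'.to_le hle
  exact Cfsg.Agent.Lib.Helper7.le_pCore hnorm hp (Subgroup.subset_closure hvK)

theorem odd_self_inv {G : Type*} [Group G] (h : G) (ho : Odd (orderOf h)) (hh : h = h⁻¹) :
    h = 1 := by
  have h2 : h ^ 2 = 1 := by
    rw [pow_two]
    calc h * h = h * h⁻¹ := by rw [← hh]
      _ = 1 := mul_inv_cancel h
  have hd : orderOf h ∣ 2 := orderOf_dvd_of_pow_eq_one h2
  have h3 : orderOf h = 1 := by
    rcases (Nat.dvd_prime Nat.prime_two).mp hd with h1 | h1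
    · exact h1
    · rw [h1] at ho
      exact absurd ho (by decide)
  exact orderOf_eq_one_iff.mp h3

theorem odd_comm {G : Type*} [Group G] (k h : G) (ho : Odd (orderOf k))
    (hc : Commute (k ^ 2) h) : Commute k h := by
  obtain ⟨j, hj⟩ := ho
  have e : (k ^ 2) ^ (j + 1) = k := by
    rw [← pow_mul, show 2 * (j + 1) = orderOf k + 1 by omega, pow_succ, pow_orderOf_eq_one,
      one_mul]
  rw [← e]
  exact hc.pow_left _

theorem pattern_false {G : Type*} [Group G] [Finite G] (V : Subgroup G)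
    (hS : Cfsg.IsSidkiPair V)
    (hE : ∀ a ∈ V, ∀ b ∈ V, a ≠ 1 → b ≠ 1 → a ≠ b → ∀ u ∈ V,
      u = 1 ∨ u = a ∨ u = b ∨ u = a * b)
    (v w h k : G) (hv : v ∈ V) (hw : w ∈ V) (hv1 : v ≠ 1) (hw1 : w ≠ 1) (hvw : v ≠ w)
    (hho : Odd (orderOf h)) (hko : Odd (orderOf k)) (hh1 : h ≠ 1) (hk1 : k ≠ 1)
    (hvh : v * h * v⁻¹ = h⁻¹) (hwh : w * h = h * w) (hwk : w * k * w⁻¹ = k⁻¹)
    (hvk : v * k = k * v) : False := by
  have hvk' : v * k * v⁻¹ = k := by rw [hvk, mul_inv_cancel_right]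
  have hvki : v * k⁻¹ * v⁻¹ = k⁻¹ := by rw [← conj_inv, hvk']
  have hwh' : w * h * w⁻¹ = h := by rw [hwh, mul_inv_cancel_right]
  have hwki : w * k⁻¹ * w⁻¹ = k := by rw [← conj_inv, hwk, inv_inv]
  have hvx : v * (k⁻¹ * h * k) * v⁻¹ = (k⁻¹ * h * k)⁻¹ := by
    calc v * (k⁻¹ * h * k) * v⁻¹ = (v * k⁻¹ * v⁻¹) * (v * h * v⁻¹) * (v * k * v⁻¹) := by group
      _ = k⁻¹ * h⁻¹ * k := by rw [hvki, hvh, hvk']
      _ = (k⁻¹ * h * k)⁻¹ := by group
  have hxo : Odd (orderOf (k⁻¹ * h * k)) := by rw [orderOf_conj_eq]; exact hho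
  obtain ⟨u, hu, hu1, hux⟩ := hS (k⁻¹ * h * k) v hv hxo hvx
  rcases hE v hv w hw hv1 hw1 hvw u hu with hu' | hu' | hu' | hu'
  · exact hu1 hu'
  · -- u = v
    rw [hu'] at hux
    have hx : k⁻¹ * h * k = (k⁻¹ * h * k)⁻¹ := by rw [← hvx, hux, mul_inv_cancel_right]
    have hx1 : k⁻¹ * h * k = 1 := odd_self_inv _ hxo hx
    apply hh1
    have e : h = k * (k⁻¹ * h * k) * k⁻¹ := by group
    rw [e, hx1]; group
  · -- u = w
    rw [hu'] at hux
    have e1 : k * h * k⁻¹ = k⁻¹ * h * k := by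
      calc k * h * k⁻¹ = (w * k⁻¹ * w⁻¹) * (w * h * w⁻¹) * (w * k * w⁻¹) := by
            rw [hwki, hwh', hwk]
        _ = w * (k⁻¹ * h * k) * w⁻¹ := by group
        _ = k⁻¹ * h * k := by rw [hux, mul_inv_cancel_right]
    have e2 : Commute (k ^ 2) h := by
      show k ^ 2 * h = h * k ^ 2
      rw [pow_two]
      calc k * k * h = k * (k * h * k⁻¹) * k := by group
        _ = k * (k⁻¹ * h * k) * k := by rw [e1]
        _ = h * (k * k) := by group
    have hkh : Commute k h := odd_comm k h hko e2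
    have hy : (v * w) * (h * k) * (v * w)⁻¹ = (h * k)⁻¹ := by
      calc (v * w) * (h * k) * (v * w)⁻¹
          = v * ((w * h * w⁻¹) * (w * k * w⁻¹)) * v⁻¹ := by group
        _ = v * (h * k⁻¹) * v⁻¹ := by rw [hwh', hwk]
        _ = (v * h * v⁻¹) * (v * k⁻¹ * v⁻¹) := by group
        _ = h⁻¹ * k⁻¹ := by rw [hvh, hvki]
        _ = (k * h)⁻¹ := by rw [mul_inv_rev]
        _ = (h * k)⁻¹ := by rw [hkh.eq]
    have hyo : Odd (orderOf (h * k)) := by
      have hd : orderOf (h * k) ∣ orderOf h * orderOf k :=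
        (hkh.symm.orderOf_mul_dvd_lcm).trans (Nat.lcm_dvd_mul _ _)
      exact Odd.of_dvd_nat (hho.mul hko) hd
    obtain ⟨u', hu'V, hu'1, hu'y⟩ := hS (h * k) (v * w) (V.mul_mem hv hw) hyo hy
    rcases hE v hv w hw hv1 hw1 hvw u' hu'V with hc | hc | hc | hc
    · exact hu'1 hc
    · rw [hc] at hu'y
      have e3 : h⁻¹ * k = h * k := by
        calc h⁻¹ * k = (v * h * v⁻¹) * (v * k * v⁻¹) := by rw [hvh, hvk']
          _ = v * (h * k) * v⁻¹ := by group
          _ = h * k := by rw [hu'y, mul_inv_cancel_right]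
      exact hh1 (odd_self_inv h hho (mul_right_cancel e3).symm)
    · rw [hc] at hu'y
      have e3 : h * k⁻¹ = h * k := by
        calc h * k⁻¹ = (w * h * w⁻¹) * (w * k * w⁻¹) := by rw [hwh', hwk]
          _ = w * (h * k) * w⁻¹ := by group
          _ = h * k := by rw [hu'y, mul_inv_cancel_right]
      exact hk1 (odd_self_inv k hko (mul_left_cancel e3).symm)
    · rw [hc] at hu'y
      have e3 : h * k = (h * k)⁻¹ := by rw [← hy, hu'y, mul_inv_cancel_right]
      have e4 : h * k = 1 := odd_self_inv _ hyo e3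
      have e5 : k = h⁻¹ := eq_inv_of_mul_eq_one_right e4
      have e6 : h = h⁻¹ := by
        calc h = (v * h * v⁻¹)⁻¹ := by rw [hvh, inv_inv]
          _ = v * h⁻¹ * v⁻¹ := by rw [conj_inv]
          _ = v * k * v⁻¹ := by rw [e5]
          _ = k := hvk'
          _ = h⁻¹ := e5
      exact hh1 (odd_self_inv h hho e6)
  · -- u = v * w
    rw [hu'] at hux
    have e1 : k * h⁻¹ * k⁻¹ = k⁻¹ * h * k := by
      calc k * h⁻¹ * k⁻¹ = (v * k * v⁻¹) * (v * h * v⁻¹) * (v * k⁻¹ * v⁻¹) := by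
            rw [hvk', hvh, hvki]
        _ = v * (k * h * k⁻¹) * v⁻¹ := by group
        _ = v * ((w * k⁻¹ * w⁻¹) * (w * h * w⁻¹) * (w * k * w⁻¹)) * v⁻¹ := by
            rw [hwki, hwh', hwk]
        _ = (v * w) * (k⁻¹ * h * k) * (v * w)⁻¹ := by group
        _ = k⁻¹ * h * k := by rw [hux, mul_inv_cancel_right]
    have e2 : (k * k) * h⁻¹ * (k * k)⁻¹ = h := by
      calc (k * k) * h⁻¹ * (k * k)⁻¹ = k * (k * h⁻¹ * k⁻¹) * k⁻¹ := by group
        _ = k * (k⁻¹ * h * k) * k⁻¹ := by rw [e1]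
        _ = h := by group
    have e3 : (k * k) * h * (k * k)⁻¹ = h⁻¹ := by
      calc (k * k) * h * (k * k)⁻¹ = ((k * k) * h⁻¹ * (k * k)⁻¹)⁻¹ := by rw [conj_inv, inv_inv]
        _ = h⁻¹ := by rw [e2]
    have e4 : Commute ((k ^ 2) ^ 2) h := by
      show (k ^ 2) ^ 2 * h = h * (k ^ 2) ^ 2
      rw [pow_two k, pow_two]
      calc (k * k) * (k * k) * h = (k * k) * ((k * k) * h * (k * k)⁻¹) * (k * k) := by group
        _ = (k * k) * h⁻¹ * (k * k) := by rw [e3]
        _ = ((k * k) * h⁻¹ * (k * k)⁻¹) * ((k * k) * (k * k)) := by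
            rw [← mul_assoc _ (k * k) (k * k), inv_mul_cancel_right]
        _ = h * ((k * k) * (k * k)) := by rw [e2]
    have hodd2 : Odd (orderOf (k ^ 2)) := Odd.of_dvd_nat hko (orderOf_pow_dvd 2)
    have e5 : Commute (k ^ 2) h := odd_comm (k ^ 2) h hodd2 e4
    have e5' : (k * k) * h = h * (k * k) := by
      have h5 := e5.eq
      rwa [pow_two] at h5
    have e6 : h = h⁻¹ := by rw [← e3, e5', mul_inv_cancel_right]
    exact hh1 (odd_self_inv h hho e6)

/-- Let G be a finite group and V a nontrivial elementary abelian 2-subgroup of G of order at most 4 such that, whenever an element of V inverts an element h of G of odd order, some nontrivial element of V commutes with h. Then V meets O₂(G) nontrivially. (The case of order at most 4 has a short argument from the Baer–Suzuki theorem.) -/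
theorem result {G : Type*} [Group G] [Finite G] (V : Subgroup G) (hV : Cfsg.IsElementaryAbelian 2 V) (hV1 : V ≠ ⊥) (hS : Cfsg.IsSidkiPair V) (h4 : Nat.card V ≤ 4) : V ⊓ Cfsg.pCore 2 G ≠ ⊥ := by
  intro hbot
  obtain ⟨hVc, hV2⟩ := hV
  have hsq : ∀ a ∈ V, a * a = 1 := fun a ha => by rw [← pow_two]; exact hV2 a ha
  have hinv : ∀ a ∈ V, a⁻¹ = a := fun a ha => inv_eq_of_mul_eq_one_left (hsq a ha)
  have hE : ∀ a ∈ V, ∀ b ∈ V, a ≠ 1 → b ≠ 1 → a ≠ b → ∀ u ∈ V,
      u = 1 ∨ u = a ∨ u = b ∨ u = a * b := by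
    intro a ha b hb ha1 hb1 hab u hu
    by_contra hcon
    push Not at hcon
    obtain ⟨hu1, hua, hub, huab⟩ := hcon
    classical
    have hab1 : a * b ≠ 1 := fun h => hab (by
      rw [← hinv b hb]; exact eq_inv_of_mul_eq_one_left h)
    have haba : a * b ≠ a := fun h => hb1 (by
      have h' : a * b = a * 1 := by rw [h, mul_one]
      exact mul_left_cancel h')
    have habb : a * b ≠ b := fun h => ha1 (by
      have h' : a * b = 1 * b := by rw [h, one_mul]
      exact mul_right_cancel h')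
    have e1 : ({1} : Finset G).card = 1 := Finset.card_singleton 1
    have e2 : ({a, 1} : Finset G).card = 2 := by
      rw [Finset.card_insert_of_notMem (by
        rw [Finset.mem_singleton]; exact ha1), e1]
    have e3 : ({b, a, 1} : Finset G).card = 3 := by
      rw [Finset.card_insert_of_notMem (by
        rw [Finset.mem_insert, Finset.mem_singleton]
        rintro (h | h)
        · exact hab h.symm
        · exact hb1 h), e2]
    have e4 : ({a * b, b, a, 1} : Finset G).card = 4 := by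
      rw [Finset.card_insert_of_notMem (by
        rw [Finset.mem_insert, Finset.mem_insert, Finset.mem_singleton]
        rintro (h | h | h)
        · exact habb h
        · exact haba h
        · exact hab1 h), e3]
    have hcard : ({u, a * b, b, a, 1} : Finset G).card = 5 := by
      rw [Finset.card_insert_of_notMem (by
        rw [Finset.mem_insert, Finset.mem_insert, Finset.mem_insert, Finset.mem_singleton]
        rintro (h | h | h | h)
        · exact huab h
        · exact hub h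
        · exact hua h
        · exact hu1 h), e4]
    have hsub : (({u, a * b, b, a, 1} : Finset G) : Set G) ⊆ (V : Set G) := by
      intro z hz
      rw [Finset.mem_coe, Finset.mem_insert, Finset.mem_insert, Finset.mem_insert,
        Finset.mem_insert, Finset.mem_singleton] at hz
      rcases hz with rfl | rfl | rfl | rfl | rfl
      · exact hu
      · exact V.mul_mem ha hb
      · exact hb
      · exact ha
      · exact V.one_mem
    have h5 : 5 ≤ (V : Set G).ncard := by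
      rw [← hcard, ← Set.ncard_coe_finset]
      exact Set.ncard_le_ncard hsub (Set.toFinite _)
    have h6 : (V : Set G).ncard = Nat.card V := rfl
    omega
  have hQ : ∀ v ∈ V, v ≠ 1 → ∃ h w : G, Odd (orderOf h) ∧ h ≠ 1 ∧ v * h * v⁻¹ = h⁻¹ ∧
      w ∈ V ∧ w ≠ 1 ∧ w ≠ v ∧ w * h = h * w := by
    intro v hv hv1
    have hnot : v ∉ Cfsg.pCore 2 G := by
      intro hvc
      have hmem : v ∈ V ⊓ Cfsg.pCore 2 G := ⟨hv, hvc⟩
      rw [hbot, Subgroup.mem_bot] at hmem
      exact hv1 hmem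
    have hex : ∃ h : G, Odd (orderOf h) ∧ v * h * v⁻¹ = h⁻¹ ∧ h ≠ 1 := by
      by_contra hcon
      apply hnot
      apply invol_mem_pCore v (hsq v hv)
      intro h ho hi
      by_contra h1
      exact hcon ⟨h, ho, hi, h1⟩
    obtain ⟨h, ho, hi, h1⟩ := hex
    obtain ⟨w, hw, hw1, hwh⟩ := hS h v hv ho hi
    refine ⟨h, w, ho, h1, hi, hw, hw1, ?_, hwh⟩
    intro hwv
    rw [hwv] at hwh
    apply h1
    apply odd_self_inv h ho
    rw [← hi, hwh, mul_inv_cancel_right]
  obtain ⟨a, ha, ha1⟩ : ∃ a ∈ V, a ≠ 1 := by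
    by_contra hcon
    apply hV1
    rw [Subgroup.eq_bot_iff_forall]
    intro x hx
    by_contra hx1
    exact hcon ⟨x, hx, hx1⟩
  obtain ⟨p, b, hpo, hp1, hap, hb, hb1, hba, hbp⟩ := hQ a ha ha1
  obtain ⟨q, w, hqo, hq1, hbq, hw, hw1, hwb, hwq⟩ := hQ b hb hb1
  have hab : a ≠ b := fun h => hba h.symm
  rcases hE a ha b hb ha1 hb1 hab w hw with h | h | h | h
  · exact hw1 h
  · have hwq' : a * q = q * a := by rw [← h]; exact hwq
    exact pattern_false V hS hE a b p q ha hb ha1 hb1 hab hpo hqo hp1 hq1 hap hbp hbq hwq'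
  · exact hwb h
  · have hwq' : (a * b) * q = q * (a * b) := by rw [← h]; exact hwq
    have habp : (a * b) * p * (a * b)⁻¹ = p⁻¹ := by
      calc (a * b) * p * (a * b)⁻¹ = a * (b * p * b⁻¹) * a⁻¹ := by group
        _ = a * p * a⁻¹ := by rw [hbp, mul_inv_cancel_right]
        _ = p⁻¹ := hap
    have hab1 : a * b ≠ 1 := fun h' => hab (by
      rw [← hinv b hb]; exact eq_inv_of_mul_eq_one_left h')
    have habb : a * b ≠ b := fun h' => ha1 (by
      have h'' : a * b = 1 * b := by rw [h', one_mul]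
      exact mul_right_cancel h'')
    exact pattern_false V hS hE (a * b) b p q (V.mul_mem ha hb) hb hab1 hb1 habb hpo hqo hp1 hq1
      habp hbp hbq hwq'

end Cfsg.Agent.S3011
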