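import Cfsg.Statements.S3012
import Mathlib.Data.Nat.Factorization.Basic
-- import your own Cfsg.Agent.* helpers here

set_option autoImplicit false
open Cfsg

namespace Cfsg.Agent.S3012

/-- Let G be a finite group, V a nontrivial elementary abelian 2-subgroup of G satisfying the Sidki pair condition (every odd-order element inverted by an element of V commutes with a nontrivial element of V), and K a normal subgroup of G with V ∩ K = 1. Then the image of V in G/K satisfies the Sidki pair condition in G/K. -/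
theorem result {G : Type*} [Group G] [Finite G] (V K : Subgroup G) [K.Normal] (hV : Cfsg.IsElementaryAbelian 2 V) (hV1 : V ≠ ⊥) (hS : Cfsg.IsSidkiPair V) (hVK : V ⊓ K = ⊥) : Cfsg.IsSidkiPair (V.map (QuotientGroup.mk' K)) := by
  intro h v hv hodd hinv
  obtain ⟨v₀, hv₀, rfl⟩ := hv
  obtain ⟨x, rfl⟩ := QuotientGroup.mk'_surjective K h
  have hv2 : v₀ * v₀ = 1 := by
    have := hV.2 v₀ hv₀
    rwa [pow_two] at this
  have hvinv : v₀⁻¹ = v₀ := inv_eq_of_mul_eq_one_left hv2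
  have hy_inv : v₀ * (v₀ * (x * v₀ * x⁻¹)) * v₀⁻¹ = (v₀ * (x * v₀ * x⁻¹))⁻¹ := by
    have e1 : v₀ * (v₀ * (x * v₀ * x⁻¹)) * v₀⁻¹ = (v₀ * v₀) * (x * v₀ * x⁻¹) * v₀⁻¹ := by group
    have e2 : (v₀ * (x * v₀ * x⁻¹))⁻¹ = x * v₀⁻¹ * x⁻¹ * v₀⁻¹ := by group
    rw [e1, e2, hv2, one_mul, hvinv]
  have hπy : QuotientGroup.mk' K (v₀ * (x * v₀ * x⁻¹)) =
      (QuotientGroup.mk' K x * QuotientGroup.mk' K x)⁻¹ := by
    have ha2 : QuotientGroup.mk' K v₀ * QuotientGroup.mk' K v₀ = 1 := by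
      rw [← map_mul, hv2, map_one]
    have hainv : (QuotientGroup.mk' K v₀)⁻¹ = QuotientGroup.mk' K v₀ := inv_eq_of_mul_eq_one_left ha2
    have hb : QuotientGroup.mk' K x * QuotientGroup.mk' K v₀ =
        QuotientGroup.mk' K v₀ * (QuotientGroup.mk' K x)⁻¹ := by
      rw [← hinv]
      have e : QuotientGroup.mk' K v₀ * (QuotientGroup.mk' K v₀ * QuotientGroup.mk' K x *
          (QuotientGroup.mk' K v₀)⁻¹) = (QuotientGroup.mk' K v₀ * QuotientGroup.mk' K v₀) *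
          QuotientGroup.mk' K x * (QuotientGroup.mk' K v₀)⁻¹ := by group
      rw [e, ha2, one_mul, hainv]
    rw [map_mul, map_mul, map_mul, map_inv, hb]
    have e : QuotientGroup.mk' K v₀ * (QuotientGroup.mk' K v₀ * (QuotientGroup.mk' K x)⁻¹ *
        (QuotientGroup.mk' K x)⁻¹) = (QuotientGroup.mk' K v₀ * QuotientGroup.mk' K v₀) *
        ((QuotientGroup.mk' K x)⁻¹ * (QuotientGroup.mk' K x)⁻¹) := by group
    rw [e, ha2, one_mul, mul_inv_rev]
  obtain ⟨s, m, hm, hn⟩ := Nat.exists_eq_two_pow_mul_odd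
    (orderOf_pos (v₀ * (x * v₀ * x⁻¹))).ne'
  have hodd_h : Odd (orderOf ((v₀ * (x * v₀ * x⁻¹)) ^ (2 ^ s))) := by
    apply Odd.of_dvd_nat hm
    apply orderOf_dvd_of_pow_eq_one
    rw [← pow_mul, ← hn, pow_orderOf_eq_one]
  have hinv_h : v₀ * (v₀ * (x * v₀ * x⁻¹)) ^ (2 ^ s) * v₀⁻¹ =
      ((v₀ * (x * v₀ * x⁻¹)) ^ (2 ^ s))⁻¹ := by
    rw [← conj_pow, hy_inv, inv_pow]
  obtain ⟨w, hwV, hw1, hwh⟩ := hS _ v₀ hv₀ hodd_h hinv_h
  refine ⟨QuotientGroup.mk' K w, ⟨w, hwV, rfl⟩, ?_, ?_⟩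
  · intro h1
    have h2 : w ∈ K := (QuotientGroup.eq_one_iff w).mp h1
    have h3 : w ∈ V ⊓ K := Subgroup.mem_inf.mpr ⟨hwV, h2⟩
    rw [hVK] at h3
    exact hw1 (Subgroup.mem_bot.mp h3)
  · have c1 : Commute (QuotientGroup.mk' K w)
        (QuotientGroup.mk' K ((v₀ * (x * v₀ * x⁻¹)) ^ (2 ^ s))) := by
      show QuotientGroup.mk' K w * QuotientGroup.mk' K ((v₀ * (x * v₀ * x⁻¹)) ^ (2 ^ s)) =
        QuotientGroup.mk' K ((v₀ * (x * v₀ * x⁻¹)) ^ (2 ^ s)) * QuotientGroup.mk' K w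
      rw [← map_mul, ← map_mul, hwh]
    rw [map_pow, hπy, inv_pow, ← pow_two, ← pow_mul] at c1
    have c2 : Commute (QuotientGroup.mk' K w) (QuotientGroup.mk' K x ^ (2 * 2 ^ s)) := by
      have := c1.inv_right
      rwa [inv_inv] at this
    have hcop : (2 * 2 ^ s).Coprime (orderOf (QuotientGroup.mk' K x)) := by
      rw [← pow_succ']
      exact Nat.Coprime.pow_left (s + 1) (Nat.coprime_two_left.mpr hodd)
    obtain ⟨k, hk⟩ := exists_pow_eq_self_of_coprime hcop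
    have c3 := c2.pow_right k
    rw [hk] at c3
    exact c3.eq

end Cfsg.Agent.S3012
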