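import Cfsg.Statements.S3013
-- import your own Cfsg.Agent.* helpers here

set_option autoImplicit false
open Cfsg

namespace Cfsg.Agent.S3013

theorem commute_of_commute_sq {G : Type*} [Group G] (w h : G) (hodd : Odd (orderOf h))
    (hc : Commute w (h * h)) : Commute w h := by
  obtain ⟨j, hj⟩ := hodd
  have h1 : (h * h) ^ (j + 1) = h := by
    have e : (h * h) ^ (j + 1) = h ^ (2 * j + 1) * h := by
      rw [← pow_two, ← pow_mul]
      have : 2 * (j + 1) = (2 * j + 1) + 1 := by ring
      rw [this, pow_succ]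
    rw [e, ← hj, pow_orderOf_eq_one, one_mul]
  have h2 : Commute w ((h * h) ^ (j + 1)) := hc.pow_right (j + 1)
  rwa [h1] at h2

/-- Let G be a finite group and V a nontrivial elementary abelian 2-subgroup of G satisfying the Sidki pair condition. Let v ∈ V and let x be an element of odd order inverted by v, and put C = C_G(v) ∩ C_G(x), the centralizer of the dihedral subgroup generated by v and x. Then C ∩ V is nontrivial and satisfies the Sidki pair condition inside C: every odd-order element of C inverted by an element of C ∩ V commutes with a nontrivial element of C ∩ V. -/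
theorem result {G : Type*} [Group G] [Finite G] (V : Subgroup G) (hV : Cfsg.IsElementaryAbelian 2 V) (hV1 : V ≠ ⊥) (hS : Cfsg.IsSidkiPair V) (v x : G) (hv : v ∈ V) (hx : Odd (orderOf x)) (hinv : v * x * v⁻¹ = x⁻¹) (C : Subgroup G) (hC : C = Subgroup.centralizer ({v} : Set G) ⊓ Subgroup.centralizer ({x} : Set G)) : C ⊓ V ≠ ⊥ ∧ Cfsg.IsSidkiPair ((C ⊓ V).subgroupOf C) := by
  subst hC
  have hVab : ∀ a ∈ V, ∀ b ∈ V, Commute a b := by
    intro a ha b hb
    have := hV.1.is_comm.comm ⟨a, ha⟩ ⟨b, hb⟩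
    exact congrArg (Subtype.val : ↥V → G) this
  have memC : ∀ w : G, Commute w v → Commute w x →
      w ∈ Subgroup.centralizer ({v} : Set G) ⊓ Subgroup.centralizer ({x} : Set G) := by
    intro w h1 h2
    refine Subgroup.mem_inf.mpr ⟨?_, ?_⟩
    · rw [Subgroup.mem_centralizer_iff]
      intro y hy
      rw [Set.mem_singleton_iff.mp hy]
      exact h1.symm.eq
    · rw [Subgroup.mem_centralizer_iff]
      intro y hy
      rw [Set.mem_singleton_iff.mp hy]
      exact h2.symm.eq
  have ofC : ∀ w : G, w ∈ Subgroup.centralizer ({v} : Set G) ⊓ Subgroup.centralizer ({x} : Set G) →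
      Commute w v ∧ Commute w x := by
    intro w hw
    have h1 := (Subgroup.mem_centralizer_iff.mp (Subgroup.mem_inf.mp hw).1) v rfl
    have h2 := (Subgroup.mem_centralizer_iff.mp (Subgroup.mem_inf.mp hw).2) x rfl
    exact ⟨h1.symm, h2.symm⟩
  refine ⟨?_, ?_⟩
  · obtain ⟨w, hwV, hw1, hwx⟩ := hS x v hv hx hinv
    intro hbot
    have hw : w ∈ (Subgroup.centralizer ({v} : Set G) ⊓ Subgroup.centralizer ({x} : Set G)) ⊓ V :=
      Subgroup.mem_inf.mpr ⟨memC w (hVab w hwV v hv) hwx, hwV⟩
    rw [hbot] at hw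
    exact hw1 (Subgroup.mem_bot.mp hw)
  · intro h' v' hv' hodd' hinv'
    have hhC := ofC (h' : G) h'.2
    have huV : (v' : G) ∈ V := (Subgroup.mem_inf.mp (Subgroup.mem_subgroupOf.mp hv')).2
    have huC := ofC (v' : G) v'.2
    have hodd : Odd (orderOf (h' : G)) := by rw [Subgroup.orderOf_coe]; exact hodd'
    have hinvG : (v' : G) * (h' : G) * (v' : G)⁻¹ = (h' : G)⁻¹ := congrArg Subtype.val hinv'
    have hxh : Commute x (h' : G) := hhC.2.symm
    have hvh : Commute v (h' : G) := hhC.1.symm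
    have hux : Commute (v' : G) x := huC.2
    have hoddy : Odd (orderOf (x * (h' : G))) := by
      have hdvd := hxh.orderOf_mul_dvd_lcm
      exact Odd.of_dvd_nat (hx.mul hodd) (hdvd.trans (Nat.lcm_dvd_mul _ _))
    have hinvy : (v * (v' : G)) * (x * (h' : G)) * (v * (v' : G))⁻¹ = (x * (h' : G))⁻¹ := by
      have e1 : (v * (v' : G)) * (x * (h' : G)) * (v * (v' : G))⁻¹ =
          v * (((v' : G) * x * (v' : G)⁻¹) * ((v' : G) * (h' : G) * (v' : G)⁻¹)) * v⁻¹ := by group
      have e2 : (v' : G) * x * (v' : G)⁻¹ = x := by rw [hux.eq, mul_inv_cancel_right]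
      have e3 : v * (x * (h' : G)⁻¹) * v⁻¹ = (v * x * v⁻¹) * (v * (h' : G)⁻¹ * v⁻¹) := by group
      have e4 : v * (h' : G)⁻¹ * v⁻¹ = (h' : G)⁻¹ := by rw [hvh.inv_right.eq, mul_inv_cancel_right]
      rw [e1, e2, hinvG, e3, hinv, e4, mul_inv_rev, hxh.inv_inv.eq]
    obtain ⟨w, hwV, hw1, hwy⟩ := hS (x * (h' : G)) (v * (v' : G)) (mul_mem hv huV) hoddy hinvy
    have hwy' : Commute w (x * (h' : G)) := hwy
    have hwv : Commute w v := hVab w hwV v hv
    have hconj : v * (x * (h' : G)) * v⁻¹ = x⁻¹ * (h' : G) := by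
      have e3 : v * (x * (h' : G)) * v⁻¹ = (v * x * v⁻¹) * (v * (h' : G) * v⁻¹) := by group
      have e4 : v * (h' : G) * v⁻¹ = (h' : G) := by rw [hvh.eq, mul_inv_cancel_right]
      rw [e3, hinv, e4]
    have hw2 : Commute w (x⁻¹ * (h' : G)) := by
      rw [← hconj]
      exact (hwv.mul_right hwy').mul_right hwv.inv_right
    have hsq : (x * (h' : G)) * (x⁻¹ * (h' : G)) = (h' : G) * (h' : G) := by
      have e : (x * (h' : G)) * (x⁻¹ * (h' : G)) = (x * (h' : G) * x⁻¹) * (h' : G) := by group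
      rw [e, hxh.eq, mul_inv_cancel_right]
    have hw3 : Commute w ((h' : G) * (h' : G)) := by
      rw [← hsq]; exact hwy'.mul_right hw2
    have hwh : Commute w (h' : G) := commute_of_commute_sq w (h' : G) hodd hw3
    have hwx : Commute w x := by
      have : Commute w ((x * (h' : G)) * (h' : G)⁻¹) := hwy'.mul_right hwh.inv_right
      rwa [mul_inv_cancel_right] at this
    have hwC := memC w hwv hwx
    refine ⟨⟨w, hwC⟩, ?_, ?_, ?_⟩
    · exact Subgroup.mem_subgroupOf.mpr (Subgroup.mem_inf.mpr ⟨hwC, hwV⟩)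
    · intro h
      exact hw1 (congrArg Subtype.val h)
    · apply Subtype.ext
      exact hwh.eq

end Cfsg.Agent.S3013
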