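import Cfsg.Statements.S1324
import Cfsg.Agent.S0058
import Cfsg.Agent.Lib.Helper9.CarterSys2

set_option autoImplicit false
open Cfsg

namespace Cfsg.Agent.S1324


open Cfsg.Agent.Lib.Helper7
open Subgroup
open scoped IsMulCommutative

universe u

/-- the target join -/
def V {H : Type u} [Group H] (p : ℕ) (A X : Subgroup H) : Subgroup H :=
  ⨆ B : {B : Subgroup H // B ≤ A ∧ B.relIndex A ≤ p},
    X ⊓ Subgroup.centralizer ((B : Subgroup H) : Set H)

theorem le_V {H : Type u} [Group H] {p : ℕ} {A X B : Subgroup H} (hBA : B ≤ A)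
    (hB : B.relIndex A ≤ p) : X ⊓ Subgroup.centralizer (B : Set H) ≤ V p A X :=
  le_iSup (fun B : {B : Subgroup H // B ≤ A ∧ B.relIndex A ≤ p} =>
    X ⊓ Subgroup.centralizer ((B : Subgroup H) : Set H)) ⟨B, hBA, hB⟩

theorem mem_normalizer_of_commute {G : Type u} [Group G] (X : Subgroup G) (g : G)
    (h : ∀ x ∈ X, g * x = x * g) : g ∈ Subgroup.normalizer (X : Set G) := by
  rw [Subgroup.mem_normalizer_iff]
  intro x
  constructor
  · intro hx
    have h1 : g * x * g⁻¹ = x := by rw [h x hx]; group
    rw [h1]; exact hx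
  · intro hx
    have h2 := h _ hx
    have h3 : g * (g * x * g⁻¹) = g * x := by rw [h2]; group
    have h4 : g * x * g⁻¹ = x := mul_left_cancel h3
    rw [← h4]; exact hx

theorem main {H : Type u} [Group H] [Finite H] (p : ℕ) [Fact p.Prime] :
    ∀ (n : ℕ) (A X : Subgroup H), Nat.card A ≤ n → Cfsg.IsElementaryAbelian p A →
      ¬ p ∣ Nat.card X → A ≤ Subgroup.normalizer (X : Set H) → X ≤ V p A X := by
  have hp := (Fact.out : p.Prime)
  intro n
  induction n with
  | zero =>
    intro A X hn
    exact absurd hn (by have := Nat.card_pos (α := A); omega)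
  | succ n ih =>
    intro A X hn hA hX hAX
    have hAc : IsMulCommutative A := hA.1
    have hAcomm : ∀ a ∈ A, ∀ b ∈ A, a * b = b * a := fun a ha b hb =>
      congrArg Subtype.val (mul_comm (⟨a, ha⟩ : A) ⟨b, hb⟩)
    by_cases hsmall : Nat.card A ≤ p
    · intro x hx
      refine le_V (B := ⊥) bot_le (by rw [Subgroup.relIndex_bot_left]; exact hsmall)
        (Subgroup.mem_inf.mpr ⟨hx, ?_⟩)
      rw [Subgroup.mem_centralizer_iff]
      intro h hh
      have h1 : h = 1 := Subgroup.mem_bot.mp hh
      rw [h1, one_mul, mul_one]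
    · rw [not_le] at hsmall
      have hAnc : ¬ IsCyclic A := by
        intro hc
        obtain ⟨g, hg⟩ := hc.exists_generator
        have h1 : orderOf g = Nat.card A := orderOf_eq_card_of_forall_mem_zpowers hg
        have h2 : g ^ p = 1 := Subtype.ext (hA.2 g g.2)
        have h3 : orderOf g ≤ p := Nat.le_of_dvd hp.pos (orderOf_dvd_of_pow_eq_one h2)
        omega
      have hApg : IsPGroup p A := fun a => ⟨1, by rw [pow_one]; exact Subtype.ext (hA.2 a a.2)⟩
      obtain ⟨k, hk⟩ := IsPGroup.iff_card.mp hApg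
      have hcop : (Nat.card A).Coprime (Nat.card X) := by
        rw [hk]; exact ((Nat.Prime.coprime_iff_not_dvd hp).mpr hX).pow_left k
      have h58 := Cfsg.Agent.S0058.main A hAnc _ X le_rfl hAX hcop
      refine h58.trans ?_
      apply iSup₂_le
      rintro a ⟨ha, ha1⟩
      -- a maximal subgroup of `A` avoiding `a`
      obtain ⟨A₁, -, hmax⟩ := Finite.exists_le_maximal
        (p := fun K : Subgroup H => K ≤ A ∧ a ∉ K) (a := ⊥)
        ⟨bot_le, fun h => ha1 (Subgroup.mem_bot.mp h)⟩
      obtain ⟨hA₁A, haA₁⟩ := hmax.prop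
      have hap : a ^ p = 1 := hA.2 a ha
      have hdec : ∀ x ∈ A, ∃ y ∈ A₁, ∃ z ∈ Subgroup.zpowers a, x = y * z := by
        intro x hx
        by_cases hxA₁ : x ∈ A₁
        · exact ⟨x, hxA₁, 1, Subgroup.one_mem _, (mul_one x).symm⟩
        · have hK : A₁ ⊔ Subgroup.zpowers x ≤ A := sup_le hA₁A (Subgroup.zpowers_le.mpr hx)
          have hlt : A₁ < A₁ ⊔ Subgroup.zpowers x := by
            refine lt_of_le_of_ne le_sup_left ?_
            intro heq
            apply hxA₁
            rw [heq]
            exact Subgroup.mem_sup_right (Subgroup.mem_zpowers x)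
          have haK : a ∈ A₁ ⊔ Subgroup.zpowers x := by
            by_contra hcon
            exact hmax.not_prop_of_gt hlt ⟨hK, hcon⟩
          have hxN : Subgroup.zpowers x ≤ Subgroup.normalizer (A₁ : Set H) := by
            rw [Subgroup.zpowers_le]
            exact mem_normalizer_of_commute A₁ x (fun y hy => hAcomm x hx y (hA₁A hy))
          obtain ⟨y, hy, z, hz, hayz⟩ := exists_mul_of_mem_sup hxN haK
          rw [← mem_powers_iff_mem_zpowers] at hz
          obtain ⟨j, hjz⟩ := hz
          have hjz' : x ^ j = z := hjz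
          subst hjz'
          have hxp : x ^ p = 1 := hA.2 x hx
          have hj : ¬ p ∣ j := by
            rintro ⟨m, rfl⟩
            apply haA₁
            rw [hayz, pow_mul, hxp, one_pow, mul_one]
            exact hy
          have hcopj : Nat.Coprime j p := ((Nat.Prime.coprime_iff_not_dvd hp).mpr hj).symm
          obtain ⟨m, -, hm⟩ := Nat.exists_mul_mod_eq_one_of_coprime hcopj hp.one_lt
          have hxj : x ^ j = y⁻¹ * a := by rw [hayz]; group
          have hcomm : Commute y⁻¹ a := (hAcomm _ (A.inv_mem (hA₁A hy)) a ha)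
          have hx1 : x = (y⁻¹) ^ m * a ^ m := by
            calc x = x ^ 1 := (pow_one x).symm
              _ = x ^ (j * m % p) := by rw [hm]
              _ = x ^ (j * m) := (pow_eq_pow_mod (j * m) hxp).symm
              _ = (x ^ j) ^ m := pow_mul x j m
              _ = (y⁻¹ * a) ^ m := by rw [hxj]
              _ = (y⁻¹) ^ m * a ^ m := hcomm.mul_pow m
          exact ⟨(y⁻¹) ^ m, A₁.pow_mem (A₁.inv_mem hy) m, a ^ m,
            Subgroup.pow_mem _ (Subgroup.mem_zpowers a) m, hx1⟩
      have hcardA : Nat.card A ≤ Nat.card A₁ * p := by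
        have hsurj : Function.Surjective
            (fun q : A₁ × Subgroup.zpowers a =>
              (⟨(q.1 : H) * (q.2 : H), A.mul_mem (hA₁A q.1.2)
                (Subgroup.zpowers_le.mpr ha q.2.2)⟩ : A)) := by
          rintro ⟨x, hx⟩
          obtain ⟨y, hy, z, hz, rfl⟩ := hdec x hx
          exact ⟨(⟨y, hy⟩, ⟨z, hz⟩), rfl⟩
        have h1 := Nat.card_le_card_of_surjective _ hsurj
        rw [Nat.card_prod, Nat.card_zpowers] at h1
        have h2 : orderOf a ≤ p := Nat.le_of_dvd hp.pos (orderOf_dvd_of_pow_eq_one hap)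
        exact h1.trans (Nat.mul_le_mul_left _ h2)
      have hA₁lt : Nat.card A₁ < Nat.card A :=
        card_lt_of_lt (lt_of_le_of_ne hA₁A (fun h => haA₁ (h ▸ ha)))
      have hA₁e : Cfsg.IsElementaryAbelian p A₁ :=
        ⟨⟨⟨fun x y => Subtype.ext (hAcomm x (hA₁A x.2) y (hA₁A y.2))⟩⟩,
          fun x hx => hA.2 x (hA₁A hx)⟩
      have hXa : ¬ p ∣ Nat.card (X ⊓ Subgroup.centralizer {a} : Subgroup H) := fun h =>
        hX (h.trans (Subgroup.card_dvd_of_le inf_le_left))
      have hA₁N : A₁ ≤ Subgroup.normalizer ((X ⊓ Subgroup.centralizer {a} : Subgroup H) : Set H) := by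
        intro b hb
        have h1 : b ∈ Subgroup.normalizer (X : Set H) := hAX (hA₁A hb)
        have h2 : b ∈ Subgroup.normalizer ((Subgroup.centralizer {a} : Subgroup H) : Set H) := by
          apply Subgroup.le_normalizer
          rw [Subgroup.mem_centralizer_iff]
          intro z hz
          rw [Set.mem_singleton_iff] at hz
          rw [hz]
          exact hAcomm a ha b (hA₁A hb)
        rw [Subgroup.mem_normalizer_iff] at h1 h2 ⊢
        intro x
        rw [Subgroup.mem_inf, Subgroup.mem_inf, h1 x, h2 x]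
      have hIH := ih A₁ (X ⊓ Subgroup.centralizer {a}) (by omega) hA₁e hXa hA₁N
      refine hIH.trans ?_
      apply iSup_le
      rintro ⟨B₁, hB₁A₁, hB₁idx⟩
      have hBA : B₁ ⊔ Subgroup.zpowers a ≤ A :=
        sup_le (hB₁A₁.trans hA₁A) (Subgroup.zpowers_le.mpr ha)
      have hB₁B : B₁ ≤ B₁ ⊔ Subgroup.zpowers a := le_sup_left
      have hidx : (B₁ ⊔ Subgroup.zpowers a).relIndex A ≤ p := by
        have h1 := Cfsg.Agent.Lib.Helper9.card_mul_relIndex_of_le hBA
        have h2 := Cfsg.Agent.Lib.Helper9.card_mul_relIndex_of_le hB₁A₁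
        have h3 := Cfsg.Agent.Lib.Helper9.card_mul_relIndex_of_le hB₁B
        have hBpg : IsPGroup p (B₁ ⊔ Subgroup.zpowers a : Subgroup H) := hApg.to_le hBA
        obtain ⟨j, hj⟩ := hBpg.index (B₁.subgroupOf (B₁ ⊔ Subgroup.zpowers a))
        have hj' : B₁.relIndex (B₁ ⊔ Subgroup.zpowers a) = p ^ j := hj
        have hj0 : j ≠ 0 := by
          intro h0
          rw [h0, pow_zero, Subgroup.relIndex_eq_one] at hj'
          exact haA₁ (hB₁A₁ (hj' (Subgroup.mem_sup_right (Subgroup.mem_zpowers a))))
        have h4 : p ≤ B₁.relIndex (B₁ ⊔ Subgroup.zpowers a) := by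
          rw [hj']
          exact Nat.le_self_pow hj0 p
        have hpos : 0 < Nat.card (B₁ ⊔ Subgroup.zpowers a : Subgroup H) := Nat.card_pos
        have h5 : Nat.card B₁ * p ≤ Nat.card (B₁ ⊔ Subgroup.zpowers a : Subgroup H) := by
          rw [← h3]; exact Nat.mul_le_mul_left _ h4
        have h6 : Nat.card A₁ ≤ Nat.card B₁ * p := by
          rw [← h2]; exact Nat.mul_le_mul_left _ hB₁idx
        have h7 : Nat.card (B₁ ⊔ Subgroup.zpowers a : Subgroup H) *
            (B₁ ⊔ Subgroup.zpowers a).relIndex A ≤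
            Nat.card (B₁ ⊔ Subgroup.zpowers a : Subgroup H) * p := by
          rw [h1]
          calc Nat.card A ≤ Nat.card A₁ * p := hcardA
            _ ≤ (Nat.card B₁ * p) * p := Nat.mul_le_mul_right _ h6
            _ ≤ Nat.card (B₁ ⊔ Subgroup.zpowers a : Subgroup H) * p := Nat.mul_le_mul_right _ h5
        exact Nat.le_of_mul_le_mul_left h7 hpos
      refine le_trans ?_ (le_V hBA hidx)
      intro x hx
      obtain ⟨hx1, hxB⟩ := Subgroup.mem_inf.mp hx
      obtain ⟨hxX, hxa⟩ := Subgroup.mem_inf.mp hx1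
      refine Subgroup.mem_inf.mpr ⟨hxX, ?_⟩
      have hle : B₁ ⊔ Subgroup.zpowers a ≤ Subgroup.centralizer {x} := by
        apply sup_le
        · intro b hb
          rw [Subgroup.mem_centralizer_iff]
          intro z hz
          rw [Set.mem_singleton_iff] at hz
          rw [hz]
          exact (Subgroup.mem_centralizer_iff.mp hxB b hb).symm
        · rw [Subgroup.zpowers_le, Subgroup.mem_centralizer_iff]
          intro z hz
          rw [Set.mem_singleton_iff] at hz
          rw [hz]
          exact (Subgroup.mem_centralizer_iff.mp hxa a rfl).symm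
      rw [Subgroup.mem_centralizer_iff]
      intro h hh
      exact (Subgroup.mem_centralizer_iff.mp (hle hh) x rfl).symm


/-- Let A be a noncyclic elementary abelian p-subgroup of a finite group H normalizing a subgroup X of order prime to p. Then X is generated by the subgroups X ∩ C_H(B), B ranging over the subgroups of A of index at most p. -/
theorem result {H : Type*} [Group H] [Finite H] (p : ℕ) [Fact p.Prime] (A X : Subgroup H) (hA : Cfsg.IsElementaryAbelian p A) (hA2 : p ^ 2 ≤ Nat.card ↥A) (hX : ¬ p ∣ Nat.card ↥X) (hAX : A ≤ Subgroup.normalizer (X : Set H)) : X = ⨆ B : {B : Subgroup H // B ≤ A ∧ B.relIndex A ≤ p}, X ⊓ Subgroup.centralizer ((B : Subgroup H) : Set H) := by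
  apply le_antisymm
  · exact main p _ A X le_rfl hA hX hAX
  · exact iSup_le (fun _ => inf_le_left)

end Cfsg.Agent.S1324
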