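import Mathlib
import Cfsg.Statements.S1900
import Cfsg.Agent.S1324
import Cfsg.Agent.Lib.Helper7.Coprime2
import Cfsg.Agent.Lib.Helper8.Basic

set_option autoImplicit false
open Cfsg

namespace Cfsg.Agent.S1900

open Cfsg.Agent.Lib.Helper7 Cfsg.Agent.Lib.Helper8

section
variable {S : Type*} [Group S]

/-- `Y` is invariant under conjugation by `Q` -/
def QInv (Q Y : Subgroup S) : Prop := ∀ x ∈ Q, ∀ y ∈ Y, x * y * x⁻¹ ∈ Y

theorem qinv_inf {Q Y Z : Subgroup S} (hY : QInv Q Y) (hZ : QInv Q Z) : QInv Q (Y ⊓ Z) :=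
  fun x hx y hy => ⟨hY x hx y hy.1, hZ x hx y hy.2⟩

theorem qinv_centralizer {Q X : Subgroup S} (hQ : ∀ a ∈ Q, ∀ b ∈ Q, a * b = b * a) (hX : X ≤ Q) :
    QInv Q (Subgroup.centralizer (X : Set S)) := by
  intro x hx y hy
  rw [Subgroup.mem_centralizer_iff] at hy ⊢
  intro h hh
  have h1 := hy h hh
  have h2 := hQ h (hX hh) x hx
  have h3 := hQ h (hX hh) x⁻¹ (Q.inv_mem hx)
  calc h * (x * y * x⁻¹) = (h * x) * y * x⁻¹ := by group
    _ = (x * h) * y * x⁻¹ := by rw [h2]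
    _ = x * (h * y) * x⁻¹ := by group
    _ = x * (y * h) * x⁻¹ := by rw [h1]
    _ = x * y * (h * x⁻¹) := by group
    _ = x * y * (x⁻¹ * h) := by rw [h3]
    _ = x * y * x⁻¹ * h := by group

theorem mem_normalizer_of_conj_mem [Finite S] (Y : Subgroup S) (g : S)
    (hconj : ∀ h ∈ Y, g * h * g⁻¹ ∈ Y) : g ∈ Subgroup.normalizer (Y : Set S) := by
  rw [Subgroup.mem_normalizer_iff]
  intro h
  refine ⟨hconj h, fun hh => ?_⟩
  let f : Y → Y := fun h => ⟨g * h * g⁻¹, hconj h h.2⟩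
  have hf : Function.Injective f := by
    intro x y hxy
    have := congrArg Subtype.val hxy
    simp only [f] at this
    apply Subtype.ext
    simpa using this
  obtain ⟨h', hh'⟩ := (Finite.injective_iff_surjective.mp hf) ⟨g * h * g⁻¹, hh⟩
  have := congrArg Subtype.val hh'
  simp only [f] at this
  have h2 : (h' : S) = h := by simpa using this
  rw [← h2]; exact h'.2

theorem exists_max [Finite S] {p : ℕ} [Fact p.Prime] (Q Y Z : Subgroup S) (hYp : IsPGroup p Y)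
    (hZY : Z ≤ Y) (hZne : Z ≠ Y) (hZ : QInv Q Z) (hY : QInv Q Y) :
    ∃ M : Subgroup S, Z ≤ M ∧ M ≤ Y ∧ M ≠ Y ∧ QInv Q M ∧ ∀ y ∈ Y, ∀ m ∈ M, y * m * y⁻¹ ∈ M := by
  obtain ⟨M, hZM, hMmax⟩ := Finite.exists_le_maximal
    (p := fun M : Subgroup S => M ≤ Y ∧ M ≠ Y ∧ QInv Q M) ⟨hZY, hZne, hZ⟩
  obtain ⟨hMY, hMne, hMQ⟩ := hMmax.prop
  refine ⟨M, hZM, hMY, hMne, hMQ, ?_⟩
  -- N = Y ⊓ N(M)
  by_contra hcon
  have hNne : Y ⊓ Subgroup.normalizer (M : Set S) ≠ Y := by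
    intro h
    apply hcon
    intro y hy m hm
    have : y ∈ Y ⊓ Subgroup.normalizer (M : Set S) := by rw [h]; exact hy
    exact conj_mem_of_mem_normalizer this.2 hm
  have hNQ : QInv Q (Y ⊓ Subgroup.normalizer (M : Set S)) := by
    intro x hx n hn
    refine ⟨hY x hx n hn.1, ?_⟩
    apply mem_normalizer_of_conj_mem
    intro m hm
    have h1 : x⁻¹ * m * x ∈ M := by
      have := hMQ x⁻¹ (Q.inv_mem hx) m hm
      rwa [inv_inv] at this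
    have h2 := conj_mem_of_mem_normalizer hn.2 h1
    have h3 := hMQ x hx _ h2
    have e : x * n * x⁻¹ * m * (x * n * x⁻¹)⁻¹ = x * (n * (x⁻¹ * m * x) * n⁻¹) * x⁻¹ := by group
    rw [e]; exact h3
  have hMN : M ≤ Y ⊓ Subgroup.normalizer (M : Set S) := le_inf hMY Subgroup.le_normalizer
  have hle := hMmax.le_of_ge ⟨inf_le_left, hNne, hNQ⟩ hMN
  obtain ⟨n, hnY, hnN, hnM⟩ := h8_normalizer_growth hYp hMY hMne
  exact hnM (hle ⟨hnY, hnN⟩)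

theorem half (C₁ C₂ E' E X : Subgroup S)
    (ha : ∀ c₁ ∈ C₁, ∀ c₂ ∈ C₂, ∃ e' ∈ E', ∃ e ∈ E, c₁ * c₂ * c₁⁻¹ * c₂⁻¹ = e' * e)
    (hb : ∀ e' ∈ E', ∀ c ∈ C₂, e' * c = c * e')
    (hEC : E ≤ C₂) (hEn : ∀ c ∈ C₂, ∀ e ∈ E, c * e * c⁻¹ ∈ E)
    (hXC₁ : ∀ x ∈ X, ∀ c ∈ C₁, x * c = c * x)
    (hXE' : ∀ x ∈ X, ∀ e' ∈ E', x * e' = e' * x)
    (hXE : ∀ x ∈ X, ∀ e ∈ E, x * e * x⁻¹ ∈ E)
    (hXC₂ : ∀ x ∈ X, ∀ c ∈ C₂, x * c * x⁻¹ ∈ C₂)
    (hgen : C₂ ≤ ⁅C₂, X⁆) :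
    ∀ c₁ ∈ C₁, ∀ c₂ ∈ C₂, c₁ * c₂ * c₁⁻¹ * c₂⁻¹ ∈ E := by
  intro c₁ hc₁
  let T : Subgroup S :=
    { carrier := {c | c ∈ C₂ ∧ c₁ * c * c₁⁻¹ * c⁻¹ ∈ E}
      mul_mem' := by
        rintro a b ⟨ha2, hae⟩ ⟨hb2, hbe⟩
        refine ⟨C₂.mul_mem ha2 hb2, ?_⟩
        have e : c₁ * (a * b) * c₁⁻¹ * (a * b)⁻¹
            = (c₁ * a * c₁⁻¹ * a⁻¹) * (a * (c₁ * b * c₁⁻¹ * b⁻¹) * a⁻¹) := by group
        rw [e]
        exact E.mul_mem hae (hEn a ha2 _ hbe)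
      one_mem' := ⟨C₂.one_mem, by simp⟩
      inv_mem' := by
        rintro a ⟨ha2, hae⟩
        refine ⟨C₂.inv_mem ha2, ?_⟩
        have e : c₁ * a⁻¹ * c₁⁻¹ * a⁻¹⁻¹ = a⁻¹ * (c₁ * a * c₁⁻¹ * a⁻¹)⁻¹ * a⁻¹⁻¹ := by group
        rw [e]
        exact hEn a⁻¹ (C₂.inv_mem ha2) _ (E.inv_mem hae) }
  have hT : ∀ c, c ∈ T ↔ c ∈ C₂ ∧ c₁ * c * c₁⁻¹ * c⁻¹ ∈ E := fun c => Iff.rfl
  have hle : ⁅C₂, X⁆ ≤ T := by
    rw [Subgroup.commutator_le]
    intro c hc x hx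
    rw [commutatorElement_def, hT]
    have hbC : x * c * x⁻¹ ∈ C₂ := hXC₂ x hx c hc
    have hcb : c * x * c⁻¹ * x⁻¹ = c * (x * c * x⁻¹)⁻¹ := by group
    rw [hcb]
    refine ⟨C₂.mul_mem hc (C₂.inv_mem hbC), ?_⟩
    obtain ⟨e', he', e, he, h1⟩ := ha c₁ hc₁ c hc
    have hxc₁ := hXC₁ x hx c₁ hc₁
    have hxc₁' : x * c₁⁻¹ = c₁⁻¹ * x := by
      calc x * c₁⁻¹ = c₁⁻¹ * (c₁ * x) * c₁⁻¹ := by group
        _ = c₁⁻¹ * (x * c₁) * c₁⁻¹ := by rw [hxc₁]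
        _ = c₁⁻¹ * x := by group
    have h2 : c₁ * (x * c * x⁻¹) * c₁⁻¹ * (x * c * x⁻¹)⁻¹ = e' * (x * e * x⁻¹) := by
      calc c₁ * (x * c * x⁻¹) * c₁⁻¹ * (x * c * x⁻¹)⁻¹
          = (c₁ * x) * c * x⁻¹ * c₁⁻¹ * x * c⁻¹ * x⁻¹ := by group
        _ = (x * c₁) * c * x⁻¹ * c₁⁻¹ * x * c⁻¹ * x⁻¹ := by rw [hxc₁]
        _ = x * c₁ * c * x⁻¹ * (c₁⁻¹ * x) * c⁻¹ * x⁻¹ := by group
        _ = x * c₁ * c * x⁻¹ * (x * c₁⁻¹) * c⁻¹ * x⁻¹ := by rw [hxc₁']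
        _ = x * (c₁ * c * c₁⁻¹ * c⁻¹) * x⁻¹ := by group
        _ = x * (e' * e) * x⁻¹ := by rw [h1]
        _ = (x * e') * e * x⁻¹ := by group
        _ = (e' * x) * e * x⁻¹ := by rw [hXE' x hx e' he']
        _ = e' * (x * e * x⁻¹) := by group
    have hf : x * e * x⁻¹ ∈ E := hXE x hx e he
    generalize x * c * x⁻¹ = b at hbC h2 ⊢
    generalize x * e * x⁻¹ = f at hf h2
    -- t = e' * u * e'⁻¹ * v
    have hu : e * c * b⁻¹ * f⁻¹ ∈ C₂ :=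
      C₂.mul_mem (C₂.mul_mem (C₂.mul_mem (hEC he) hc) (C₂.inv_mem hbC)) (C₂.inv_mem (hEC hf))
    have h3 : c₁ * (c * b⁻¹) * c₁⁻¹ * (c * b⁻¹)⁻¹
        = (c₁ * c * c₁⁻¹ * c⁻¹) * c * b⁻¹ * (c₁ * b * c₁⁻¹ * b⁻¹)⁻¹ * b * c⁻¹ := by group
    rw [h3, h1, h2]
    have h4 : e' * e * c * b⁻¹ * (e' * f)⁻¹ * b * c⁻¹
        = (e' * (e * c * b⁻¹ * f⁻¹)) * e'⁻¹ * (b * c⁻¹) := by group
    rw [h4, hb e' he' _ hu]
    have h5 : e * c * b⁻¹ * f⁻¹ * e' * e'⁻¹ * (b * c⁻¹) = e * (c * (b⁻¹ * f⁻¹ * b) * c⁻¹) := by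
      group
    rw [h5]
    refine E.mul_mem he (hEn c hc _ ?_)
    have := hEn b⁻¹ (C₂.inv_mem hbC) f⁻¹ (E.inv_mem hf)
    rwa [inv_inv] at this
  intro c₂ hc₂
  exact ((hT c₂).mp (hle (hgen hc₂))).2

theorem main_ind [Finite S] {p q : ℕ} [Fact p.Prime] [Fact q.Prime] (hpq : p ≠ q)
    (P Q X₁ X₂ : Subgroup S) (hP : IsPGroup p P)
    (hQ : ∀ a ∈ Q, ∀ b ∈ Q, a * b = b * a) (h₁ : X₁ ≤ Q) (h₂ : X₂ ≤ Q)
    (hc₁ : Nat.card X₁ = q) (hc₂ : Nat.card X₂ = q)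
    (hgen : ∀ Y : Subgroup S, Y ≤ P → QInv Q Y →
      Y ≤ (Y ⊓ Subgroup.centralizer (X₁ : Set S)) ⊔ (Y ⊓ Subgroup.centralizer (X₂ : Set S)))
    (htriv : P ⊓ Subgroup.centralizer (X₁ : Set S) ⊓ Subgroup.centralizer (X₂ : Set S) = ⊥) :
    ∀ n : ℕ, ∀ Y : Subgroup S, Nat.card Y = n → Y ≤ P → QInv Q Y →
      ⁅Y ⊓ Subgroup.centralizer (X₁ : Set S), Y ⊓ Subgroup.centralizer (X₂ : Set S)⁆ = ⊥ := by
  intro n
  induction n using Nat.strong_induction_on with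
  | _ n IH =>
  intro Y hYn hYP hYQ
  have hQ1 := qinv_centralizer hQ h₁
  have hQ2 := qinv_centralizer hQ h₂
  have hYp : IsPGroup p Y := hP.to_le hYP
  by_cases hcase1 : Y ⊓ Subgroup.centralizer (X₁ : Set S) = Y
  · have : Y ⊓ Subgroup.centralizer (X₂ : Set S) = ⊥ := by
      rw [eq_bot_iff, ← htriv]
      intro y hy
      have hy1 : y ∈ Y ⊓ Subgroup.centralizer (X₁ : Set S) := by rw [hcase1]; exact hy.1
      exact ⟨⟨hYP hy.1, hy1.2⟩, hy.2⟩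
    rw [this, Subgroup.commutator_bot_right]
  by_cases hcase2 : Y ⊓ Subgroup.centralizer (X₂ : Set S) = Y
  · have : Y ⊓ Subgroup.centralizer (X₁ : Set S) = ⊥ := by
      rw [eq_bot_iff, ← htriv]
      intro y hy
      have hy2 : y ∈ Y ⊓ Subgroup.centralizer (X₂ : Set S) := by rw [hcase2]; exact hy.1
      exact ⟨⟨hYP hy.1, hy.2⟩, hy2.2⟩
    rw [this, Subgroup.commutator_bot_left]
  obtain ⟨M, hY₁M, hMY, hMne, hMQ, hMn⟩ := exists_max Q Y _ hYp inf_le_left hcase1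
    (qinv_inf hYQ hQ1) hYQ
  obtain ⟨M', hY₂M', hM'Y, hM'ne, hM'Q, hM'n⟩ := exists_max Q Y _ hYp inf_le_left hcase2
    (qinv_inf hYQ hQ2) hYQ
  have hcardlt : ∀ M : Subgroup S, M ≤ Y → M ≠ Y → Nat.card M < n := by
    intro M hMY hMne
    rw [← hYn]
    apply lt_of_le_of_ne (Subgroup.card_le_of_le hMY)
    intro h
    exact hMne (Subgroup.eq_of_le_of_card_ge hMY h.ge)
  have IHM := IH _ (hcardlt M hMY hMne) M rfl (hMY.trans hYP) hMQ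
  have IHM' := IH _ (hcardlt M' hM'Y hM'ne) M' rfl (hM'Y.trans hYP) hM'Q
  rw [Subgroup.commutator_eq_bot_iff_le_centralizer] at IHM IHM'
  -- notation
  have hcomm1 : ∀ c₁ ∈ Y ⊓ Subgroup.centralizer (X₁ : Set S),
      ∀ e ∈ M ⊓ Subgroup.centralizer (X₂ : Set S), c₁ * e = e * c₁ := by
    intro c₁ hc₁ e he
    have := IHM ⟨hY₁M hc₁, hc₁.2⟩
    rw [Subgroup.mem_centralizer_iff] at this
    exact (this e he).symm
  have hcomm2 : ∀ e' ∈ M' ⊓ Subgroup.centralizer (X₁ : Set S),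
      ∀ c₂ ∈ Y ⊓ Subgroup.centralizer (X₂ : Set S), e' * c₂ = c₂ * e' := by
    intro e' he' c₂ hc₂
    have := IHM' he'
    rw [Subgroup.mem_centralizer_iff] at this
    exact (this c₂ ⟨hY₂M' hc₂, hc₂.2⟩).symm
  have hEE' : M ⊓ Subgroup.centralizer (X₂ : Set S) ≤ Y ⊓ Subgroup.centralizer (X₂ : Set S) :=
    inf_le_inf_right _ hMY
  have hE'E : M' ⊓ Subgroup.centralizer (X₁ : Set S) ≤ Y ⊓ Subgroup.centralizer (X₁ : Set S) :=
    inf_le_inf_right _ hM'Y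
  -- decomposition of M ⊓ M'
  have hdec : ∀ g ∈ M ⊓ M', ∃ e' ∈ M' ⊓ Subgroup.centralizer (X₁ : Set S),
      ∃ e ∈ M ⊓ Subgroup.centralizer (X₂ : Set S), g = e' * e := by
    intro g hg
    have h1 := hgen (M ⊓ M') (inf_le_left.trans (hMY.trans hYP)) (qinv_inf hMQ hM'Q) hg
    have h2 : (M ⊓ M' ⊓ Subgroup.centralizer (X₁ : Set S)) ⊔ (M ⊓ M' ⊓ Subgroup.centralizer (X₂ : Set S))
        ≤ (M' ⊓ Subgroup.centralizer (X₁ : Set S)) ⊔ (M ⊓ Subgroup.centralizer (X₂ : Set S)) :=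
      sup_le_sup (inf_le_inf_right _ inf_le_right) (inf_le_inf_right _ inf_le_left)
    have h3 : M ⊓ Subgroup.centralizer (X₂ : Set S)
        ≤ Subgroup.normalizer ((M' ⊓ Subgroup.centralizer (X₁ : Set S) : Subgroup S) : Set S) := by
      refine le_trans ?_ (Subgroup.centralizer_le_normalizer _)
      intro e he
      rw [Subgroup.mem_centralizer_iff]
      intro e' he'
      exact hcomm2 e' he' e (hEE' he)
    exact exists_mul_of_mem_sup h3 (h2 h1)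
  have hcommel : ∀ c₁ ∈ Y ⊓ Subgroup.centralizer (X₁ : Set S),
      ∀ c₂ ∈ Y ⊓ Subgroup.centralizer (X₂ : Set S), c₁ * c₂ * c₁⁻¹ * c₂⁻¹ ∈ M ⊓ M' := by
    intro c₁ hc₁ c₂ hc₂
    refine ⟨?_, ?_⟩
    · have h1 := hMn c₂ hc₂.1 c₁⁻¹ (M.inv_mem (hY₁M hc₁))
      have := M.mul_mem (hY₁M hc₁) h1
      have e : c₁ * (c₂ * c₁⁻¹ * c₂⁻¹) = c₁ * c₂ * c₁⁻¹ * c₂⁻¹ := by group
      rwa [e] at this
    · have h1 := hM'n c₁ hc₁.1 c₂ (hY₂M' hc₂)
      exact M'.mul_mem h1 (M'.inv_mem (hY₂M' hc₂))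
  -- sizes
  have hcop : ∀ (X Z : Subgroup S), Nat.card X = q → Z ≤ P → (Nat.card X).Coprime (Nat.card Z) := by
    intro X Z hX hZ
    obtain ⟨k, hk⟩ := IsPGroup.iff_card.mp (hP.to_le hZ)
    rw [hX, hk]
    exact Nat.Coprime.pow_right k ((Nat.coprime_primes Fact.out Fact.out).mpr hpq.symm)
  have hsolv : ∀ Z : Subgroup S, Z ≤ P → Group.IsSolvable Z := by
    intro Z hZ
    haveI := (hP.to_le hZ).isNilpotent
    infer_instance
  have hnorm : ∀ (X Z : Subgroup S), X ≤ Q → QInv Q Z → X ≤ Subgroup.normalizer (Z : Set S) := by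
    intro X Z hX hZ x hx
    exact mem_normalizer_of_conj_mem Z x (fun h hh => hZ x (hX hx) h hh)
  have hgen2 : Y ⊓ Subgroup.centralizer (X₂ : Set S) ≤ ⁅Y ⊓ Subgroup.centralizer (X₂ : Set S), X₁⁆ := by
    have h := commutator_sup_centralizer X₁ (Y ⊓ Subgroup.centralizer (X₂ : Set S))
      (hnorm X₁ _ h₁ (qinv_inf hYQ hQ2)) (hcop X₁ _ hc₁ (inf_le_left.trans hYP))
      (Or.inr (hsolv _ (inf_le_left.trans hYP)))
    have h0 : Y ⊓ Subgroup.centralizer (X₂ : Set S) ⊓ Subgroup.centralizer (X₁ : Set S) = ⊥ := by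
      rw [eq_bot_iff, ← htriv]
      intro y hy
      exact ⟨⟨hYP hy.1.1, hy.2⟩, hy.1.2⟩
    rw [h0, sup_bot_eq] at h
    exact h.ge
  have hgen1 : Y ⊓ Subgroup.centralizer (X₁ : Set S) ≤ ⁅Y ⊓ Subgroup.centralizer (X₁ : Set S), X₂⁆ := by
    have h := commutator_sup_centralizer X₂ (Y ⊓ Subgroup.centralizer (X₁ : Set S))
      (hnorm X₂ _ h₂ (qinv_inf hYQ hQ1)) (hcop X₂ _ hc₂ (inf_le_left.trans hYP))
      (Or.inr (hsolv _ (inf_le_left.trans hYP)))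
    have h0 : Y ⊓ Subgroup.centralizer (X₁ : Set S) ⊓ Subgroup.centralizer (X₂ : Set S) = ⊥ := by
      rw [eq_bot_iff, ← htriv]
      intro y hy
      exact ⟨⟨hYP hy.1.1, hy.1.2⟩, hy.2⟩
    rw [h0, sup_bot_eq] at h
    exact h.ge
  have hcentmem : ∀ (X : Subgroup S) (x : S), x ∈ X → ∀ c ∈ Subgroup.centralizer (X : Set S),
      x * c = c * x := by
    intro X x hx c hc
    exact Subgroup.mem_centralizer_iff.mp hc x hx
  -- first half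
  have H1 := half (Y ⊓ Subgroup.centralizer (X₁ : Set S)) (Y ⊓ Subgroup.centralizer (X₂ : Set S))
    (M' ⊓ Subgroup.centralizer (X₁ : Set S)) (M ⊓ Subgroup.centralizer (X₂ : Set S)) X₁
    (fun c₁ hc₁ c₂ hc₂ => hdec _ (hcommel c₁ hc₁ c₂ hc₂))
    hcomm2 hEE'
    (fun c hc e he => ⟨hMn c hc.1 e he.1, Subgroup.mul_mem _ (Subgroup.mul_mem _ hc.2 he.2)
      (Subgroup.inv_mem _ hc.2)⟩)
    (fun x hx c hc => hcentmem X₁ x hx c hc.2)
    (fun x hx e' he' => hcentmem X₁ x hx e' he'.2)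
    (fun x hx e he => qinv_inf hMQ hQ2 x (h₁ hx) e he)
    (fun x hx c hc => qinv_inf hYQ hQ2 x (h₁ hx) c hc)
    hgen2
  have H2 := half (Y ⊓ Subgroup.centralizer (X₂ : Set S)) (Y ⊓ Subgroup.centralizer (X₁ : Set S))
    (M ⊓ Subgroup.centralizer (X₂ : Set S)) (M' ⊓ Subgroup.centralizer (X₁ : Set S)) X₂
    (fun c₂ hc₂ c₁ hc₁ => by
      obtain ⟨e', he', e, he, h⟩ := hdec _ (hcommel c₁ hc₁ c₂ hc₂)
      refine ⟨e⁻¹, Subgroup.inv_mem _ he, e'⁻¹, Subgroup.inv_mem _ he', ?_⟩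
      have e1 : c₂ * c₁ * c₂⁻¹ * c₁⁻¹ = (c₁ * c₂ * c₁⁻¹ * c₂⁻¹)⁻¹ := by group
      rw [e1, h, mul_inv_rev])
    (fun e he c hc => (hcomm1 c hc e he).symm) hE'E
    (fun c hc e he => ⟨hM'n c hc.1 e he.1, Subgroup.mul_mem _ (Subgroup.mul_mem _ hc.2 he.2)
      (Subgroup.inv_mem _ hc.2)⟩)
    (fun x hx c hc => hcentmem X₂ x hx c hc.2)
    (fun x hx e' he' => hcentmem X₂ x hx e' he'.2)
    (fun x hx e he => qinv_inf hM'Q hQ1 x (h₂ hx) e he)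
    (fun x hx c hc => qinv_inf hYQ hQ1 x (h₂ hx) c hc)
    hgen1
  rw [eq_bot_iff, Subgroup.commutator_le]
  intro c₁ hc₁ c₂ hc₂
  rw [commutatorElement_def, ← htriv]
  have hA := H1 c₁ hc₁ c₂ hc₂
  have hB := H2 c₂ hc₂ c₁ hc₁
  have e1 : c₁ * c₂ * c₁⁻¹ * c₂⁻¹ = (c₂ * c₁ * c₂⁻¹ * c₁⁻¹)⁻¹ := by group
  have hB' : c₁ * c₂ * c₁⁻¹ * c₂⁻¹ ∈ M' ⊓ Subgroup.centralizer (X₁ : Set S) := by
    rw [e1]; exact Subgroup.inv_mem _ hB
  exact ⟨⟨hYP (hMY hA.1), hB'.2⟩, hA.2⟩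

end

/-- Let S = PQ be a finite group with P a normal Sylow p-subgroup and Q elementary abelian of order q², q a prime different from p. If exactly two subgroups X₁, X₂ of order q in Q have a nontrivial centralizer in P, then P is the internal direct product of C_P(X₁) and C_P(X₂): they commute elementwise, meet trivially and generate P. -/
theorem result {S : Type*} [Group S] [Finite S] {p q : ℕ} [Fact p.Prime] [Fact q.Prime] (hpq : p ≠ q)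
    (P : Sylow p S) [(P : Subgroup S).Normal] (Q : Subgroup S) (hQ : Cfsg.IsElementaryAbelian q Q) (hQc : Nat.card Q = q ^ 2)
    (hS : (P : Subgroup S) ⊔ Q = ⊤)
    (X₁ X₂ : Subgroup S) (h₁ : X₁ ≤ Q) (h₂ : X₂ ≤ Q) (h₁₂ : X₁ ≠ X₂) (hc₁ : Nat.card X₁ = q) (hc₂ : Nat.card X₂ = q)
    (hf₁ : (P : Subgroup S) ⊓ Subgroup.centralizer (X₁ : Set S) ≠ ⊥)
    (hf₂ : (P : Subgroup S) ⊓ Subgroup.centralizer (X₂ : Set S) ≠ ⊥)
    (honly : ∀ X : Subgroup S, X ≤ Q → Nat.card X = q →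
      (P : Subgroup S) ⊓ Subgroup.centralizer (X : Set S) ≠ ⊥ → X = X₁ ∨ X = X₂) :
    ⁅(P : Subgroup S) ⊓ Subgroup.centralizer (X₁ : Set S), (P : Subgroup S) ⊓ Subgroup.centralizer (X₂ : Set S)⁆ = ⊥ ∧
      ((P : Subgroup S) ⊓ Subgroup.centralizer (X₁ : Set S)) ⊓ ((P : Subgroup S) ⊓ Subgroup.centralizer (X₂ : Set S)) = ⊥ ∧
      ((P : Subgroup S) ⊓ Subgroup.centralizer (X₁ : Set S)) ⊔ ((P : Subgroup S) ⊓ Subgroup.centralizer (X₂ : Set S)) = P := by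
  classical
  have hqp : q.Prime := Fact.out
  have hpp : p.Prime := Fact.out
  have hQcomm : ∀ a ∈ Q, ∀ b ∈ Q, a * b = b * a := by
    intro a ha b hb
    have h1 : Q ≤ Subgroup.centralizer (Q : Set S) :=
      Subgroup.le_centralizer_iff_isMulCommutative.2 hQ.1
    exact ((Subgroup.mem_centralizer_iff.1 (h1 ha)) b hb).symm
  have hPp : IsPGroup p (P : Subgroup S) := P.isPGroup'
  have hzp : ∀ X : Subgroup S, X ≤ Q → Nat.card X = q → ∀ x ∈ X, x ≠ 1 →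
      Subgroup.zpowers x = X := by
    intro X hX hXc x hx hx1
    apply Subgroup.eq_of_le_of_card_ge (Subgroup.zpowers_le.mpr hx)
    rw [Nat.card_zpowers, hXc]
    have h1 : orderOf x ∣ q := orderOf_dvd_of_pow_eq_one (hQ.2 x (hX hx))
    rcases (Nat.dvd_prime hqp).mp h1 with h | h
    · exact absurd (orderOf_eq_one_iff.mp h) hx1
    · exact h.ge
  have hex : ∀ X : Subgroup S, Nat.card X = q → ∃ x ∈ X, x ≠ 1 := by
    intro X hXc
    by_contra hcon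
    push_neg at hcon
    have : X = ⊥ := (Subgroup.eq_bot_iff_forall X).mpr hcon
    rw [this, Subgroup.card_bot] at hXc
    exact hqp.one_lt.ne hXc
  obtain ⟨x₁, hx₁, hx₁1⟩ := hex X₁ hc₁
  obtain ⟨x₂, hx₂, hx₂1⟩ := hex X₂ hc₂
  have hx₂notX₁ : x₂ ∉ X₁ := by
    intro h
    apply h₁₂
    rw [← hzp X₁ h₁ hc₁ x₂ h hx₂1, hzp X₂ h₂ hc₂ x₂ hx₂ hx₂1]
  have hx₁notX₂ : x₁ ∉ X₂ := by
    intro h
    apply h₁₂
    rw [← hzp X₁ h₁ hc₁ x₁ hx₁ hx₁1, hzp X₂ h₂ hc₂ x₁ h hx₁1]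
  have hx₃Q : x₁ * x₂ ∈ Q := Q.mul_mem (h₁ hx₁) (h₂ hx₂)
  have hx₃1 : x₁ * x₂ ≠ 1 := by
    intro h
    apply hx₂notX₁
    have : x₂ = x₁⁻¹ := eq_inv_of_mul_eq_one_right h
    rw [this]; exact X₁.inv_mem hx₁
  have hX₃c : Nat.card (Subgroup.zpowers (x₁ * x₂)) = q := by
    rw [Nat.card_zpowers]
    have h1 : orderOf (x₁ * x₂) ∣ q := orderOf_dvd_of_pow_eq_one (hQ.2 _ hx₃Q)
    rcases (Nat.dvd_prime hqp).mp h1 with h | h
    · exact absurd (orderOf_eq_one_iff.mp h) hx₃1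
    · exact h
  have htriv : (P : Subgroup S) ⊓ Subgroup.centralizer (X₁ : Set S) ⊓
      Subgroup.centralizer (X₂ : Set S) = ⊥ := by
    rw [eq_bot_iff]
    intro c hc
    rw [Subgroup.mem_bot]
    by_contra hc1
    have hc3 : c ∈ (P : Subgroup S) ⊓
        Subgroup.centralizer ((Subgroup.zpowers (x₁ * x₂) : Subgroup S) : Set S) := by
      refine Subgroup.mem_inf.mpr ⟨hc.1.1, ?_⟩
      rw [Subgroup.mem_centralizer_iff]
      intro h hh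
      obtain ⟨k, rfl⟩ := Subgroup.mem_zpowers_iff.mp hh
      have e1 : Commute x₁ c := Subgroup.mem_centralizer_iff.mp hc.1.2 x₁ hx₁
      have e2 : Commute x₂ c := Subgroup.mem_centralizer_iff.mp hc.2 x₂ hx₂
      exact ((Commute.mul_left e1 e2).zpow_left k).eq
    have hne : (P : Subgroup S) ⊓
        Subgroup.centralizer ((Subgroup.zpowers (x₁ * x₂) : Subgroup S) : Set S) ≠ ⊥ := by
      intro h
      rw [h, Subgroup.mem_bot] at hc3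
      exact hc1 hc3
    rcases honly _ (Subgroup.zpowers_le.mpr hx₃Q) hX₃c hne with h | h
    · apply hx₂notX₁
      have h4 : x₁ * x₂ ∈ X₁ := h ▸ Subgroup.mem_zpowers _
      have := X₁.mul_mem (X₁.inv_mem hx₁) h4
      rwa [inv_mul_cancel_left] at this
    · apply hx₁notX₂
      have h4 : x₁ * x₂ ∈ X₂ := h ▸ Subgroup.mem_zpowers _
      have := X₂.mul_mem h4 (X₂.inv_mem hx₂)
      rwa [mul_inv_cancel_right] at this
  have hgen : ∀ Y : Subgroup S, Y ≤ P → QInv Q Y →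
      Y ≤ (Y ⊓ Subgroup.centralizer (X₁ : Set S)) ⊔ (Y ⊓ Subgroup.centralizer (X₂ : Set S)) := by
    intro Y hYP hYQ
    have hYq : ¬ q ∣ Nat.card Y := by
      obtain ⟨k, hk⟩ := IsPGroup.iff_card.mp (hPp.to_le hYP)
      rw [hk]
      intro h
      exact hpq ((Nat.prime_dvd_prime_iff_eq hqp hpp).mp (hqp.dvd_of_dvd_pow h)).symm
    have hnorm : Q ≤ Subgroup.normalizer (Y : Set S) := fun x hx =>
      mem_normalizer_of_conj_mem Y x (fun h hh => hYQ x hx h hh)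
    have h := Cfsg.Agent.S1324.result q Q Y hQ (by rw [hQc]) hYq hnorm
    refine h.le.trans ?_
    apply iSup_le
    rintro ⟨B, hBQ, hBi⟩
    show Y ⊓ Subgroup.centralizer (B : Set S) ≤ _
    by_cases hbot : (P : Subgroup S) ⊓ Subgroup.centralizer (B : Set S) = ⊥
    · have : Y ⊓ Subgroup.centralizer (B : Set S) ≤ ⊥ := by
        rw [← hbot]; exact inf_le_inf_right _ hYP
      exact this.trans bot_le
    · have hcard : Nat.card B * B.relIndex Q = q ^ 2 := by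
        have := Subgroup.relIndex_mul_relIndex ⊥ B Q bot_le hBQ
        rwa [Subgroup.relIndex_bot_left, Subgroup.relIndex_bot_left, hQc] at this
      have hdvd : B.relIndex Q ∣ q ^ 2 := Dvd.intro_left _ hcard
      obtain ⟨i, hi, hrel⟩ := (Nat.dvd_prime_pow hqp).mp hdvd
      have hi1 : i ≤ 1 := by
        by_contra hcon
        have hi2 : i = 2 := by omega
        rw [hrel, hi2] at hBi
        have := hqp.two_le
        nlinarith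
      interval_cases i
      · exfalso
        apply hbot
        rw [pow_zero, Subgroup.relIndex_eq_one] at hrel
        rw [eq_bot_iff, ← htriv]
        intro y hy
        exact ⟨⟨hy.1, Subgroup.centralizer_le (h₁.trans hrel) hy.2⟩,
          Subgroup.centralizer_le (h₂.trans hrel) hy.2⟩
      · rw [pow_one] at hrel
        rw [hrel, pow_two] at hcard
        have hBc : Nat.card B = q := Nat.eq_of_mul_eq_mul_right hqp.pos hcard
        rcases honly B hBQ hBc hbot with rfl | rfl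
        · exact le_sup_left
        · exact le_sup_right
  have hPQ : QInv Q (P : Subgroup S) := fun x hx y hy =>
    (inferInstance : (P : Subgroup S).Normal).conj_mem y hy x
  have hmain := main_ind hpq (P : Subgroup S) Q X₁ X₂ hPp hQcomm h₁ h₂ hc₁ hc₂ hgen htriv _
    (P : Subgroup S) rfl le_rfl hPQ
  refine ⟨hmain, ?_, ?_⟩
  · rw [eq_bot_iff, ← htriv]
    intro y hy
    exact ⟨hy.1, hy.2.2⟩
  · exact le_antisymm (sup_le inf_le_left inf_le_left) (hgen P le_rfl hPQ)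

end Cfsg.Agent.S1900
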