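import Mathlib
import Cfsg.Statements.S2820
import Cfsg.Agent.S0542
import Cfsg.Agent.Lib.Helper2.PResidual
import Cfsg.Agent.Lib.Helper3.ZJ
import Cfsg.Agent.Lib.Helper7.Coprime

set_option autoImplicit false
open Cfsg

namespace Cfsg.Agent.S2820

section
variable {H : Type*} [Group H]

/-- ambient version of `O^p(B)` -/
def opIn (p : ℕ) (B : Subgroup H) : Subgroup H :=
  Subgroup.closure {x : H | x ∈ B ∧ (orderOf x).Coprime p}

theorem opIn_eq (p : ℕ) (B : Subgroup H) : (pResidual p ↥B).map B.subtype = opIn p B := by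
  show (Subgroup.closure _).map B.subtype = Subgroup.closure _
  rw [MonoidHom.map_closure]
  congr 1
  ext x
  constructor
  · rintro ⟨y, hy, rfl⟩
    refine ⟨y.2, ?_⟩
    show (orderOf (y : H)).Coprime p
    rw [Subgroup.orderOf_coe]
    exact hy
  · rintro ⟨hx, hc⟩
    refine ⟨⟨x, hx⟩, ?_, rfl⟩
    show (orderOf (⟨x, hx⟩ : ↥B)).Coprime p
    rw [Subgroup.orderOf_mk]
    exact hc

theorem opIn_le (p : ℕ) (B : Subgroup H) : opIn p B ≤ B := by
  show Subgroup.closure _ ≤ _
  rw [Subgroup.closure_le]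
  intro x hx
  exact hx.1

theorem opIn_mono (p : ℕ) {B N : Subgroup H} (h : B ≤ N) : opIn p B ≤ opIn p N :=
  Subgroup.closure_mono (fun _ hx => ⟨h hx.1, hx.2⟩)

theorem normalizer_le_normalizer_opIn (p : ℕ) (B : Subgroup H) :
    Subgroup.normalizer (B : Set H) ≤ Subgroup.normalizer (opIn p B : Set H) := by
  show _ ≤ Subgroup.normalizer ((Subgroup.closure _ : Subgroup H) : Set H)
  rw [Subgroup.le_normalizer_closure_iff]
  intro h hh g hg
  apply Subgroup.subset_closure
  refine ⟨(Subgroup.mem_normalizer_iff.mp hh g).mp hg.1, ?_⟩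
  have h1 : orderOf (h * g * h⁻¹) = orderOf g := (MulAut.conj h).orderOf_eq g
  rw [h1]; exact hg.2

theorem pow_mem_opIn [Finite H] (p : ℕ) [Fact p.Prime] (B : Subgroup H) {b : H} (hb : b ∈ B) :
    ∃ k : ℕ, b ^ p ^ k ∈ opIn p B := by
  obtain ⟨k, hk⟩ := Cfsg.Agent.Lib.Helper2.pow_mem_pResidual (p := p) (⟨b, hb⟩ : ↥B)
  refine ⟨k, ?_⟩
  rw [← opIn_eq]
  exact ⟨_, hk, rfl⟩

theorem card_lt [Finite H] {X Y : Subgroup H} (h : X < Y) : Nat.card X < Nat.card Y := by
  by_contra hcon
  rw [not_lt] at hcon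
  exact (ne_of_lt h) (Subgroup.eq_of_le_of_card_ge (le_of_lt h) hcon)

theorem mem_of_coprime_sup {p : ℕ} [Fact p.Prime] (Q N' : Subgroup H)
    [N'.Normal] (hQp : IsPGroup p ↥Q) {y : H} (hy : y ∈ Q ⊔ N') (hc : (orderOf y).Coprime p) :
    y ∈ N' := by
  have h1 : QuotientGroup.mk' N' y ∈ Q.map (QuotientGroup.mk' N') := by
    have h2 : QuotientGroup.mk' N' y ∈ (Q ⊔ N').map (QuotientGroup.mk' N') := ⟨y, hy, rfl⟩
    rw [Subgroup.map_sup, QuotientGroup.map_mk'_self, sup_bot_eq] at h2
    exact h2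
  obtain ⟨k, hk⟩ := (hQp.map (QuotientGroup.mk' N')) ⟨_, h1⟩
  have hk' : (QuotientGroup.mk' N' y) ^ p ^ k = 1 := congrArg Subtype.val hk
  have h3 : orderOf (QuotientGroup.mk' N' y) ∣ p ^ k := orderOf_dvd_of_pow_eq_one hk'
  have h4 : orderOf (QuotientGroup.mk' N' y) ∣ orderOf y := orderOf_map_dvd _ _
  have h5 : orderOf (QuotientGroup.mk' N' y) = 1 := by
    have hc' : (orderOf y).Coprime (p ^ k) := Nat.Coprime.pow_right k hc
    have h6 := Nat.dvd_gcd h4 h3
    rw [hc'.gcd_eq_one] at h6
    exact Nat.dvd_one.mp h6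
  rw [orderOf_eq_one_iff] at h5
  exact (QuotientGroup.eq_one_iff _).mp h5

theorem main_aux [Finite H] {p : ℕ} [Fact p.Prime] : ∀ n : ℕ, ∀ K B P : Subgroup H,
    Nat.card K = n → B ≤ K → (B.subgroupOf K).IsSubnormal → P ≤ K →
    K ≤ Subgroup.normalizer (P : Set H) → IsPGroup p ↥P →
    P ≤ Subgroup.normalizer (opIn p B : Set H) := by
  intro n
  induction n using Nat.strong_induction_on with
  | _ n ih =>
  intro K B P hn hBK hBsn hPK hKP hPp
  by_cases hcase : B ⊔ P = K
  · by_cases hBK' : B = K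
    · rw [← hBK'] at hPK
      exact hPK.trans (Subgroup.le_normalizer.trans (normalizer_le_normalizer_opIn p B))
    · have hne : B.subgroupOf K ≠ ⊤ := by
        intro h
        apply hBK'
        apply le_antisymm hBK
        intro k hk
        have : (⟨k, hk⟩ : ↥K) ∈ B.subgroupOf K := by rw [h]; trivial
        exact Subgroup.mem_subgroupOf.mp this
      obtain ⟨N₀, hN₀n, hBN₀, hN₀lt⟩ := hBsn.exists_normal_and_le_and_lt_top_of_ne hne
      obtain ⟨N, hN⟩ : ∃ N : Subgroup H, N = N₀.map K.subtype := ⟨_, rfl⟩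
      have hNK : N ≤ K := by rw [hN]; exact Subgroup.map_subtype_le _
      have hBN : B ≤ N := by
        intro b hb
        rw [hN]
        exact ⟨⟨b, hBK hb⟩, hBN₀ (Subgroup.mem_subgroupOf.mpr hb), rfl⟩
      have hNne : N ≠ K := by
        intro h
        apply hN₀lt.ne
        rw [eq_top_iff]
        intro k _
        have hk : (k : H) ∈ N := by rw [h]; exact k.2
        rw [hN] at hk
        obtain ⟨k', hk', hkk⟩ := hk
        have : k' = k := Subtype.ext hkk
        rw [← this]; exact hk'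
      have hKN : K ≤ Subgroup.normalizer (N : Set H) := by
        rw [Subgroup.le_normalizer_iff]
        intro k hk x hx
        rw [hN] at hx ⊢
        obtain ⟨x', hx', rfl⟩ := hx
        exact ⟨⟨k, hk⟩ * x' * ⟨k, hk⟩⁻¹, hN₀n.conj_mem x' hx' ⟨k, hk⟩, rfl⟩
      have hcard : Nat.card N < n := by
        rw [← hn]
        exact card_lt (lt_of_le_of_ne hNK hNne)
      have hBsnN : (B.subgroupOf N).IsSubnormal := by
        have := hBsn.comap (Subgroup.inclusion hNK)
        have e : (B.subgroupOf K).comap (Subgroup.inclusion hNK) = B.subgroupOf N := by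
          ext x
          rw [Subgroup.mem_comap, Subgroup.mem_subgroupOf, Subgroup.mem_subgroupOf]
          rfl
        rw [e] at this; exact this
      have hNP : N ≤ Subgroup.normalizer ((P ⊓ N : Subgroup H) : Set H) := by
        rw [Subgroup.le_normalizer_iff]
        intro x hx y hy
        rw [Subgroup.mem_inf] at hy ⊢
        exact ⟨(Subgroup.le_normalizer_iff.mp hKP) x (hNK hx) y hy.1,
          N.mul_mem (N.mul_mem hx hy.2) (N.inv_mem hx)⟩
      have hih := ih (Nat.card N) hcard N B (P ⊓ N) rfl hBN hBsnN inf_le_right hNP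
        (hPp.to_le inf_le_left)
      have hNR : N ≤ Subgroup.normalizer (opIn p B : Set H) := by
        intro x hx
        have hxK : x ∈ P ⊔ B := by rw [sup_comm, hcase]; exact hNK hx
        obtain ⟨y, hy, b, hb, rfl⟩ := Cfsg.Agent.Lib.Helper7.exists_mul_of_mem_sup
          (N := P) (A := B) (hBK.trans hKP) hxK
        have hyN : y ∈ N := by
          have : y = y * b * b⁻¹ := by group
          rw [this]; exact N.mul_mem hx (N.inv_mem (hBN hb))
        exact Subgroup.mul_mem _ (hih (Subgroup.mem_inf.mpr ⟨hy, hyN⟩))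
          (Subgroup.le_normalizer.trans (normalizer_le_normalizer_opIn p B) hb)
      have hRN : opIn p B ≤ N := (opIn_le p B).trans hBN
      haveI hRn : ((opIn p B).subgroupOf N).Normal :=
        (Subgroup.normal_subgroupOf_iff_le_normalizer hRN).mpr hNR
      haveI hPn : (((P ⊓ N : Subgroup H)).subgroupOf N).Normal :=
        (Subgroup.normal_subgroupOf_iff_le_normalizer inf_le_right).mpr hNP
      have hQ : IsPGroup p (↥N ⧸ (opIn p B).subgroupOf N) := by
        have hB' : IsPGroup p ((B.subgroupOf N).map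
            (QuotientGroup.mk' ((opIn p B).subgroupOf N))) := by
          rintro ⟨_, b, hb, rfl⟩
          obtain ⟨k, hk⟩ := pow_mem_opIn p B (Subgroup.mem_subgroupOf.mp hb)
          refine ⟨k, Subtype.ext ?_⟩
          show (QuotientGroup.mk' ((opIn p B).subgroupOf N) b) ^ p ^ k = 1
          rw [← map_pow]
          exact (QuotientGroup.eq_one_iff _).mpr (Subgroup.mem_subgroupOf.mpr hk)
        have hP' : IsPGroup p (((P ⊓ N : Subgroup H).subgroupOf N).map
            (QuotientGroup.mk' ((opIn p B).subgroupOf N))) :=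
          ((hPp.to_le inf_le_left).comap_subtype).map _
        haveI : (((P ⊓ N : Subgroup H).subgroupOf N).map
            (QuotientGroup.mk' ((opIn p B).subgroupOf N))).Normal :=
          hPn.map _ (QuotientGroup.mk'_surjective _)
        have hsup := hB'.to_sup_of_normal_right hP'
        intro q
        obtain ⟨x, rfl⟩ := QuotientGroup.mk'_surjective _ q
        have hxK : (x : H) ∈ P ⊔ B := by rw [sup_comm, hcase]; exact hNK x.2
        obtain ⟨y, hy, b, hb, hxyb⟩ := Cfsg.Agent.Lib.Helper7.exists_mul_of_mem_sup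
          (N := P) (A := B) (hBK.trans hKP) hxK
        have hyN : y ∈ N := by
          have : y = (x : H) * b⁻¹ := by rw [hxyb]; group
          rw [this]; exact N.mul_mem x.2 (N.inv_mem (hBN hb))
        have hx' : x = ⟨y, hyN⟩ * ⟨b, hBN hb⟩ := Subtype.ext hxyb
        have hmem : QuotientGroup.mk' ((opIn p B).subgroupOf N) x ∈
            ((B.subgroupOf N).map (QuotientGroup.mk' ((opIn p B).subgroupOf N))) ⊔
            (((P ⊓ N : Subgroup H).subgroupOf N).map
              (QuotientGroup.mk' ((opIn p B).subgroupOf N))) := by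
          rw [hx', map_mul]
          exact Subgroup.mul_mem _
            (Subgroup.mem_sup_right ⟨_, Subgroup.mem_subgroupOf.mpr
              (Subgroup.mem_inf.mpr ⟨hy, hyN⟩), rfl⟩)
            (Subgroup.mem_sup_left ⟨_, Subgroup.mem_subgroupOf.mpr hb, rfl⟩)
        obtain ⟨k, hk⟩ := hsup ⟨_, hmem⟩
        exact ⟨k, congrArg Subtype.val hk⟩
      have hle : opIn p N ≤ opIn p B := by
        show Subgroup.closure _ ≤ _
        rw [Subgroup.closure_le]
        rintro y ⟨hyN, hyc⟩
        have h1 : (⟨y, hyN⟩ : ↥N) ∈ pResidual p ↥N := by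
          apply Cfsg.Agent.Lib.Helper2.mem_pResidual_of_coprime
          rw [Subgroup.orderOf_mk]; exact hyc
        have h2 := Cfsg.Agent.Lib.Helper2.pResidual_le_ker
          (QuotientGroup.mk' ((opIn p B).subgroupOf N)) hQ h1
        rw [QuotientGroup.ker_mk'] at h2
        exact Subgroup.mem_subgroupOf.mp h2
      have heq : opIn p B = opIn p N := le_antisymm (opIn_mono p hBN) hle
      rw [heq]
      exact hPK.trans (hKN.trans (normalizer_le_normalizer_opIn p N))
  · have hlt : B ⊔ P < K := lt_of_le_of_ne (sup_le hBK hPK) hcase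
    have hcard : Nat.card ↥(B ⊔ P) < n := by rw [← hn]; exact card_lt hlt
    have hBsn1 : (B.subgroupOf (B ⊔ P)).IsSubnormal := by
      have := hBsn.comap (Subgroup.inclusion hlt.le)
      have e : (B.subgroupOf K).comap (Subgroup.inclusion hlt.le) = B.subgroupOf (B ⊔ P) := by
        ext x
        rw [Subgroup.mem_comap, Subgroup.mem_subgroupOf, Subgroup.mem_subgroupOf]
        rfl
      rw [e] at this; exact this
    exact ih _ hcard (B ⊔ P) B P rfl le_sup_left hBsn1 le_sup_right (hlt.le.trans hKP) hPp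

theorem normalClosure_isPGroup [Finite H] {p : ℕ} [Fact p.Prime] (A : Subgroup H)
    (hA : A.IsSubnormal) (hAp : IsPGroup p ↥A) :
    IsPGroup p ↥(Subgroup.normalClosure (A : Set H)) := by
  obtain ⟨S⟩ : Nonempty (Sylow p H) := inferInstance
  have h1 : ∀ S' : Sylow p H, A ≤ (S' : Subgroup H) := by
    intro S'
    obtain ⟨Q', hQ'⟩ := Cfsg.Agent.S0542.result p A hA S'
    have h2 : (⊤ : Subgroup ↥A) = (Q' : Subgroup ↥A) :=
      Q'.is_maximal' (hAp.to_subgroup ⊤) le_top
    intro a ha
    have h3 : (⟨a, ha⟩ : ↥A) ∈ (Q' : Subgroup ↥A) := by rw [← h2]; trivial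
    rw [hQ', Subgroup.mem_subgroupOf] at h3
    exact h3
  apply IsPGroup.to_le S.isPGroup'
  show Subgroup.closure (Group.conjugatesOfSet _) ≤ _
  rw [Subgroup.closure_le]
  intro x hx
  rw [Group.mem_conjugatesOfSet_iff] at hx
  obtain ⟨a, ha, hax⟩ := hx
  rw [isConj_iff] at hax
  obtain ⟨c, rfl⟩ := hax
  have h4 := h1 (c⁻¹ • S) ha
  rw [Cfsg.Agent.Lib.Helper3.mem_sylow_smul_iff] at h4
  have h5 : c * a * c⁻¹ ∈ (S : Subgroup H) := by simpa using h4
  exact h5

end

/-- Let A and B be subnormal subgroups of the finite group H with A a p-group and B = O^p(B) (B generated by its elements of order prime to p). Then A normalizes B and B = O^p(AB), the subgroup of ⟨A, B⟩ generated by its elements of order prime to p. -/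
theorem result {H : Type*} [Group H] [Finite H] {p : ℕ} [Fact p.Prime] (A B : Subgroup H) (hA : A.IsSubnormal) (hB : B.IsSubnormal) (hAp : IsPGroup p ↥A) (hBres : (Cfsg.pResidual p ↥B).map B.subtype = B) : A ≤ Subgroup.normalizer (B : Set H) ∧ (Cfsg.pResidual p ↥(A ⊔ B)).map (A ⊔ B).subtype = B := by
  have hPp := normalClosure_isPGroup A hA hAp
  have hmain := main_aux (p := p) (Nat.card (⊤ : Subgroup H)) ⊤ B
    (Subgroup.normalClosure (A : Set H)) rfl le_top hB.subgroupOf le_top
    (by rw [Subgroup.normalizer_eq_top]) hPp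
  rw [← opIn_eq, hBres] at hmain
  have hAN : A ≤ Subgroup.normalizer (B : Set H) := Subgroup.le_normalClosure.trans hmain
  refine ⟨hAN, ?_⟩
  rw [opIn_eq]
  apply le_antisymm
  · show Subgroup.closure _ ≤ _
    rw [Subgroup.closure_le]
    rintro y ⟨hy, hyc⟩
    haveI : (B.subgroupOf (A ⊔ B)).Normal :=
      (Subgroup.normal_subgroupOf_iff_le_normalizer le_sup_right).mpr
        (sup_le hAN Subgroup.le_normalizer)
    have h1 : (⟨y, hy⟩ : ↥(A ⊔ B)) ∈ A.subgroupOf (A ⊔ B) ⊔ B.subgroupOf (A ⊔ B) := by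
      rw [← Subgroup.subgroupOf_sup le_sup_left le_sup_right, Subgroup.subgroupOf_self]
      trivial
    have h2 := mem_of_coprime_sup (p := p) _ _ (hAp.comap_subtype) h1
      (by rw [Subgroup.orderOf_mk]; exact hyc)
    exact Subgroup.mem_subgroupOf.mp h2
  · have h3 : B = opIn p B := by rw [← opIn_eq, hBres]
    exact (le_of_eq h3).trans (opIn_mono p le_sup_right)

end Cfsg.Agent.S2820
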