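import Cfsg.Statements.S0242
import Mathlib

set_option autoImplicit false
open Cfsg

namespace Cfsg.Agent.S0242

theorem card_GL_eq {F : Type*} [Field F] [Fintype F] (n : ℕ) (hn : 1 ≤ n) :
    Nat.card (Matrix.GeneralLinearGroup (Fin n) F) =
      (Fintype.card F - 1) * Nat.card (Matrix.SpecialLinearGroup (Fin n) F) := by
  classical
  haveI : Nonempty (Fin n) := ⟨⟨0, hn⟩⟩
  let d : Matrix.GeneralLinearGroup (Fin n) F →* Fˣ := Matrix.GeneralLinearGroup.det
  have hsurj : Function.Surjective d := Matrix.GeneralLinearGroup.det_surjective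
  have hker : d.ker = (Matrix.SpecialLinearGroup.toGL : Matrix.SpecialLinearGroup (Fin n) F →* _).range := by
    ext g
    simp only [MonoidHom.mem_ker, MonoidHom.mem_range]
    constructor
    · intro hg
      have hg' : (g : Matrix (Fin n) (Fin n) F).det = 1 := by
        have := congrArg (fun u : Fˣ => (u : F)) hg
        simpa [d] using this
      refine ⟨⟨(g : Matrix (Fin n) (Fin n) F), hg'⟩, ?_⟩
      ext i j
      rfl
    · rintro ⟨s, rfl⟩
      ext
      simp [d]
  have h1 : Nat.card d.ker = Nat.card (Matrix.SpecialLinearGroup (Fin n) F) := by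
    rw [hker]
    exact (Nat.card_congr (MonoidHom.ofInjective Matrix.SpecialLinearGroup.toGL_injective).toEquiv).symm
  have h2 : d.ker.index = Fintype.card F - 1 := by
    rw [Subgroup.index_ker, MonoidHom.range_eq_top.mpr hsurj, Subgroup.card_top, Nat.card_eq_fintype_card,
      Fintype.card_units]
  rw [← Subgroup.card_mul_index d.ker, h1, h2, mul_comm]

/-- Order of the special linear group: (q - 1) |SL_n(q)| = prod_{i<n} (q^n - q^i) = |GL_n(q)|, for n at least 1. -/
theorem result {F : Type*} [Field F] [Fintype F] {q : ℕ} (hF : Fintype.card F = q) (n : ℕ) (hn : 1 ≤ n) : (q - 1) * Nat.card (Matrix.SpecialLinearGroup (Fin n) F) = ∏ i : Fin n, (q ^ n - q ^ (i : ℕ)) := by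
  subst hF
  rw [← card_GL_eq n hn, Matrix.card_GL_field]

end Cfsg.Agent.S0242
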