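import Cfsg.Statements.S0561
import Mathlib
import Cfsg.Agent.Lib.Helper7.Hall
import Cfsg.Agent.Lib.Helper9.ConjLemmas
import Cfsg.Agent.Lib.Helper9.CoprimeIndex

set_option autoImplicit false
open Pointwise
open Cfsg

namespace Cfsg.Agent.S0561

open Subgroup
open scoped Pointwise
open Cfsg.Agent.Lib.Helper9

theorem numeric (N a : ℕ) (hN : 0 < N) : ∃ m n : ℕ, N = m * n ∧ m.Coprime n ∧ a.Coprime n ∧
    ∀ p : ℕ, p.Prime → p ∣ m → p ∣ a := by
  classical
  have h1 : (1 : ℕ) ∈ N.divisors.filter (fun n => a.Coprime n) := by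
    rw [Finset.mem_filter, Nat.mem_divisors]
    exact ⟨⟨one_dvd _, hN.ne'⟩, Nat.coprime_one_right a⟩
  have hne : (N.divisors.filter (fun n => a.Coprime n)).Nonempty := ⟨1, h1⟩
  have hmem := Finset.max'_mem _ hne
  set n := (N.divisors.filter (fun n => a.Coprime n)).max' hne with hn
  rw [Finset.mem_filter, Nat.mem_divisors] at hmem
  obtain ⟨⟨hdvd, -⟩, hcop⟩ := hmem
  have hnpos : 0 < n := Nat.pos_of_dvd_of_pos hdvd hN
  have key : ∀ p : ℕ, p.Prime → p ∣ N / n → p ∣ a := by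
    intro p hp hpm
    by_contra hpa
    have hc1 : a.Coprime p := ((Nat.Prime.coprime_iff_not_dvd hp).mpr hpa).symm
    have hc2 : a.Coprime (n * p) := Nat.Coprime.mul_right hcop hc1
    have hd2 : n * p ∣ N := Nat.mul_dvd_of_dvd_div hdvd hpm
    have hmem2 : n * p ∈ N.divisors.filter (fun n => a.Coprime n) := by
      rw [Finset.mem_filter, Nat.mem_divisors]
      exact ⟨⟨hd2, hN.ne'⟩, hc2⟩
    have hle := Finset.le_max' _ _ hmem2
    rw [← hn] at hle
    have h2 := hp.two_le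
    nlinarith
  refine ⟨N / n, n, (Nat.div_mul_cancel hdvd).symm, ?_, hcop, key⟩
  apply Nat.coprime_of_dvd
  intro p hp hpm hpn
  have hpa := key p hp hpm
  have h3 : p = 1 := Nat.eq_one_of_dvd_coprimes hcop hpa hpn
  exact hp.one_lt.ne' h3

theorem conj_smul_le_conj_smul {G : Type*} [Group G] {S T : Subgroup G} (h : S ≤ T) (g : G) :
    MulAut.conj g • S ≤ MulAut.conj g • T := by
  intro x hx
  rw [mem_conj_smul_iff] at hx ⊢
  exact h hx


/-- Let the finite solvable group G be the product HK of subgroups, and let A be normal in H and B normal in K, where A and B are Hall subgroups of G (order coprime to index). Then for all x, y the product set of xAx⁻¹ and yBy⁻¹ is a subgroup of G. -/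
theorem result {G : Type*} [Group G] [Finite G] [Group.IsSolvable G] (H K A B : Subgroup G) (hHK : ∀ g : G, ∃ h ∈ H, ∃ k ∈ K, g = h * k) (hA : A ≤ H) (hAn : (A.subgroupOf H).Normal) (hB : B ≤ K) (hBn : (B.subgroupOf K).Normal) (hAh : (Nat.card A).Coprime A.index) (hBh : (Nat.card B).Coprime B.index) (x y : G) : ∃ S : Subgroup G, (S : Set G) = ((MulAut.conj x • A : Subgroup G) : Set G) * ((MulAut.conj y • B : Subgroup G) : Set G) := by
  classical
  have hAH : H ≤ normalizer (A : Set G) :=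
    (Subgroup.normal_subgroupOf_iff_le_normalizer hA).mp hAn
  have hBK : K ≤ normalizer (B : Set G) :=
    (Subgroup.normal_subgroupOf_iff_le_normalizer hB).mp hBn
  obtain ⟨m, n, hmn, hcop, han, hprime⟩ :=
    numeric (Nat.card G) (Nat.card A * Nat.card B) Nat.card_pos
  have hAn' : (Nat.card A).Coprime n := Nat.Coprime.coprime_dvd_left (dvd_mul_right _ _) han
  have hBn' : (Nat.card B).Coprime n := Nat.Coprime.coprime_dvd_left (dvd_mul_left _ _) han
  obtain ⟨T, hT, hAT⟩ :=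
    Cfsg.Agent.Lib.Helper7.hall_dom (Nat.card G) G le_rfl m n hmn hcop A hAn'
  obtain ⟨T₂, hT₂, hBT₂⟩ :=
    Cfsg.Agent.Lib.Helper7.hall_dom (Nat.card G) G le_rfl m n hmn hcop B hBn'
  obtain ⟨g, hg⟩ :=
    Cfsg.Agent.Lib.Helper7.hall_conj (Nat.card G) G le_rfl m n hmn hcop T T₂ hT hT₂
  obtain ⟨h', hh', k', hk', hgk⟩ := hHK g⁻¹
  have hAT' : A ≤ MulAut.conj h'⁻¹ • T := by
    have h1 : MulAut.conj h'⁻¹ • A = A :=
      conj_smul_eq_self_iff_mem_normalizer.mpr (hAH (H.inv_mem hh'))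
    rw [← h1]; exact conj_smul_le_conj_smul hAT _
  have hBT' : B ≤ MulAut.conj h'⁻¹ • T := by
    have h1 : MulAut.conj k' • B = B := conj_smul_eq_self_iff_mem_normalizer.mpr (hBK hk')
    have h2 : MulAut.conj k' • T₂ = MulAut.conj h'⁻¹ • T := by
      rw [← hg, ← conj_smul_smul]
      congr 2
      have h3 : g = k'⁻¹ * h'⁻¹ := by
        rw [← mul_inv_rev, ← hgk, inv_inv]
      rw [h3, mul_inv_cancel_left]
    rw [← h1, ← h2]; exact conj_smul_le_conj_smul hBT₂ _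
  have hcardT' : Nat.card (MulAut.conj h'⁻¹ • T : Subgroup G) = m := by
    rw [card_conj_smul]; exact hT
  generalize MulAut.conj h'⁻¹ • T = T' at hAT' hBT' hcardT'
  have hcop' : (A.subgroupOf T').index.Coprime (B.subgroupOf T').index := by
    apply Nat.coprime_of_dvd
    intro p hp hpa hpb
    have hpm : p ∣ m := by
      rw [← hcardT']
      exact hpa.trans (Subgroup.index_dvd_card _)
    have hpab := hprime p hp hpm
    rcases (Nat.Prime.dvd_mul hp).mp hpab with h1 | h1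
    · have h2 : p ∣ A.index := hpa.trans (Subgroup.relIndex_dvd_index_of_le hAT')
      exact hp.one_lt.ne' (Nat.eq_one_of_dvd_coprimes hAh h1 h2)
    · have h2 : p ∣ B.index := hpb.trans (Subgroup.relIndex_dvd_index_of_le hBT')
      exact hp.one_lt.ne' (Nat.eq_one_of_dvd_coprimes hBh h1 h2)
  have hfact : ∀ t ∈ T', ∃ a ∈ A, ∃ b ∈ B, t = a * b := by
    intro t ht
    obtain ⟨a, ha, b, hb, hab⟩ := exists_mul_of_coprime_index _ _ hcop' (⟨t, ht⟩ : T')
    exact ⟨a, Subgroup.mem_subgroupOf.mp ha, b, Subgroup.mem_subgroupOf.mp hb,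
      congrArg Subtype.val hab⟩
  obtain ⟨hx, hhx, kx, hkx, hxe⟩ := hHK x⁻¹
  obtain ⟨hy, hhy, ky, hky, hye⟩ := hHK y
  obtain ⟨h₁, hh₁, k₁, hk₁, he⟩ := hHK (kx * hy)
  have hxA : MulAut.conj x • A = MulAut.conj (kx⁻¹ * h₁) • A := by
    have h3 : x = kx⁻¹ * hx⁻¹ := by
      rw [← mul_inv_rev, ← hxe, inv_inv]
    rw [h3, conj_smul_smul, conj_smul_smul,
      conj_smul_eq_self_iff_mem_normalizer.mpr (hAH (H.inv_mem hhx)),
      conj_smul_eq_self_iff_mem_normalizer.mpr (hAH hh₁)]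
  have hyB : MulAut.conj y • B = MulAut.conj (kx⁻¹ * h₁) • B := by
    have h3 : kx⁻¹ * h₁ = hy * k₁⁻¹ := by
      have h4 : hy = kx⁻¹ * (h₁ * k₁) := by rw [← he, inv_mul_cancel_left]
      rw [h4]; group
    rw [h3, hye, conj_smul_smul, conj_smul_smul,
      conj_smul_eq_self_iff_mem_normalizer.mpr (hBK hky),
      conj_smul_eq_self_iff_mem_normalizer.mpr (hBK (K.inv_mem hk₁))]
  rw [hxA, hyB]
  generalize kx⁻¹ * h₁ = g₀
  refine ⟨MulAut.conj g₀ • T', ?_⟩
  ext z
  constructor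
  · intro hz
    rw [SetLike.mem_coe, mem_conj_smul_iff] at hz
    obtain ⟨a, ha, b, hb, hab⟩ := hfact _ hz
    refine ⟨g₀ * a * g₀⁻¹, ?_, g₀ * b * g₀⁻¹, ?_, ?_⟩
    · rw [SetLike.mem_coe, mem_conj_smul_iff]
      have h5 : g₀⁻¹ * (g₀ * a * g₀⁻¹) * g₀ = a := by group
      rw [h5]; exact ha
    · rw [SetLike.mem_coe, mem_conj_smul_iff]
      have h5 : g₀⁻¹ * (g₀ * b * g₀⁻¹) * g₀ = b := by group
      rw [h5]; exact hb
    · have h5 : g₀ * a * g₀⁻¹ * (g₀ * b * g₀⁻¹) = g₀ * (a * b) * g₀⁻¹ := by group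
      simp only [h5, ← hab]
      group
  · rintro ⟨u, hu, v, hv, rfl⟩
    rw [SetLike.mem_coe, mem_conj_smul_iff] at hu hv ⊢
    have h5 : g₀⁻¹ * (u * v) * g₀ = (g₀⁻¹ * u * g₀) * (g₀⁻¹ * v * g₀) := by group
    rw [h5]
    exact T'.mul_mem (hAT' hu) (hBT' hv)

end Cfsg.Agent.S0561
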