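import Cfsg.Statements.S0072
import Cfsg.Agent.Lib.Helper2.Frobenius
-- import your own Cfsg.Agent.* helpers here

set_option autoImplicit false
open Cfsg

namespace Cfsg.Agent.S0072

open Cfsg.Agent.Lib.Helper2

/-- A finite group has a normal p-complement if and only if every p-local subgroup (normalizer of a nontrivial p-subgroup) has one. -/
theorem result {G : Type*} [Group G] [Finite G] (p : ℕ) [Fact p.Prime] : Cfsg.HasNormalPComplement p G ↔ ∀ Q : Subgroup G, IsPGroup p Q → Q ≠ ⊥ → Cfsg.HasNormalPComplement p (Subgroup.normalizer (Q : Set G)) := by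
  constructor
  · intro h Q _ _
    exact hasNormalPComplement_subgroup h _
  · intro h
    apply frobenius
    intro Q hQ g hg hgp
    by_cases hQb : Q = ⊥
    · subst hQb
      rw [Subgroup.mem_centralizer_iff]
      intro q hq
      have hq1 : q = 1 := by simpa using hq
      subst hq1; simp
    · have h1 := h Q hQ hQb
      rw [hasNormalPComplement_iff] at h1
      obtain ⟨K, hKn, hKc, a, ha⟩ := h1
      have hgK : (⟨g, hg⟩ : Subgroup.normalizer (Q : Set G)) ∈ K := by
        apply mem_of_index_pow_of_coprime_orderOf K ha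
        rw [Subgroup.orderOf_mk]; exact hgp
      rw [Subgroup.mem_centralizer_iff]
      intro q hq
      have hqN : q ∈ Subgroup.normalizer (Q : Set G) := Subgroup.le_normalizer hq
      have hc1 : ((⟨g, hg⟩ : Subgroup.normalizer (Q : Set G)) * ⟨q, hqN⟩ * ⟨g, hg⟩⁻¹ * ⟨q, hqN⟩⁻¹) ∈ K := by
        have h2 := hKn.conj_mem _ (K.inv_mem hgK) ⟨q, hqN⟩
        have h3 := K.mul_mem hgK h2
        convert h3 using 1; group
      have hc2 : g * q * g⁻¹ * q⁻¹ ∈ Q := by
        have h2 : g * q * g⁻¹ ∈ Q := (Subgroup.mem_normalizer_iff.mp hg q).mp hq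
        exact Q.mul_mem h2 (Q.inv_mem hq)
      have hc3 : (orderOf (g * q * g⁻¹ * q⁻¹)).Coprime p := by
        have h2 := coprime_orderOf_of_mem_of_coprime_card K hKc _ hc1
        rw [← Subgroup.orderOf_coe] at h2
        exact h2
      obtain ⟨k, hk⟩ := hQ ⟨_, hc2⟩
      have hk' : (g * q * g⁻¹ * q⁻¹) ^ p ^ k = 1 := by
        have h2 := congrArg Subtype.val hk
        simpa using h2
      have h4 : orderOf (g * q * g⁻¹ * q⁻¹) ∣ p ^ k := orderOf_dvd_of_pow_eq_one hk'
      have h5 : orderOf (g * q * g⁻¹ * q⁻¹) = 1 :=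
        Nat.Coprime.eq_one_of_dvd (Nat.Coprime.pow_right k hc3) h4
      rw [orderOf_eq_one_iff] at h5
      have h6 : g * q * g⁻¹ * q⁻¹ * q * g = q * g := by rw [h5, one_mul]
      rw [← h6]; group

end Cfsg.Agent.S0072
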