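import Cfsg.Statements.S4040
import Mathlib
import Cfsg.Agent.S0108
import Cfsg.Agent.Lib.Helper7.CoprimeSylow
import Cfsg.Agent.Lib.Helper3.GT7
import Cfsg.Agent.Lib.Helper2.Frobenius
import Cfsg.Agent.Lib.Helper2.NPC

set_option autoImplicit false
open Cfsg

namespace Cfsg.Agent.S4040


universe u

open Cfsg.Agent.Lib.Helper2 (hasNormalPComplement_iff mem_of_index_pow_of_coprime_orderOf FrobCond)

theorem pn_of_nilpotent {H : Type*} [Group H] [Finite H] (hnil : Group.IsNilpotent H) (p : ℕ)
    [Fact p.Prime] : Cfsg.HasNormalPComplement p H := by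
  have hp : p.Prime := Fact.out
  apply Cfsg.Agent.Lib.Helper2.frobenius
  have hall : ∀ (r : ℕ) (_ : Fact r.Prime) (R : Sylow r H), (R : Subgroup H).Normal :=
    ((Group.isNilpotent_of_finite_tfae (G := H)).out 0 3).mp hnil
  obtain ⟨P⟩ : Nonempty (Sylow p H) := inferInstance
  have hPn := hall p inferInstance P
  have : Unique (Sylow p H) := Sylow.unique_of_normal P hPn
  have hidxC : ∃ a, (Subgroup.centralizer ((P : Subgroup H) : Set H)).index = p ^ a := by
    refine ⟨_, Nat.eq_prime_pow_of_unique_prime_dvd (Subgroup.index_ne_zero_of_finite) ?_⟩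
    intro r hr hrd
    by_contra hrp
    have : Fact r.Prime := ⟨hr⟩
    obtain ⟨R⟩ : Nonempty (Sylow r H) := inferInstance
    have hRn := hall r ⟨hr⟩ R
    have hRC : (R : Subgroup H) ≤ Subgroup.centralizer ((P : Subgroup H) : Set H) := by
      intro x hx
      rw [Subgroup.mem_centralizer_iff]
      intro q hq
      have hdis : Disjoint (R : Subgroup H) P :=
        IsPGroup.disjoint_of_ne r p hrp _ _ R.isPGroup' P.isPGroup'
      exact (Subgroup.commute_of_normal_of_disjoint _ _ hRn hPn hdis x q hx hq).eq.symm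
    exact R.not_dvd_index (hrd.trans (Subgroup.index_dvd_of_le hRC))
  obtain ⟨a, ha⟩ := hidxC
  intro Q hQ g hg hgo
  have := hPn
  have hgC := mem_of_index_pow_of_coprime_orderOf _ ha g hgo
  obtain ⟨P', hP'⟩ := hQ.exists_le_sylow
  have hPP : P' = P := Subsingleton.elim _ _
  exact Subgroup.centralizer_le (by rw [← hPP]; exact hP') hgC

theorem aux : ∀ (n : ℕ) (G : Type u) [Group G] [Finite G], Nat.card G = n →
    ∀ (M : Subgroup G), IsCoatom M → Group.IsNilpotent M → Odd (Nat.card M) → Group.IsSolvable G := by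
  intro n
  induction n using Nat.strong_induction_on with
  | _ n ih =>
  intro G _ _ hn M hmax hnil hodd
  classical
  have hsolM : Group.IsSolvable M := by
    have := hnil
    infer_instance
  by_cases hA : ∃ N : Subgroup G, N.Normal ∧ N ≤ M ∧ N ≠ ⊥
  · obtain ⟨N, hNn, hNM, hNne⟩ := hA
    have := hNn
    have hcard : Nat.card (G ⧸ N) < n := by
      rw [← hn, ← Subgroup.index_eq_card, ← Subgroup.card_mul_index N]
      have h1 : 1 < Nat.card N := (Subgroup.one_lt_card_iff_ne_bot N).mpr hNne
      have h2 : 0 < N.index := Nat.pos_of_ne_zero Subgroup.index_ne_zero_of_finite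
      nlinarith
    have hcm : (M.map (QuotientGroup.mk' N)).comap (QuotientGroup.mk' N) = M := by
      rw [Subgroup.comap_map_eq, QuotientGroup.ker_mk', sup_eq_left.mpr hNM]
    have hsolvQ : Group.IsSolvable (G ⧸ N) := by
      refine ih _ hcard (G ⧸ N) rfl (M.map (QuotientGroup.mk' N)) ?_ ?_ ?_
      · constructor
        · intro htop
          apply hmax.1
          rw [← hcm, htop, Subgroup.comap_top]
        · intro K hK
          have h2 : M < K.comap (QuotientGroup.mk' N) := by
            have := (Subgroup.comap_lt_comap_of_surjective (QuotientGroup.mk'_surjective N)).mpr hK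
            rwa [hcm] at this
          have h3 := hmax.2 _ h2
          rw [← Subgroup.comap_top (QuotientGroup.mk' N)] at h3
          exact Subgroup.comap_injective (QuotientGroup.mk'_surjective N) h3
      · have := hnil
        exact Group.nilpotent_of_surjective ((QuotientGroup.mk' N).subgroupMap M)
          ((QuotientGroup.mk' N).subgroupMap_surjective M)
      · exact Odd.of_dvd_nat hodd (Subgroup.card_dvd_of_surjective
          ((QuotientGroup.mk' N).subgroupMap M) ((QuotientGroup.mk' N).subgroupMap_surjective M))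
    have hsolvN : Group.IsSolvable N :=
      Group.isSolvable_of_isSolvable_injective (Subgroup.inclusion_injective hNM)
    exact Group.isSolvable_of_ker_le_range N.subtype (QuotientGroup.mk' N)
      (by rw [QuotientGroup.ker_mk', Subgroup.range_subtype])
  · have hcf : ∀ N : Subgroup G, N.Normal → N ≤ M → N = ⊥ := by
      intro N hNn hNM
      by_contra hne
      exact hA ⟨N, hNn, hNM, hne⟩
    by_cases hMbot : M = ⊥
    · subst hMbot
      have hcomm : ∀ a b : G, a * b = b * a := by
        intro a b
        by_cases ha : a = 1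
        · subst ha; simp
        · have h1 : (⊥ : Subgroup G) < Subgroup.zpowers a := by
            rw [bot_lt_iff_ne_bot]
            intro h
            exact ha (Subgroup.zpowers_eq_bot.mp h)
          have h2 := hmax.2 _ h1
          have hb : b ∈ Subgroup.zpowers a := h2 ▸ Subgroup.mem_top b
          obtain ⟨k, rfl⟩ := Subgroup.mem_zpowers_iff.mp hb
          exact (Commute.self_zpow a k).eq
      exact Group.isSolvable_of_comm hcomm
    have hNeq : ∀ X : Subgroup G, X ≠ ⊥ → X ≤ M → M ≤ Subgroup.normalizer (X : Set G) →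
        Subgroup.normalizer (X : Set G) = M := by
      intro X hX hXM hMN
      rcases eq_or_lt_of_le hMN with h | h
      · exact h.symm
      · exfalso
        have htop := hmax.2 _ h
        have hXn : X.Normal := Subgroup.normalizer_eq_top_iff.mp htop
        exact hX (hcf X hXn hXM)
    have hallM : ∀ (r : ℕ) (_ : Fact r.Prime) (R : Sylow r M), (R : Subgroup M).Normal :=
      ((Group.isNilpotent_of_finite_tfae (G := M)).out 0 3).mp hnil
    have hnilsub : ∀ X : Subgroup G, X ≤ M → Group.IsNilpotent X := by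
      intro X hXM
      have := hnil
      exact Group.nilpotent_of_mulEquiv (Subgroup.subgroupOfEquivOfLe hXM)
    have hpn : ∀ p : ℕ, p.Prime → p ∣ Nat.card M → ∃ L : Subgroup G, L.Normal ∧
        (Nat.card L).Coprime p ∧ ∃ a, L.index = p ^ a := by
      intro p hp hpM
      have : Fact p.Prime := ⟨hp⟩
      have hp2 : p ≠ 2 := by
        rintro rfl
        exact (Nat.not_even_iff_odd.mpr hodd) (even_iff_two_dvd.mpr hpM)
      obtain ⟨P₀⟩ : Nonempty (Sylow p M) := inferInstance
      have hP₀n := hallM p inferInstance P₀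
      have hP₀ne : (P₀ : Subgroup M) ≠ ⊥ := Sylow.ne_bot_of_dvd_card P₀ hpM
      have hPM : (P₀ : Subgroup M).map M.subtype ≤ M := Subgroup.map_subtype_le _
      have hPp : IsPGroup p ((P₀ : Subgroup M).map M.subtype) := P₀.isPGroup'.map _
      have hPne : (P₀ : Subgroup M).map M.subtype ≠ ⊥ := by
        intro h
        apply hP₀ne
        rw [Subgroup.map_eq_bot_iff_of_injective _ M.subtype_injective] at h
        exact h
      have hMNP : M ≤ Subgroup.normalizer (((P₀ : Subgroup M).map M.subtype : Subgroup G) : Set G) := by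
        intro m hm
        rw [Subgroup.mem_normalizer_iff]
        intro h
        constructor
        · rintro ⟨x, hx, rfl⟩
          exact ⟨⟨m, hm⟩ * x * ⟨m, hm⟩⁻¹, hP₀n.conj_mem x hx ⟨m, hm⟩, rfl⟩
        · rintro ⟨x, hx, hxe⟩
          refine ⟨⟨m, hm⟩⁻¹ * x * ⟨m, hm⟩, ?_, ?_⟩
          · have h5 := hP₀n.conj_mem x hx ⟨m, hm⟩⁻¹
            rw [inv_inv] at h5
            exact h5
          · have h6 : (x : G) = m * h * m⁻¹ := hxe
            show m⁻¹ * (x : G) * m = h
            rw [h6]; group
      have hNP := hNeq _ hPne hPM hMNP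
      obtain ⟨S, hPS⟩ := hPp.exists_le_sylow
      have hsubP : ∀ X : Subgroup G, IsPGroup p X → X ≤ M →
          X ≤ (P₀ : Subgroup M).map M.subtype := by
        intro X hX hXM
        have h1 : IsPGroup p (X.subgroupOf M) := hX.comap_subtype
        obtain ⟨P', hP'⟩ := h1.exists_le_sylow
        have : Unique (Sylow p M) := Sylow.unique_of_normal P₀ hP₀n
        have h2 : P' = P₀ := Subsingleton.elim _ _
        intro x hx
        exact ⟨⟨x, hXM hx⟩, h2 ▸ hP' (Subgroup.mem_subgroupOf.mpr hx), rfl⟩
      have hSP : (S : Subgroup G) = (P₀ : Subgroup M).map M.subtype := by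
        by_contra hne
        have hlt : (P₀ : Subgroup M).map M.subtype < (S : Subgroup G) :=
          lt_of_le_of_ne hPS (Ne.symm hne)
        obtain ⟨x, hxS, hxN, hxP⟩ := Cfsg.Agent.Lib.Helper2.normalizer_grows (S : Subgroup G)
          S.isPGroup' _ hlt
        rw [hNP] at hxN
        have h1 : Subgroup.zpowers x ≤ (P₀ : Subgroup M).map M.subtype :=
          hsubP _ (S.isPGroup'.to_le (by rw [Subgroup.zpowers_le]; exact hxS))
            (by rw [Subgroup.zpowers_le]; exact hxN)
        exact hxP (h1 (Subgroup.mem_zpowers x))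
      have hSne : (S : Subgroup G) ≠ ⊥ := hSP ▸ hPne
      have hSM : (S : Subgroup G) ≤ M := hSP ▸ hPM
      have hMNS : M ≤ Subgroup.normalizer ((S : Subgroup G) : Set G) := by
        rw [hSP]; exact hMNP
      have hJ : Subgroup.normalizer (Cfsg.thompsonSubgroupOf p (S : Subgroup G) : Set G) = M := by
        apply hNeq
        · exact (Cfsg.Agent.Lib.Helper3.cfJe p).ne_bot (S : Subgroup G) S.isPGroup' hSne
        · exact ((Cfsg.Agent.Lib.Helper3.cfJe p).le (S : Subgroup G)).trans hSM
        · exact hMNS.trans ((Cfsg.Agent.Lib.Helper3.cfJe p).normalizer_le (S : Subgroup G))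
      have hZ : Subgroup.normalizer (((S : Subgroup G) ⊓
          Subgroup.centralizer ((S : Subgroup G) : Set G) : Subgroup G) : Set G) = M := by
        apply hNeq
        · exact (Cfsg.Agent.Lib.Helper3.cfZ p).ne_bot (S : Subgroup G) S.isPGroup' hSne
        · exact ((Cfsg.Agent.Lib.Helper3.cfZ p).le (S : Subgroup G)).trans hSM
        · exact hMNS.trans ((Cfsg.Agent.Lib.Helper3.cfZ p).normalizer_le (S : Subgroup G))
      have hCZ : Subgroup.centralizer (((S : Subgroup G) ⊓
          Subgroup.centralizer ((S : Subgroup G) : Set G) : Subgroup G) : Set G) ≤ M :=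
        hZ ▸ Subgroup.centralizer_le_normalizer _
      have hG : Cfsg.HasNormalPComplement p G := by
        rw [Cfsg.Agent.S0108.result hp2 S]
        exact ⟨pn_of_nilpotent (hnilsub _ hJ.le) p, pn_of_nilpotent (hnilsub _ hCZ) p⟩
      exact hasNormalPComplement_iff.mp hG
    let 𝒮 : Set (Subgroup G) := {L | L.Normal ∧ ∃ p : ℕ, p.Prime ∧ p ∣ Nat.card M ∧
      (Nat.card L).Coprime p ∧ ∃ a, L.index = p ^ a}
    have hfin : 𝒮.Finite := Set.toFinite _
    have hKn : (sInf 𝒮).Normal := by
      constructor
      intro x hx g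
      rw [Subgroup.mem_sInf] at hx ⊢
      intro L hL
      exact hL.1.conj_mem x (hx L hL) g
    have hKcop : (Nat.card M).Coprime (Nat.card (sInf 𝒮 : Subgroup G)) := by
      apply Nat.coprime_of_dvd
      intro p hp hpM hpK
      obtain ⟨L, hLn, hLc, a, ha⟩ := hpn p hp hpM
      have hKL : sInf 𝒮 ≤ L := sInf_le ⟨hLn, p, hp, hpM, hLc, a, ha⟩
      have h1 : p ∣ Nat.card L := hpK.trans (Subgroup.card_dvd_of_le hKL)
      exact hp.one_lt.ne' (Nat.Coprime.eq_one_of_dvd hLc.symm h1)
    have hder : ∃ n, derivedSeries G n ≤ sInf 𝒮 := by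
      have key : ∀ L ∈ 𝒮, ∃ n, derivedSeries G n ≤ L := by
        rintro L ⟨hLn, p, hp, hpM, hLc, a, ha⟩
        have := hLn
        have : Fact p.Prime := ⟨hp⟩
        have hpg : IsPGroup p (G ⧸ L) :=
          IsPGroup.of_card (n := a) (by rw [← Subgroup.index_eq_card]; exact ha)
        have hsol : Group.IsSolvable (G ⧸ L) := by
          have := hpg.isNilpotent
          infer_instance
        obtain ⟨n, hn⟩ := (Group.isSolvable_def (G ⧸ L)).mp hsol
        refine ⟨n, ?_⟩
        have h1 := map_derivedSeries_le_derivedSeries (QuotientGroup.mk' L) n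
        rw [hn] at h1
        have h2 := (Subgroup.map_eq_bot_iff _).mp (le_bot_iff.mp h1)
        rwa [QuotientGroup.ker_mk'] at h2
      have hall : ∀ T : Set (Subgroup G), T.Finite → T ⊆ 𝒮 →
          ∃ n, derivedSeries G n ≤ sInf T := by
        intro T hT
        induction T, hT using Set.Finite.induction_on with
        | empty => intro _; exact ⟨0, by simp⟩
        | @insert L T hL hT ih =>
          intro hsub
          obtain ⟨n, hn⟩ := ih (fun X hX => hsub (Set.mem_insert_of_mem _ hX))
          obtain ⟨m, hm⟩ := key L (hsub (Set.mem_insert _ _))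
          refine ⟨max n m, ?_⟩
          rw [sInf_insert]
          exact le_inf ((derivedSeries_antitone G (le_max_right _ _)).trans hm)
            ((derivedSeries_antitone G (le_max_left _ _)).trans hn)
      exact hall 𝒮 hfin subset_rfl
    by_cases hKbot : sInf 𝒮 = ⊥
    · obtain ⟨n, hn⟩ := hder
      rw [hKbot] at hn
      exact (Group.isSolvable_def G).mpr ⟨n, le_bot_iff.mp hn⟩
    · have hKcard : Nat.card (sInf 𝒮 : Subgroup G) ≠ 1 := by
        intro h
        exact hKbot (Subgroup.card_eq_one.mp h)
      obtain ⟨q, hq, hqK⟩ := Nat.exists_prime_and_dvd hKcard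
      have : Fact q.Prime := ⟨hq⟩
      have hMK : M ≤ Subgroup.normalizer ((sInf 𝒮 : Subgroup G) : Set G) := by
        rw [Subgroup.normalizer_eq_top_iff.mpr hKn]; exact le_top
      obtain ⟨Q, hQ⟩ := Cfsg.Agent.Lib.Helper7.exists_invariant_sylow M (sInf 𝒮) hMK hKcop
        (Or.inl hsolM) q
      have hQne : (Q : Subgroup (sInf 𝒮 : Subgroup G)) ≠ ⊥ := Sylow.ne_bot_of_dvd_card Q hqK
      have hQ'ne : (Q : Subgroup (sInf 𝒮 : Subgroup G)).map (sInf 𝒮 : Subgroup G).subtype ≠ ⊥ := by
        intro h
        apply hQne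
        rw [Subgroup.map_eq_bot_iff_of_injective _ (Subgroup.subtype_injective _)] at h
        exact h
      have hQ'K : (Q : Subgroup (sInf 𝒮 : Subgroup G)).map (sInf 𝒮 : Subgroup G).subtype ≤ sInf 𝒮 :=
        Subgroup.map_subtype_le _
      have hQ'M : ¬ (Q : Subgroup (sInf 𝒮 : Subgroup G)).map (sInf 𝒮 : Subgroup G).subtype ≤ M := by
        intro h
        have h1 := Subgroup.card_dvd_of_le h
        have h2 := Subgroup.card_dvd_of_le hQ'K
        have h3 := Nat.eq_one_of_dvd_coprimes hKcop h1 h2
        exact hQ'ne (Subgroup.card_eq_one.mp h3)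
      have htop : M ⊔ (Q : Subgroup (sInf 𝒮 : Subgroup G)).map (sInf 𝒮 : Subgroup G).subtype = ⊤ := by
        apply hmax.2
        exact lt_of_le_of_ne le_sup_left (fun h => hQ'M (le_sup_right.trans h.ge))
      have hQ'n : ((Q : Subgroup (sInf 𝒮 : Subgroup G)).map (sInf 𝒮 : Subgroup G).subtype).Normal := by
        rw [← Subgroup.normalizer_eq_top_iff, eq_top_iff, ← htop]
        exact sup_le hQ Subgroup.le_normalizer
      have := hQ'n
      have hsurj : Function.Surjective ((QuotientGroup.mk'
          ((Q : Subgroup (sInf 𝒮 : Subgroup G)).map (sInf 𝒮 : Subgroup G).subtype)).comp M.subtype) := by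
        intro y
        obtain ⟨g, rfl⟩ := QuotientGroup.mk'_surjective _ y
        have hg : g ∈ M ⊔ (Q : Subgroup (sInf 𝒮 : Subgroup G)).map (sInf 𝒮 : Subgroup G).subtype :=
          htop ▸ Subgroup.mem_top g
        obtain ⟨m, hm, q, hq, rfl⟩ := Subgroup.mem_sup_of_normal_right.mp hg
        refine ⟨⟨m, hm⟩, ?_⟩
        exact (QuotientGroup.mk_mul_of_mem m hq).symm
      have hsolQ : Group.IsSolvable (G ⧸ (Q : Subgroup (sInf 𝒮 : Subgroup G)).map
          (sInf 𝒮 : Subgroup G).subtype) := Group.isSolvable_of_surjective hsurj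
      have hsolQ' : Group.IsSolvable ((Q : Subgroup (sInf 𝒮 : Subgroup G)).map
          (sInf 𝒮 : Subgroup G).subtype) := by
        have hq' : IsPGroup q ((Q : Subgroup (sInf 𝒮 : Subgroup G)).map
          (sInf 𝒮 : Subgroup G).subtype) := Q.isPGroup'.map _
        have := hq'.isNilpotent
        infer_instance
      exact Group.isSolvable_of_ker_le_range (Subgroup.subtype _) (QuotientGroup.mk'
        ((Q : Subgroup (sInf 𝒮 : Subgroup G)).map (sInf 𝒮 : Subgroup G).subtype))
        (by rw [QuotientGroup.ker_mk', Subgroup.range_subtype])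


/-- A finite group possessing a maximal subgroup that is nilpotent of odd order is solvable. -/
theorem result {G : Type*} [Group G] [Finite G]
    (M : Subgroup G) (hmax : IsCoatom M) (hnil : Group.IsNilpotent M) (hodd : Odd (Nat.card M)) :
    Group.IsSolvable G := by
  exact aux _ G rfl M hmax hnil hodd

end Cfsg.Agent.S4040
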