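import Cfsg.Statements.S4242
import Mathlib
import Cfsg.Agent.S4040
import Cfsg.Agent.S0072
import Cfsg.Agent.Lib.Helper2.NPC
import Cfsg.Agent.Lib.Helper8.CoprimeSylow

set_option autoImplicit false
open Cfsg

namespace Cfsg.Agent.S4242


open Cfsg.Agent.Lib.Helper2 (hasNormalPComplement_iff mem_of_index_pow_of_coprime_orderOf)

theorem nil_of_le {G : Type*} [Group G] {H M : Subgroup G} (hle : H ≤ M)
    (hM : Group.IsNilpotent M) : Group.IsNilpotent H := by
  have := hM
  exact Group.nilpotent_of_mulEquiv (Subgroup.subgroupOfEquivOfLe hle)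

/-- in a finite nilpotent group a `p`-element commutes with an element of order prime to `p` -/
theorem nil_commute {H : Type*} [Group H] [Finite H] (hnil : Group.IsNilpotent H) (p : ℕ)
    [Fact p.Prime] (x y : H) (hx : ∃ k, orderOf x = p ^ k) (hy : (orderOf y).Coprime p) :
    x * y = y * x := by
  have hp : p.Prime := Fact.out
  obtain ⟨K, hKn, hKc, a, ha⟩ :=
    hasNormalPComplement_iff.mp (Cfsg.Agent.S4040.pn_of_nilpotent hnil p)
  have hyK : y ∈ K := mem_of_index_pow_of_coprime_orderOf K ha y hy
  have hall : ∀ (r : ℕ) (_ : Fact r.Prime) (R : Sylow r H), (R : Subgroup H).Normal :=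
    ((Group.isNilpotent_of_finite_tfae (G := H)).out 0 3).mp hnil
  obtain ⟨k, hk⟩ := hx
  have hzp : IsPGroup p (Subgroup.zpowers x) := by
    apply IsPGroup.of_card (n := k)
    rw [Nat.card_zpowers, hk]
  obtain ⟨Q, hQ⟩ := hzp.exists_le_sylow
  have hQn := hall p inferInstance Q
  have hxQ : x ∈ (Q : Subgroup H) := hQ (Subgroup.mem_zpowers x)
  have hdis : Disjoint (Q : Subgroup H) K := by
    rw [disjoint_iff]
    apply Subgroup.inf_eq_bot_of_coprime
    obtain ⟨n, hn⟩ := IsPGroup.iff_card.mp Q.isPGroup'
    rw [hn]
    exact Nat.Coprime.pow_left n hKc.symm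
  exact (Subgroup.commute_of_normal_of_disjoint _ _ hQn hKn hdis x y hxQ hyK).eq


/-- Let G be a finite group and p a prime dividing its order. Every maximal subgroup of G of order divisible by p is nilpotent if and only if G is nilpotent, or G is a minimal non-nilpotent group, or G is the internal direct product of a normal subgroup of order p and a normal minimal non-nilpotent subgroup of order prime to p. -/
theorem result {G : Type*} [Group G] [Finite G] (p : ℕ) (hp : p.Prime) (hpG : p ∣ Nat.card G) :
    (∀ M : Subgroup G, IsCoatom M → p ∣ Nat.card M → Group.IsNilpotent M) ↔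
      (Group.IsNilpotent G ∨ Cfsg.IsMinimalNonNilpotent G ∨
        ∃ Z K : Subgroup G, Z.Normal ∧ K.Normal ∧ Z ⊓ K = ⊥ ∧ Z ⊔ K = ⊤ ∧ Nat.card Z = p ∧
          Cfsg.IsMinimalNonNilpotent K ∧ ¬ p ∣ Nat.card K) := by
  haveI : Fact p.Prime := ⟨hp⟩
  constructor
  · intro H0
    by_cases hnil : Group.IsNilpotent G
    · exact Or.inl hnil
    by_cases hmin : Cfsg.IsMinimalNonNilpotent G
    · exact Or.inr (Or.inl hmin)
    right; right
    have hex : ∃ H : Subgroup G, H ≠ ⊤ ∧ ¬ Group.IsNilpotent H := by
      by_contra hcon
      push_neg at hcon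
      exact hmin ⟨hnil, hcon⟩
    obtain ⟨H, hHtop, hHnil⟩ := hex
    obtain ⟨M, hM, hHM⟩ := (eq_top_or_exists_le_coatom H).resolve_left hHtop
    have hMnil : ¬ Group.IsNilpotent M := fun h => hHnil (nil_of_le hHM h)
    have hpM : ¬ p ∣ Nat.card M := fun h => hMnil (H0 M hM h)
    have hprop : ∀ L : Subgroup G, L ≠ ⊤ → p ∣ Nat.card L → Group.IsNilpotent L := by
      intro L hL hpL
      obtain ⟨M', hM', hLM'⟩ := (eq_top_or_exists_le_coatom L).resolve_left hL
      exact nil_of_le hLM' (H0 M' hM' (hpL.trans (Subgroup.card_dvd_of_le hLM')))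
    have hMcop : (Nat.card M).Coprime p :=
      (Nat.Coprime.symm ((Nat.Prime.coprime_iff_not_dvd hp).mpr hpM))
    have hordM : ∀ m ∈ M, (orderOf m).Coprime p := by
      intro m hm
      have h1 : orderOf m ∣ Nat.card M := by
        have := orderOf_dvd_natCard (⟨m, hm⟩ : M)
        rwa [Subgroup.orderOf_mk] at this
      exact Nat.Coprime.coprime_dvd_left h1 hMcop
    -- Step 1: a central element of order p
    have step1 : ∃ z : G, orderOf z = p ∧ ∀ g : G, g * z = z * g := by
      by_cases hA : ∃ N : Subgroup G, N.Normal ∧ IsPGroup p N ∧ N ≠ ⊥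
      · obtain ⟨N, hNn, hNp, hNbot⟩ := hA
        have hMN : M ⊓ N = ⊥ := by
          apply Subgroup.inf_eq_bot_of_coprime
          obtain ⟨k, hk⟩ := IsPGroup.iff_card.mp hNp
          rw [hk]
          exact Nat.Coprime.pow_right k hMcop
        have hpN : p ∣ Nat.card N := by
          obtain ⟨k, hk⟩ := IsPGroup.iff_card.mp hNp
          rw [hk]
          have hk0 : k ≠ 0 := by
            rintro rfl
            apply hNbot
            rw [pow_zero] at hk
            exact Subgroup.card_eq_one.mp hk
          exact dvd_pow_self p hk0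
        have hNM : ¬ N ≤ M := fun h => hpM (hpN.trans (Subgroup.card_dvd_of_le h))
        have hsup : N ⊔ M = ⊤ := by
          rcases hM.le_iff.mp (le_sup_right : M ≤ N ⊔ M) with h | h
          · exact h
          · exact absurd (h ▸ le_sup_left) hNM
        have hcomm : ∀ m ∈ M, ∀ n ∈ N, m * n = n * m := by
          intro m hm n hn
          set L : Subgroup G := N ⊔ Subgroup.zpowers m with hL
          have hmL : m ∈ L := (le_sup_right : Subgroup.zpowers m ≤ L) (Subgroup.mem_zpowers m)
          have hnL : n ∈ L := (le_sup_left : N ≤ L) hn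
          by_cases hLtop : L = ⊤
          · exfalso
            apply hMnil
            have hcM : ∀ a ∈ M, a ∈ Subgroup.zpowers m := by
              intro a ha
              have ha' : a ∈ (↑(N ⊔ Subgroup.zpowers m) : Set G) := by
                rw [← hL, hLtop]; exact Set.mem_univ a
              rw [Subgroup.normal_mul] at ha'
              obtain ⟨n1, hn1, c, hc, rfl⟩ := Set.mem_mul.mp ha'
              have hcM : c ∈ M := (Subgroup.zpowers_le.mpr hm) hc
              have hn1M : n1 ∈ M := by
                have := M.mul_mem ha (M.inv_mem hcM)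
                simpa using this
              have : n1 ∈ M ⊓ N := ⟨hn1M, hn1⟩
              rw [hMN, Subgroup.mem_bot] at this
              rw [this, one_mul]; exact hc
            letI : CommGroup M := { (inferInstance : Group M) with
              mul_comm := by
                rintro ⟨a, ha⟩ ⟨b, hb⟩
                apply Subtype.ext
                obtain ⟨i, rfl⟩ := Subgroup.mem_zpowers_iff.mp (hcM a ha)
                obtain ⟨j, rfl⟩ := Subgroup.mem_zpowers_iff.mp (hcM b hb)
                exact (Commute.zpow_zpow_self m i j).eq }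
            exact CommGroup.isNilpotent
          · have hLnil : Group.IsNilpotent L :=
              hprop L hLtop (hpN.trans (Subgroup.card_dvd_of_le le_sup_left))
            have h := nil_commute hLnil p (⟨n, hnL⟩ : L) ⟨m, hmL⟩ ?_ ?_
            · exact (congrArg Subtype.val h).symm
            · rw [Subgroup.orderOf_mk]
              obtain ⟨k, hk⟩ := hNp ⟨n, hn⟩
              have h2 : orderOf n ∣ p ^ k := by
                apply orderOf_dvd_of_pow_eq_one
                simpa using congrArg Subtype.val hk
              obtain ⟨j, -, hj⟩ := (Nat.dvd_prime_pow hp).mp h2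
              exact ⟨j, hj⟩
            · rw [Subgroup.orderOf_mk]; exact hordM m hm
        haveI : Nontrivial N := (Subgroup.nontrivial_iff_ne_bot N).mpr hNbot
        have hcn : Nontrivial (Subgroup.center N) := hNp.center_nontrivial
        have hpc : p ∣ Nat.card (Subgroup.center N) := by
          have hcp : IsPGroup p (Subgroup.center N) := hNp.to_subgroup _
          obtain ⟨k, hk⟩ := IsPGroup.iff_card.mp hcp
          rw [hk]
          have hk0 : k ≠ 0 := by
            rintro rfl
            rw [pow_zero] at hk
            have := Finite.one_lt_card_iff_nontrivial.mpr hcn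
            omega
          exact dvd_pow_self p hk0
        obtain ⟨c, hc⟩ := exists_prime_orderOf_dvd_card' p hpc
        refine ⟨((c : N) : G), ?_, ?_⟩
        · rw [Subgroup.orderOf_coe, Subgroup.orderOf_coe]; exact hc
        · intro g
          have hg : g ∈ (↑(N ⊔ M) : Set G) := by rw [hsup]; exact Set.mem_univ g
          rw [Subgroup.normal_mul] at hg
          obtain ⟨n, hn, m, hm, rfl⟩ := Set.mem_mul.mp hg
          have h1 : n * ((c : N) : G) = ((c : N) : G) * n := by
            have := Subgroup.mem_center_iff.mp c.2 ⟨n, hn⟩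
            exact congrArg Subtype.val this
          have h2 : m * ((c : N) : G) = ((c : N) : G) * m := hcomm m hm _ (c : N).2
          rw [mul_assoc, h2, ← mul_assoc, h1, mul_assoc]
      · push_neg at hA
        have hnpc : Cfsg.HasNormalPComplement p G := by
          rw [Cfsg.Agent.S0072.result]
          intro Q hQ hQbot
          apply Cfsg.Agent.S4040.pn_of_nilpotent
          apply hprop
          · intro htop
            exact hQbot (hA Q (Subgroup.normalizer_eq_top_iff.mp htop) hQ)
          · have hpQ : p ∣ Nat.card Q := by
              obtain ⟨k, hk⟩ := IsPGroup.iff_card.mp hQ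
              rw [hk]
              have hk0 : k ≠ 0 := by
                rintro rfl
                apply hQbot
                rw [pow_zero] at hk
                exact Subgroup.card_eq_one.mp hk
              exact dvd_pow_self p hk0
            exact hpQ.trans (Subgroup.card_dvd_of_le Subgroup.le_normalizer)
        obtain ⟨K, hKn, hKc, a, ha⟩ := hasNormalPComplement_iff.mp hnpc
        have hMK : M ≤ K := fun m hm => mem_of_index_pow_of_coprime_orderOf K ha m (hordM m hm)
        have hKtop : K ≠ ⊤ := by
          rintro rfl
          rw [Subgroup.card_top] at hKc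
          exact (Nat.Prime.coprime_iff_not_dvd hp).mp hKc.symm hpG
        have hKM : K = M := (hM.le_iff.mp hMK).resolve_left hKtop
        haveI hMn : M.Normal := hKM ▸ hKn
        obtain ⟨x, hx⟩ := exists_prime_orderOf_dvd_card' p hpG
        have hPc : Nat.card (Subgroup.zpowers x) = p := by rw [Nat.card_zpowers, hx]
        have hPp : IsPGroup p (Subgroup.zpowers x) := by
          apply IsPGroup.of_card (n := 1)
          rw [hPc, pow_one]
        have hPM : Subgroup.zpowers x ⊓ M = ⊥ := by
          apply Subgroup.inf_eq_bot_of_coprime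
          rw [hPc]; exact hMcop.symm
        have hxM : ∀ m ∈ M, x * m = m * x := by
          set C : Subgroup M := (Subgroup.centralizer ({x} : Set G)).subgroupOf M with hC
          have hCtop : C = ⊤ := by
            apply Subgroup.eq_top_of_le_card
            apply Nat.le_of_dvd Nat.card_pos
            rw [Nat.dvd_iff_prime_pow_dvd_dvd]
            intro q k hq hqk
            haveI : Fact q.Prime := ⟨hq⟩
            obtain ⟨Q, hQ⟩ := Cfsg.Agent.Lib.Helper8.h8_exists_invariant_sylow M hMcop
              (Subgroup.zpowers x) hPp q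
            have hQC : (Q : Subgroup M) ≤ C := by
              intro y hy
              rw [hC, Subgroup.mem_subgroupOf, Subgroup.mem_centralizer_iff]
              intro t ht
              rw [Set.mem_singleton_iff] at ht
              subst ht
              set Q' : Subgroup G := (Q : Subgroup M).map M.subtype with hQ'
              have hQ'M : Q' ≤ M := by
                rintro _ ⟨u, -, rfl⟩
                exact u.2
              have hyQ' : (y : G) ∈ Q' := Subgroup.mem_map_of_mem M.subtype hy
              set L : Subgroup G := Subgroup.zpowers t ⊔ Q' with hL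
              have htL : t ∈ L := (le_sup_left : Subgroup.zpowers t ≤ L) (Subgroup.mem_zpowers t)
              have hyL : (y : G) ∈ L := (le_sup_right : Q' ≤ L) hyQ'
              by_cases hLtop : L = ⊤
              · exfalso
                apply hMnil
                have hMQ : ∀ a ∈ M, a ∈ Q' := by
                  intro a ha
                  have ha' : a ∈ (↑(Subgroup.zpowers t ⊔ Q') : Set G) := by
                    rw [← hL, hLtop]; exact Set.mem_univ a
                  rw [Subgroup.coe_mul_of_left_le_normalizer_right _ _ hQ] at ha'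
                  obtain ⟨c, hc, u, hu, rfl⟩ := Set.mem_mul.mp ha'
                  have hcM : c ∈ M := by
                    have := M.mul_mem ha (M.inv_mem (hQ'M hu))
                    simpa using this
                  have : c ∈ Subgroup.zpowers t ⊓ M := ⟨hc, hcM⟩
                  rw [hPM, Subgroup.mem_bot] at this
                  rw [this, one_mul]; exact hu
                have hMq : IsPGroup q M := by
                  intro g
                  have hg : g ∈ (Q : Subgroup M) := by
                    obtain ⟨u, hu, hug⟩ := hMQ g.1 g.2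
                    have : u = g := Subtype.ext hug
                    rw [← this]; exact hu
                  obtain ⟨k, hk⟩ := Q.isPGroup' ⟨g, hg⟩
                  exact ⟨k, by simpa using congrArg Subtype.val hk⟩
                exact hMq.isNilpotent
              · have hLnil : Group.IsNilpotent L := by
                  apply hprop L hLtop
                  have := Subgroup.card_dvd_of_le (le_sup_left : Subgroup.zpowers t ≤ L)
                  rwa [hPc] at this
                have h := nil_commute hLnil p (⟨t, htL⟩ : L) ⟨(y : G), hyL⟩ ?_ ?_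
                · exact congrArg Subtype.val h
                · rw [Subgroup.orderOf_mk]; exact ⟨1, by rw [hx, pow_one]⟩
                · rw [Subgroup.orderOf_mk]; exact hordM _ y.2
            exact (Q.pow_dvd_card_of_pow_dvd_card hqk).trans (Subgroup.card_dvd_of_le hQC)
          intro m hm
          have : (⟨m, hm⟩ : M) ∈ C := hCtop ▸ Subgroup.mem_top _
          rw [hC, Subgroup.mem_subgroupOf, Subgroup.mem_centralizer_iff] at this
          exact this x rfl
        have hxnM : x ∉ M := by
          intro h
          have : x ∈ Subgroup.zpowers x ⊓ M := ⟨Subgroup.mem_zpowers x, h⟩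
          rw [hPM, Subgroup.mem_bot] at this
          rw [this, orderOf_one] at hx
          exact hp.one_lt.ne hx
        have hsup : M ⊔ Subgroup.zpowers x = ⊤ := by
          rcases hM.le_iff.mp (le_sup_left : M ≤ M ⊔ Subgroup.zpowers x) with h | h
          · exact h
          · exact absurd (h ▸ (le_sup_right : Subgroup.zpowers x ≤ _) (Subgroup.mem_zpowers x)) hxnM
        refine ⟨x, hx, ?_⟩
        intro g
        have hg : g ∈ (↑(M ⊔ Subgroup.zpowers x) : Set G) := by rw [hsup]; exact Set.mem_univ g
        rw [Subgroup.normal_mul] at hg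
        obtain ⟨m, hm, c, hc, rfl⟩ := Set.mem_mul.mp hg
        obtain ⟨i, rfl⟩ := Subgroup.mem_zpowers_iff.mp hc
        have h1 : x ^ i * x = x * x ^ i := (Commute.zpow_self x i).eq
        rw [mul_assoc, h1, ← mul_assoc, ← hxM m hm, mul_assoc]
    obtain ⟨z, hz, hzc⟩ := step1
    have hZcard : Nat.card (Subgroup.zpowers z) = p := by rw [Nat.card_zpowers, hz]
    have hZM : Subgroup.zpowers z ⊓ M = ⊥ := by
      apply Subgroup.inf_eq_bot_of_coprime
      rw [hZcard]; exact hMcop.symm
    have hzM : z ∉ M := by
      intro h
      have : z ∈ Subgroup.zpowers z ⊓ M := ⟨Subgroup.mem_zpowers z, h⟩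
      rw [hZM, Subgroup.mem_bot] at this
      rw [this, orderOf_one] at hz
      exact hp.one_lt.ne hz
    have hsup : Subgroup.zpowers z ⊔ M = ⊤ := by
      rcases hM.le_iff.mp (le_sup_right : M ≤ Subgroup.zpowers z ⊔ M) with h | h
      · exact h
      · exact absurd (h ▸ (le_sup_left : Subgroup.zpowers z ≤ _) (Subgroup.mem_zpowers z)) hzM
    have hZc : ∀ c ∈ Subgroup.zpowers z, ∀ g : G, g * c = c * g := by
      intro c hc g
      obtain ⟨i, rfl⟩ := Subgroup.mem_zpowers_iff.mp hc
      exact (Commute.zpow_right (hzc g) i).eq
    have hZn : (Subgroup.zpowers z).Normal := by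
      constructor
      intro c hc g
      rw [hZc c hc g, mul_inv_cancel_right]
      exact hc
    have hMn : M.Normal := by
      rw [← Subgroup.normalizer_eq_top_iff, eq_top_iff, ← hsup, sup_le_iff]
      refine ⟨?_, Subgroup.le_normalizer⟩
      intro c hc
      rw [Subgroup.mem_normalizer_iff]
      intro h
      rw [← hZc c hc h, mul_inv_cancel_right]
    refine ⟨Subgroup.zpowers z, M, hZn, hMn, hZM, hsup, hZcard, ⟨hMnil, ?_⟩, hpM⟩
    intro H hH
    set H' : Subgroup G := H.map M.subtype with hH'
    have hH'M : H' ≤ M := by
      rintro _ ⟨u, -, rfl⟩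
      exact u.2
    have hLtop : Subgroup.zpowers z ⊔ H' ≠ ⊤ := by
      intro htop
      apply hH
      rw [eq_top_iff]
      intro m _
      have hm : (m : G) ∈ (↑(Subgroup.zpowers z ⊔ H') : Set G) := by
        rw [htop]; exact Set.mem_univ _
      rw [Subgroup.normal_mul] at hm
      obtain ⟨c, hc, h, hh, hch⟩ := Set.mem_mul.mp hm
      have hcM : c ∈ M := by
        have : c = (m : G) * h⁻¹ := by rw [← hch, mul_inv_cancel_right]
        rw [this]; exact M.mul_mem m.2 (M.inv_mem (hH'M hh))
      have : c ∈ Subgroup.zpowers z ⊓ M := ⟨hc, hcM⟩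
      rw [hZM, Subgroup.mem_bot] at this
      rw [this, one_mul] at hch
      obtain ⟨y, hy, hyh⟩ := hh
      have : y = m := Subtype.ext (by rw [← hch]; exact hyh)
      rw [← this]; exact hy
    have hLnil : Group.IsNilpotent (Subgroup.zpowers z ⊔ H' : Subgroup G) := by
      apply hprop _ hLtop
      have := Subgroup.card_dvd_of_le (le_sup_left : Subgroup.zpowers z ≤ Subgroup.zpowers z ⊔ H')
      rwa [hZcard] at this
    have hH'nil : Group.IsNilpotent H' := nil_of_le le_sup_right hLnil
    haveI := hH'nil
    exact Group.nilpotent_of_mulEquiv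
      (H.equivMapOfInjective M.subtype (Subgroup.subtype_injective M)).symm
  · rintro (hnil | hmin | ⟨Z, K, hZn, hKn, hZK, hsup, hcZ, hK, hpK⟩) M hM hpM
    · haveI := hnil; infer_instance
    · exact hmin.2 M hM.1
    · have hKcop : (Nat.card K).Coprime p := ((Nat.Prime.coprime_iff_not_dvd hp).mpr hpK).symm
      have hdis : Disjoint Z K := disjoint_iff.mpr hZK
      have hZKc : ∀ z ∈ Z, ∀ k ∈ K, z * k = k * z := fun z hz k hk =>
        (Subgroup.commute_of_normal_of_disjoint Z K hZn hKn hdis z k hz hk).eq
      obtain ⟨x, hx⟩ := exists_prime_orderOf_dvd_card' p hpM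
      have hxG : orderOf (x : G) = p := by rw [Subgroup.orderOf_coe]; exact hx
      have hxZ : (x : G) ∈ Z := by
        have hmem : (x : G) ∈ (↑(Z ⊔ K) : Set G) := by rw [hsup]; exact Set.mem_univ _
        rw [Subgroup.normal_mul] at hmem
        obtain ⟨z, hz, k, hk, hzk⟩ := Set.mem_mul.mp hmem
        have hzp : z ^ p = 1 := by
          have := pow_card_eq_one' (G := Z) (x := ⟨z, hz⟩)
          rw [hcZ] at this
          simpa using congrArg Subtype.val this
        have hkp : k ^ p = 1 := by
          have h1 : (z * k) ^ p = 1 := by rw [hzk, ← hxG, pow_orderOf_eq_one]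
          rw [(show Commute z k from hZKc z hz k hk).mul_pow, hzp, one_mul] at h1
          exact h1
        have hk1 : k = 1 := by
          have h1 : orderOf k ∣ p := orderOf_dvd_of_pow_eq_one hkp
          have h2 : orderOf k ∣ Nat.card K := by
            have := orderOf_dvd_natCard (⟨k, hk⟩ : K)
            rwa [Subgroup.orderOf_mk] at this
          exact orderOf_eq_one_iff.mp
            (Nat.Coprime.eq_one_of_dvd (Nat.Coprime.coprime_dvd_left h2 hKcop) h1)
        rw [hk1, mul_one] at hzk
        rw [← hzk]; exact hz
      have hZeq : Subgroup.zpowers (x : G) = Z := by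
        apply Subgroup.eq_of_le_of_card_ge (Subgroup.zpowers_le.mpr hxZ)
        rw [hcZ, Nat.card_zpowers, hxG]
      have hZle : Z ≤ M := by
        rw [← hZeq]; exact Subgroup.zpowers_le.mpr x.2
      have hZcomm : ∀ z ∈ Z, ∀ g : G, g * z = z * g := by
        intro z hz g
        have hmem : g ∈ (↑(Z ⊔ K) : Set G) := by rw [hsup]; exact Set.mem_univ _
        rw [Subgroup.normal_mul] at hmem
        obtain ⟨z', hz', k, hk, rfl⟩ := Set.mem_mul.mp hmem
        have h1 : z' * z = z * z' := by
          rw [← hZeq] at hz hz'
          obtain ⟨i, rfl⟩ := Subgroup.mem_zpowers_iff.mp hz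
          obtain ⟨j, rfl⟩ := Subgroup.mem_zpowers_iff.mp hz'
          exact (Commute.zpow_zpow_self (x : G) j i).eq
        rw [mul_assoc, ← hZKc z hz k hk, ← mul_assoc, h1, mul_assoc]
      have hMKnil : Group.IsNilpotent (M ⊓ K : Subgroup G) := by
        have hne : (M ⊓ K).subgroupOf K ≠ ⊤ := by
          rw [Ne, Subgroup.subgroupOf_eq_top]
          intro h
          apply hM.1
          rw [eq_top_iff, ← hsup]
          exact sup_le hZle (h.trans inf_le_left)
        have := hK.2 _ hne
        exact Group.nilpotent_of_mulEquiv (Subgroup.subgroupOfEquivOfLe (inf_le_right : M ⊓ K ≤ K))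
      haveI := hMKnil
      haveI hZnil : Group.IsNilpotent Z := by
        have hZp : IsPGroup p Z := IsPGroup.of_card (n := 1) (by rw [hcZ, pow_one])
        exact hZp.isNilpotent
      let ψ : ↥Z × ↥(M ⊓ K) →* ↥M :=
        { toFun := fun zk => ⟨(zk.1 : G) * (zk.2 : G), M.mul_mem (hZle zk.1.2) zk.2.2.1⟩
          map_one' := by apply Subtype.ext; simp
          map_mul' := by
            rintro ⟨z, k⟩ ⟨z', k'⟩
            apply Subtype.ext
            show ((z : G) * z') * ((k : G) * k') = ((z : G) * k) * ((z' : G) * k')
            have := hZcomm z' z'.2 k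
            rw [show (z : G) * z' * ((k : G) * k') = z * (z' * k) * k' by simp only [mul_assoc],
              ← this]
            simp only [mul_assoc] }
      apply Group.nilpotent_of_surjective ψ
      rintro ⟨m, hm⟩
      have hmem : m ∈ (↑(Z ⊔ K) : Set G) := by rw [hsup]; exact Set.mem_univ _
      rw [Subgroup.normal_mul] at hmem
      obtain ⟨z, hz, k, hk, rfl⟩ := Set.mem_mul.mp hmem
      have hkM : k ∈ M := by
        have := M.mul_mem (M.inv_mem (hZle hz)) hm
        simpa using this
      exact ⟨(⟨z, hz⟩, ⟨k, hkM, hk⟩), rfl⟩

end Cfsg.Agent.S4242
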