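import Cfsg.Statements.S4249
import Mathlib
import Cfsg.Agent.Lib.Helper9.Kegel

set_option autoImplicit false
open Cfsg

namespace Cfsg.Agent.S4249


open Cfsg.Agent.Lib.Helper9

set_option linter.style.haveILetI false

theorem hg_conj_iter {G : Type*} [Group G] (g : G) (n : ℕ) (a : G) :
    ((MulAut.conj g).toMonoidHom : G → G)^[n] a = g ^ n * a * (g ^ n)⁻¹ := by
  induction n with
  | zero => simp
  | succ n ih =>
    rw [Function.iterate_succ_apply', ih, pow_succ']
    show g * (g ^ n * a * (g ^ n)⁻¹) * g⁻¹ = _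
    group

theorem hg_prod {G : Type*} [Group G] (g a : G) (n : ℕ) :
    ((List.range n).map (fun i => g ^ i * a * (g ^ i)⁻¹)).prod * g ^ n = (a * g) ^ n := by
  induction n with
  | zero => simp
  | succ n ih =>
    rw [List.range_succ, List.map_append, List.prod_append, pow_succ (a * g), ← ih]
    simp only [List.map_cons, List.map_nil, List.prod_cons, List.prod_nil, mul_one]
    rw [pow_succ]; group

theorem hg_kspl {G : Type*} [Group G] (p : ℕ) (S : Subgroup G)
    (hout : ∀ g : G, g ∉ S → g ^ p = 1)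
    (A : Subgroup G) (hAS : A ≤ S) (g : G) (hg : g ∉ S)
    (hA : ∀ a ∈ A, (MulAut.conj g).toMonoidHom a ∈ A) :
    KSpl p (tfRes (MulAut.conj g).toMonoidHom A hA) := by
  refine ⟨?_, ?_⟩
  · funext a
    apply Subtype.ext
    rw [tfRes_iterate, hg_conj_iter, hout g hg]; simp
  · intro a
    apply Subtype.ext
    rw [Subgroup.coe_one, ← Subgroup.coe_subtype, map_list_prod, List.map_map]
    have h1 : (List.range p).map
        (A.subtype ∘ fun i => (tfRes (MulAut.conj g).toMonoidHom A hA)^[i] a) =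
        (List.range p).map (fun i => g ^ i * (a : G) * (g ^ i)⁻¹) := by
      apply List.map_congr_left
      intro i _
      show (((tfRes (MulAut.conj g).toMonoidHom A hA)^[i] a : A) : G) = _
      rw [tfRes_iterate, hg_conj_iter]
    rw [h1]
    have h2 := hg_prod g (a : G) p
    rw [hout g hg, mul_one] at h2
    rw [h2]
    apply hout
    intro hmem
    exact hg ((Subgroup.mul_mem_cancel_left S (hAS a.2)).mp hmem)

theorem nil_inf_center_ne_bot {H : Type*} [Group H] (hnil : Group.IsNilpotent H)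
    (N : Subgroup H) [hNn : N.Normal] (hN : N ≠ ⊥) : N ⊓ Subgroup.center H ≠ ⊥ := by
  obtain ⟨n, hn⟩ := hnil.nilpotent'
  have key : ∀ k, N ⊓ Subgroup.upperCentralSeries H k ≠ ⊥ → N ⊓ Subgroup.center H ≠ ⊥ := by
    intro k
    induction k with
    | zero =>
      intro h; exfalso; apply h
      rw [Subgroup.upperCentralSeries_zero, inf_bot_eq]
    | succ k ih =>
      intro h
      by_cases hk : N ⊓ Subgroup.upperCentralSeries H k = ⊥
      · intro hbot
        apply h
        rw [Subgroup.eq_bot_iff_forall]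
        intro x hx
        obtain ⟨hxN, hxk⟩ := Subgroup.mem_inf.mp hx
        rw [Subgroup.mem_upperCentralSeries_succ_iff] at hxk
        have hxc : x ∈ Subgroup.center H := by
          rw [Subgroup.mem_center_iff]
          intro y
          have h1 : x * y * x⁻¹ * y⁻¹ ∈ Subgroup.upperCentralSeries H k := hxk y
          have h2 : x * y * x⁻¹ * y⁻¹ ∈ N := by
            have : x * y * x⁻¹ * y⁻¹ = x * (y * x⁻¹ * y⁻¹) := by group
            rw [this]
            exact N.mul_mem hxN (hNn.conj_mem _ (N.inv_mem hxN) y)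
          have h3 : x * y * x⁻¹ * y⁻¹ ∈ N ⊓ Subgroup.upperCentralSeries H k :=
            Subgroup.mem_inf.mpr ⟨h2, h1⟩
          rw [hk, Subgroup.mem_bot] at h3
          calc y * x = (x * y * x⁻¹ * y⁻¹)⁻¹ * (x * y) := by group
            _ = x * y := by rw [h3, inv_one, one_mul]
        have : x ∈ N ⊓ Subgroup.center H := Subgroup.mem_inf.mpr ⟨hxN, hxc⟩
        rw [hbot, Subgroup.mem_bot] at this
        exact this
      · exact ih hk
  apply key n
  rw [hn, inf_top_eq]
  exact hN

theorem hp_normal {G : Type*} [Group G] (p : ℕ) :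
    (Subgroup.closure {g : G | g ^ p ≠ 1}).Normal := by
  constructor
  intro h hh g
  induction hh using Subgroup.closure_induction with
  | mem x hx =>
    apply Subgroup.subset_closure
    show (g * x * g⁻¹) ^ p ≠ 1
    rw [conj_pow]
    intro h1
    apply hx
    have : x ^ p = g⁻¹ * (g * x ^ p * g⁻¹) * g := by group
    rw [this, h1]; group
  | one => simp
  | mul a b _ _ iha ihb =>
    have : g * (a * b) * g⁻¹ = (g * a * g⁻¹) * (g * b * g⁻¹) := by group
    rw [this]; exact Subgroup.mul_mem _ iha ihb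
  | inv a _ iha =>
    have : g * a⁻¹ * g⁻¹ = (g * a * g⁻¹)⁻¹ := by group
    rw [this]; exact Subgroup.inv_mem _ iha


/-- Let G be a finite group and p a prime such that G is not a p-group, and suppose the Hughes subgroup H_p(G), generated by all elements g with g^p ≠ 1, is a proper subgroup. Then H_p(G) is nilpotent and has index p in G. -/
theorem result {G : Type*} [Group G] [Finite G] (p : ℕ) (hp : p.Prime) (hG : ¬ IsPGroup p G)
    (hH : Subgroup.closure {g : G | g ^ p ≠ 1} ≠ ⊤) :
    Group.IsNilpotent (Subgroup.closure {g : G | g ^ p ≠ 1}) ∧ (Subgroup.closure {g : G | g ^ p ≠ 1}).index = p := by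
  classical
  haveI : Fact p.Prime := ⟨hp⟩
  have hHn : (Subgroup.closure {g : G | g ^ p ≠ 1}).Normal := hp_normal p
  have hout : ∀ g : G, g ∉ Subgroup.closure {g : G | g ^ p ≠ 1} → g ^ p = 1 := by
    intro g hg
    by_contra h
    exact hg (Subgroup.subset_closure h)
  generalize Subgroup.closure {g : G | g ^ p ≠ 1} = H at hH hHn hout ⊢
  haveI := hHn
  have hnil : Group.IsNilpotent H := by
    obtain ⟨x, hx⟩ : ∃ x : G, x ∉ H := by
      by_contra hall
      push Not at hall
      exact hH (eq_top_iff.mpr (fun g _ => hall g))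
    exact kegel_aux p hp _ H rfl _
      (hg_kspl p H hout H le_rfl x hx (fun a ha => hHn.conj_mem a ha x))
  refine ⟨hnil, ?_⟩
  have hquot : IsPGroup p (G ⧸ H) := by
    intro g
    obtain ⟨g, rfl⟩ := QuotientGroup.mk_surjective g
    refine ⟨1, ?_⟩
    rw [pow_one, ← QuotientGroup.mk_pow]
    by_cases hg : g ∈ H
    · exact (QuotientGroup.eq_one_iff _).mpr (H.pow_mem hg p)
    · rw [hout g hg]; rfl
  haveI : Nontrivial (G ⧸ H) := by
    apply Finite.one_lt_card_iff_nontrivial.mp
    rw [← Subgroup.index_eq_card]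
    have h1 : H.index ≠ 0 := Subgroup.index_ne_zero_of_finite
    have h2 : H.index ≠ 1 := mt Subgroup.index_eq_one.mp hH
    omega
  haveI := hquot.center_nontrivial
  obtain ⟨⟨yb, hyb⟩, hyb1⟩ := exists_ne (1 : Subgroup.center (G ⧸ H))
  obtain ⟨y, rfl⟩ := QuotientGroup.mk_surjective yb
  have hyH : y ∉ H := fun h => hyb1 (Subtype.ext ((QuotientGroup.eq_one_iff y).mpr h))
  by_cases htop : Subgroup.zpowers (y : G ⧸ H) = ⊤
  · have h1 : Nat.card (G ⧸ H) = orderOf (y : G ⧸ H) := by
      rw [← Nat.card_zpowers, htop, Subgroup.card_top]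
    rw [Subgroup.index_eq_card, h1]
    apply orderOf_eq_prime
    · rw [← QuotientGroup.mk_pow, hout y hyH]; rfl
    · exact fun h => hyH ((QuotientGroup.eq_one_iff y).mp h)
  · exfalso
    obtain ⟨xb, hxb⟩ : ∃ xb : G ⧸ H, xb ∉ Subgroup.zpowers (y : G ⧸ H) := by
      by_contra hall
      push Not at hall
      exact htop (eq_top_iff.mpr fun g _ => hall g)
    obtain ⟨x, rfl⟩ := QuotientGroup.mk_surjective xb
    have hyx : ∀ j : ℕ, y ^ j * x ∉ H := by
      intro j hmem
      apply hxb
      have h1 : ((y ^ j * x : G) : G ⧸ H) = 1 := (QuotientGroup.eq_one_iff _).mpr hmem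
      rw [QuotientGroup.mk_mul, QuotientGroup.mk_pow] at h1
      have h2 : (x : G ⧸ H) = ((y : G ⧸ H) ^ j)⁻¹ := eq_inv_of_mul_eq_one_right h1
      rw [h2]
      exact Subgroup.inv_mem _ (Subgroup.pow_mem _ (Subgroup.mem_zpowers _) j)
    have hxH : x ∉ H := by simpa using hyx 0
    have hcomm : x * y * x⁻¹ * y⁻¹ ∈ H := by
      rw [← QuotientGroup.eq_one_iff]
      have h1 := Subgroup.mem_center_iff.mp hyb (x : G ⧸ H)
      simp only [QuotientGroup.mk_mul, QuotientGroup.mk_inv]
      rw [h1]; group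
    have hHp : ¬ IsPGroup p H := by
      intro hHp
      apply hG
      intro g
      by_cases hg : g ∈ H
      · obtain ⟨k, hk⟩ := hHp ⟨g, hg⟩
        exact ⟨k, congrArg Subtype.val hk⟩
      · exact ⟨1, by rw [pow_one]; exact hout g hg⟩
    obtain ⟨q, hq, hqp, hqdvd⟩ : ∃ q : ℕ, q.Prime ∧ q ≠ p ∧ q ∣ Nat.card H := by
      by_contra hall
      push Not at hall
      apply hHp
      apply IsPGroup.of_card (n := (Nat.card H).primeFactorsList.length)
      apply Nat.eq_prime_pow_of_unique_prime_dvd Nat.card_pos.ne'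
      intro d hd hdvd
      by_contra hne
      exact hall d hd hne hdvd
    haveI : Fact q.Prime := ⟨hq⟩
    obtain ⟨Q⟩ : Nonempty (Sylow q H) := inferInstance
    have hallS : ∀ (s : ℕ) (_ : Fact s.Prime) (R : Sylow s H), (R : Subgroup H).Normal :=
      ((Group.isNilpotent_of_finite_tfae (G := H)).out 0 3).mp hnil
    have hQn : (Q : Subgroup H).Normal := hallS q inferInstance Q
    have hQne : (Q : Subgroup H) ≠ ⊥ := Sylow.ne_bot_of_dvd_card Q hqdvd
    haveI := hQn
    have hQZ := nil_inf_center_ne_bot hnil (Q : Subgroup H) hQne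
    haveI hQchar : (Q : Subgroup H).Characteristic := Sylow.characteristic_of_normal Q hQn
    have hA1n : ((Q : Subgroup H).map H.subtype).Normal := inferInstance
    have hA2n : ((Subgroup.center H).map H.subtype).Normal := inferInstance
    obtain ⟨A, hAdef⟩ : ∃ A : Subgroup G,
        A = (Q : Subgroup H).map H.subtype ⊓ (Subgroup.center H).map H.subtype := ⟨_, rfl⟩
    have hAn : A.Normal := by rw [hAdef]; infer_instance
    have hAH : A ≤ H := by rw [hAdef]; exact inf_le_left.trans (Subgroup.map_subtype_le _)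
    have hAne : A ≠ ⊥ := by
      obtain ⟨⟨w, hw⟩, hw1⟩ := (Subgroup.ne_bot_iff_exists_ne_one).mp hQZ
      obtain ⟨hwQ, hwZ⟩ := Subgroup.mem_inf.mp hw
      intro hbot
      have hwA : (w : G) ∈ A := by
        rw [hAdef]
        exact Subgroup.mem_inf.mpr ⟨Subgroup.mem_map_of_mem _ hwQ, Subgroup.mem_map_of_mem _ hwZ⟩
      rw [hbot, Subgroup.mem_bot] at hwA
      exact hw1 (Subtype.ext (Subtype.ext hwA))
    have hAcen : ∀ a ∈ A, ∀ h ∈ H, h * a = a * h := by
      intro a ha h hh
      rw [hAdef] at ha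
      obtain ⟨w, hwZ, rfl⟩ := (Subgroup.mem_inf.mp ha).2
      have h1 := Subgroup.mem_center_iff.mp hwZ ⟨h, hh⟩
      exact congrArg Subtype.val h1
    have hAab : ∀ a ∈ A, ∀ b ∈ A, a * b = b * a := fun a ha b hb => hAcen b hb a (hAH ha)
    have hAcop : (Nat.card A).Coprime p := by
      have h1 : Nat.card A ∣ Nat.card ((Q : Subgroup H).map H.subtype) := by
        rw [hAdef]; exact Subgroup.card_dvd_of_le inf_le_left
      rw [Subgroup.card_map_of_injective H.subtype_injective, Sylow.card_eq_multiplicity] at h1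
      exact Nat.Coprime.coprime_dvd_left h1
        (Nat.Coprime.pow_left _ ((Nat.coprime_primes hq hp).mpr hqp))
    let _ : CommGroup A :=
      { (inferInstance : Group A) with mul_comm := fun a b => Subtype.ext (hAab a a.2 b b.2) }
    have hinv : ∀ g : G, ∀ a ∈ A, (MulAut.conj g).toMonoidHom a ∈ A :=
      fun g a ha => hAn.conj_mem a ha g
    have hfun : ∀ j : ℕ, ((tfRes (MulAut.conj y).toMonoidHom A (hinv y) : A → A)^[j] ∘
        (tfRes (MulAut.conj x).toMonoidHom A (hinv x))) =
        ⇑(tfRes (MulAut.conj (y ^ j * x)).toMonoidHom A (hinv (y ^ j * x))) := by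
      intro j
      funext w
      apply Subtype.ext
      rw [Function.comp_apply, tfRes_iterate, hg_conj_iter]
      show y ^ j * (x * w * x⁻¹) * (y ^ j)⁻¹ = (y ^ j * x) * w * (y ^ j * x)⁻¹
      group
    have hycen : ∀ a : A, tfRes (MulAut.conj y).toMonoidHom A (hinv y) a = a := by
      intro a
      refine kg_zabs (tfRes (MulAut.conj y).toMonoidHom A (hinv y))
        (tfRes (MulAut.conj x).toMonoidHom A (hinv x)) p hp ?_ ?_ ?_ ?_ hAcop a
      · intro v
        apply Subtype.ext
        show y * (x * (v : G) * x⁻¹) * y⁻¹ = x * (y * (v : G) * y⁻¹) * x⁻¹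
        have hv' : y * (x * (v : G) * x⁻¹) * y⁻¹ ∈ A :=
          hAn.conj_mem _ (hAn.conj_mem _ v.2 x) y
        have hc2 := hAcen _ hv' (x * y * x⁻¹ * y⁻¹) hcomm
        calc y * (x * (v : G) * x⁻¹) * y⁻¹
            = ((y * (x * (v : G) * x⁻¹) * y⁻¹) * (x * y * x⁻¹ * y⁻¹)) *
                (x * y * x⁻¹ * y⁻¹)⁻¹ := by group
          _ = ((x * y * x⁻¹ * y⁻¹) * (y * (x * (v : G) * x⁻¹) * y⁻¹)) *
                (x * y * x⁻¹ * y⁻¹)⁻¹ := by rw [hc2]
          _ = x * (y * (v : G) * y⁻¹) * x⁻¹ := by group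
      · exact (hg_kspl p H hout A hAH x hxH (hinv x)).1
      · have h1 := hfun 1
        rw [Function.iterate_one] at h1
        rw [h1]
        exact (hg_kspl p H hout A hAH (y ^ 1 * x) (hyx 1) (hinv _)).1
      · intro j w
        rw [hfun j]
        exact (hg_kspl p H hout A hAH (y ^ j * x) (hyx j) (hinv _)).2 w
    apply hAne
    rw [Subgroup.eq_bot_iff_forall]
    intro a ha
    have h1 : y * a * y⁻¹ = a := congrArg Subtype.val (hycen ⟨a, ha⟩)
    have h2 : Commute a y := by
      show a * y = y * a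
      calc a * y = (y * a * y⁻¹) * y := by rw [h1]
        _ = y * a := by group
    have h3 : (a * y) ^ p = 1 :=
      hout _ (fun hmem => hyH ((Subgroup.mul_mem_cancel_left H (hAH ha)).mp hmem))
    rw [h2.mul_pow, hout y hyH, mul_one] at h3
    have h4 : orderOf a ∣ p := orderOf_dvd_of_pow_eq_one h3
    have h5 : orderOf a ∣ Nat.card A := Subgroup.orderOf_dvd_natCard A ha
    exact orderOf_eq_one_iff.mp (Nat.eq_one_of_dvd_coprimes hAcop h5 h4)

end Cfsg.Agent.S4249
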