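import Cfsg.Statements.S0541
import Mathlib
import Cfsg.Agent.Lib.Helper9.Wielandt

set_option autoImplicit false
open Pointwise
open Cfsg

namespace Cfsg.Agent.S0541


open Subgroup
open scoped Pointwise
open Cfsg.Agent.Lib.Helper9

section
variable {G : Type*} [Group G]

/-- The subgroup generated by the conjugates of `Z` contained in `Q`. -/
def wcl (Z Q : Subgroup G) : Subgroup G :=
  ⨆ g ∈ {g : G | MulAut.conj g • Z ≤ Q}, MulAut.conj g • Z

theorem wcl_le (Z Q : Subgroup G) : wcl Z Q ≤ Q := iSup₂_le (fun _ hg => hg)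

theorem le_wcl (Z Q : Subgroup G) (g : G) (hg : MulAut.conj g • Z ≤ Q) :
    MulAut.conj g • Z ≤ wcl Z Q :=
  le_iSup₂ (f := fun g (_ : g ∈ {g : G | MulAut.conj g • Z ≤ Q}) => MulAut.conj g • Z) g hg

theorem wcl_mono (Z : Subgroup G) {Q₁ Q₂ : Subgroup G} (h : Q₁ ≤ Q₂) : wcl Z Q₁ ≤ wcl Z Q₂ :=
  iSup₂_le (fun g hg => le_wcl Z Q₂ g (le_trans hg h))

theorem lt_normalizer_inf_of_lt [Finite G] (p : ℕ) [Fact p.Prime] {Q P : Subgroup G}
    (hP : IsPGroup p P) (hQP : Q < P) : Q < normalizer (Q : Set G) ⊓ P := by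
  have : Group.IsNilpotent P := hP.isNilpotent
  have hnc := Group.normalizerCondition_of_isNilpotent (G := P)
  have hlt : Q.subgroupOf P < ⊤ := by
    rw [lt_top_iff_ne_top, Ne, Subgroup.subgroupOf_eq_top]
    exact not_le_of_gt hQP
  have h1 := hnc _ hlt
  obtain ⟨x, hxN, hxQ⟩ := SetLike.exists_of_lt h1
  have h2 := (Subgroup.le_normalizer_map (H := Q.subgroupOf P) P.subtype)
  rw [map_subgroupOf_eq_of_le hQP.le] at h2
  have hx1 : (x : G) ∈ normalizer (Q : Set G) := h2 (Subgroup.mem_map_of_mem _ hxN)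
  refine lt_of_le_of_ne (le_inf le_normalizer hQP.le) ?_
  intro heq
  apply hxQ
  rw [mem_subgroupOf, heq]
  exact ⟨hx1, x.2⟩

end


/-- Let Z and Y be subgroups of a finite group G and p a prime. Suppose that for every g in G the subgroup generated by the conjugates of g Z g⁻¹ under Y is a p-group. Then there is a Sylow p-subgroup P of G such that Y normalizes the subgroup generated by all conjugates of Z contained in P. -/
theorem result {G : Type*} [Group G] [Finite G] (p : ℕ) [Fact p.Prime] (Z Y : Subgroup G) (h : ∀ g : G, IsPGroup p ↥(⨆ y ∈ Y, MulAut.conj (y * g) • Z)) : ∃ P : Sylow p G, Y ≤ Subgroup.normalizer ((⨆ g ∈ {g : G | MulAut.conj g • Z ≤ (P : Subgroup G)}, MulAut.conj g • Z : Subgroup G) : Set G) := by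
  classical
  have hbot : (⊥ : Subgroup G) ∈ {T : Subgroup G |
      IsPGroup p T ∧ Y ≤ normalizer (T : Set G) ∧ wcl Z T = T} := by
    refine ⟨IsPGroup.of_bot, ?_, le_bot_iff.mp (wcl_le Z ⊥)⟩
    intro y _
    rw [mem_normalizer_iff]
    intro x
    simp
  obtain ⟨T, -, hTmax⟩ := Finite.exists_le_maximal (p := (· ∈ {T : Subgroup G |
      IsPGroup p T ∧ Y ≤ normalizer (T : Set G) ∧ wcl Z T = T})) hbot
  obtain ⟨hTp, hTY, hTw⟩ := hTmax.prop
  obtain ⟨P, hTP⟩ := hTp.exists_le_sylow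
  refine ⟨P, ?_⟩
  have claim : ∀ g : G, MulAut.conj g • Z ≤ (P : Subgroup G) → MulAut.conj g • Z ≤ T := by
    by_contra hcon
    have hcon' : ∃ g₀ : G, MulAut.conj g₀ • Z ≤ (P : Subgroup G) ∧ ¬ MulAut.conj g₀ • Z ≤ T := by
      by_contra h'
      apply hcon
      intro g hg
      by_contra h''
      exact h' ⟨g, hg, h''⟩
    obtain ⟨g₀, hg₀P, hg₀T⟩ := hcon'
    have hTQ : T ∈ {Q : Subgroup G | T ≤ Q ∧ Q ≤ (P : Subgroup G) ∧
        ∀ g : G, MulAut.conj g • Z ≤ Q → MulAut.conj g • Z ≤ T} := ⟨le_rfl, hTP, fun g hg => hg⟩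
    obtain ⟨Q, -, hQmax⟩ := Finite.exists_le_maximal (p := (· ∈ {Q : Subgroup G |
        T ≤ Q ∧ Q ≤ (P : Subgroup G) ∧
        ∀ g : G, MulAut.conj g • Z ≤ Q → MulAut.conj g • Z ≤ T})) hTQ
    obtain ⟨hTQ', hQP, hQprop⟩ := hQmax.prop
    have hQltP : Q < (P : Subgroup G) :=
      lt_of_le_of_ne hQP (fun heq => hg₀T (hQprop g₀ (heq ▸ hg₀P)))
    have hQN := lt_normalizer_inf_of_lt p P.isPGroup' hQltP
    have hNnot : ¬ (∀ g : G, MulAut.conj g • Z ≤ normalizer (Q : Set G) ⊓ (P : Subgroup G) →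
        MulAut.conj g • Z ≤ T) := by
      intro hall
      have hmem : normalizer (Q : Set G) ⊓ (P : Subgroup G) ∈ {Q : Subgroup G |
          T ≤ Q ∧ Q ≤ (P : Subgroup G) ∧
          ∀ g : G, MulAut.conj g • Z ≤ Q → MulAut.conj g • Z ≤ T} :=
        ⟨hTQ'.trans hQN.le, inf_le_right, hall⟩
      exact (not_le_of_gt hQN) (hQmax.2 hmem hQN.le)
    have hex : ∃ g : G, MulAut.conj g • Z ≤ normalizer (Q : Set G) ⊓ (P : Subgroup G) ∧
        ¬ MulAut.conj g • Z ≤ T := by
      by_contra h'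
      apply hNnot
      intro g hg
      by_contra h''
      exact h' ⟨g, hg, h''⟩
    obtain ⟨g, hgN, hgT⟩ := hex
    have hXT : MulAut.conj g • Z ≤ normalizer (T : Set G) := by
      intro x hx
      have hxQ : x ∈ normalizer (Q : Set G) := (hgN hx).1
      apply mem_normalizer_of_conj_smul_le
      rw [conj_smul_le_iff]
      have h1 : wcl Z T ≤ MulAut.conj x⁻¹ • T := by
        apply iSup₂_le
        intro g' hg'
        rw [← conj_smul_le_iff, ← conj_smul_smul]
        apply hQprop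
        rw [conj_smul_smul]
        calc MulAut.conj x • MulAut.conj g' • Z ≤ MulAut.conj x • Q :=
              Subgroup.pointwise_smul_le_pointwise_smul_iff.mpr (le_trans hg' hTQ')
          _ = Q := conj_smul_eq_self_iff_mem_normalizer.mpr hxQ
      rwa [hTw] at h1
    have hR := h g
    have hRT : (⨆ y ∈ Y, MulAut.conj (y * g) • Z) ≤ normalizer (T : Set G) := by
      apply iSup₂_le
      intro y hy x hx
      rw [conj_smul_smul, mem_conj_smul_iff] at hx
      have h1 := hXT hx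
      have : x = y * (y⁻¹ * x * y) * y⁻¹ := by group
      rw [this]
      exact Subgroup.mul_mem _ (Subgroup.mul_mem _ (hTY hy) h1) (Subgroup.inv_mem _ (hTY hy))
    have hYR : Y ≤ normalizer ((⨆ y ∈ Y, MulAut.conj (y * g) • Z : Subgroup G) : Set G) := by
      intro y' hy'
      apply mem_normalizer_of_conj_smul_le
      rw [conj_smul_le_iff]
      apply iSup₂_le
      intro y hy
      rw [← conj_smul_le_iff, ← conj_smul_smul, ← mul_assoc]
      exact le_iSup₂ (f := fun y (_ : y ∈ Y) => MulAut.conj (y * g) • Z) (y' * y)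
        (Y.mul_mem hy' hy)
    have hXR : MulAut.conj g • Z ≤ ⨆ y ∈ Y, MulAut.conj (y * g) • Z := by
      have := le_iSup₂ (f := fun y (_ : y ∈ Y) => MulAut.conj (y * g) • Z) 1 Y.one_mem
      simpa using this
    have hRw : ∀ T' : Subgroup G, (⨆ y ∈ Y, MulAut.conj (y * g) • Z) ≤ T' →
        (⨆ y ∈ Y, MulAut.conj (y * g) • Z) ≤ wcl Z T' := fun T' hT' =>
      iSup₂_le (fun y hy => le_wcl Z T' _
        ((le_iSup₂ (f := fun y (_ : y ∈ Y) => MulAut.conj (y * g) • Z) y hy).trans hT'))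
    generalize (⨆ y ∈ Y, MulAut.conj (y * g) • Z) = R at hR hRT hYR hXR hRw
    have hT'p : IsPGroup p ↥(R ⊔ T) := hR.to_sup_of_normal_right' hTp hRT
    have hT'mem : R ⊔ T ∈ {T : Subgroup G |
        IsPGroup p T ∧ Y ≤ normalizer (T : Set G) ∧ wcl Z T = T} := by
      refine ⟨hT'p, (le_inf hYR hTY).trans (normalizer_inf_le_normalizer_sup R T), ?_⟩
      apply le_antisymm (wcl_le Z _)
      refine sup_le (hRw _ le_sup_left) ?_
      calc T = wcl Z T := hTw.symm
        _ ≤ wcl Z (R ⊔ T) := wcl_mono Z le_sup_right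
    have h3 := hTmax.2 hT'mem le_sup_right
    exact hgT (hXR.trans (le_sup_left.trans h3))
  have hWP : wcl Z (P : Subgroup G) = T := by
    apply le_antisymm
    · exact iSup₂_le (fun g hg => claim g hg)
    · calc T = wcl Z T := hTw.symm
        _ ≤ wcl Z P := wcl_mono Z hTP
  show Y ≤ normalizer ((wcl Z (P : Subgroup G) : Subgroup G) : Set G)
  rw [hWP]; exact hTY

end Cfsg.Agent.S0541
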