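import Cfsg.Statements.S0557
import Mathlib
import Cfsg.Agent.Lib.Helper2.FocalCoprime

set_option autoImplicit false
open Cfsg

namespace Cfsg.Agent.S0557


open scoped commutatorElement

open Subgroup in
theorem relIndex_eq_index_of_sup_eq_top {G : Type*} [Group G] [Finite G] (H K : Subgroup G)
    [K.Normal] (h : K ⊔ H = ⊤) : H.relIndex K = H.index := by
  have h1 := relIndex_mul_relIndex (H ⊓ K) H (H ⊔ K) inf_le_left le_sup_left
  have h2 := relIndex_mul_relIndex (H ⊓ K) K (H ⊔ K) inf_le_right le_sup_right
  have h3 : K.relIndex (H ⊔ K) = K.relIndex H := relIndex_sup_right H K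
  have h4 : (H ⊓ K).relIndex H = K.relIndex H := inf_relIndex_left H K
  have h5 : (H ⊓ K).relIndex K = H.relIndex K := inf_relIndex_right H K
  have hne : K.relIndex H ≠ 0 := Subgroup.index_ne_zero_of_finite
  have h7 : K.relIndex H * H.relIndex (H ⊔ K) = K.relIndex H * H.relIndex K := by
    rw [← h4, h1, ← h2, h5, h3, h4, mul_comm]
  have h6 := Nat.eq_of_mul_eq_mul_left (Nat.pos_of_ne_zero hne) h7
  rw [← h6, sup_comm, h, relIndex_top_right]

theorem map_focal_le {G : Type*} [Group G] (K : Subgroup G) (A : Subgroup K) (B : Subgroup G)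
    (hAB : A.map K.subtype ≤ B) :
    (Subgroup.focalSubgroup A).map K.subtype ≤ Subgroup.focalSubgroup B := by
  rw [Subgroup.focalSubgroup_def, MonoidHom.map_closure, Subgroup.closure_le]
  rintro _ ⟨g, ⟨hgA, x, hxA, u, rfl⟩, rfl⟩
  apply Subgroup.subset_closure
  refine ⟨hAB (Subgroup.mem_map_of_mem _ hgA), (x : G), hAB (Subgroup.mem_map_of_mem _ hxA),
    (u : G), ?_⟩
  simp [commutatorElement_def]

theorem map_iterate_focal_le {G : Type*} [Group G] (K : Subgroup G) (n : ℕ) :
    ∀ (A : Subgroup K) (B : Subgroup G), A.map K.subtype ≤ B →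
    ((fun L : Subgroup K => Subgroup.focalSubgroup L)^[n] A).map K.subtype
      ≤ (fun L : Subgroup G => Subgroup.focalSubgroup L)^[n] B := by
  induction n with
  | zero => intro A B h; exact h
  | succ n ih =>
    intro A B h
    rw [Function.iterate_succ_apply, Function.iterate_succ_apply]
    exact ih _ _ (map_focal_le K A B h)

theorem normal_of_normal_hall {G : Type*} [Group G] [Finite G] (K : Subgroup G) [hK : K.Normal]
    (N' : Subgroup K) [N'.Normal] (hcop : (Nat.card N').Coprime N'.index) :
    (N'.map K.subtype).Normal := by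
  constructor
  rintro _ ⟨x, hx, rfl⟩ g
  have hyK : g * (x : G) * g⁻¹ ∈ K := hK.conj_mem _ x.2 g
  refine ⟨⟨_, hyK⟩, ?_, rfl⟩
  rw [SetLike.mem_coe, ← QuotientGroup.eq_one_iff]
  have hx1 : x ^ Nat.card N' = 1 := by
    have h0 : (⟨x, hx⟩ : N') ^ Nat.card N' = 1 := pow_card_eq_one'
    exact congrArg Subtype.val h0
  have h1 : (⟨g * (x : G) * g⁻¹, hyK⟩ : K) ^ Nat.card N' = 1 := by
    apply Subtype.ext
    rw [Subgroup.coe_pow, Subgroup.coe_one]
    show (g * (x : G) * g⁻¹) ^ Nat.card N' = 1
    rw [conj_pow, ← Subgroup.coe_pow, hx1]; simp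
  have h2 : ((⟨_, hyK⟩ : K) : K ⧸ N') ^ Nat.card N' = 1 := by
    rw [← QuotientGroup.mk_pow, h1]; rfl
  have h3 : ((⟨_, hyK⟩ : K) : K ⧸ N') ^ N'.index = 1 := by
    rw [Subgroup.index_eq_card]; exact pow_card_eq_one'
  have h4 : orderOf ((⟨_, hyK⟩ : K) : K ⧸ N') ∣ Nat.gcd (Nat.card N') N'.index :=
    Nat.dvd_gcd (orderOf_dvd_of_pow_eq_one h2) (orderOf_dvd_of_pow_eq_one h3)
  have h5 : Nat.gcd (Nat.card N') N'.index = 1 := hcop
  rw [h5, Nat.dvd_one, orderOf_eq_one_iff] at h4
  exact h4

universe u in
theorem exists_normal_complement_of_focal : ∀ (n : ℕ) (G : Type u) [Group G] [Finite G]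
    (H : Subgroup G), (Nat.card H).Coprime H.index →
    (fun K : Subgroup G => Subgroup.focalSubgroup K)^[n] H = ⊥ →
    ∃ N : Subgroup G, N.Normal ∧ Subgroup.IsComplement' N H := by
  intro n
  induction n with
  | zero =>
    intro G _ _ H hHall hfoc
    rw [Function.iterate_zero, id] at hfoc
    subst hfoc
    exact ⟨⊤, inferInstance, Subgroup.isComplement'_top_bot⟩
  | succ n ih =>
    intro G _ _ H hHall hfoc
    rw [Function.iterate_succ_apply] at hfoc
    have hcop : (Nat.card (H ⧸ H.focalSubgroupOf)).Coprime H.index :=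
      Nat.Coprime.coprime_dvd_left (Subgroup.card_quotient_dvd_card _) hHall
    have hKH : H.transferFocal.ker ⊔ H = ⊤ :=
      Cfsg.Agent.Lib.Helper2.ker_transferFocal_sup_eq_top_of_coprime H hcop
    have hKinf : H.transferFocal.ker ⊓ H = H.focalSubgroup :=
      Cfsg.Agent.Lib.Helper2.ker_transferFocal_inf_eq_of_coprime H hcop
    have hKn : (H.transferFocal.ker).Normal := MonoidHom.normal_ker _
    generalize H.transferFocal.ker = K at hKH hKinf hKn
    have hH₁K : H.focalSubgroup ≤ K := hKinf ▸ inf_le_left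
    have hH₁H : H.focalSubgroup ≤ H := H.focalSubgroup_le
    have hcard₁ : Nat.card ((H.focalSubgroup).subgroupOf K) = Nat.card H.focalSubgroup :=
      Nat.card_congr (Subgroup.subgroupOfEquivOfLe hH₁K).toEquiv
    have hidx₁ : ((H.focalSubgroup).subgroupOf K).index = H.index := by
      show (H.focalSubgroup).relIndex K = _
      rw [← hKinf, inf_comm, Subgroup.inf_relIndex_right]
      exact relIndex_eq_index_of_sup_eq_top H K hKH
    have hdvd : Nat.card H.focalSubgroup ∣ Nat.card H := Subgroup.card_dvd_of_le hH₁H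
    have hHall₁ : (Nat.card ((H.focalSubgroup).subgroupOf K)).Coprime
        ((H.focalSubgroup).subgroupOf K).index := by
      rw [hcard₁, hidx₁]; exact Nat.Coprime.coprime_dvd_left hdvd hHall
    have hfoc₁ : (fun L : Subgroup K => Subgroup.focalSubgroup L)^[n]
        ((H.focalSubgroup).subgroupOf K) = ⊥ := by
      have h1 := map_iterate_focal_le K n ((H.focalSubgroup).subgroupOf K) H.focalSubgroup
        (by rw [Subgroup.subgroupOf_map_subtype]; exact inf_le_left)
      rw [hfoc, le_bot_iff] at h1
      exact (Subgroup.map_eq_bot_iff_of_injective _ K.subtype_injective).mp h1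
    obtain ⟨N', hN'n, hN'c⟩ := ih K ((H.focalSubgroup).subgroupOf K) hHall₁ hfoc₁
    have hcN' : Nat.card N' = H.index := by rw [← hidx₁]; exact hN'c.index_eq_card.symm
    have hiN' : N'.index = Nat.card H.focalSubgroup := by
      rw [← hcard₁]; exact hN'c.symm.index_eq_card
    have hcopN : (Nat.card N').Coprime N'.index := by
      rw [hcN', hiN']; exact (Nat.Coprime.coprime_dvd_left hdvd hHall).symm
    refine ⟨N'.map K.subtype, normal_of_normal_hall K N' hcopN, ?_⟩
    apply Subgroup.isComplement'_of_coprime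
    · rw [Subgroup.card_map_of_injective K.subtype_injective, hcN', mul_comm]
      exact H.card_mul_index
    · rw [Subgroup.card_map_of_injective K.subtype_injective, hcN']; exact hHall.symm


/-- Let H be a subgroup of a finite group G with order coprime to its index. If iterating the focal-subgroup construction starting from H reaches the trivial subgroup after finitely many steps, then H has a normal complement in G. -/
theorem result {G : Type*} [Group G] [Finite G] (H : Subgroup G) (hHall : (Nat.card H).Coprime H.index) (n : ℕ) (hfoc : (fun K : Subgroup G => Subgroup.focalSubgroup K)^[n] H = ⊥) : ∃ N : Subgroup G, N.Normal ∧ Subgroup.IsComplement' N H := by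
  exact exists_normal_complement_of_focal n G H hHall hfoc

end Cfsg.Agent.S0557
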