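import Cfsg.Statements.S0558
import Mathlib
import Cfsg.Agent.S0557
import Cfsg.Agent.S0541
import Cfsg.Agent.Lib.Helper9.Wielandt

set_option autoImplicit false
open Cfsg

namespace Cfsg.Agent.S0558


open Subgroup
open scoped Pointwise commutatorElement
open Cfsg.Agent.Lib.Helper9

section
variable {G : Type*} [Group G] [Finite G]

omit [Finite G] in
theorem sylow_normal_of_normalizer (H : Subgroup G) (p : ℕ) (P : Sylow p H)
    (hN : normalizer (((P : Subgroup H).map H.subtype : Subgroup G) : Set G) = H) :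
    (P : Subgroup H).Normal := by
  constructor
  intro x hx h
  have h1 : (h : G) ∈ normalizer (((P : Subgroup H).map H.subtype : Subgroup G) : Set G) := by
    rw [hN]; exact h.2
  have h2 := (mem_normalizer_iff.mp h1 (x : G)).mp (Subgroup.mem_map_of_mem H.subtype hx)
  obtain ⟨z, hz, hzeq⟩ := h2
  have : z = h * x * h⁻¹ := Subtype.ext (by simpa using hzeq)
  rw [← this]; exact hz

theorem sylow_of_normalizer (H : Subgroup G) (p : ℕ) [Fact p.Prime] (P : Sylow p H)
    (hN : normalizer (((P : Subgroup H).map H.subtype : Subgroup G) : Set G) = H) :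
    ∃ P₁ : Sylow p G, (P₁ : Subgroup G) = (P : Subgroup H).map H.subtype := by
  obtain ⟨P₁, hP₁⟩ := (P.isPGroup'.map H.subtype).exists_le_sylow
  refine ⟨P₁, ?_⟩
  by_contra hne
  have hlt : (P : Subgroup H).map H.subtype < (P₁ : Subgroup G) :=
    lt_of_le_of_ne hP₁ (Ne.symm hne)
  have h1 := Cfsg.Agent.S0541.lt_normalizer_inf_of_lt p P₁.isPGroup' hlt
  rw [hN] at h1
  have h2 : IsPGroup p ((H ⊓ (P₁ : Subgroup G)).subgroupOf H) :=
    (P₁.isPGroup'.to_le inf_le_right).comap_subtype
  have h3 : (P : Subgroup H) ≤ (H ⊓ (P₁ : Subgroup G)).subgroupOf H := by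
    intro x hx
    rw [mem_subgroupOf]
    exact ⟨x.2, hP₁ (Subgroup.mem_map_of_mem H.subtype hx)⟩
  have h4 := P.is_maximal' h2 h3
  have h5 : H ⊓ (P₁ : Subgroup G) = (P : Subgroup H).map H.subtype := by
    rw [← h4, map_subgroupOf_eq_of_le inf_le_left]
  rw [h5] at h1
  exact lt_irrefl _ h1

theorem fusion (H : Subgroup G) (q : ℕ) [Fact q.Prime] (SQ : Sylow q G)
    (hQN : normalizer ((SQ : Subgroup G) : Set G) = H)
    (x u : G) (hx : ∀ b ∈ (SQ : Subgroup G), x * b = b * x)
    (hy : ∀ b ∈ (SQ : Subgroup G), (u * x * u⁻¹) * b = b * (u * x * u⁻¹)) :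
    ∃ h ∈ H, h * x * h⁻¹ = u * x * u⁻¹ := by
  have h1 : (SQ : Subgroup G) ≤ centralizer ({u * x * u⁻¹} : Set G) := by
    intro b hb
    rw [mem_centralizer_iff]
    intro z hz
    rw [Set.mem_singleton_iff] at hz
    rw [hz]; exact hy b hb
  have h2 : ((u • SQ : Sylow q G) : Subgroup G) ≤ centralizer ({u * x * u⁻¹} : Set G) := by
    intro z hz
    rw [Sylow.smul_def, Sylow.pointwise_smul_def, mem_conj_smul_iff] at hz
    rw [mem_centralizer_iff]
    intro w hw
    rw [Set.mem_singleton_iff] at hw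
    rw [hw]
    have h3 := hx _ hz
    calc u * x * u⁻¹ * z = u * (x * (u⁻¹ * z * u)) * u⁻¹ := by group
      _ = u * ((u⁻¹ * z * u) * x) * u⁻¹ := by rw [h3]
      _ = z * (u * x * u⁻¹) := by group
  obtain ⟨c, hc⟩ := MulAction.exists_smul_eq (centralizer ({u * x * u⁻¹} : Set G))
    (SQ.subtype h1) ((u • SQ).subtype h2)
  have hc' : ((c • SQ.subtype h1 : Sylow q (centralizer ({u * x * u⁻¹} : Set G))) :
      Subgroup (centralizer ({u * x * u⁻¹} : Set G))) = ((u • SQ).subtype h2 :
      Sylow q (centralizer ({u * x * u⁻¹} : Set G))) := by rw [hc]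
  rw [Sylow.smul_def, Sylow.pointwise_smul_def, Sylow.coe_subtype, Sylow.coe_subtype,
    Cfsg.Agent.Lib.Helper9.conj_smul_subgroupOf] at hc'
  have h4 := congrArg (Subgroup.map (centralizer ({u * x * u⁻¹} : Set G)).subtype) hc'
  rw [Subgroup.subgroupOf_map_subtype, map_subgroupOf_eq_of_le h2] at h4
  have h5 : ((u • SQ : Sylow q G) : Subgroup G) ≤ MulAut.conj (c : G) • (SQ : Subgroup G) := by
    rw [← h4]; exact inf_le_left
  rw [Sylow.smul_def, Sylow.pointwise_smul_def] at h5
  refine ⟨(c : G)⁻¹ * u, ?_, ?_⟩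
  · rw [← hQN]
    apply mem_normalizer_of_conj_smul_le
    rw [conj_smul_smul, conj_smul_le_iff, inv_inv]
    exact h5
  · have hcc : (u * x * u⁻¹) * (c : G) = (c : G) * (u * x * u⁻¹) :=
      mem_centralizer_iff.mp c.2 (u * x * u⁻¹) (Set.mem_singleton _)
    calc (c : G)⁻¹ * u * x * ((c : G)⁻¹ * u)⁻¹ = (c : G)⁻¹ * ((u * x * u⁻¹) * (c : G)) := by group
      _ = (c : G)⁻¹ * ((c : G) * (u * x * u⁻¹)) := by rw [hcc]
      _ = u * x * u⁻¹ := by group

omit [Finite G] in
theorem focal_le_commutator (H A : Subgroup G)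
    (hfus : ∀ x ∈ A, ∀ u : G, u * x * u⁻¹ ∈ A → ∃ h ∈ H, h * x * h⁻¹ = u * x * u⁻¹) :
    Subgroup.focalSubgroup A ≤ ⁅A, H⁆ := by
  rw [Subgroup.focalSubgroup_def, Subgroup.closure_le]
  rintro g ⟨hgA, x, hxA, u, rfl⟩
  have hy : u * x * u⁻¹ ∈ A := by
    have : u * x * u⁻¹ = (⁅x, u⁆)⁻¹ * x := by rw [commutatorElement_def]; group
    rw [this]; exact A.mul_mem (A.inv_mem hgA) hxA
  obtain ⟨h, hh, heq⟩ := hfus x hxA u hy
  have : ⁅x, u⁆ = ⁅x, h⁆ := by
    rw [commutatorElement_def, commutatorElement_def]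
    have e1 : x * u * x⁻¹ * u⁻¹ = x * (u * x * u⁻¹)⁻¹ := by group
    have e2 : x * h * x⁻¹ * h⁻¹ = x * (h * x * h⁻¹)⁻¹ := by group
    rw [e1, e2, heq]
  rw [SetLike.mem_coe, this]
  exact Subgroup.commutator_mem_commutator hxA hh

omit [Finite G] in
theorem iterate_focal_le (H P' : Subgroup G) (hP'H : P' ≤ H)
    (hfus : ∀ x ∈ P', ∀ u : G, u * x * u⁻¹ ∈ P' → ∃ h ∈ H, h * x * h⁻¹ = u * x * u⁻¹) (n : ℕ) :
    (fun K : Subgroup G => Subgroup.focalSubgroup K)^[n] P' ≤ P' ⊓ H.lowerCentralSeries n := by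
  induction n with
  | zero => exact le_inf le_rfl hP'H
  | succ n ih =>
    rw [Function.iterate_succ_apply']
    refine le_inf ((Subgroup.focalSubgroup_le _).trans (le_inf_iff.mp ih).1) ?_
    rw [Subgroup.lowerCentralSeries_succ]
    refine (focal_le_commutator H _ ?_).trans
      (Subgroup.commutator_mono (le_inf_iff.mp ih).2 le_rfl)
    intro x hx u hu
    exact hfus x ((le_inf_iff.mp ih).1 hx) u ((le_inf_iff.mp ih).1 hu)

end


/-- Let H be a subgroup of a finite group G that is not a Sylow subgroup of G for any prime, and suppose that for every prime p dividing the order of H and every Sylow p-subgroup P of H the normalizer of P in G is exactly H. Then some normal subgroup of G is a complement to H. -/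
theorem result {G : Type*} [Group G] [Finite G] (H : Subgroup G) (hnot : ∀ p : ℕ, p.Prime → ∀ P : Sylow p G, (P : Subgroup G) ≠ H) (hnorm : ∀ p : ℕ, p.Prime → p ∣ Nat.card H → ∀ P : Sylow p H, Subgroup.normalizer (((P : Subgroup H).map H.subtype : Subgroup G) : Set G) = H) : ∃ N : Subgroup G, N.Normal ∧ Subgroup.IsComplement' N H := by
  classical
  have hSylN : ∀ p : ℕ, p.Prime → ∀ P : Sylow p H, (P : Subgroup H).Normal := by
    intro p hp P
    have : Fact p.Prime := ⟨hp⟩
    by_cases hpd : p ∣ Nat.card H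
    · exact sylow_normal_of_normalizer H p P (hnorm p hp hpd P)
    · have hc : Nat.card P = 1 := by
        rw [Sylow.card_eq_multiplicity, Nat.factorization_eq_zero_of_not_dvd hpd, pow_zero]
      have : (P : Subgroup H) = ⊥ := Subgroup.card_eq_one.mp hc
      rw [this]; infer_instance
  have hnil : Group.IsNilpotent H := by
    refine ((Group.isNilpotent_of_finite_tfae (G := H)).out 0 3).mpr ?_
    intro p hp P
    exact hSylN p hp.out P
  obtain ⟨n, hn⟩ := (Subgroup.isNilpotent_iff_lowerCentralSeries H).mp hnil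
  have hper : ∀ p ∈ (Nat.card H).primeFactors, ∃ N : Subgroup G, N.Normal ∧
      N.index = p ^ (Nat.card H).factorization p ∧ (Nat.card N).Coprime p := by
    intro p hp
    have hpp : p.Prime := Nat.prime_of_mem_primeFactors hp
    have hpd : p ∣ Nat.card H := Nat.dvd_of_mem_primeFactors hp
    have : Fact p.Prime := ⟨hpp⟩
    obtain ⟨P⟩ : Nonempty (Sylow p H) := inferInstance
    have hPN := hnorm p hpp hpd P
    obtain ⟨P₁, hP₁⟩ := sylow_of_normalizer H p P hPN
    have hq : ∃ q : ℕ, q.Prime ∧ q ∣ Nat.card H ∧ q ≠ p := by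
      by_contra hcon
      have hall : ∀ {d : ℕ}, d.Prime → d ∣ Nat.card H → d = p := by
        intro d hd hdd
        by_contra hne
        exact hcon ⟨d, hd, hdd, hne⟩
      have hpow := Nat.eq_prime_pow_of_unique_prime_dvd (Nat.card_pos (α := H)).ne' hall
      have hPtop : (P : Subgroup H) = ⊤ := by
        apply Subgroup.eq_top_of_card_eq
        rw [Sylow.card_eq_multiplicity]
        generalize (Nat.card H).primeFactorsList.length = k at hpow
        rw [hpow, Nat.Prime.factorization_pow hpp]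
        simp
      apply hnot p hpp P₁
      rw [hP₁, hPtop, ← MonoidHom.range_eq_map, Subgroup.range_subtype]
    obtain ⟨q, hqp, hqd, hqne⟩ := hq
    have : Fact q.Prime := ⟨hqp⟩
    obtain ⟨Q⟩ : Nonempty (Sylow q H) := inferInstance
    have hQN := hnorm q hqp hqd Q
    obtain ⟨Q₁, hQ₁⟩ := sylow_of_normalizer H q Q hQN
    have hPn := hSylN p hpp P
    have hQn := hSylN q hqp Q
    have hdisj : Disjoint (P : Subgroup H) (Q : Subgroup H) :=
      IsPGroup.disjoint_of_ne p q hqne.symm _ _ P.isPGroup' Q.isPGroup'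
    have hcomm : ∀ a ∈ (P₁ : Subgroup G), ∀ b ∈ (Q₁ : Subgroup G), a * b = b * a := by
      intro a ha b hb
      rw [hP₁] at ha; rw [hQ₁] at hb
      obtain ⟨a', ha', rfl⟩ := ha
      obtain ⟨b', hb', rfl⟩ := hb
      have := Subgroup.commute_of_normal_of_disjoint _ _ hPn hQn hdisj a' b' ha' hb'
      exact congrArg Subtype.val this.eq
    have hfus : ∀ x ∈ (P₁ : Subgroup G), ∀ u : G, u * x * u⁻¹ ∈ (P₁ : Subgroup G) →
        ∃ h ∈ H, h * x * h⁻¹ = u * x * u⁻¹ := by
      intro x hx u hu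
      exact fusion H q Q₁ (hQ₁ ▸ hQN) x u (hcomm x hx) (hcomm _ hu)
    have hP₁H : (P₁ : Subgroup G) ≤ H := by rw [hP₁]; exact map_subtype_le _
    have hfoc : (fun K : Subgroup G => Subgroup.focalSubgroup K)^[n] (P₁ : Subgroup G) = ⊥ := by
      have := iterate_focal_le H (P₁ : Subgroup G) hP₁H hfus n
      rw [hn, inf_bot_eq] at this
      exact le_bot_iff.mp this
    have hHall : (Nat.card (P₁ : Subgroup G)).Coprime (P₁ : Subgroup G).index := by
      obtain ⟨k, hk⟩ := IsPGroup.iff_card.mp P₁.isPGroup'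
      rw [hk]
      exact Nat.Coprime.pow_left k ((Nat.Prime.coprime_iff_not_dvd hpp).mpr P₁.not_dvd_index)
    obtain ⟨N, hNn, hNc⟩ := Cfsg.Agent.S0557.exists_normal_complement_of_focal n G
      (P₁ : Subgroup G) hHall hfoc
    refine ⟨N, hNn, ?_, ?_⟩
    · rw [hNc.symm.index_eq_card, hP₁, Subgroup.card_map_of_injective H.subtype_injective,
        Sylow.card_eq_multiplicity]
    · rw [← hNc.index_eq_card]
      exact ((Nat.Prime.coprime_iff_not_dvd hpp).mpr P₁.not_dvd_index).symm
  choose! Nf hNf using hper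
  have hNn : (⨅ i : (Nat.card H).primeFactors, Nf i).Normal :=
    Subgroup.normal_iInf_normal (fun i => (hNf i i.2).1)
  have hidx : (⨅ i : (Nat.card H).primeFactors, Nf i).index ≤ Nat.card H := by
    calc (⨅ i : (Nat.card H).primeFactors, Nf i).index
        ≤ ∏ i : (Nat.card H).primeFactors, (Nf i).index := Subgroup.index_iInf_le _
      _ = ∏ i : (Nat.card H).primeFactors, (i : ℕ) ^ (Nat.card H).factorization i := by
          apply Finset.prod_congr rfl; intro i _; exact (hNf i i.2).2.1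
      _ = ∏ p ∈ (Nat.card H).primeFactors, p ^ (Nat.card H).factorization p :=
          Finset.prod_coe_sort _ (fun p => p ^ (Nat.card H).factorization p)
      _ = Nat.card H := by
          rw [← Nat.prod_factorization_eq_prod_primeFactors]
          exact Nat.prod_factorization_pow_eq_self (Nat.card_pos.ne')
  have hdisj : (⨅ i : (Nat.card H).primeFactors, Nf i) ⊓ H = ⊥ := by
    rw [eq_bot_iff]
    intro x hx
    rw [mem_bot, ← orderOf_eq_one_iff, Nat.eq_one_iff_not_exists_prime_dvd]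
    intro p hp hpx
    have hxH : orderOf x ∣ Nat.card H := by
      have := orderOf_dvd_natCard (⟨x, hx.2⟩ : H)
      rwa [Subgroup.orderOf_mk] at this
    have hpH : p ∈ (Nat.card H).primeFactors :=
      Nat.mem_primeFactors.mpr ⟨hp, hpx.trans hxH, Nat.card_pos.ne'⟩
    have hxN : x ∈ Nf p := (Subgroup.mem_iInf.mp hx.1) ⟨p, hpH⟩
    have hxN' : orderOf x ∣ Nat.card (Nf p) := by
      have := orderOf_dvd_natCard (⟨x, hxN⟩ : Nf p)
      rwa [Subgroup.orderOf_mk] at this
    have hcop := (hNf p hpH).2.2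
    exact (Nat.Prime.coprime_iff_not_dvd hp).mp hcop.symm (hpx.trans hxN')
  generalize (⨅ i : (Nat.card H).primeFactors, Nf i) = N at hNn hidx hdisj
  have hdvd : Nat.card H ∣ N.index := by
    have h1 : N.relIndex H = Nat.card H := by
      rw [← Subgroup.inf_relIndex_right, hdisj, Subgroup.relIndex_bot_left]
    rw [← h1]; exact Subgroup.relIndex_dvd_index_of_normal N H
  have hidx' : N.index = Nat.card H := Nat.le_antisymm hidx
    (Nat.le_of_dvd (Nat.pos_of_ne_zero Subgroup.index_ne_zero_of_finite) hdvd)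
  refine ⟨N, hNn, Subgroup.isComplement'_of_card_mul_and_disjoint ?_ (disjoint_iff.mpr hdisj)⟩
  rw [← hidx']; exact N.card_mul_index

end Cfsg.Agent.S0558
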