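import Cfsg.Statements.S0566
import Mathlib
import Cfsg.Agent.Lib.Helper9.ConjLemmas
import Cfsg.Agent.Lib.Helper9.Permutable

set_option autoImplicit false
open Pointwise
open Cfsg

namespace Cfsg.Agent.S0566

open Subgroup Cfsg.Agent.Lib.Helper9 in
open scoped Pointwise in
theorem kegel_aux {G : Type*} [Group G] [Finite G] : ∀ (k : ℕ) (A B : Subgroup G),
    Nat.card A + Nat.card B + k = 2 * Nat.card G →
    (∀ x : G, ∃ S : Subgroup G, S ≠ ⊤ ∧
      (S : Set G) = (A : Set G) * ((MulAut.conj x • B : Subgroup G) : Set G)) →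
    normalClosure (A : Set G) = ⊤ → normalClosure (B : Set G) = ⊤ → False := by
  intro k
  induction k using Nat.strong_induction_on with
  | _ k ih =>
    intro A B hk hP hncA hncB
    have hAnn : ¬ A.Normal := by
      intro hn
      have hAtop : A = ⊤ := by rw [← hncA]; exact (normalClosure_eq_self A).symm
      obtain ⟨S, hS, hSc⟩ := hP 1
      apply hS
      rw [eq_top_iff]
      intro g _
      rw [← SetLike.mem_coe, hSc, hAtop]
      exact ⟨g, mem_top g, 1, one_mem _, mul_one g⟩
    have hb : ∃ y : G, ∃ b ∈ (MulAut.conj y • B : Subgroup G), b ∉ normalizer (A : Set G) := by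
      by_contra hcon
      apply hAnn
      rw [← normalizer_eq_top_iff, eq_top_iff, ← hncB]
      unfold normalClosure
      rw [closure_le]
      intro c hc
      rw [Group.mem_conjugatesOfSet_iff] at hc
      obtain ⟨b, hb, hconj⟩ := hc
      rw [isConj_iff] at hconj
      obtain ⟨g, rfl⟩ := hconj
      by_contra hnot
      exact hcon ⟨g, _, conj_mem_conj_smul g hb, hnot⟩
    obtain ⟨y, b, hby, hbN⟩ := hb
    have hAA₁ : A ≤ A ⊔ MulAut.conj b • A := le_sup_left
    have hne : A ≠ A ⊔ MulAut.conj b • A := by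
      intro h
      apply hbN
      apply mem_normalizer_of_conj_smul_le
      calc MulAut.conj b • A ≤ A ⊔ MulAut.conj b • A := le_sup_right
        _ = A := h.symm
    have hcard : Nat.card A < Nat.card (A ⊔ MulAut.conj b • A : Subgroup G) := by
      by_contra hle
      exact hne (eq_of_le_of_card_ge hAA₁ (not_lt.mp hle))
    have hperm : ∀ x : G, ((A ⊔ MulAut.conj b • A : Subgroup G) : Set G) *
        ((MulAut.conj x • B : Subgroup G) : Set G) =
        ((MulAut.conj x • B : Subgroup G) : Set G) * ((A ⊔ MulAut.conj b • A : Subgroup G) : Set G) := by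
      intro x
      apply mul_comm_sup
      · obtain ⟨S, _, hSc⟩ := hP x
        exact mul_comm_of_exists_subgroup ⟨S, hSc⟩
      · obtain ⟨S, _, hSc⟩ := hP (b⁻¹ * x)
        apply mul_comm_of_exists_subgroup
        refine ⟨MulAut.conj b • S, ?_⟩
        have e1 : MulAut.conj x • B = MulAut.conj b • MulAut.conj (b⁻¹ * x) • B := by
          rw [← conj_smul_smul, mul_inv_cancel_left]
        rw [e1]
        simp only [coe_pointwise_smul, hSc, smul_mul']
    have hncA₁ : normalClosure ((A ⊔ MulAut.conj b • A : Subgroup G) : Set G) = ⊤ := by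
      rw [eq_top_iff, ← hncA]; exact normalClosure_mono hAA₁
    have hk₁ : Nat.card (A ⊔ MulAut.conj b • A : Subgroup G) + Nat.card B +
        (2 * Nat.card G - Nat.card (A ⊔ MulAut.conj b • A : Subgroup G) - Nat.card B) =
        2 * Nat.card G := by
      have h1 := card_le_card_group (A ⊔ MulAut.conj b • A)
      have h2 := card_le_card_group B
      omega
    have hlt : 2 * Nat.card G - Nat.card (A ⊔ MulAut.conj b • A : Subgroup G) - Nat.card B < k := by
      omega
    have hnP : ¬ (∀ x : G, ∃ S : Subgroup G, S ≠ ⊤ ∧ (S : Set G) =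
        ((A ⊔ MulAut.conj b • A : Subgroup G) : Set G) *
          ((MulAut.conj x • B : Subgroup G) : Set G)) :=
      fun hP₁ => ih _ hlt _ B hk₁ hP₁ hncA₁ hncB
    have hex : ∃ x : G, (A ⊔ MulAut.conj b • A) ⊔ MulAut.conj x • B = ⊤ := by
      by_contra hcon
      apply hnP
      intro x
      exact ⟨_, fun htop => hcon ⟨x, htop⟩, coe_sup_of_mul_comm (hperm x)⟩
    obtain ⟨x, htop⟩ := hex
    have huniv : ∀ g : G, ∃ a ∈ (A ⊔ MulAut.conj b • A : Subgroup G),
        ∃ c ∈ (MulAut.conj x • B : Subgroup G), g = a * c := by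
      intro g
      have hg : g ∈ (((A ⊔ MulAut.conj b • A) ⊔ MulAut.conj x • B : Subgroup G) : Set G) := by
        rw [htop]; exact mem_top g
      rw [coe_sup_of_mul_comm (hperm x)] at hg
      obtain ⟨a, ha, c, hc, e⟩ := hg
      exact ⟨a, ha, c, hc, e.symm⟩
    obtain ⟨H, hHne, hHc⟩ := hP y
    have hAH : A ≤ H := by
      intro a ha
      rw [← SetLike.mem_coe, hHc]
      exact ⟨a, ha, 1, one_mem _, mul_one a⟩
    have hByH : MulAut.conj y • B ≤ H := by
      intro c hc
      rw [← SetLike.mem_coe, hHc]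
      exact ⟨1, one_mem _, c, hc, one_mul c⟩
    have hbH : b ∈ H := hByH hby
    have hA₁H : A ⊔ MulAut.conj b • A ≤ H := by
      apply sup_le hAH
      calc MulAut.conj b • A ≤ MulAut.conj b • H := pointwise_smul_le_pointwise_smul_iff.mpr hAH
        _ = H := conj_smul_eq_self_of_mem hbH
    obtain ⟨h, hh, c, hc, hu⟩ := huniv (y * x⁻¹)
    have hBx : MulAut.conj x • B ≤ H := by
      have e1 : MulAut.conj y • B = MulAut.conj h • MulAut.conj x • B := by
        have hy : y = h * c * x := by rw [← hu]; group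
        rw [hy, conj_smul_smul, conj_smul_smul, conj_smul_eq_self_of_mem hc]
      have e2 : MulAut.conj x • B = MulAut.conj h⁻¹ • MulAut.conj y • B := by
        rw [e1, conj_smul_inv_smul]
      rw [e2]
      calc MulAut.conj h⁻¹ • MulAut.conj y • B ≤ MulAut.conj h⁻¹ • H :=
            pointwise_smul_le_pointwise_smul_iff.mpr hByH
        _ = H := conj_smul_eq_self_of_mem (H.inv_mem (hA₁H hh))
    apply hHne
    rw [eq_top_iff]
    intro g _
    obtain ⟨a, ha, c', hc', rfl⟩ := huniv g
    exact H.mul_mem (hA₁H ha) (hBx hc')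


/-- Let A and B be nontrivial subgroups of a finite group G such that for every x the product set of A and xBx⁻¹ is a proper subgroup of G. Then there is a proper normal subgroup of G containing A or containing B. -/
theorem result {G : Type*} [Group G] [Finite G] (A B : Subgroup G) (hA : A ≠ ⊥) (hB : B ≠ ⊥) (h : ∀ x : G, ∃ S : Subgroup G, S ≠ ⊤ ∧ (S : Set G) = (A : Set G) * ((MulAut.conj x • B : Subgroup G) : Set G)) : ∃ N : Subgroup G, N.Normal ∧ N ≠ ⊤ ∧ (A ≤ N ∨ B ≤ N) := by
  by_contra hcon
  have hncA : Subgroup.normalClosure (A : Set G) = ⊤ := by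
    by_contra hne
    exact hcon ⟨_, Subgroup.normalClosure_normal, hne, Or.inl Subgroup.le_normalClosure⟩
  have hncB : Subgroup.normalClosure (B : Set G) = ⊤ := by
    by_contra hne
    exact hcon ⟨_, Subgroup.normalClosure_normal, hne, Or.inr Subgroup.le_normalClosure⟩
  have h1 := Subgroup.card_le_card_group A
  have h2 := Subgroup.card_le_card_group B
  exact kegel_aux (2 * Nat.card G - Nat.card A - Nat.card B) A B (by omega) h hncA hncB

end Cfsg.Agent.S0566
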