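import Cfsg.Statements.S0563
import Mathlib
import Cfsg.Agent.Lib.Helper9.KW2
import Cfsg.Agent.Lib.Lead.CharBurnside

set_option autoImplicit false
open Pointwise
open Cfsg

namespace Cfsg.Agent.S0563

open Cfsg.Agent.Lib.Helper9

universe u

theorem nilp_top_solvable {G : Type u} [Group G] (H : Subgroup G) (hH : Group.IsNilpotent H)
    (htop : H = ⊤) : Group.IsSolvable G := by
  subst htop
  have := hH
  have : Group.IsNilpotent G := Group.nilpotent_of_mulEquiv Subgroup.topEquiv
  infer_instance

theorem map_subtype_subgroupOf' {G : Type u} [Group G] (A : Subgroup G) (P : Subgroup A) :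
    (P.map A.subtype).subgroupOf A = P :=
  Subgroup.comap_map_eq_self_of_injective A.subtype_injective P

theorem fac_symm {G : Type u} [Group G] (H K : Subgroup G)
    (hfac : ∀ g : G, ∃ h ∈ H, ∃ k ∈ K, g = h * k) : ∀ g : G, ∃ k ∈ K, ∃ h ∈ H, g = k * h := by
  intro g
  obtain ⟨h, hh, k, hk, e⟩ := hfac g⁻¹
  exact ⟨k⁻¹, K.inv_mem hk, h⁻¹, H.inv_mem hh, by rw [← mul_inv_rev, ← e, inv_inv]⟩

/-- a simple group that is the product of a `p`-group and a nilpotent group of coprime order
is solvable (Burnside) -/
theorem solv_of_pgroup {G : Type u} [Group G] [Finite G] (H K : Subgroup G)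
    (hK : Group.IsNilpotent K) (hH : Group.IsNilpotent H)
    (hcop : (Nat.card H).Coprime (Nat.card K)) (hfac : ∀ g : G, ∃ h ∈ H, ∃ k ∈ K, g = h * k)
    (hsimple : ∀ N : Subgroup G, N.Normal → N = ⊥ ∨ N = ⊤) (p : ℕ) (hp : p.Prime)
    (hHp : IsPGroup p H) : Group.IsSolvable G := by
  by_cases hKb : K = ⊥
  · apply nilp_top_solvable H hH
    rw [eq_top_iff]
    intro g _
    obtain ⟨h, hh, k, hk, rfl⟩ := hfac g
    rw [hKb, Subgroup.mem_bot] at hk
    rw [hk, mul_one]
    exact hh
  · obtain ⟨w, hwK, hw1, hwc⟩ := kw_exists_central_in hK K le_rfl Subgroup.le_normalizer hKb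
    have hle : K ≤ Subgroup.centralizer ({w} : Set G) := by
      intro x hx
      rw [Subgroup.mem_centralizer_singleton_iff]
      exact (hwc x hx).symm
    have hidx : (Subgroup.centralizer ({w} : Set G)).index ∣ Nat.card H := by
      have h1 := Subgroup.index_dvd_of_le hle
      rwa [kw_index_eq K H hcop.symm (fac_symm H K hfac)] at h1
    have := Fact.mk hp
    obtain ⟨a, ha⟩ := IsPGroup.iff_card.mp hHp
    rw [ha] at hidx
    obtain ⟨j, -, hj⟩ := (Nat.dvd_prime_pow hp).mp hidx
    have : IsSimpleGroup G :=
      { exists_pair_ne := ⟨w, 1, hw1⟩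
        eq_bot_or_eq_top_of_normal := hsimple }
    have := Fintype.ofFinite G
    have hprime := Cfsg.Agent.Lib.Lead.prime_card_of_prime_power_class p j hp w hw1 hj
    have := Fact.mk hprime
    have hpg : IsPGroup (Nat.card G) G := IsPGroup.of_card (n := 1) (by rw [pow_one])
    have := hpg.isNilpotent
    infer_instance

/-- Wielandt: a product of two nilpotent subgroups of coprime orders is solvable -/
theorem kw_coprime_aux : ∀ (n : ℕ) (G : Type u) [Group G] [Finite G], Nat.card G = n →
    ∀ H K : Subgroup G, Group.IsNilpotent H → Group.IsNilpotent K →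
    (Nat.card H).Coprime (Nat.card K) → (∀ g : G, ∃ h ∈ H, ∃ k ∈ K, g = h * k) →
    Group.IsSolvable G := by
  intro n
  induction n using Nat.strong_induction_on with
  | _ n IH =>
    intro G _ _ hn H K hH hK hcop hfac
    subst hn
    have hIH : ∀ (X : Type u) [Group X] [Finite X], Nat.card X < Nat.card G →
        ∀ A B : Subgroup X, Group.IsNilpotent A → Group.IsNilpotent B →
        (Nat.card A).Coprime (Nat.card B) → (∀ g : X, ∃ a ∈ A, ∃ b ∈ B, g = a * b) →
        Group.IsSolvable X :=
      fun X _ _ hlt A B hA hB hc hf => IH (Nat.card X) hlt X rfl A B hA hB hc hf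
    by_cases hsimple : ∀ N : Subgroup G, N.Normal → N = ⊥ ∨ N = ⊤
    · by_cases hHp : ∃ p, p.Prime ∧ IsPGroup p H
      · obtain ⟨p, hp, hHp⟩ := hHp
        exact solv_of_pgroup H K hK hH hcop hfac hsimple p hp hHp
      · by_cases hKp : ∃ p, p.Prime ∧ IsPGroup p K
        · obtain ⟨p, hp, hKp⟩ := hKp
          exact solv_of_pgroup K H hH hK hcop.symm (fac_symm H K hfac) hsimple p hp hKp
        · exfalso
          exact KWcfg.false_of_cfg (H := H) (K := K)
            ⟨hfac, hH, hK, hcop, hsimple, kw_ih_sub hIH, fun p hp h => hHp ⟨p, hp, h⟩,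
              fun p hp h => hKp ⟨p, hp, h⟩⟩
    · push Not at hsimple
      obtain ⟨N, hNn, hNb, hNt⟩ := hsimple
      have hfacN : ∀ g ∈ N, ∃ a ∈ N ⊓ H, ∃ b ∈ N ⊓ K, g = a * b := by
        intro g hg
        obtain ⟨h, hh, k, hk, rfl⟩ := hfac g
        have h1 : (QuotientGroup.mk' N h) * (QuotientGroup.mk' N k) = 1 := by
          rw [← map_mul]
          exact (QuotientGroup.eq_one_iff _).mpr hg
        have h2 := eq_inv_of_mul_eq_one_left h1
        have h3 : orderOf (QuotientGroup.mk' N h) ∣ Nat.card H :=
          (orderOf_map_dvd _ _).trans (Subgroup.orderOf_dvd_natCard H hh)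
        have h4 : orderOf (QuotientGroup.mk' N h) ∣ Nat.card K := by
          rw [h2, orderOf_inv]
          exact (orderOf_map_dvd _ _).trans (Subgroup.orderOf_dvd_natCard K hk)
        have h5 := kw_eq_one_of_dvd_coprime hcop h3 h4
        rw [orderOf_eq_one_iff] at h5
        have h6 : h ∈ N := (QuotientGroup.eq_one_iff _).mp h5
        have h7 : k ∈ N := by
          have e : k = h⁻¹ * (h * k) := by group
          rw [e]
          exact N.mul_mem (N.inv_mem h6) hg
        exact ⟨h, ⟨h6, hh⟩, k, ⟨h7, hk⟩, rfl⟩
      have hNs : Group.IsSolvable N := kw_ih_sub hIH N hNt (N ⊓ H) (N ⊓ K) inf_le_left inf_le_left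
        (Cfsg.Agent.S4242.nil_of_le inf_le_right hH) (Cfsg.Agent.S4242.nil_of_le inf_le_right hK)
        (Nat.Coprime.coprime_dvd_left (Subgroup.card_dvd_of_le inf_le_right)
          (Nat.Coprime.coprime_dvd_right (Subgroup.card_dvd_of_le inf_le_right) hcop)) hfacN
      have hlt : Nat.card (G ⧸ N) < Nat.card G := by
        have h1 := N.card_mul_index
        have h2 : 1 < Nat.card N := by
          rcases Nat.lt_or_ge 1 (Nat.card N) with h | h
          · exact h
          · exfalso
            apply hNb
            apply Subgroup.card_eq_one.mp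
            have h0 := Nat.card_pos (α := N)
            omega
        have h3 : 0 < N.index := Nat.pos_of_ne_zero Subgroup.index_ne_zero_of_finite
        show N.index < Nat.card G
        nlinarith
      have hQs : Group.IsSolvable (G ⧸ N) := by
        have := hH
        have := hK
        refine hIH (G ⧸ N) hlt (H.map (QuotientGroup.mk' N)) (K.map (QuotientGroup.mk' N))
          (Group.nilpotent_of_surjective ((QuotientGroup.mk' N).subgroupMap H)
            ((QuotientGroup.mk' N).subgroupMap_surjective H))
          (Group.nilpotent_of_surjective ((QuotientGroup.mk' N).subgroupMap K)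
            ((QuotientGroup.mk' N).subgroupMap_surjective K)) ?_ ?_
        · exact Nat.Coprime.coprime_dvd_left
            (Subgroup.card_dvd_of_surjective _ ((QuotientGroup.mk' N).subgroupMap_surjective H))
            (Nat.Coprime.coprime_dvd_right
              (Subgroup.card_dvd_of_surjective _ ((QuotientGroup.mk' N).subgroupMap_surjective K))
              hcop)
        · intro q
          obtain ⟨g, rfl⟩ := QuotientGroup.mk'_surjective N q
          obtain ⟨h, hh, k, hk, rfl⟩ := hfac g
          exact ⟨_, Subgroup.mem_map_of_mem _ hh, _, Subgroup.mem_map_of_mem _ hk,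
            map_mul _ h k⟩
      have := hNs
      have := hQs
      exact Group.isSolvable_of_ker_le_range N.subtype (QuotientGroup.mk' N)
        (by rw [QuotientGroup.ker_mk', Subgroup.range_subtype])

/-- If a finite group G is the product AB of two nilpotent subgroups of coprime orders, then G is solvable, and for every Sylow p-subgroup P of A and Sylow q-subgroup Q of B the product set PQ is a subgroup. -/
theorem result {G : Type*} [Group G] [Finite G] (A B : Subgroup G) (hA : Group.IsNilpotent A) (hB : Group.IsNilpotent B) (hcop : (Nat.card A).Coprime (Nat.card B)) (hAB : ∀ g : G, ∃ a ∈ A, ∃ b ∈ B, g = a * b) : Group.IsSolvable G ∧ ∀ (p q : ℕ) [Fact p.Prime] [Fact q.Prime] (P : Sylow p A) (Q : Sylow q B), ∃ S : Subgroup G, (S : Set G) = (((P : Subgroup A).map A.subtype : Subgroup G) : Set G) * (((Q : Subgroup B).map B.subtype : Subgroup G) : Set G) := by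
  have hsolv : Group.IsSolvable G := kw_coprime_aux _ G rfl A B hA hB hcop hAB
  refine ⟨hsolv, ?_⟩
  intro p q _ _ P Q
  have hallA : ∀ (r : ℕ) (_ : Fact r.Prime) (R : Sylow r A), (R : Subgroup A).Normal :=
    ((Group.isNilpotent_of_finite_tfae (G := A)).out 0 3).mp hA
  have hallB : ∀ (r : ℕ) (_ : Fact r.Prime) (R : Sylow r B), (R : Subgroup B).Normal :=
    ((Group.isNilpotent_of_finite_tfae (G := B)).out 0 3).mp hB
  have hAh : (Nat.card ((P : Subgroup A).map A.subtype : Subgroup G)).Coprime
      ((P : Subgroup A).map A.subtype : Subgroup G).index := by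
    rw [← Subgroup.relIndex_mul_index (Subgroup.map_subtype_le (P : Subgroup A)),
      kw_index_eq A B hcop hAB, Subgroup.card_map_of_injective A.subtype_injective]
    apply Nat.Coprime.mul_right
    · have e : ((P : Subgroup A).map A.subtype).relIndex A = (P : Subgroup A).index := by
        unfold Subgroup.relIndex
        rw [map_subtype_subgroupOf']
      rw [e]
      exact P.card_coprime_index
    · exact Nat.Coprime.coprime_dvd_left (Subgroup.card_subgroup_dvd_card _) hcop
  have hBh : (Nat.card ((Q : Subgroup B).map B.subtype : Subgroup G)).Coprime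
      ((Q : Subgroup B).map B.subtype : Subgroup G).index := by
    rw [← Subgroup.relIndex_mul_index (Subgroup.map_subtype_le (Q : Subgroup B)),
      kw_index_eq B A hcop.symm (fac_symm A B hAB),
      Subgroup.card_map_of_injective B.subtype_injective]
    apply Nat.Coprime.mul_right
    · have e : ((Q : Subgroup B).map B.subtype).relIndex B = (Q : Subgroup B).index := by
        unfold Subgroup.relIndex
        rw [map_subtype_subgroupOf']
      rw [e]
      exact Q.card_coprime_index
    · exact Nat.Coprime.coprime_dvd_left (Subgroup.card_subgroup_dvd_card _) hcop.symm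
  have key := Cfsg.Agent.S0561.result A B ((P : Subgroup A).map A.subtype)
    ((Q : Subgroup B).map B.subtype) hAB (Subgroup.map_subtype_le _)
    (by rw [map_subtype_subgroupOf']; exact hallA p inferInstance P)
    (Subgroup.map_subtype_le _)
    (by rw [map_subtype_subgroupOf']; exact hallB q inferInstance Q) hAh hBh 1 1
  rw [map_one, one_smul, one_smul] at key
  exact key

end Cfsg.Agent.S0563
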