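import Cfsg.Statements.S0564
import Mathlib
import Cfsg.Agent.S0563
import Cfsg.Agent.S0559
import Cfsg.Agent.S0560
import Cfsg.Agent.S2961
import Cfsg.Agent.Lib.Helper9.Permutable

set_option autoImplicit false
open Cfsg

namespace Cfsg.Agent.S0564

open Cfsg.Agent.Lib.Helper9
open scoped Pointwise

universe u

/-- a subgroup that is the product of two `p`-subgroups is a `p`-group -/
theorem isPGroup_of_mul {G : Type u} [Group G] [Finite G] {p : ℕ} [Fact p.Prime]
    (X Y T : Subgroup G) (hX : IsPGroup p X) (hY : IsPGroup p Y)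
    (hT : (T : Set G) = (X : Set G) * (Y : Set G)) : IsPGroup p T := by
  have hp : p.Prime := Fact.out
  obtain ⟨a, ha⟩ := IsPGroup.iff_card.mp hX
  obtain ⟨b, hb⟩ := IsPGroup.iff_card.mp hY
  have h1 : Nat.card T = Nat.card ((X : Set G) * (Y : Set G) : Set G) := by
    rw [← hT]; rfl
  rw [Subgroup.card_mul_eq_card_subgroup_mul_card_quotient] at h1
  have h2 : ((X : Set G).image ((↑) : G → G ⧸ Y)) = MulAction.orbit X (((1 : G) : G ⧸ Y)) := by
    ext q
    constructor
    · rintro ⟨x, hx, rfl⟩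
      refine ⟨⟨x, hx⟩, ?_⟩
      show (((x * 1 : G)) : G ⧸ Y) = ((x : G) : G ⧸ Y)
      rw [mul_one]
    · rintro ⟨x, rfl⟩
      refine ⟨x, x.2, ?_⟩
      show ((x : G) : G ⧸ Y) = (((x : G) * 1 : G) : G ⧸ Y)
      rw [mul_one]
  have h3 : Nat.card ((X : Set G).image ((↑) : G → G ⧸ Y)) ∣ Nat.card X := by
    rw [h2, Nat.card_coe_set_eq, ← MulAction.index_stabilizer]
    exact Subgroup.index_dvd_card _
  rw [ha] at h3
  obtain ⟨j, -, hj⟩ := (Nat.dvd_prime_pow hp).mp h3
  exact IsPGroup.of_card (n := b + j) (by rw [h1, hb, hj, pow_add])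

theorem kwSy_smul {G : Type u} [Group G] [Finite G] {p : ℕ} [Fact p.Prime] {H : Subgroup G}
    (hH : Group.IsNilpotent H) (x : G) :
    kwSy p (MulAut.conj x • H) = MulAut.conj x • kwSy p H := by
  have hHx : Group.IsNilpotent (MulAut.conj x • H : Subgroup G) := by
    have := hH
    exact Group.nilpotent_of_mulEquiv (Subgroup.equivSMul (MulAut.conj x) H)
  symm
  apply Subgroup.eq_of_le_of_card_ge
  · intro y hy
    rw [mem_conj_smul_iff] at hy
    refine kwSy_mem hHx (mem_conj_smul_iff.mpr (kwSy_le p H hy)) ?_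
    obtain ⟨k, hk⟩ := kw_orderOf_of_isPGroup Fact.out (kwSy_isPGroup p H) hy
    have e := kw_orderOf_conj x⁻¹ y
    rw [inv_inv] at e
    exact ⟨k, by rw [← e, hk]⟩
  · rw [card_conj_smul, kwSy_card, kwSy_card, card_conj_smul]

/-- Sylow subgroups of the two factors permute, and so do all their conjugates -/
theorem perm {G : Type u} [Group G] [Finite G] (A B : Subgroup G) (hA : Group.IsNilpotent A)
    (hB : Group.IsNilpotent B) (hAB : ∀ g : G, ∃ a ∈ A, ∃ b ∈ B, g = a * b) (p : ℕ)
    [Fact p.Prime] (x : G) : ∃ R : Subgroup G, IsPGroup p R ∧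
      (R : Set G) = ((MulAut.conj x • kwSy p A : Subgroup G) : Set G) * (kwSy p B : Set G) := by
  have h1 := (Cfsg.Agent.S0559.result A B (MulAut.conj x • A) B hAB ⟨x, rfl⟩
    ⟨1, by rw [map_one, one_smul]⟩).1
  obtain ⟨P, Q, R, hR⟩ := Cfsg.Agent.S0560.result (MulAut.conj x • A) B h1 p
  have hAx : Group.IsNilpotent (MulAut.conj x • A : Subgroup G) := by
    have := hA
    exact Group.nilpotent_of_mulEquiv (Subgroup.equivSMul (MulAut.conj x) A)
  rw [kwSy_eq_map hAx P, kwSy_eq_map hB Q, kwSy_smul hA x] at hR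
  exact ⟨R, R.isPGroup', hR⟩

/-- the non-coprime case of a minimal counterexample is impossible -/
theorem noncoprime_false {G : Type u} [Group G] [Finite G] (A B : Subgroup G)
    (hA : Group.IsNilpotent A) (hB : Group.IsNilpotent B)
    (hAB : ∀ g : G, ∃ a ∈ A, ∃ b ∈ B, g = a * b) (p : ℕ) [Fact p.Prime]
    (hpA : p ∣ Nat.card A) (hpB : p ∣ Nat.card B)
    (hnosolv : ∀ M : Subgroup G, M.Normal → Group.IsSolvable M → M = ⊥)
    (hinf : ∀ N₁ N₂ : Subgroup G, N₁.Normal → N₂.Normal → N₁ ≠ ⊥ → N₂ ≠ ⊥ → N₁ ⊓ N₂ ≠ ⊥) :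
    False := by
  classical
  have hp : p.Prime := Fact.out
  have hA₀ne : kwSy p A ≠ ⊥ := kwSy_ne_bot hpA
  have hB₀ne : kwSy p B ≠ ⊥ := kwSy_ne_bot hpB
  have hperm := perm A B hA hB hAB p
  have hA₀p : ∀ x : G, IsPGroup p (MulAut.conj x • kwSy p A : Subgroup G) := fun x =>
    IsPGroup.of_card (by rw [card_conj_smul, kwSy_card])
  obtain ⟨Ks, hBK, hKmax⟩ := Finite.exists_le_maximal
    (p := fun K' : Subgroup G => kwSy p B ≤ K' ∧ IsPGroup p K' ∧
      ∀ x : G, ((MulAut.conj x • kwSy p A : Subgroup G) : Set G) * (K' : Set G) =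
        (K' : Set G) * ((MulAut.conj x • kwSy p A : Subgroup G) : Set G))
    (a := kwSy p B) ⟨le_rfl, kwSy_isPGroup p B, fun x => mul_comm_of_exists_subgroup (by
      obtain ⟨R, -, hR⟩ := hperm x
      exact ⟨R, hR⟩)⟩
  obtain ⟨hK1, hKp, hKperm⟩ := hKmax.prop
  have hnorm : ∀ x : G, MulAut.conj x • kwSy p A ≤ Subgroup.normalizer (Ks : Set G) := by
    intro x a ha
    apply mem_normalizer_of_conj_smul_le
    have hTx : ((MulAut.conj x • kwSy p A ⊔ Ks : Subgroup G) : Set G) =
        ((MulAut.conj x • kwSy p A : Subgroup G) : Set G) * (Ks : Set G) :=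
      coe_sup_of_mul_comm (hKperm x)
    have hTp : IsPGroup p (MulAut.conj x • kwSy p A ⊔ Ks : Subgroup G) :=
      isPGroup_of_mul _ _ _ (hA₀p x) hKp hTx
    have hJle : Ks ⊔ MulAut.conj a • Ks ≤ MulAut.conj x • kwSy p A ⊔ Ks := by
      apply sup_le le_sup_right
      intro y hy
      rw [mem_conj_smul_iff] at hy
      have e : y = a * (a⁻¹ * y * a) * a⁻¹ := by group
      rw [e]
      exact Subgroup.mul_mem _ (Subgroup.mul_mem _ (Subgroup.mem_sup_left ha)
        (Subgroup.mem_sup_right hy)) (Subgroup.inv_mem _ (Subgroup.mem_sup_left ha))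
    have hJ : Ks ⊔ MulAut.conj a • Ks ≤ Ks := by
      apply hKmax.le_of_ge ?_ le_sup_left
      refine ⟨hK1.trans le_sup_left, hTp.to_le hJle, ?_⟩
      intro y
      have h1 : (Ks : Set G) * ((MulAut.conj y • kwSy p A : Subgroup G) : Set G) =
          ((MulAut.conj y • kwSy p A : Subgroup G) : Set G) * (Ks : Set G) := (hKperm y).symm
      have h2 : ((MulAut.conj a • Ks : Subgroup G) : Set G) *
          ((MulAut.conj y • kwSy p A : Subgroup G) : Set G) =
          ((MulAut.conj y • kwSy p A : Subgroup G) : Set G) *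
            ((MulAut.conj a • Ks : Subgroup G) : Set G) := by
        symm
        apply mul_comm_of_exists_subgroup
        refine ⟨MulAut.conj a • (MulAut.conj (a⁻¹ * y) • kwSy p A ⊔ Ks), ?_⟩
        rw [kw_conj_smul_mul _ _ _ (coe_sup_of_mul_comm (hKperm (a⁻¹ * y))) a, ← conj_smul_smul,
          mul_inv_cancel_left]
      exact (mul_comm_sup h1 h2).symm
    exact le_sup_right.trans hJ
  have hLn : (Subgroup.normalClosure (kwSy p A : Set G)).Normal := Subgroup.normalClosure_normal
  have hLK : Subgroup.normalClosure (kwSy p A : Set G) ≤ Subgroup.normalizer (Ks : Set G) := by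
    unfold Subgroup.normalClosure
    rw [Subgroup.closure_le]
    intro y hy
    rw [Group.mem_conjugatesOfSet_iff] at hy
    obtain ⟨a, ha, hc⟩ := hy
    obtain ⟨c, hc⟩ := isConj_iff.mp hc
    exact hnorm c (hc ▸ conj_mem_conj_smul c ha)
  have hLne : Subgroup.normalClosure (kwSy p A : Set G) ≠ ⊥ := fun h =>
    hA₀ne (eq_bot_iff.mpr (h ▸ Subgroup.le_normalClosure))
  have hpc : Cfsg.pCore p G = ⊥ := by
    apply hnosolv _ (Cfsg.Agent.Lib.Helper7.pCore_normal p G)
    have := (Cfsg.Agent.Lib.Helper7.pCore_isPGroup p G).isNilpotent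
    infer_instance
  have hLK0 : ∀ y, y ∈ Subgroup.normalClosure (kwSy p A : Set G) → y ∈ Ks → y = 1 := by
    intro y hyL hyK
    have h1 : Subgroup.normalClosure (kwSy p A : Set G) ⊓ Ks ≤ Cfsg.pCore p G :=
      Cfsg.Agent.S2961.le_pCore_of_normal_in_normal
        (Subgroup.normalClosure (kwSy p A : Set G)) _ inf_le_left (by
        intro g hg
        rw [Subgroup.mem_normalizer_iff]
        intro n
        have hg1 := Subgroup.mem_normalizer_iff.mp (hLK hg) n
        constructor
        · intro hn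
          exact ⟨hLn.conj_mem n hn.1 g, hg1.mp hn.2⟩
        · intro hn
          refine ⟨?_, hg1.mpr hn.2⟩
          have h0 := hLn.conj_mem _ hn.1 g⁻¹
          simpa [mul_assoc] using h0)
        (hKp.to_le inf_le_right)
    have h2 := h1 ⟨hyL, hyK⟩
    rw [hpc, Subgroup.mem_bot] at h2
    exact h2
  have hcent : Ks ≤ Subgroup.centralizer
      ((Subgroup.normalClosure (kwSy p A : Set G) : Subgroup G) : Set G) := by
    intro k hk
    rw [Subgroup.mem_centralizer_iff]
    intro l hl
    have h1 : l * k * l⁻¹ * k⁻¹ ∈ Subgroup.normalClosure (kwSy p A : Set G) := by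
      have h0 := hLn.conj_mem l⁻¹ (Subgroup.inv_mem _ hl) k
      have e : l * k * l⁻¹ * k⁻¹ = l * (k * l⁻¹ * k⁻¹) := by group
      rw [e]
      exact Subgroup.mul_mem _ hl h0
    have h2 : l * k * l⁻¹ * k⁻¹ ∈ Ks := by
      have h0 := (Subgroup.mem_normalizer_iff.mp (hLK hl) k).mp hk
      exact Ks.mul_mem h0 (Ks.inv_mem hk)
    have h3 := hLK0 _ h1 h2
    have e : l * k = (l * k * l⁻¹ * k⁻¹) * (k * l) := by group
    rw [e, h3, one_mul]
  have hCn : (Subgroup.centralizer
      ((Subgroup.normalClosure (kwSy p A : Set G) : Subgroup G) : Set G)).Normal :=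
    Subgroup.normal_centralizer
  have hCne : Subgroup.centralizer
      ((Subgroup.normalClosure (kwSy p A : Set G) : Subgroup G) : Set G) ≠ ⊥ := fun h =>
    hB₀ne (eq_bot_iff.mpr (h ▸ hK1.trans hcent))
  apply hinf _ _ hLn hCn hLne hCne
  apply hnosolv _ (Subgroup.normal_inf_normal _ _)
  apply Group.isSolvable_of_comm
  rintro ⟨a, ha⟩ ⟨b, hb⟩
  apply Subtype.ext
  exact Subgroup.mem_centralizer_iff.mp hb.2 a ha.1

theorem card_quot_lt {G : Type u} [Group G] [Finite G] (N : Subgroup G) [N.Normal]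
    (hNb : N ≠ ⊥) : Nat.card (G ⧸ N) < Nat.card G := by
  have h1 := N.card_mul_index
  have h2 : 1 < Nat.card N := by
    rcases Nat.lt_or_ge 1 (Nat.card N) with h | h
    · exact h
    · exfalso
      apply hNb
      apply Subgroup.card_eq_one.mp
      have h0 := Nat.card_pos (α := N)
      omega
  have h3 : 0 < N.index := Nat.pos_of_ne_zero Subgroup.index_ne_zero_of_finite
  show N.index < Nat.card G
  nlinarith

/-- Kegel–Wielandt, by induction on the order -/
theorem kw_aux : ∀ (n : ℕ) (G : Type u) [Group G] [Finite G], Nat.card G = n →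
    ∀ A B : Subgroup G, Group.IsNilpotent A → Group.IsNilpotent B →
    (∀ g : G, ∃ a ∈ A, ∃ b ∈ B, g = a * b) → Group.IsSolvable G := by
  intro n
  induction n using Nat.strong_induction_on with
  | _ n IH =>
    intro G _ _ hn A B hA hB hAB
    subst hn
    by_cases hcop : (Nat.card A).Coprime (Nat.card B)
    · exact (Cfsg.Agent.S0563.result A B hA hB hcop hAB).1
    · obtain ⟨p, hp, hpA, hpB⟩ := Nat.Prime.not_coprime_iff_dvd.mp hcop
      have := Fact.mk hp
      by_contra hG
      have hquot : ∀ (N : Subgroup G) [N.Normal], N ≠ ⊥ → Group.IsSolvable (G ⧸ N) := by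
        intro N hNn hNb
        have hlt : Nat.card (G ⧸ N) < Nat.card G := card_quot_lt N hNb
        have := hA
        have := hB
        refine IH (Nat.card (G ⧸ N)) hlt (G ⧸ N) rfl (A.map (QuotientGroup.mk' N))
          (B.map (QuotientGroup.mk' N))
          (Group.nilpotent_of_surjective ((QuotientGroup.mk' N).subgroupMap A)
            ((QuotientGroup.mk' N).subgroupMap_surjective A))
          (Group.nilpotent_of_surjective ((QuotientGroup.mk' N).subgroupMap B)
            ((QuotientGroup.mk' N).subgroupMap_surjective B)) ?_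
        intro q
        obtain ⟨g, rfl⟩ := QuotientGroup.mk'_surjective N q
        obtain ⟨h, hh, k, hk, rfl⟩ := hAB g
        exact ⟨_, Subgroup.mem_map_of_mem _ hh, _, Subgroup.mem_map_of_mem _ hk, map_mul _ h k⟩
      have hnosolv : ∀ M : Subgroup G, M.Normal → Group.IsSolvable M → M = ⊥ := by
        intro M hMn hMs
        by_contra hMb
        have := hquot M hMb
        exact hG (Group.isSolvable_of_ker_le_range M.subtype (QuotientGroup.mk' M)
          (by rw [QuotientGroup.ker_mk', Subgroup.range_subtype]))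
      have hinf : ∀ N₁ N₂ : Subgroup G, N₁.Normal → N₂.Normal → N₁ ≠ ⊥ → N₂ ≠ ⊥ →
          N₁ ⊓ N₂ ≠ ⊥ := by
        intro N₁ N₂ h1 h2 hb1 hb2 hI
        have := hquot N₁ hb1
        have := hquot N₂ hb2
        apply hG
        apply Group.isSolvable_of_isSolvable_injective
          (f := (QuotientGroup.mk' N₁).prod (QuotientGroup.mk' N₂))
        rw [← MonoidHom.ker_eq_bot_iff, MonoidHom.ker_prod, QuotientGroup.ker_mk',
          QuotientGroup.ker_mk', hI]
      exact noncoprime_false A B hA hB hAB p hpA hpB hnosolv hinf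

/-- The Kegel–Wielandt Theorem: a finite group G = AB with A and B nilpotent subgroups is solvable. -/
theorem result {G : Type*} [Group G] [Finite G] (A B : Subgroup G) (hA : Group.IsNilpotent A) (hB : Group.IsNilpotent B) (hAB : ∀ g : G, ∃ a ∈ A, ∃ b ∈ B, g = a * b) : Group.IsSolvable G := by
  exact kw_aux _ G rfl A B hA hB hAB

end Cfsg.Agent.S0564
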