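import Cfsg.Statements.S1946
import Cfsg.Agent.Lib.Helper9.Stability
import Cfsg.Agent.Lib.Helper9.FrobOmega

set_option autoImplicit false
open Cfsg

namespace Cfsg.Agent.S1946


open Cfsg.Agent.Lib.Helper9 Cfsg.Agent.Lib.Helper2 Cfsg.Agent.Lib.Helper7 Cfsg.Agent.Lib.Helper8
open Subgroup
open scoped Pointwise commutatorElement

universe u

/-- the elements of order dividing `e`, when `x ↦ x ^ e` is multiplicative on `Q`. -/
def omegaSub {G : Type u} [Group G] (Q : Subgroup G) (e : ℕ)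
    (h : ∀ x ∈ Q, ∀ y ∈ Q, (x * y) ^ e = x ^ e * y ^ e) : Subgroup G where
  carrier := {y | y ∈ Q ∧ y ^ e = 1}
  mul_mem' := fun {a b} ha hb =>
    ⟨Q.mul_mem ha.1 hb.1, by rw [h a ha.1 b hb.1, ha.2, hb.2, one_mul]⟩
  one_mem' := ⟨Q.one_mem, one_pow e⟩
  inv_mem' := fun {a} ha => ⟨Q.inv_mem ha.1, by rw [inv_pow, ha.2, inv_one]⟩

theorem frob_step {G : Type u} [Group G] [Finite G] (p : ℕ) [hp : Fact p.Prime] (e : ℕ)
    (hpe : p ∣ e) (hch : p ∣ e.choose 2) (H : Subgroup G) (hH : IsPGroup p H)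
    (hfus : ∀ a ∈ H, a ^ e = 1 → ∀ g : G, g * a * g⁻¹ ∈ H →
      ∃ x ∈ H, g * a * g⁻¹ = x * a * x⁻¹) :
    ∀ (m : ℕ) (Q : Subgroup G), Nat.card Q = m → Q ≤ H →
      ∀ g ∈ normalizer (Q : Set G), (orderOf g).Coprime p → ∀ y ∈ Q, g * y = y * g := by
  intro m
  induction m using Nat.strong_induction_on with
  | _ m ih =>
  intro Q hcard hQH g hg hgp
  have hQ : IsPGroup p Q := hH.to_le hQH
  have hinv : ∀ x ∈ Q, g * x * g⁻¹ ∈ Q := fun x hx => (mem_normalizer_iff.mp hg x).mp hx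
  apply h8_coprime_aut_omega p e hpe hch g (orderOf g) hgp (pow_orderOf_eq_one g) m Q hcard hQ hinv
  intro x₀ hx₀ hx₀e
  by_contra hx₀g
  have hIH : ∀ Q₁ : Subgroup G, Q₁ ≤ Q → Q₁ ≠ Q → g ∈ normalizer (Q₁ : Set G) →
      ∀ y ∈ Q₁, g * y = y * g := by
    intro Q₁ hle hne hgN
    have hlt : Nat.card Q₁ < m := by
      rw [← hcard]
      by_contra hcon
      exact hne (Subgroup.eq_of_le_of_card_ge hle (not_lt.mp hcon))
    exact ih _ hlt Q₁ rfl (hle.trans hQH) g hgN hgp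
  have hQbot : Q ≠ ⊥ := by
    intro hb
    rw [hb, Subgroup.mem_bot] at hx₀
    apply hx₀g; rw [hx₀, mul_one, one_mul]
  have hAQ : zpowers g ≤ normalizer (Q : Set G) := zpowers_le.mpr hg
  obtain ⟨k, hk⟩ := IsPGroup.iff_card.mp hQ
  have hcopA : (Nat.card (zpowers g)).Coprime (Nat.card Q) := by
    rw [Nat.card_zpowers, hk]; exact hgp.pow_right k
  have hsolvA : Group.IsSolvable (zpowers g) ∨ Group.IsSolvable Q := Or.inl inferInstance
  have hpowcomm : ∀ (S : Subgroup G), (∀ y ∈ S, g * y = y * g) → ⁅S, zpowers g⁆ = ⊥ := by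
    intro S hS
    rw [eq_bot_iff, Subgroup.commutator_le]
    intro y hy a ha
    obtain ⟨j, rfl⟩ := mem_zpowers_iff.mp ha
    rw [Subgroup.mem_bot, commutatorElement_eq_one_iff_mul_comm]
    have hc : Commute g y := hS y hy
    exact (hc.zpow_left j).eq.symm
  -- `[Q, g] = Q`
  have hKQ : ⁅Q, zpowers g⁆ = Q := by
    by_contra hne
    have hKle : ⁅Q, zpowers g⁆ ≤ Q := commutator_le_of_le_normalizer hAQ
    have hgK : g ∈ normalizer ((⁅Q, zpowers g⁆ : Subgroup G) : Set G) :=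
      le_normalizer_commutator_right Q (zpowers g) (mem_zpowers g)
    have hbot := hpowcomm _ (hIH _ hKle hne hgK)
    rw [commutator_commutator_eq (zpowers g) Q hAQ hcopA hsolvA] at hbot
    have h1 : ⁅x₀, g⁆ ∈ ⁅Q, zpowers g⁆ := commutator_mem_commutator hx₀ (mem_zpowers g)
    rw [hbot, mem_bot, commutatorElement_eq_one_iff_mul_comm] at h1
    exact hx₀g h1.symm
  -- the "Frattini" subgroup
  obtain ⟨N, hNdef⟩ : ∃ N : Subgroup G, N = Subgroup.closure
      {w | (∃ x ∈ Q, w = x ^ p) ∨ (∃ x ∈ Q, ∃ y ∈ Q, w = x * y * x⁻¹ * y⁻¹)} := ⟨_, rfl⟩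
  have hNQ : N ≤ Q := by
    rw [hNdef]
    refine (Subgroup.closure_le Q).2 ?_
    rintro w (⟨x, hx, rfl⟩ | ⟨x, hx, y, hy, rfl⟩)
    · exact Q.pow_mem hx p
    · exact Q.mul_mem (Q.mul_mem (Q.mul_mem hx hy) (Q.inv_mem hx)) (Q.inv_mem hy)
  have hNinv : ∀ t : G, (∀ x ∈ Q, t * x * t⁻¹ ∈ Q) → ∀ w ∈ N, t * w * t⁻¹ ∈ N := by
    intro t ht w hw
    rw [hNdef] at hw ⊢
    induction hw using Subgroup.closure_induction with
    | mem c hc =>
      apply Subgroup.subset_closure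
      rcases hc with ⟨x, hx, rfl⟩ | ⟨x, hx, y, hy, rfl⟩
      · left
        exact ⟨t * x * t⁻¹, ht x hx, (conj_pow).symm⟩
      · right
        refine ⟨t * x * t⁻¹, ht x hx, t * y * t⁻¹, ht y hy, ?_⟩
        group
    | one => simp
    | mul u v _ _ hu hv =>
      have h1 : t * (u * v) * t⁻¹ = (t * u * t⁻¹) * (t * v * t⁻¹) := by group
      rw [h1]; exact Subgroup.mul_mem _ hu hv
    | inv u _ hu =>
      have h1 : t * u⁻¹ * t⁻¹ = (t * u * t⁻¹)⁻¹ := by group
      rw [h1]; exact Subgroup.inv_mem _ hu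
  have hNne : N ≠ Q := by
    intro hNeq
    have hle : N ≤ (frattini ↥Q).map Q.subtype := by
      rw [hNdef, Subgroup.closure_le]
      rintro w (⟨x, hx, rfl⟩ | ⟨x, hx, y, hy, rfl⟩)
      · exact ⟨⟨x, hx⟩ ^ p,
          Cfsg.Agent.Lib.Helper2.pow_mem_frattini_of_pGroup hQ ⟨x, hx⟩, rfl⟩
      · have h1 : ⁅(⟨x, hx⟩ : ↥Q), ⟨y, hy⟩⁆ ∈ commutator ↥Q :=
          Subgroup.commutator_mem_commutator (Subgroup.mem_top _) (Subgroup.mem_top _)
        exact ⟨⁅(⟨x, hx⟩ : ↥Q), ⟨y, hy⟩⁆,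
          Cfsg.Agent.Lib.Helper2.commutator_le_frattini_of_pGroup hQ h1, rfl⟩
    have htop : frattini ↥Q = ⊤ := by
      rw [eq_top_iff]
      intro y _
      have hy : (y : G) ∈ (frattini ↥Q).map Q.subtype := hle (by rw [hNeq]; exact y.2)
      obtain ⟨z, hz, hzy⟩ := hy
      have hzy' : z = y := Subtype.ext hzy
      rwa [hzy'] at hz
    have hb : (⊥ : Subgroup ↥Q) = ⊤ := frattini_nongenerating (by rw [htop]; simp)
    apply hQbot
    rw [eq_bot_iff]
    intro x hx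
    have h2 : (⟨x, hx⟩ : ↥Q) ∈ (⊥ : Subgroup ↥Q) := by rw [hb]; trivial
    rw [Subgroup.mem_bot] at h2
    rw [Subgroup.mem_bot]
    exact congrArg Subtype.val h2
  have hgN : g ∈ normalizer (N : Set G) := by
    apply mem_normalizer_of_conj_smul_le
    intro x hx
    rw [Cfsg.Agent.Lib.Helper9.mem_conj_smul_iff] at hx
    have h1 := hNinv g hinv _ hx
    have h2 : g * (g⁻¹ * x * g) * g⁻¹ = x := by group
    rw [h2] at h1; exact h1
  have hNc : ∀ w ∈ N, g * w = w * g := hIH N hNQ hNne hgN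
  have hQN : Q ≤ normalizer (N : Set G) := by
    intro t ht
    apply mem_normalizer_of_conj_smul_le
    intro x hx
    rw [Cfsg.Agent.Lib.Helper9.mem_conj_smul_iff] at hx
    have h1 := hNinv t (fun y hy => Q.mul_mem (Q.mul_mem ht hy) (Q.inv_mem ht)) _ hx
    have h2 : t * (t⁻¹ * x * t) * t⁻¹ = x := by group
    rw [h2] at h1; exact h1
  have hNA : ⁅N, zpowers g⁆ = ⊥ := hpowcomm N hNc
  have hQNc : ⁅Q, N⁆ = ⊥ := by
    have h1 : ⁅⁅Q, N⁆, zpowers g⁆ = ⊥ := by
      rw [eq_bot_iff, ← hNA]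
      refine Subgroup.commutator_mono ?_ le_rfl
      rw [Subgroup.commutator_comm]
      exact commutator_le_of_le_normalizer hQN
    have h2 : ⁅⁅N, zpowers g⁆, Q⁆ = ⊥ := by rw [hNA, Subgroup.commutator_bot_left]
    have h3 := Subgroup.commutator_commutator_eq_bot_of_rotate h1 h2
    rw [Subgroup.commutator_comm (zpowers g) Q, hKQ] at h3
    exact h3
  have hNZ : ∀ w ∈ N, ∀ y ∈ Q, w * y = y * w := by
    intro w hw y hy
    have h1 : ⁅y, w⁆ ∈ ⁅Q, N⁆ := commutator_mem_commutator hy hw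
    rw [hQNc, mem_bot, commutatorElement_eq_one_iff_mul_comm] at h1
    exact h1.symm
  have hpowc : ∀ x ∈ Q, ∀ y ∈ Q, (x * y) ^ e = x ^ e * y ^ e := by
    intro x hx y hy
    obtain ⟨c, hc⟩ : ∃ c : G, c = y * x * y⁻¹ * x⁻¹ := ⟨_, rfl⟩
    have hcN : c ∈ N := by
      rw [hc, hNdef]; exact Subgroup.subset_closure (Or.inr ⟨y, hy, x, hx, rfl⟩)
    have hcx : c * x = x * c := hNZ c hcN x hx
    have hcy : c * y = y * c := hNZ c hcN y hy
    have hyx : y * x = c * x * y := by rw [hc]; group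
    have hxpN : x ^ p ∈ N := by
      rw [hNdef]; exact Subgroup.subset_closure (Or.inl ⟨x, hx, rfl⟩)
    have hcp : c ^ p = 1 := by
      have h1 : y * x ^ p * y⁻¹ = x ^ p := by
        have h0 := hNZ (x ^ p) hxpN y hy
        rw [← h0]; group
      have h2 : y * x ^ p * y⁻¹ = (c * x) ^ p := by
        rw [← conj_pow]
        congr 1
        rw [hc]; group
      have h3 : (c * x) ^ p = c ^ p * x ^ p := (show Commute c x from hcx).mul_pow p
      rw [h1, h3] at h2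
      exact mul_eq_right.mp h2.symm
    rw [h8_mul_pow_rel x y c hcx hcy hyx e]
    obtain ⟨t, ht⟩ := hch
    rw [ht, pow_mul, hcp, one_pow, one_mul]
  -- the subgroup of elements of order dividing `e` is everything
  have hΩQ : omegaSub Q e hpowc ≤ Q := fun y hy => hy.1
  have hgΩ : g ∈ normalizer ((omegaSub Q e hpowc : Subgroup G) : Set G) := by
    apply mem_normalizer_of_conj_smul_le
    intro x hx
    rw [Cfsg.Agent.Lib.Helper9.mem_conj_smul_iff] at hx
    have h2 : g * (g⁻¹ * x * g) * g⁻¹ = x := by group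
    refine ⟨?_, ?_⟩
    · have h1 := hinv _ hx.1
      rw [h2] at h1; exact h1
    · have h3 : (g * (g⁻¹ * x * g) * g⁻¹) ^ e = g * (g⁻¹ * x * g) ^ e * g⁻¹ := conj_pow
      rw [h2, hx.2] at h3
      rw [h3]; group
  have hΩeq : omegaSub Q e hpowc = Q := by
    by_contra hne
    exact hx₀g (hIH _ hΩQ hne hgΩ x₀ ⟨hx₀, hx₀e⟩)
  have hye : ∀ y ∈ Q, y ^ e = 1 := by
    intro y hy
    have h1 : y ∈ omegaSub Q e hpowc := by rw [hΩeq]; exact hy
    exact h1.2
  have key := centralizes_of_conj_in H Q hH.isNilpotent hQH g hg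
    (by rw [hk]; exact hgp.pow_right k)
    (fun y hy => hfus y (hQH hy) (hye y hy) g (hQH (hinv y hy)))
  exact hx₀g (key x₀ hx₀)

theorem main {G : Type u} [Group G] [Finite G] {p : ℕ} [Fact p.Prime] (P : Sylow p G) :
    Cfsg.HasNormalPComplement p G ↔
      ∀ a ∈ (P : Subgroup G), (a ^ p = 1 ∨ (p = 2 ∧ a ^ 4 = 1)) → ∀ g : G,
        g * a * g⁻¹ ∈ (P : Subgroup G) → ∃ x ∈ (P : Subgroup G), g * a * g⁻¹ = x * a * x⁻¹ := by
  constructor
  · intro hnpc a ha _ g hga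
    obtain ⟨N, hNn, hc⟩ := exists_isComplement'_of_hasNormalPComplement hnpc P
    have hg : g ∈ N ⊔ (P : Subgroup G) := by rw [hc.sup_eq_top]; exact Subgroup.mem_top g
    obtain ⟨n, hn, x, hx, rfl⟩ := Subgroup.mem_sup_of_normal_left.mp hg
    refine ⟨x, hx, ?_⟩
    have hx' : x * a * x⁻¹ ∈ (P : Subgroup G) :=
      Subgroup.mul_mem _ (Subgroup.mul_mem _ hx ha) (Subgroup.inv_mem _ hx)
    have h1 : n * x * a * (n * x)⁻¹ * (x * a * x⁻¹)⁻¹ ∈ N := by
      have h2 : n * x * a * (n * x)⁻¹ * (x * a * x⁻¹)⁻¹ =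
          n * ((x * a * x⁻¹) * n⁻¹ * (x * a * x⁻¹)⁻¹) := by group
      rw [h2]
      exact N.mul_mem hn (hNn.conj_mem _ (N.inv_mem hn) _)
    have h3 : n * x * a * (n * x)⁻¹ * (x * a * x⁻¹)⁻¹ ∈ (P : Subgroup G) :=
      Subgroup.mul_mem _ hga (Subgroup.inv_mem _ hx')
    have h4 := Subgroup.disjoint_def.mp hc.disjoint h1 h3
    exact mul_inv_eq_one.mp h4
  · intro h
    obtain ⟨e, hpe, hch, he1, he2⟩ := exists_omega_exp p
    have hfus : ∀ a ∈ (P : Subgroup G), a ^ e = 1 → ∀ g : G, g * a * g⁻¹ ∈ (P : Subgroup G) →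
        ∃ x ∈ (P : Subgroup G), g * a * g⁻¹ = x * a * x⁻¹ := by
      intro a ha hae
      apply h a ha
      by_cases h2 : p = 2
      · right; rw [he2 h2] at hae; exact ⟨h2, hae⟩
      · left; rw [he1 h2] at hae; exact hae
    apply Cfsg.Agent.Lib.Helper2.frobenius
    apply frobCond_of_sylow P
    intro Q hQP g hg hgp
    have key := frob_step p e hpe hch (P : Subgroup G) P.isPGroup' hfus _ Q rfl hQP g hg hgp
    rw [Subgroup.mem_centralizer_iff]
    intro y hy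
    exact (key y hy).symm


/-- Let P be a Sylow p-subgroup of the finite group G. Then G has a normal p-complement if and only if P controls the fusion of its elements of order dividing p (dividing 4 when p = 2): whenever such an element a of P has a G-conjugate g a g⁻¹ in P, that conjugate is already x a x⁻¹ for some x in P. -/
theorem result {G : Type*} [Group G] [Finite G] {p : ℕ} [Fact p.Prime] (P : Sylow p G) :
    Cfsg.HasNormalPComplement p G ↔
      ∀ a ∈ (P : Subgroup G), (a ^ p = 1 ∨ (p = 2 ∧ a ^ 4 = 1)) → ∀ g : G, g * a * g⁻¹ ∈ (P : Subgroup G) →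
        ∃ x ∈ (P : Subgroup G), g * a * g⁻¹ = x * a * x⁻¹ := by
  exact main P

end Cfsg.Agent.S1946
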