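import Cfsg.Statements.S0012
-- import your own Cfsg.Agent.* helpers here
import Mathlib.GroupTheory.Nilpotent
import Mathlib.GroupTheory.Sylow
import Mathlib.GroupTheory.SpecificGroups.Cyclic

set_option autoImplicit false
open Cfsg

namespace Cfsg.Agent.S0012

theorem coatom_normal_index {G : Type*} [Group G] [Finite G] (p : ℕ) [Fact p.Prime]
    (hG : IsPGroup p G) (M : Subgroup G) (hM : IsCoatom M) : M.Normal ∧ M.index = p := by
  have hp : p.Prime := Fact.out
  have hnil : Group.IsNilpotent G := hG.isNilpotent
  have hMn : M.Normal :=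
    Subgroup.NormalizerCondition.normal_of_coatom M Group.normalizerCondition_of_isNilpotent hM
  refine ⟨hMn, ?_⟩
  obtain ⟨m, hm⟩ := IsPGroup.iff_card.mp hG
  obtain ⟨n, hn⟩ := IsPGroup.iff_card.mp (hG.to_subgroup M)
  have hlt : n < m := by
    by_contra hlt
    rw [not_lt] at hlt
    apply hM.1
    apply Subgroup.eq_top_of_le_card
    rw [hm, hn]
    exact Nat.pow_le_pow_right hp.pos hlt
  have hdvd : p ^ (n + 1) ∣ Nat.card G := by rw [hm]; exact pow_dvd_pow p hlt
  obtain ⟨K, hK, hMK⟩ := Sylow.exists_subgroup_card_pow_succ hdvd hn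
  have hKtop : K = ⊤ := by
    by_contra hne
    have h1 : ¬ M < K := fun hlt => hne (hM.2 K hlt)
    have hKM : K = M := (eq_of_le_of_not_lt hMK h1).symm
    rw [hKM, hn] at hK
    exact absurd hK (Nat.pow_lt_pow_right hp.one_lt (Nat.lt_succ_self n)).ne
  have hcG : Nat.card G = p ^ (n + 1) := by rw [← hK, hKtop, Subgroup.card_top]
  have h2 := M.card_mul_index
  rw [hn, hcG, pow_succ] at h2
  exact Nat.eq_of_mul_eq_mul_left (pow_pos hp.pos n) h2

theorem coatom_props {G : Type*} [Group G] [Finite G] (p : ℕ) [Fact p.Prime]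
    (hG : IsPGroup p G) (M : Subgroup G) (hM : IsCoatom M) :
    commutator G ≤ M ∧ ∀ x : G, x ^ p ∈ M := by
  obtain ⟨hMn, hidx⟩ := coatom_normal_index p hG M hM
  have hcard : Nat.card (G ⧸ M) = p := by rw [← Subgroup.index_eq_card]; exact hidx
  have hcyc : IsCyclic (G ⧸ M) := isCyclic_of_prime_card hcard
  refine ⟨Subgroup.Normal.quotient_commutative_iff_commutator_le.mp inferInstance, ?_⟩
  intro x
  rw [← QuotientGroup.eq_one_iff (N := M), QuotientGroup.mk_pow, ← hcard]
  exact pow_card_eq_one'

/-- In a finite p-group every commutator and every p-th power lies in the Frattini subgroup, so the Frattini quotient is elementary abelian. -/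
theorem result {G : Type*} [Group G] [Finite G] (p : ℕ) [Fact p.Prime]
    (hG : IsPGroup p G) : commutator G ≤ frattini G ∧ ∀ x : G, x ^ p ∈ frattini G := by
  constructor
  · unfold frattini Order.radical
    simp only [le_iInf_iff]
    intro M hM
    exact (coatom_props p hG M hM).1
  · intro x
    unfold frattini Order.radical
    simp only [Subgroup.mem_iInf]
    intro M hM
    exact (coatom_props p hG M hM).2 x

end Cfsg.Agent.S0012
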