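import Cfsg.Statements.S0016
import Cfsg.Agent.Lib.Helper1.UniqueInv
import Cfsg.Agent.Lib.Helper8.UniqueSub

set_option autoImplicit false
open Cfsg

namespace Cfsg.Agent.S0016

/-- A finite p-group in which only one subgroup has order p is either cyclic or (with p = 2) isomorphic to a generalized quaternion group. -/
theorem result {G : Type*} [Group G] [Finite G] (p : ℕ) [Fact p.Prime]
    (hG : IsPGroup p G) (huniq : ∀ H K : Subgroup G, Nat.card H = p → Nat.card K = p → H = K) :
    IsCyclic G ∨ (p = 2 ∧ ∃ n : ℕ, Nonempty (G ≃* QuaternionGroup (2 ^ n))) := by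
  classical
  have hp : p.Prime := Fact.out
  obtain ⟨m, hm⟩ := IsPGroup.iff_card.mp hG
  by_cases hm1 : m ≤ 1
  · left
    interval_cases m
    · rw [pow_zero] at hm
      haveI : Subsingleton G := (Nat.card_eq_one_iff_unique.mp hm).1
      exact isCyclic_of_subsingleton
    · rw [pow_one] at hm
      exact isCyclic_of_prime_card hm
  · by_cases hp2 : p = 2
    · subst hp2
      have h2 : 2 ∣ Nat.card G := by rw [hm]; exact dvd_pow_self 2 (by omega)
      obtain ⟨z, hz⟩ := exists_prime_orderOf_dvd_card' 2 h2
      have hz2 : z ^ (2:ℤ) = 1 := by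
        rw [zpow_ofNat]
        have h3 := pow_orderOf_eq_one z
        rw [hz] at h3
        exact h3
      have huniq' : ∀ y : G, orderOf y = 2 → y = z := by
        intro y hy
        have h3 := huniq (Subgroup.zpowers y) (Subgroup.zpowers z)
          (by rw [Nat.card_zpowers, hy]) (by rw [Nat.card_zpowers, hz])
        have h4 : y ∈ Subgroup.zpowers z := h3 ▸ Subgroup.mem_zpowers y
        obtain ⟨k, hk⟩ := Subgroup.mem_zpowers_iff.mp h4
        rcases Int.even_or_odd k with ⟨i, hi⟩ | ⟨i, hi⟩
        · exfalso
          have h5 : y = 1 := by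
            rw [← hk, hi, ← two_mul, zpow_mul, hz2, one_zpow]
          rw [h5, orderOf_one] at hy
          omega
        · rw [← hk, hi, zpow_add, zpow_mul, hz2, one_zpow, one_mul, zpow_one]
      rcases Cfsg.Agent.Lib.Helper1.ui_cyclic_or_quat hG z hz huniq' with h | ⟨n, -, hn⟩
      · left; exact h
      · right; exact ⟨rfl, n, hn⟩
    · left
      exact Cfsg.Agent.Lib.Helper8.h8_cyclic_of_unique_subgroup p m 1 hp hm le_rfl (by omega)
        (Or.inl hp2) (fun H K hH hK => huniq H K (by rw [hH, pow_one]) (by rw [hK, pow_one]))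

end Cfsg.Agent.S0016
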