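import Cfsg.Statements.S0042
import Mathlib
import Cfsg.Agent.Lib.Helper9.ThompsonFPF
import Cfsg.Agent.Lib.Helper9.FrobThm
import Cfsg.Agent.Lib.Helper7.FrobCount

set_option autoImplicit false
open Cfsg

namespace Cfsg.Agent.S0042



/-- In a finite Frobenius group, the Frobenius kernel is (the carrier of) a normal subgroup which is nilpotent. -/
theorem result {G : Type*} [Group G] [Finite G] (H : Subgroup G) (hH : Cfsg.IsFrobeniusComplement H) :
    ∃ N : Subgroup G, (N : Set G) = Cfsg.frobeniusKernel H ∧ N.Normal ∧ Group.IsNilpotent N := by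
  classical
  obtain ⟨N, hNK, hNn, hc⟩ := Cfsg.Agent.Lib.Helper9.frobenius_kernel_subgroup H hH
  refine ⟨N, hNK, hNn, ?_⟩
  have hH1 : Nat.card H ≠ 1 := by
    intro h
    exact hH.1 ((Subgroup.card_eq_one).mp h)
  obtain ⟨r, hr, hrdvd⟩ := Nat.exists_prime_and_dvd hH1
  have : Fact r.Prime := ⟨hr⟩
  obtain ⟨h, hh⟩ := exists_prime_orderOf_dvd_card' r hrdvd
  have hne : (h : G) ≠ 1 := by
    intro h1
    have h2 : h = 1 := Subtype.ext h1
    rw [h2, orderOf_one] at hh
    exact hr.one_lt.ne hh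
  have hpow : (h : G) ^ r = 1 := by
    have h1 : h ^ r = 1 := by rw [← hh]; exact pow_orderOf_eq_one h
    have h2 := congrArg Subtype.val h1
    simpa using h2
  let α : N →* N := ((MulAut.conj (h : G)).toMonoidHom.comp N.subtype).codRestrict N
    (fun n => hNn.conj_mem n n.2 h)
  have hα : ∀ n : N, ((α n : N) : G) = (h : G) * n * (h : G)⁻¹ := fun n => rfl
  have hiter : ∀ (k : ℕ) (n : N), ((α^[k] n : N) : G) = (h : G) ^ k * n * ((h : G) ^ k)⁻¹ := by
    intro k
    induction k with
    | zero => intro n; simp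
    | succ k ih =>
      intro n
      rw [Function.iterate_succ_apply', hα, ih, pow_succ']
      group
  refine Cfsg.Agent.Lib.Helper9.thompson_fpf_aux r hr _ N rfl α ?_ ?_
  · intro n hn
    have h1 : (h : G) * n * (h : G)⁻¹ = n := congrArg Subtype.val hn
    have h2 : (n : G)⁻¹ * (h : G) * n = h := by
      calc (n : G)⁻¹ * (h : G) * n = (n : G)⁻¹ * ((h : G) * n * (h : G)⁻¹) * h := by group
        _ = h := by rw [h1]; group
    have h3 : (n : G) ∈ H := Cfsg.Agent.Lib.Helper7.fc_mal H hH n h h.2 hne (by rw [h2]; exact h.2)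
    have h4 : (n : G) ∈ N ⊓ H := Subgroup.mem_inf.mpr ⟨n.2, h3⟩
    rw [hc.disjoint.eq_bot, Subgroup.mem_bot] at h4
    exact Subtype.ext h4
  · funext n
    apply Subtype.ext
    rw [hiter, hpow]
    simp
end Cfsg.Agent.S0042
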