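import Cfsg.Statements.S0038
import Mathlib
import Cfsg.Agent.S0042
import Cfsg.Agent.Lib.Helper8.FrobQuot
import Cfsg.Agent.Lib.Helper7.SZ

set_option autoImplicit false
open Pointwise
open Cfsg

namespace Cfsg.Agent.S0038

open Cfsg.Agent.Lib.Helper9 (frobenius_kernel_subgroup tf_center_ne_bot)
open Cfsg.Agent.Lib.Helper7 (fc_mem_kernel_iff sz_conj)
open Cfsg.Agent.Lib.Helper8 (h8_frob_mem_of_comm h8_frob_kernel_coprime)

theorem zn_normal {G : Type*} [Group G] (K : Subgroup G) (hKn : K.Normal) :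
    (K ⊓ Subgroup.centralizer (K : Set G)).Normal := by
  constructor
  intro v hv g
  obtain ⟨hvK, hvc⟩ := Subgroup.mem_inf.mp hv
  refine Subgroup.mem_inf.mpr ⟨hKn.conj_mem v hvK g, ?_⟩
  rw [Subgroup.mem_centralizer_iff] at hvc ⊢
  intro k hk
  have h1 := hvc (g⁻¹ * k * g) (by have := hKn.conj_mem k hk g⁻¹; simpa using this)
  calc k * (g * v * g⁻¹) = g * ((g⁻¹ * k * g) * v) * g⁻¹ := by group
    _ = g * (v * (g⁻¹ * k * g)) * g⁻¹ := by rw [h1]
    _ = g * v * g⁻¹ * k := by group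

/-- every normal nilpotent subgroup of a Frobenius group lies in the kernel -/
theorem normal_nilp_le {G : Type*} [Group G] [Finite G] (H : Subgroup G)
    (hH : Cfsg.IsFrobeniusComplement H) (N : Subgroup G)
    (hNK : (N : Set G) = Cfsg.frobeniusKernel H) (hNn : N.Normal)
    (hc : Subgroup.IsComplement' N H)
    (M : Subgroup G) (hMn : M.Normal) (hMnil : Group.IsNilpotent M) : M ≤ N := by
  by_contra hle
  obtain ⟨y, hyM, hyN⟩ := SetLike.not_le_iff_exists.mp hle
  have hyK : y ∉ Cfsg.frobeniusKernel H := by rw [← hNK]; exact hyN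
  rw [fc_mem_kernel_iff] at hyK
  push Not at hyK
  obtain ⟨hy1, g, hg⟩ := hyK
  have hxM : g⁻¹ * y * g ∈ M := by have := hMn.conj_mem y hyM g⁻¹; simpa using this
  have hx1 : g⁻¹ * y * g ≠ 1 := by
    intro h
    apply hy1
    have e : y = g * (g⁻¹ * y * g) * g⁻¹ := by group
    rw [e, h]; group
  generalize g⁻¹ * y * g = x at hg hxM hx1
  have hdisj : N ⊓ H = ⊥ := hc.disjoint.eq_bot
  have hNne : N ≠ ⊥ := by
    intro h
    apply hH.2.1
    have h2 := hc.sup_eq_top
    rw [h, bot_sup_eq] at h2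
    exact h2
  have : Nontrivial M := ⟨⟨⟨x, hxM⟩, 1, fun h => hx1 (congrArg Subtype.val h)⟩⟩
  have hZ := tf_center_ne_bot hMnil
  obtain ⟨⟨z, hz⟩, hz1⟩ := (Subgroup.ne_bot_iff_exists_ne_one).mp hZ
  have hzZ : (z : G) ∈ M ⊓ Subgroup.centralizer (M : Set G) := by
    refine Subgroup.mem_inf.mpr ⟨z.2, ?_⟩
    rw [Subgroup.mem_centralizer_iff]
    intro k hk
    have := Subgroup.mem_center_iff.mp hz ⟨k, hk⟩
    exact congrArg Subtype.val this
  have hz1' : (z : G) ≠ 1 := fun h => hz1 (Subtype.ext (Subtype.ext h))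
  have hZn := zn_normal M hMn
  by_cases hZN : (M ⊓ Subgroup.centralizer (M : Set G)) ⊓ N = ⊥
  · have hzN : (z : G) ∉ N := by
      intro h
      have : (z : G) ∈ (M ⊓ Subgroup.centralizer (M : Set G)) ⊓ N := Subgroup.mem_inf.mpr ⟨hzZ, h⟩
      rw [hZN, Subgroup.mem_bot] at this
      exact hz1' this
    have hzK : (z : G) ∉ Cfsg.frobeniusKernel H := by rw [← hNK]; exact hzN
    rw [fc_mem_kernel_iff] at hzK
    push Not at hzK
    obtain ⟨_, g', hg'⟩ := hzK
    have hwZ : g'⁻¹ * (z : G) * g' ∈ M ⊓ Subgroup.centralizer (M : Set G) := by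
      have := hZn.conj_mem _ hzZ g'⁻¹; simpa using this
    have hw1 : g'⁻¹ * (z : G) * g' ≠ 1 := by
      intro h
      apply hz1'
      have e : (z : G) = g' * (g'⁻¹ * (z : G) * g') * g'⁻¹ := by group
      rw [e, h]; group
    generalize g'⁻¹ * (z : G) * g' = w at hg' hwZ hw1
    obtain ⟨⟨n, hn⟩, hn1⟩ := (Subgroup.ne_bot_iff_exists_ne_one).mp hNne
    have hcomm : (n : G) * w = w * n := by
      have hmem : w * n * w⁻¹ * (n : G)⁻¹ ∈ (M ⊓ Subgroup.centralizer (M : Set G)) ⊓ N := by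
        refine Subgroup.mem_inf.mpr ⟨?_, ?_⟩
        · have h1 : (n : G) * w⁻¹ * (n : G)⁻¹ ∈ M ⊓ Subgroup.centralizer (M : Set G) :=
            hZn.conj_mem _ (Subgroup.inv_mem _ hwZ) n
          have h2 := Subgroup.mul_mem _ hwZ h1
          have e : w * ((n : G) * w⁻¹ * (n : G)⁻¹) = w * n * w⁻¹ * (n : G)⁻¹ := by group
          rw [e] at h2; exact h2
        · have h1 : w * (n : G) * w⁻¹ ∈ N := hNn.conj_mem _ hn w
          exact Subgroup.mul_mem _ h1 (Subgroup.inv_mem _ hn)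
      rw [hZN, Subgroup.mem_bot] at hmem
      have e : w * n = (w * n * w⁻¹ * (n : G)⁻¹) * (n * w) := by group
      rw [e, hmem, one_mul]
    have hnH : (n : G) ∈ H := h8_frob_mem_of_comm H hH w n hg' hw1 hcomm
    have : (n : G) ∈ N ⊓ H := Subgroup.mem_inf.mpr ⟨hn, hnH⟩
    rw [hdisj, Subgroup.mem_bot] at this
    exact hn1 (Subtype.ext this)
  · obtain ⟨⟨z₁, hz₁⟩, hz₁1⟩ := (Subgroup.ne_bot_iff_exists_ne_one).mp hZN
    obtain ⟨hz₁Z, hz₁N⟩ := Subgroup.mem_inf.mp hz₁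
    have hcomm : z₁ * x = x * z₁ := by
      have := Subgroup.mem_centralizer_iff.mp (Subgroup.mem_inf.mp hz₁Z).2 x hxM
      exact this.symm
    have hzH : z₁ ∈ H := h8_frob_mem_of_comm H hH x z₁ hg hx1 hcomm
    have : z₁ ∈ N ⊓ H := Subgroup.mem_inf.mpr ⟨hz₁N, hzH⟩
    rw [hdisj, Subgroup.mem_bot] at this
    exact hz₁1 (Subtype.ext this)


/-- All Frobenius complements of a finite group are conjugate to one another. -/
theorem result {G : Type*} [Group G] [Finite G] (H H₀ : Subgroup G)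
    (hH : Cfsg.IsFrobeniusComplement H) (hH₀ : Cfsg.IsFrobeniusComplement H₀) :
    ∃ g : G, MulAut.conj g • H₀ = H := by
  obtain ⟨N, hNK, hNn, hc⟩ := frobenius_kernel_subgroup H hH
  obtain ⟨N₀, hNK₀, hNn₀, hc₀⟩ := frobenius_kernel_subgroup H₀ hH₀
  have hnil : Group.IsNilpotent N := by
    obtain ⟨N', hN'K, _, hN'nil⟩ := Cfsg.Agent.S0042.result H hH
    have : N' = N := SetLike.coe_injective (hN'K.trans hNK.symm)
    rw [← this]; exact hN'nil
  have hnil₀ : Group.IsNilpotent N₀ := by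
    obtain ⟨N', hN'K, _, hN'nil⟩ := Cfsg.Agent.S0042.result H₀ hH₀
    have : N' = N₀ := SetLike.coe_injective (hN'K.trans hNK₀.symm)
    rw [← this]; exact hN'nil
  have h1 : N₀ ≤ N := normal_nilp_le H hH N hNK hNn hc N₀ hNn₀ hnil₀
  have h2 : N ≤ N₀ := normal_nilp_le H₀ hH₀ N₀ hNK₀ hNn₀ hc₀ N hNn hnil
  have heq : N₀ = N := le_antisymm h1 h2
  rw [heq] at hc₀
  have := hNn
  have hcop : (Nat.card N).Coprime N.index := by
    have hidx : N.index = Nat.card H :=
      Nat.eq_of_mul_eq_mul_left Nat.card_pos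
        ((Subgroup.card_mul_index N).trans hc.card_mul_card.symm)
    rw [hidx]
    by_contra hcop
    obtain ⟨p, hp, hpN, hpH⟩ := Nat.Prime.not_coprime_iff_dvd.1 hcop
    have : Fact p.Prime := ⟨hp⟩
    obtain ⟨k, hk⟩ := exists_prime_orderOf_dvd_card' (G := N) p hpN
    have hk1 : (k : G) ≠ 1 := by
      intro h
      have h2 : k = 1 := Subtype.ext h
      rw [h2, orderOf_one] at hk
      exact hp.one_lt.ne hk
    have h3 := h8_frob_kernel_coprime H hH (k : G) (by rw [← hNK]; exact k.2) hk1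
    rw [Subgroup.orderOf_coe, hk] at h3
    exact (Nat.Prime.coprime_iff_not_dvd hp).mp h3 hpH
  have hsolv : Group.IsSolvable N := by
    have := hnil
    infer_instance
  exact sz_conj N hcop (Or.inl hsolv) H₀ H hc₀ hc

end Cfsg.Agent.S0038
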