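import Cfsg.Statements.S0064
-- import your own Cfsg.Agent.* helpers here
import Mathlib.GroupTheory.Sylow

set_option autoImplicit false
open Cfsg

namespace Cfsg.Agent.S0064

/-- A finite group is nilpotent exactly when each of its subgroups is subnormal. -/
theorem result {G : Type*} [Group G] [Finite G] :
    Group.IsNilpotent G ↔ ∀ H : Subgroup G, H.IsSubnormal := by
  constructor
  · intro hnil H
    have hnc : NormalizerCondition G := Group.normalizerCondition_of_isNilpotent
    induction H using WellFoundedGT.induction with
    | _ H ih =>
      by_cases hH : H = ⊤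
      · rw [hH]; exact Subgroup.IsSubnormal.top
      · have hlt : H < Subgroup.normalizer (H : Set G) := hnc H (lt_top_iff_ne_top.mpr hH)
        exact Subgroup.IsSubnormal.step H _ hlt.le (ih _ hlt) inferInstance
  · intro h
    have q := (Group.isNilpotent_of_finite_tfae (G := G)).out 0 1
    rw [q]
    intro H hH
    obtain h1 | ⟨K, hHK, -, hKn⟩ := Subgroup.IsSubnormal.iff_eq_top_or_exists.mp (h H)
    · exact absurd h1 (ne_of_lt hH)
    · rw [Subgroup.normal_subgroupOf_iff_le_normalizer hHK.le] at hKn
      exact lt_of_lt_of_le hHK hKn

end Cfsg.Agent.S0064
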