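import Cfsg.Statements.S0077
import Mathlib
import Cfsg.Agent.Lib.Helper9.NilMax

set_option autoImplicit false
open Cfsg

namespace Cfsg.Agent.S0077

open Subgroup
open Cfsg.Agent.Lib.Helper9
open scoped Pointwise commutatorElement

/-- If `Z ≤ Z(P)` is weakly closed in the Sylow subgroup `P`, then `N_G(Z)` controls fusion
in `P`. -/
theorem fusion_of_weaklyClosed {G : Type*} [Group G] [Finite G] {p : ℕ} [hp : Fact p.Prime]
    (P : Sylow p G) (Z : Subgroup G) (hZ : Z ≤ Subgroup.centralizer (P : Set G))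
    (hW : Cfsg.IsWeaklyClosed Z P) {a : G} (ha : a ∈ (P : Subgroup G)) (g : G)
    (hb : g * a * g⁻¹ ∈ (P : Subgroup G)) :
    ∃ n ∈ Subgroup.normalizer (Z : Set G), g * a * g⁻¹ = n * a * n⁻¹ := by
  obtain ⟨hZP, hWC⟩ := hW
  have hweak : ∀ h : G, (∀ z ∈ Z, h * z * h⁻¹ ∈ (P : Subgroup G)) →
      h ∈ Subgroup.normalizer (Z : Set G) := by
    intro h hh
    rw [Subgroup.mem_normalizer_iff_map_conj_eq]
    apply hWC
    rintro _ ⟨z, hz, rfl⟩
    exact hh z hz
  have hZp : IsPGroup p Z := P.isPGroup'.to_le hZP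
  have hBp : IsPGroup p ↥(MulAut.conj g • Z) := by
    apply kw_isPGroup_of_orderOf
    intro y hy
    rw [mem_conj_smul_iff] at hy
    obtain ⟨k, hk⟩ := kw_orderOf_of_isPGroup hp.1 hZp hy
    refine ⟨k, ?_⟩
    have := kw_orderOf_conj g⁻¹ y
    rw [inv_inv] at this
    rw [← this, hk]
  have hAC : Z ≤ centralizer ({g * a * g⁻¹} : Set G) := by
    intro z hz
    rw [Subgroup.mem_centralizer_iff]
    intro h hh
    rw [Set.mem_singleton_iff] at hh
    rw [hh]
    exact Subgroup.mem_centralizer_iff.mp (hZ hz) _ hb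
  have hBC : MulAut.conj g • Z ≤ centralizer ({g * a * g⁻¹} : Set G) := by
    intro y hy
    rw [mem_conj_smul_iff] at hy
    rw [Subgroup.mem_centralizer_iff]
    intro h hh
    rw [Set.mem_singleton_iff] at hh
    rw [hh]
    have e1 : a * (g⁻¹ * y * g) = (g⁻¹ * y * g) * a :=
      Subgroup.mem_centralizer_iff.mp (hZ hy) a ha
    calc g * a * g⁻¹ * y = g * (a * (g⁻¹ * y * g)) * g⁻¹ := by group
      _ = g * ((g⁻¹ * y * g) * a) * g⁻¹ := by rw [e1]
      _ = y * (g * a * g⁻¹) := by group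
  obtain ⟨c, hc, T, hT, hZT, hBT⟩ := nm_exists_pgroup_in _ _ _ hAC hBC hZp hBp
  obtain ⟨t, ht⟩ := kw_exists_conj_le (P : Subgroup G) P.card_eq_multiplicity T hT
  have htM : t⁻¹ ∈ Subgroup.normalizer (Z : Set G) := by
    apply hweak
    intro z hz
    have h1 := ht (hZT hz)
    rw [mem_conj_smul_iff] at h1
    rw [inv_inv]
    exact h1
  have htcg : t⁻¹ * c * g ∈ Subgroup.normalizer (Z : Set G) := by
    apply hweak
    intro z hz
    have h1 := ht (hBT _ (conj_mem_conj_smul g hz))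
    rw [mem_conj_smul_iff] at h1
    have e : t⁻¹ * c * g * z * (t⁻¹ * c * g)⁻¹ = t⁻¹ * (c * (g * z * g⁻¹) * c⁻¹) * t := by group
    rw [e]
    exact h1
  have hn : c * g ∈ Subgroup.normalizer (Z : Set G) := by
    have e : c * g = t⁻¹⁻¹ * (t⁻¹ * c * g) := by group
    rw [e]
    exact Subgroup.mul_mem _ (Subgroup.inv_mem _ htM) htcg
  have hcb : (g * a * g⁻¹) * c = c * (g * a * g⁻¹) :=
    Subgroup.mem_centralizer_iff.mp hc _ rfl
  refine ⟨c * g, hn, ?_⟩
  calc g * a * g⁻¹ = ((g * a * g⁻¹) * c) * c⁻¹ := by group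
    _ = (c * (g * a * g⁻¹)) * c⁻¹ := by rw [hcb]
    _ = c * g * a * (c * g)⁻¹ := by group

/-- If a subgroup Z of the centre of a Sylow p-subgroup P is weakly closed in P, then P meets the derived subgroup of G exactly where it meets the derived subgroup of the normalizer of Z. -/
theorem result {G : Type*} [Group G] [Finite G] {p : ℕ} [Fact p.Prime] (P : Sylow p G) (Z : Subgroup G) (hZ : Z ≤ Subgroup.centralizer (P : Set G)) (hW : Cfsg.IsWeaklyClosed Z P) : commutator G ⊓ (P : Subgroup G) = ⁅Subgroup.normalizer (Z : Set G), Subgroup.normalizer (Z : Set G)⁆ ⊓ (P : Subgroup G) := by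
  apply le_antisymm
  · rw [Subgroup.commutator_inf_eq_focalSubgroup P]
    refine le_inf ?_ (Subgroup.focalSubgroup_le _)
    rw [Subgroup.focalSubgroup_def, Subgroup.closure_le]
    rintro _ ⟨hgP, x, hxP, u, rfl⟩
    have hux : u * x * u⁻¹ ∈ (P : Subgroup G) := by
      have h1 : x⁻¹ * ⁅x, u⁆ ∈ (P : Subgroup G) :=
        Subgroup.mul_mem _ (Subgroup.inv_mem _ hxP) hgP
      have h2 := Subgroup.inv_mem _ h1
      have e : (x⁻¹ * ⁅x, u⁆)⁻¹ = u * x * u⁻¹ := by rw [commutatorElement_def]; group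
      rwa [e] at h2
    obtain ⟨n, hn, hnx⟩ := fusion_of_weaklyClosed P Z hZ hW hxP u hux
    have hxN : x ∈ Subgroup.normalizer (Z : Set G) := by
      apply kw_mem_normalizer_of_comm
      intro y hy
      exact (Subgroup.mem_centralizer_iff.mp (hZ hy) x hxP)
    have e : ⁅x, u⁆ = ⁅x, n⁆ := by
      rw [commutatorElement_def, commutatorElement_def]
      calc x * u * x⁻¹ * u⁻¹ = x * (u * x * u⁻¹)⁻¹ := by group
        _ = x * (n * x * n⁻¹)⁻¹ := by rw [hnx]
        _ = x * n * x⁻¹ * n⁻¹ := by group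
    show ⁅x, u⁆ ∈ ⁅Subgroup.normalizer (Z : Set G), Subgroup.normalizer (Z : Set G)⁆
    rw [e]
    exact Subgroup.commutator_mem_commutator hxN hn
  · refine inf_le_inf_right _ ?_
    rw [_root_.commutator_def]
    exact Subgroup.commutator_mono le_top le_top

end Cfsg.Agent.S0077
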