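import Mathlib
import Cfsg.Statements.S0078
import Cfsg.Agent.S0077
import Cfsg.Agent.Lib.Helper2.Frobenius
import Cfsg.Agent.Lib.Helper7.Coprime
import Cfsg.Agent.Lib.Helper8.PGroupNormal
import Cfsg.Agent.Lib.Helper8.Gaschutz

set_option autoImplicit false

namespace Cfsg.Agent.S0078

open Cfsg.Agent.Lib.Helper2 Cfsg.Agent.Lib.Helper7 Cfsg.Agent.Lib.Helper8
open scoped commutatorElement

universe u

theorem exists_K {R₀ : Type u} [Group R₀] [Finite R₀] {p : ℕ} [Fact p.Prime] (hR : IsPGroup p R₀)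
    (Q Q₀ : Subgroup R₀) [hQn : Q.Normal] (hQ₀n : Q₀.Normal) (hQ : Q₀ < Q) :
    ∃ (K : Subgroup R₀) (_ : K.Normal), Q₀ ≤ K ∧ K < Q ∧ ∃ z : R₀ ⧸ K,
      z ∈ Subgroup.center (R₀ ⧸ K) ∧
      z ^ p = 1 ∧ Q.map (QuotientGroup.mk' K) ≤ Subgroup.zpowers z := by
  have hp : p.Prime := Fact.out
  let S : Set (Subgroup R₀) := {K | K.Normal ∧ K < Q ∧ Q₀ ≤ K}
  have hne : S.Nonempty := ⟨Q₀, hQ₀n, hQ, le_rfl⟩
  obtain ⟨K, ⟨hKn, hKQ, hQ₀K⟩, hmax⟩ :=
    WellFounded.has_min (wellFounded_gt (α := Subgroup R₀)) S hne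
  haveI := hKn
  refine ⟨K, hKn, hQ₀K, hKQ, ?_⟩
  set π := QuotientGroup.mk' K with hπ
  have hπs : Function.Surjective π := QuotientGroup.mk'_surjective K
  haveI hQmn : (Q.map π).Normal := Subgroup.Normal.map hQn π hπs
  have hQ' : Q.map π ≠ ⊥ := by
    intro h0
    have h1 : Q ≤ K := by
      intro x hx
      have h2 : π x ∈ Q.map π := Subgroup.mem_map_of_mem π hx
      rw [h0, Subgroup.mem_bot] at h2
      exact (QuotientGroup.eq_one_iff x).mp h2
    exact not_le_of_gt hKQ h1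
  have hRq : IsPGroup p (R₀ ⧸ K) := hR.to_quotient K
  have h1 := h8_normal_inf_center_ne_bot hRq (Q.map π) hQ'
  have hpg : IsPGroup p ↥(Q.map π ⊓ Subgroup.center (R₀ ⧸ K)) := hRq.to_subgroup _
  obtain ⟨k, hk⟩ := IsPGroup.iff_card.1 hpg
  have hk0 : k ≠ 0 := by
    rintro rfl
    rw [pow_zero] at hk
    exact h1 (Subgroup.card_eq_one.1 hk)
  have hdvd : p ∣ Nat.card ↥(Q.map π ⊓ Subgroup.center (R₀ ⧸ K)) := by
    rw [hk]; exact dvd_pow_self p hk0
  obtain ⟨w, hw⟩ := exists_prime_orderOf_dvd_card' p hdvd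
  have hzQ : (w : R₀ ⧸ K) ∈ Q.map π := (Subgroup.mem_inf.1 w.2).1
  have hzc : (w : R₀ ⧸ K) ∈ Subgroup.center (R₀ ⧸ K) := (Subgroup.mem_inf.1 w.2).2
  have hzo : orderOf (w : R₀ ⧸ K) = p := by rw [← hw]; exact Subgroup.orderOf_coe w
  have hz1 : (w : R₀ ⧸ K) ≠ 1 := by
    intro h; rw [h, orderOf_one] at hzo; exact hp.one_lt.ne hzo
  have hzp : (w : R₀ ⧸ K) ^ p = 1 := by
    have := pow_orderOf_eq_one (w : R₀ ⧸ K)
    rwa [hzo] at this
  refine ⟨(w : R₀ ⧸ K), hzc, hzp, ?_⟩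
  let T : Subgroup R₀ := (Subgroup.zpowers (w : R₀ ⧸ K)).comap π
  have hZn : (Subgroup.zpowers (w : R₀ ⧸ K)).Normal := by
    constructor
    intro n hn g
    have h2 : g * n * g⁻¹ = n := by
      obtain ⟨i, rfl⟩ := Subgroup.mem_zpowers_iff.1 hn
      have hc : (w : R₀ ⧸ K) ^ i ∈ Subgroup.center (R₀ ⧸ K) := Subgroup.zpow_mem _ hzc i
      rw [Subgroup.mem_center_iff] at hc
      rw [hc g]
      group
    rw [h2]; exact hn
  have hTn : T.Normal := Subgroup.Normal.comap hZn π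
  have hKT : K < T := by
    refine lt_of_le_of_ne ?_ ?_
    · intro x hx
      show π x ∈ Subgroup.zpowers (w : R₀ ⧸ K)
      have h2 : π x = 1 := (QuotientGroup.eq_one_iff x).mpr hx
      rw [h2]; exact one_mem _
    · intro hTK
      obtain ⟨x, hx⟩ := hπs (w : R₀ ⧸ K)
      have h2 : x ∈ T := by
        show π x ∈ Subgroup.zpowers (w : R₀ ⧸ K)
        rw [hx]; exact Subgroup.mem_zpowers _
      rw [← hTK] at h2
      exact hz1 (hx ▸ (QuotientGroup.eq_one_iff x).mpr h2)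
  have hTQ : T ≤ Q := by
    intro x hx
    have h2 : π x ∈ Q.map π := (Subgroup.zpowers_le.2 hzQ) hx
    obtain ⟨q, hq, hqx⟩ := Subgroup.mem_map.1 h2
    have h3 : q⁻¹ * x ∈ K := by
      rw [← QuotientGroup.eq_one_iff]
      show π (q⁻¹ * x) = 1
      rw [map_mul, map_inv, hqx, inv_mul_cancel]
    have h4 : x = q * (q⁻¹ * x) := by group
    rw [h4]; exact Q.mul_mem hq (hKQ.le h3)
  have hTeq : T = Q := by
    by_contra hne
    exact hmax T ⟨hTn, lt_of_le_of_ne hTQ hne, hQ₀K.trans hKT.le⟩ hKT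
  exact (Subgroup.map_mono hTeq.ge).trans (Subgroup.map_comap_le _ _)

theorem tau_mul {R : Type*} [Group R] (X Y u v : R) (m' : ℕ) (hu : ∀ r : R, r * u = u * r)
    (hv : ∀ r : R, r * v = v * r) :
    X * Y * ((u * v) ^ m')⁻¹ = X * (u ^ m')⁻¹ * (Y * (v ^ m')⁻¹) := by
  have huv : Commute u v := hv u
  have hU : ∀ r : R, r * (u ^ m')⁻¹ = (u ^ m')⁻¹ * r := fun r =>
    ((show Commute r u from hu r).pow_right m').inv_right
  rw [huv.mul_pow m', mul_inv_rev]
  calc X * Y * ((v ^ m')⁻¹ * (u ^ m')⁻¹) = X * ((Y * (v ^ m')⁻¹) * (u ^ m')⁻¹) := by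
        simp only [mul_assoc]
    _ = X * ((u ^ m')⁻¹ * (Y * (v ^ m')⁻¹)) := by rw [hU]
    _ = X * (u ^ m')⁻¹ * (Y * (v ^ m')⁻¹) := by rw [mul_assoc]

/-- Lifting `G → G/O^p(G)` through a central extension of order `p` of a quotient of `P`. -/
theorem sigma_exists {G : Type u} [Group G] [Finite G] {p : ℕ} [Fact p.Prime] (P : Subgroup G)
    (hP : IsPGroup p P) (hidx : ¬ p ∣ P.index) (K' : Subgroup ↥P) [hK'n : K'.Normal]
    (z : ↥P ⧸ K') (hzc : z ∈ Subgroup.center (↥P ⧸ K')) (hzp : z ^ p = 1)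
    (hQz : ((Cfsg.pResidual p G).subgroupOf P).map (QuotientGroup.mk' K') ≤
      Subgroup.zpowers z) :
    ∃ σ : G →* ↥P ⧸ K', ∀ x : ↥P,
      σ (x : G) * (QuotientGroup.mk' K' x)⁻¹ ∈ Subgroup.zpowers z := by
  classical
  have hp : p.Prime := Fact.out
  set O := Cfsg.pResidual p G with hO
  haveI hOn : O.Normal := pResidual_normal p G
  let R := ↥P ⧸ K'
  let π : ↥P →* R := QuotientGroup.mk' K'
  have hzcen : ∀ y ∈ Subgroup.zpowers z, ∀ r : R, r * y = y * r := by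
    intro y hy r
    obtain ⟨i, rfl⟩ := Subgroup.mem_zpowers_iff.1 hy
    have hc : z ^ i ∈ Subgroup.center R := Subgroup.zpow_mem _ hzc i
    exact (Subgroup.mem_center_iff.1 hc) r
  have hzpow : ∀ y ∈ Subgroup.zpowers z, y ^ p = 1 := by
    intro y hy
    obtain ⟨i, rfl⟩ := Subgroup.mem_zpowers_iff.1 hy
    rw [← zpow_natCast, ← zpow_mul, mul_comm, zpow_mul, zpow_natCast, hzp, one_zpow]
  have hOP : ∀ g : G, ∃ x : ↥P, g * (x : G)⁻¹ ∈ O := by
    intro g
    have h1 : g ∈ O ⊔ P := by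
      have h2 := sylow_sup_pResidual_eq_top (IsPGroup.toSylow hP hidx)
      rw [IsPGroup.toSylow_coe, sup_comm] at h2
      rw [h2]; exact Subgroup.mem_top g
    obtain ⟨n, hn, a, ha, rfl⟩ := exists_mul_of_mem_sup (N := O) (A := P)
      (by rw [Subgroup.normalizer_eq_top]; exact le_top) h1
    exact ⟨⟨a, ha⟩, by simpa using hn⟩
  let fib : Subgroup (G × R) :=
    { carrier := {w | ∃ x : ↥P, w.1 * (x : G)⁻¹ ∈ O ∧ π x = w.2}
      one_mem' := ⟨1, by simp, by simp⟩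
      mul_mem' := by
        rintro ⟨g₁, r₁⟩ ⟨g₂, r₂⟩ ⟨x₁, h1, h1'⟩ ⟨x₂, h2, h2'⟩
        refine ⟨x₁ * x₂, ?_, ?_⟩
        · have e : (g₁ * g₂) * ((x₁ * x₂ : ↥P) : G)⁻¹
              = (g₁ * (x₁ : G)⁻¹) * ((x₁ : G) * (g₂ * (x₂ : G)⁻¹) * (x₁ : G)⁻¹) := by
            rw [Subgroup.coe_mul]; group
          show (g₁ * g₂) * ((x₁ * x₂ : ↥P) : G)⁻¹ ∈ O
          rw [e]
          exact O.mul_mem h1 (hOn.conj_mem _ h2 _)
        · show π (x₁ * x₂) = r₁ * r₂
          rw [map_mul, h1', h2']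
      inv_mem' := by
        rintro ⟨g, r⟩ ⟨x, h1, h1'⟩
        refine ⟨x⁻¹, ?_, ?_⟩
        · have e : g⁻¹ * ((x⁻¹ : ↥P) : G)⁻¹
              = (x : G)⁻¹ * (g * (x : G)⁻¹)⁻¹ * ((x : G)⁻¹)⁻¹ := by
            rw [Subgroup.coe_inv]; group
          show g⁻¹ * ((x⁻¹ : ↥P) : G)⁻¹ ∈ O
          rw [e]
          exact hOn.conj_mem _ (O.inv_mem h1) _
        · show π x⁻¹ = r⁻¹
          rw [map_inv, h1'] }
  let pr₁ : ↥fib →* G := (MonoidHom.fst G R).comp fib.subtype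
  let pr₂ : ↥fib →* R := (MonoidHom.snd G R).comp fib.subtype
  have hpr₂ : ∀ w : ↥fib, pr₂ w = w.1.2 := fun _ => rfl
  have hsurj : Function.Surjective pr₁ := by
    intro g
    obtain ⟨x, hx⟩ := hOP g
    exact ⟨⟨(g, π x), x, hx, rfl⟩, rfl⟩
  have hfib : ∀ w : ↥fib, ∃ x : ↥P, w.1.1 * (x : G)⁻¹ ∈ O ∧ π x = w.1.2 := fun w => w.2
  let A : Subgroup ↥fib := pr₁.ker
  haveI hAn : A.Normal := MonoidHom.normal_ker pr₁
  have hA2 : ∀ a ∈ A, pr₂ a ∈ Subgroup.zpowers z := by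
    intro a ha
    obtain ⟨x, hx, hx'⟩ := hfib a
    have ha1 : a.1.1 = 1 := MonoidHom.mem_ker.1 ha
    rw [ha1, one_mul] at hx
    have hxQ : x⁻¹ ∈ O.subgroupOf P := by
      rw [Subgroup.mem_subgroupOf, Subgroup.coe_inv]; exact hx
    have hxQ' : x ∈ O.subgroupOf P := by simpa using (O.subgroupOf P).inv_mem hxQ
    have h3 : π x ∈ Subgroup.zpowers z := hQz (Subgroup.mem_map_of_mem _ hxQ')
    rw [hpr₂, ← hx']; exact h3
  have hext : ∀ a b : ↥fib, pr₁ a = pr₁ b → pr₂ a = pr₂ b → a = b := by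
    intro a b h1 h2
    exact Subtype.ext (Prod.ext h1 h2)
  have hAcen : ∀ a ∈ A, ∀ w : ↥fib, w * a = a * w := by
    intro a ha w
    apply hext
    · rw [map_mul, map_mul, MonoidHom.mem_ker.1 ha, mul_one, one_mul]
    · rw [map_mul, map_mul]; exact hzcen _ (hA2 a ha) _
  haveI hAcomm : IsMulCommutative A := ⟨⟨fun a b => Subtype.ext (hAcen b.1 b.2 a.1)⟩⟩
  let d : ↥P →* ↥fib := (MonoidHom.prod P.subtype π).codRestrict fib
    (fun x => ⟨x, by simp, rfl⟩)
  have hd1 : ∀ x : ↥P, pr₁ (d x) = (x : G) := fun _ => rfl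
  have hd2 : ∀ x : ↥P, pr₂ (d x) = π x := fun _ => rfl
  let K : Subgroup ↥fib := d.range
  let H : Subgroup ↥fib := P.comap pr₁
  have hKA : K ⊓ A = ⊥ := by
    rw [eq_bot_iff]
    rintro w ⟨⟨x, rfl⟩, hw⟩
    have h1 : (x : G) = 1 := MonoidHom.mem_ker.1 hw
    have hx : x = 1 := Subtype.ext h1
    rw [hx, map_one]; exact Subgroup.mem_bot.2 rfl
  have hKH : K ⊔ A = H := by
    apply le_antisymm
    · rw [sup_le_iff]
      constructor
      · rintro w ⟨x, rfl⟩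
        show pr₁ (d x) ∈ P
        rw [hd1]; exact x.2
      · intro a ha
        show pr₁ a ∈ P
        rw [MonoidHom.mem_ker.1 ha]; exact P.one_mem
    · intro w hw
      have hw' : pr₁ w ∈ P := hw
      have h1 : (d ⟨pr₁ w, hw'⟩)⁻¹ * w ∈ A := by
        rw [MonoidHom.mem_ker, map_mul, map_inv, hd1, inv_mul_cancel]
      have h2 : w = d ⟨pr₁ w, hw'⟩ * ((d ⟨pr₁ w, hw'⟩)⁻¹ * w) := by group
      rw [h2]
      exact Subgroup.mul_mem_sup ⟨_, rfl⟩ h1
  have hHidx : H.index = P.index := Subgroup.index_comap_of_surjective P hsurj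
  obtain ⟨δ, hδ1, hδ2⟩ := h8_der_transfer A H K hKA hKH
  have hconj : ∀ (g : ↥fib) (a : ↥A), MulAut.conjNormal g a = a := by
    intro g a
    apply Subtype.ext
    rw [MulAut.conjNormal_apply, hAcen a.1 a.2 g]; group
  have hδmul : ∀ g h : ↥fib, δ (g * h) = δ g * δ h := by
    intro g h; rw [hδ1, hconj]
  have hmp : Nat.Coprime H.index p := by
    rw [hHidx]; exact (Nat.Coprime.symm (hp.coprime_iff_not_dvd.2 hidx))
  obtain ⟨m', -, hm'⟩ := Nat.exists_mul_mod_eq_one_of_coprime hmp hp.one_lt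
  have hkey : ∀ y ∈ Subgroup.zpowers z, (y ^ H.index) ^ m' = y := by
    intro y hy
    rw [← pow_mul]
    have h1 : H.index * m' = p * (H.index * m' / p) + 1 := by
      have := Nat.div_add_mod (H.index * m') p
      omega
    rw [h1, pow_add, pow_mul, hzpow y hy, one_pow, one_mul, pow_one]
  have hδz : ∀ w : ↥fib, pr₂ (δ w : ↥fib) ∈ Subgroup.zpowers z := fun w => hA2 _ (δ w).2
  have hCz : ∀ w : ↥fib, ((pr₂ (δ w : ↥fib)) ^ m')⁻¹ ∈ Subgroup.zpowers z := fun w =>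
    Subgroup.inv_mem _ (Subgroup.pow_mem _ (hδz w) m')
  let τ : ↥fib →* R := MonoidHom.mk' (fun w => pr₂ w * ((pr₂ (δ w : ↥fib)) ^ m')⁻¹) (by
    intro a b
    show pr₂ (a * b) * ((pr₂ (δ (a * b) : ↥fib)) ^ m')⁻¹
      = pr₂ a * ((pr₂ (δ a : ↥fib)) ^ m')⁻¹ * (pr₂ b * ((pr₂ (δ b : ↥fib)) ^ m')⁻¹)
    rw [hδmul, Subgroup.coe_mul, map_mul, map_mul]
    exact tau_mul _ _ _ _ m' (fun r => hzcen _ (hδz a) r) (fun r => hzcen _ (hδz b) r))
  have hτ : ∀ w : ↥fib, τ w = pr₂ w * ((pr₂ (δ w : ↥fib)) ^ m')⁻¹ := fun _ => rfl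
  have hτA : ∀ a ∈ A, τ a = 1 := by
    intro a ha
    have h1 : (δ a : ↥fib) = a ^ H.index := by
      have h2 := congrArg Subtype.val (hδ2 ⟨a, ha⟩)
      rw [Subgroup.coe_zpow, zpow_natCast] at h2
      exact h2
    rw [hτ, h1, map_pow, hkey _ (hA2 a ha), mul_inv_cancel]
  have hτfib : ∀ w w' : ↥fib, pr₁ w = pr₁ w' → τ w = τ w' := by
    intro w w' h
    have h1 : w'⁻¹ * w ∈ A := by
      rw [MonoidHom.mem_ker, map_mul, map_inv, h, inv_mul_cancel]
    have h2 := hτA _ h1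
    rw [map_mul, map_inv, inv_mul_eq_one] at h2
    exact h2.symm
  let σ : G →* R := MonoidHom.mk' (fun g => τ (Classical.choose (hsurj g))) (by
    intro a b
    show τ (Classical.choose (hsurj (a * b)))
      = τ (Classical.choose (hsurj a)) * τ (Classical.choose (hsurj b))
    rw [← map_mul]
    apply hτfib
    rw [map_mul, Classical.choose_spec (hsurj (a * b)), Classical.choose_spec (hsurj a),
      Classical.choose_spec (hsurj b)])
  have hσ : ∀ w : ↥fib, σ (pr₁ w) = τ w := by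
    intro w
    show τ (Classical.choose (hsurj (pr₁ w))) = τ w
    exact hτfib _ _ (Classical.choose_spec (hsurj (pr₁ w)))
  have hζz : ∀ x : ↥P, σ (x : G) * (π x)⁻¹ = ((pr₂ (δ (d x) : ↥fib)) ^ m')⁻¹ := by
    intro x
    have h1 : σ (x : G) = τ (d x) := hσ (d x)
    rw [h1, hτ, hd2, hzcen _ (hCz (d x)) (π x), mul_assoc, mul_inv_cancel, mul_one]
  refine ⟨σ, fun x => ?_⟩
  show σ (x : G) * (π x)⁻¹ ∈ Subgroup.zpowers z
  rw [hζz]; exact hCz _

theorem comm_mod {H : Type*} [Group H] (N P₁ : Subgroup H) [N.Normal] (h : P₁ ⊔ N = ⊤) :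
    ∀ y ∈ commutator H, ∃ c ∈ ⁅P₁, P₁⁆, y * c⁻¹ ∈ N := by
  intro y hy
  let q := QuotientGroup.mk' N
  have hq : Function.Surjective q := QuotientGroup.mk'_surjective N
  have h1 : Subgroup.map q P₁ = ⊤ := by
    have h2 : Subgroup.map q (P₁ ⊔ N) = ⊤ := by
      rw [h]; exact Subgroup.map_top_of_surjective q hq
    rw [Subgroup.map_sup] at h2
    have h3 : Subgroup.map q N = ⊥ := by
      rw [eq_bot_iff]
      rintro _ ⟨n, hn, rfl⟩
      exact Subgroup.mem_bot.2 ((QuotientGroup.eq_one_iff n).2 hn)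
    rwa [h3, sup_bot_eq] at h2
  have h4 : q y ∈ Subgroup.map q ⁅P₁, P₁⁆ := by
    rw [Subgroup.map_commutator, h1]
    have hy' : y ∈ ⁅(⊤ : Subgroup H), ⊤⁆ := hy
    have h5 : q y ∈ Subgroup.map q ⁅(⊤ : Subgroup H), ⊤⁆ := Subgroup.mem_map_of_mem q hy'
    rw [Subgroup.map_commutator, Subgroup.map_top_of_surjective q hq] at h5
    exact h5
  obtain ⟨c, hc, hcy⟩ := Subgroup.mem_map.1 h4
  refine ⟨c, hc, ?_⟩
  rw [← QuotientGroup.eq_one_iff]
  show q (y * c⁻¹) = 1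
  rw [map_mul, map_inv, hcy, mul_inv_cancel]

theorem map_pResidual_le {G : Type*} [Group G] (p : ℕ) (V : Subgroup G) :
    (Cfsg.pResidual p ↥V).map V.subtype ≤ Cfsg.pResidual p G := by
  rw [Subgroup.map_le_iff_le_comap]
  have h1 : Cfsg.pResidual p ↥V = Subgroup.closure {g : ↥V | Nat.Coprime (orderOf g) p} := rfl
  rw [h1, Subgroup.closure_le]
  intro v hv
  have hv' : Nat.Coprime (orderOf v) p := hv
  show (v : G) ∈ Cfsg.pResidual p G
  apply mem_pResidual_of_coprime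
  rw [Subgroup.orderOf_coe]; exact hv'

/-- Relative form of Tate's theorem: if `P ∩ G' ≤ V'` for `P ≤ V ≤ G`, `P` Sylow, then
`P ∩ O^p(G) ≤ O^p(V)`. -/
theorem rel_tate {G : Type u} [Group G] [Finite G] {p : ℕ} [Fact p.Prime] (P : Sylow p G)
    (V : Subgroup G) (hPV : (P : Subgroup G) ≤ V)
    (hcomm : ∀ y ∈ (P : Subgroup G), y ∈ commutator G → y ∈ ⁅V, V⁆) :
    ∀ y ∈ (P : Subgroup G), y ∈ Cfsg.pResidual p G →
      y ∈ (Cfsg.pResidual p ↥V).map V.subtype := by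
  classical
  have hp : p.Prime := Fact.out
  haveI hOn : (Cfsg.pResidual p G).Normal := pResidual_normal p G
  haveI hO₁n : (Cfsg.pResidual p ↥V).Normal := pResidual_normal p ↥V
  have hOVO := map_pResidual_le p V
  intro y hyP hyO
  by_contra hyOV
  let Q : Subgroup ↥(P : Subgroup G) := (Cfsg.pResidual p G).subgroupOf P
  let Q₀ : Subgroup ↥(P : Subgroup G) := ((Cfsg.pResidual p ↥V).map V.subtype).subgroupOf P
  haveI hQn : Q.Normal := inferInstance
  have hQ₀n : Q₀.Normal := by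
    constructor
    intro n hn g
    obtain ⟨v, hv, hvn⟩ := Subgroup.mem_map.1 (Subgroup.mem_subgroupOf.1 hn)
    rw [Subgroup.mem_subgroupOf]
    refine Subgroup.mem_map.2 ⟨⟨(g : G), hPV g.2⟩ * v * ⟨(g : G), hPV g.2⟩⁻¹,
      hO₁n.conj_mem v hv _, ?_⟩
    have h1 : ((⟨(g : G), hPV g.2⟩ * v * ⟨(g : G), hPV g.2⟩⁻¹ : ↥V) : G)
        = (g : G) * (n : G) * (g : G)⁻¹ := by rw [← hvn]; rfl
    exact h1
  have hQ₀Q : Q₀ ≤ Q := fun x hx =>
    Subgroup.mem_subgroupOf.2 (hOVO (Subgroup.mem_subgroupOf.1 hx))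
  have hQ₀lt : Q₀ < Q := by
    refine lt_of_le_of_ne hQ₀Q ?_
    intro heq
    have h1 : (⟨y, hyP⟩ : ↥(P : Subgroup G)) ∈ Q := Subgroup.mem_subgroupOf.2 hyO
    rw [← heq] at h1
    exact hyOV (Subgroup.mem_subgroupOf.1 h1)
  obtain ⟨K', hK'n, hQ₀K', hK'lt, z, hzc, hzp, hQz⟩ := exists_K P.2 Q Q₀ hQ₀n hQ₀lt
  haveI := hK'n
  obtain ⟨σ, hσ⟩ := sigma_exists (P : Subgroup G) P.2 P.not_dvd_index K' z hzc hzp hQz
  let R := ↥(P : Subgroup G) ⧸ K'
  let π : ↥(P : Subgroup G) →* R := QuotientGroup.mk' K'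
  have hzcen : ∀ y ∈ Subgroup.zpowers z, ∀ r : R, r * y = y * r := by
    intro y hy r
    obtain ⟨i, rfl⟩ := Subgroup.mem_zpowers_iff.1 hy
    have hc : z ^ i ∈ Subgroup.center R := Subgroup.zpow_mem _ hzc i
    exact (Subgroup.mem_center_iff.1 hc) r
  have hzpow : ∀ y ∈ Subgroup.zpowers z, y ^ p = 1 := by
    intro y hy
    obtain ⟨i, rfl⟩ := Subgroup.mem_zpowers_iff.1 hy
    rw [← zpow_natCast, ← zpow_mul, mul_comm, zpow_mul, zpow_natCast, hzp, one_zpow]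
  have hσ' : ∀ x : ↥(P : Subgroup G), σ (x : G) * (π x)⁻¹ ∈ Subgroup.zpowers z := hσ
  let ζ : ↥(P : Subgroup G) →* R := MonoidHom.mk' (fun x => σ (x : G) * (π x)⁻¹) (by
    intro a b
    show σ ((a * b : ↥(P : Subgroup G)) : G) * (π (a * b))⁻¹
      = σ (a : G) * (π a)⁻¹ * (σ (b : G) * (π b)⁻¹)
    rw [Subgroup.coe_mul, map_mul, map_mul, mul_inv_rev, mul_assoc (σ (a : G)) (π a)⁻¹,
      hzcen _ (hσ' b) (π a)⁻¹]
    simp only [mul_assoc])
  have hζ : ∀ x : ↥(P : Subgroup G), ζ x = σ (x : G) * (π x)⁻¹ := fun _ => rfl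
  have hζz : ∀ x, ζ x ∈ Subgroup.zpowers z := fun x => hσ x
  have hσO : Cfsg.pResidual p G ≤ σ.ker := pResidual_le_ker σ (P.2.to_quotient K')
  -- Step A
  have hA : ∀ x ∈ Q₀, ζ x = 1 := by
    intro x hx
    have h1 : σ (x : G) = 1 := hσO (hOVO (Subgroup.mem_subgroupOf.1 hx))
    have h2 : π x = 1 := (QuotientGroup.eq_one_iff x).2 (hQ₀K' hx)
    rw [hζ, h1, h2, inv_one, mul_one]
  -- Step B
  have hB : ∀ c ∈ ⁅(P : Subgroup G), (P : Subgroup G)⁆,
      ∃ c' : ↥(P : Subgroup G), (c' : G) = c ∧ ζ c' = 1 := by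
    have h1 : ⁅(P : Subgroup G), (P : Subgroup G)⁆ ≤ ζ.ker.map (P : Subgroup G).subtype := by
      rw [Subgroup.commutator_le]
      intro a ha b hb
      refine Subgroup.mem_map.2 ⟨⁅(⟨a, ha⟩ : ↥(P : Subgroup G)), ⟨b, hb⟩⁆, ?_, rfl⟩
      rw [MonoidHom.mem_ker, map_commutatorElement, commutatorElement_eq_one_iff_commute]
      exact hzcen _ (hζz ⟨b, hb⟩) _
    intro c hc
    obtain ⟨c', hc', hcc⟩ := Subgroup.mem_map.1 (h1 hc)
    exact ⟨c', hcc, MonoidHom.mem_ker.1 hc'⟩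
  -- Step C
  have hsup : ((P : Subgroup G).subgroupOf V) ⊔ Cfsg.pResidual p ↥V = ⊤ := by
    have hPVp : IsPGroup p ((P : Subgroup G).subgroupOf V) := P.2.comap_subtype
    have hPVi : ¬ p ∣ ((P : Subgroup G).subgroupOf V).index := by
      have h1 : (P : Subgroup G).relIndex V * V.index = (P : Subgroup G).index :=
        Subgroup.relIndex_mul_index hPV
      intro hd
      apply P.not_dvd_index
      rw [← h1]
      exact Dvd.dvd.mul_right hd _
    have h2 := sylow_sup_pResidual_eq_top (IsPGroup.toSylow hPVp hPVi)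
    rwa [IsPGroup.toSylow_coe] at h2
  have hC : ∀ y (hy : y ∈ (P : Subgroup G)), y ∈ ⁅V, V⁆ → ζ ⟨y, hy⟩ = 1 := by
    intro y hy hyV
    have h1 : y ∈ (commutator ↥V).map V.subtype := by
      rw [Subgroup.map_subtype_commutator]; exact hyV
    obtain ⟨y', hy', rfl⟩ := Subgroup.mem_map.1 h1
    obtain ⟨c, hc, hyc⟩ := comm_mod (Cfsg.pResidual p ↥V) ((P : Subgroup G).subgroupOf V)
      hsup y' hy'
    have hcG : (c : G) ∈ ⁅(P : Subgroup G), (P : Subgroup G)⁆ := by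
      have h2 : (c : G) ∈ (⁅(P : Subgroup G).subgroupOf V,
          (P : Subgroup G).subgroupOf V⁆).map V.subtype := Subgroup.mem_map_of_mem _ hc
      rw [Subgroup.map_commutator, Subgroup.subgroupOf_map_subtype] at h2
      exact Subgroup.commutator_mono inf_le_left inf_le_left h2
    obtain ⟨c', hc'c, hc'1⟩ := hB _ hcG
    have h3 : (⟨(y' : G), hy⟩ : ↥(P : Subgroup G)) * c'⁻¹ ∈ Q₀ := by
      rw [Subgroup.mem_subgroupOf]
      refine Subgroup.mem_map.2 ⟨y' * c⁻¹, hyc, ?_⟩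
      show ((y' * c⁻¹ : ↥V) : G) = (y' : G) * (c' : G)⁻¹
      rw [hc'c]; rfl
    have h4 := hA _ h3
    rw [map_mul, map_inv, hc'1, inv_one, mul_one] at h4
    exact h4
  -- Step D
  have hD : (P : Subgroup G).focalSubgroupOf ≤ ζ.ker := by
    intro f hf
    have h1 : (f : G) ∈ (P : Subgroup G).focalSubgroup := Subgroup.mem_subgroupOf.1 hf
    have h2 : (f : G) ∈ commutator G := Subgroup.focalSubgroup_le_commutator _ h1
    exact MonoidHom.mem_ker.2 (hC (f : G) f.2 (hcomm _ f.2 h2))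
  -- Step E
  have hmp : Nat.Coprime (P : Subgroup G).index p :=
    (Nat.Coprime.symm (hp.coprime_iff_not_dvd.2 P.not_dvd_index))
  obtain ⟨m', -, hm'⟩ := Nat.exists_mul_mod_eq_one_of_coprime hmp hp.one_lt
  have hE : ∀ x ∈ Q, ζ x = 1 := by
    intro x hx
    have hT : (P : Subgroup G).transferFocal (x : G) = 1 := by
      have h1 : Cfsg.pResidual p G ≤ (P : Subgroup G).transferFocal.ker :=
        pResidual_le_ker _ (P.2.to_quotient _)
      exact MonoidHom.mem_ker.1 (h1 (Subgroup.mem_subgroupOf.1 hx))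
    rw [Subgroup.transferFocal_eq_pow] at hT
    have h2 : x ^ (P : Subgroup G).index ∈ (P : Subgroup G).focalSubgroupOf := by
      rw [← QuotientGroup.eq_one_iff, QuotientGroup.mk_pow]; exact hT
    have h3 : ζ x ^ (P : Subgroup G).index = 1 := by
      rw [← map_pow]; exact MonoidHom.mem_ker.1 (hD h2)
    have h4 : (ζ x ^ (P : Subgroup G).index) ^ m' = ζ x := by
      rw [← pow_mul]
      have h5 : (P : Subgroup G).index * m'
          = p * ((P : Subgroup G).index * m' / p) + 1 := by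
        have := Nat.div_add_mod ((P : Subgroup G).index * m') p
        omega
      rw [h5, pow_add, pow_mul, hzpow _ (hζz x), one_pow, one_mul, pow_one]
    rw [← h4, h3, one_pow]
  -- Step F
  apply not_le_of_gt hK'lt
  intro x hx
  have h1 : ζ x = 1 := hE x hx
  have h2 : σ (x : G) = 1 := hσO (Subgroup.mem_subgroupOf.1 hx)
  rw [hζ, h2, one_mul, inv_eq_one] at h1
  exact (QuotientGroup.eq_one_iff x).1 h1

theorem mem_smul_sylow {G : Type*} [Group G] {p : ℕ} (P : Sylow p G) (g x : G) :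
    x ∈ ((g • P : Sylow p G) : Subgroup G) ↔ g⁻¹ * x * g ∈ (P : Subgroup G) := by
  rw [Sylow.coe_subgroup_smul, Subgroup.mem_pointwise_smul_iff_inv_smul_mem]
  have h : (MulAut.conj g)⁻¹ • x = g⁻¹ * x * g := by simp [MulAut.smul_def]
  rw [h]

/-- In a p-normal group, a Sylow p-subgroup P meets O^p(G) exactly where it meets O^p(V), for any subgroup V containing the normalizer of the centre of P. -/
theorem result {G : Type*} [Group G] [Finite G] {p : ℕ} [Fact p.Prime] (P : Sylow p G) (hn : ∀ Q : Sylow p G, (P : Subgroup G) ⊓ Subgroup.centralizer (P : Set G) ≤ (Q : Subgroup G) → (Q : Subgroup G) ⊓ Subgroup.centralizer (Q : Set G) = (P : Subgroup G) ⊓ Subgroup.centralizer (P : Set G)) (V : Subgroup G) (hV : Subgroup.normalizer (((P : Subgroup G) ⊓ Subgroup.centralizer (P : Set G) : Subgroup G) : Set G) ≤ V) : (P : Subgroup G) ⊓ Cfsg.pResidual p G = (P : Subgroup G) ⊓ (Cfsg.pResidual p V).map V.subtype := by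
  classical
  have hmemZ : ∀ h : G, h ∈ (P : Subgroup G) ⊓ Subgroup.centralizer (P : Set G) ↔
      h ∈ (P : Subgroup G) ∧ ∀ y ∈ (P : Subgroup G), y * h = h * y := by
    intro h
    rw [Subgroup.mem_inf, Subgroup.mem_centralizer_iff]
    rfl
  have hW : Cfsg.IsWeaklyClosed ((P : Subgroup G) ⊓ Subgroup.centralizer (P : Set G)) P := by
    refine ⟨inf_le_left, ?_⟩
    intro g hg
    have h1 : (P : Subgroup G) ⊓ Subgroup.centralizer (P : Set G)
        ≤ ((g⁻¹ • P : Sylow p G) : Subgroup G) := by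
      intro x hx
      rw [mem_smul_sylow, inv_inv]
      exact hg (Subgroup.mem_map_of_mem _ hx)
    have h3 : ((g⁻¹ • P : Sylow p G) : Subgroup G) ⊓
        Subgroup.centralizer (((g⁻¹ • P : Sylow p G) : Subgroup G) : Set G) =
        (P : Subgroup G) ⊓ Subgroup.centralizer (P : Set G) := hn (g⁻¹ • P) h1
    have key : ∀ x : G, x ∈ ((g⁻¹ • P : Sylow p G) : Subgroup G) ⊓
        Subgroup.centralizer (((g⁻¹ • P : Sylow p G) : Subgroup G) : Set G) ↔
        g * x * g⁻¹ ∈ (P : Subgroup G) ⊓ Subgroup.centralizer (P : Set G) := by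
      intro x
      rw [hmemZ, Subgroup.mem_inf, Subgroup.mem_centralizer_iff, mem_smul_sylow, inv_inv]
      refine and_congr Iff.rfl ?_
      constructor
      · intro h y hy
        have h4 : g⁻¹ * y * g ∈ (((g⁻¹ • P : Sylow p G) : Subgroup G) : Set G) := by
          rw [SetLike.mem_coe, mem_smul_sylow, inv_inv]
          have h5 : g * (g⁻¹ * y * g) * g⁻¹ = y := by group
          rw [h5]; exact hy
        have h5 := h _ h4
        calc y * (g * x * g⁻¹) = g * ((g⁻¹ * y * g) * x) * g⁻¹ := by group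
          _ = g * (x * (g⁻¹ * y * g)) * g⁻¹ := by rw [h5]
          _ = g * x * g⁻¹ * y := by group
      · intro h y hy
        have hy' : g * y * g⁻¹ ∈ (P : Subgroup G) := by
          have h5 := (mem_smul_sylow P g⁻¹ y).1 hy
          rwa [inv_inv] at h5
        have h5 := h _ hy'
        calc y * x = g⁻¹ * ((g * y * g⁻¹) * (g * x * g⁻¹)) * g := by group
          _ = g⁻¹ * ((g * x * g⁻¹) * (g * y * g⁻¹)) * g := by rw [h5]
          _ = x * y := by group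
    have h6 : ∀ x : G, x ∈ (P : Subgroup G) ⊓ Subgroup.centralizer (P : Set G) ↔
        g * x * g⁻¹ ∈ (P : Subgroup G) ⊓ Subgroup.centralizer (P : Set G) := by
      intro x
      rw [← key x, h3]
    apply le_antisymm
    · rintro _ ⟨x, hx, rfl⟩
      exact (h6 x).1 hx
    · intro y hy
      refine ⟨g⁻¹ * y * g, (h6 _).2 ?_, ?_⟩
      · have h7 : g * (g⁻¹ * y * g) * g⁻¹ = y := by group
        rw [h7]; exact hy
      · show g * (g⁻¹ * y * g) * g⁻¹ = y
        group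
  have h77 := Cfsg.Agent.S0077.result P ((P : Subgroup G) ⊓ Subgroup.centralizer (P : Set G))
    inf_le_right hW
  have hPV : (P : Subgroup G) ≤ V := by
    refine le_trans ?_ hV
    intro x hx
    rw [Subgroup.mem_normalizer_iff]
    intro h
    constructor
    · intro hh
      have hh' := (hmemZ h).1 hh
      have h1 : x * h = h * x := hh'.2 x hx
      have h2 : x * h * x⁻¹ = h := by rw [h1]; group
      rw [h2]; exact hh
    · intro hh
      have hh' := (hmemZ _).1 hh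
      have h1 : x⁻¹ * (x * h * x⁻¹) = (x * h * x⁻¹) * x⁻¹ := hh'.2 x⁻¹ (inv_mem hx)
      have h2 : x * h * x⁻¹ = h := by
        have h3 : h * x⁻¹ = x * h * x⁻¹ * x⁻¹ := by rw [← h1]; group
        exact (mul_right_cancel h3).symm
      rw [← h2]; exact hh
  have hcomm : ∀ y ∈ (P : Subgroup G), y ∈ commutator G → y ∈ ⁅V, V⁆ := by
    intro y hy hyc
    have h1 : y ∈ commutator G ⊓ (P : Subgroup G) := ⟨hyc, hy⟩
    rw [h77] at h1
    exact Subgroup.commutator_mono hV hV h1.1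
  apply le_antisymm
  · intro y hy
    exact ⟨hy.1, rel_tate P V hPV hcomm y hy.1 hy.2⟩
  · intro y hy
    exact ⟨hy.1, map_pResidual_le p V hy.2⟩

end Cfsg.Agent.S0078
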