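import Cfsg.Statements.S0093
import Mathlib
import Cfsg.Agent.S0013
import Cfsg.Agent.S0130
import Cfsg.Agent.Lib.Helper3.GT1

set_option autoImplicit false
open Cfsg

namespace Cfsg.Agent.S0093

open scoped commutatorElement


/-- Every finite p-group has a critical subgroup: a characteristic subgroup H whose Frattini subgroup and whose commutator with the whole group lie in the centre of H, and whose centralizer is contained in H. -/
theorem result {P : Type*} [Group P] [Finite P] {p : ℕ} [Fact p.Prime] (hP : IsPGroup p P) : ∃ H : Subgroup P, H.Characteristic ∧ (frattini H).map H.subtype ≤ Subgroup.centralizer (H : Set P) ∧ ⁅H, (⊤ : Subgroup P)⁆ ≤ H ⊓ Subgroup.centralizer (H : Set P) ∧ Subgroup.centralizer (H : Set P) ≤ H := by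
  classical
  have hp : p.Prime := Fact.out
  obtain ⟨M, -, hmax⟩ := Finite.exists_le_maximal
    (p := fun M : Subgroup P => M.Characteristic ∧ ∀ x ∈ M, ∀ y ∈ M, x * y = y * x) (a := ⊥)
    ⟨Subgroup.botCharacteristic, by
      intro x hx y hy; rw [Subgroup.mem_bot] at hx hy; rw [hx, hy]⟩
  obtain ⟨hMchar, hMab⟩ := hmax.prop
  have hMn : M.Normal := inferInstance
  have hCchar : (Subgroup.centralizer (M : Set P)).Characteristic := inferInstance
  have hMC : M ≤ Subgroup.centralizer (M : Set P) := fun m hm =>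
    Subgroup.mem_centralizer_iff.mpr (fun y hy => hMab y hy m hm)
  have hCM : ∀ c ∈ Subgroup.centralizer (M : Set P), ∀ m ∈ M, m * c = c * m := fun c hc m hm =>
    Subgroup.mem_centralizer_iff.mp hc m hm
  let H : Subgroup P :=
    { carrier := {x | x ∈ Subgroup.centralizer (M : Set P) ∧ (∀ g : P, ⁅x, g⁆ ∈ M) ∧ x ^ p ∈ M}
      mul_mem' := by
        rintro x y ⟨hxC, hxg, hxp⟩ ⟨hyC, hyg, hyp⟩
        refine ⟨Subgroup.mul_mem _ hxC hyC, fun g => ?_, ?_⟩
        · have h1 : ⁅x * y, g⁆ = x * ⁅y, g⁆ * x⁻¹ * ⁅x, g⁆ := by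
            simp only [commutatorElement_def]; group
          rw [h1]
          exact M.mul_mem (hMn.conj_mem _ (hyg g) x) (hxg g)
        · have hw : ⁅y, x⁆ ∈ M := hyg x
          rw [Cfsg.Agent.S0130.mul_pow_class2 x y (hCM x hxC _ hw) (hCM y hyC _ hw) p]
          exact M.mul_mem (M.mul_mem (M.pow_mem hw _) hxp) hyp
      one_mem' := ⟨Subgroup.one_mem _, fun g => by
        rw [commutatorElement_one_left]; exact M.one_mem, by rw [one_pow]; exact M.one_mem⟩
      inv_mem' := by
        rintro x ⟨hxC, hxg, hxp⟩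
        refine ⟨Subgroup.inv_mem _ hxC, fun g => ?_, by rw [inv_pow]; exact M.inv_mem hxp⟩
        have h1 : ⁅x⁻¹, g⁆ = x⁻¹ * (⁅x, g⁆)⁻¹ * x⁻¹⁻¹ := by
          simp only [commutatorElement_def]; group
        rw [h1]
        exact hMn.conj_mem _ (M.inv_mem (hxg g)) x⁻¹ }
  have hMH : M ≤ H := fun m hm => ⟨hMC hm, fun g => by
      have h1 : ⁅m, g⁆ = m * (g * m⁻¹ * g⁻¹) := by simp only [commutatorElement_def]; group
      rw [h1]; exact M.mul_mem hm (hMn.conj_mem _ (M.inv_mem hm) g), M.pow_mem hm p⟩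
  have hHC : H ≤ Subgroup.centralizer (M : Set P) := fun x hx => hx.1
  have hMcH : M ≤ Subgroup.centralizer (H : Set P) := by
    intro m hm
    rw [Subgroup.mem_centralizer_iff]
    intro h hh
    exact (hCM h (hHC hh) m hm).symm
  have hHchar : H.Characteristic := by
    rw [Subgroup.characteristic_iff_map_le]
    rintro φ _ ⟨x, ⟨hxC, hxg, hxp⟩, rfl⟩
    refine ⟨?_, fun g => ?_, ?_⟩
    · exact (Subgroup.characteristic_iff_map_le.mp hCchar φ) ⟨x, hxC, rfl⟩
    · have h1 : ⁅φ x, g⁆ = φ ⁅x, φ.symm g⁆ := by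
        rw [map_commutatorElement, MulEquiv.apply_symm_apply]
      show ⁅φ x, g⁆ ∈ M
      rw [h1]
      exact (Subgroup.characteristic_iff_map_le.mp hMchar φ) ⟨_, hxg _, rfl⟩
    · show (φ x) ^ p ∈ M
      rw [← map_pow]
      exact (Subgroup.characteristic_iff_map_le.mp hMchar φ) ⟨_, hxp, rfl⟩
  have hHn : H.Normal := inferInstance
  have hZ : H ⊓ Subgroup.centralizer (H : Set P) ≤ M := by
    have hchar2 : (H ⊓ Subgroup.centralizer (H : Set P)).Characteristic := by
      rw [Subgroup.characteristic_iff_map_le]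
      intro φ
      have hc1 : (Subgroup.centralizer (H : Set P)).Characteristic := inferInstance
      exact (Subgroup.map_inf_le _ _ _).trans (inf_le_inf
        (Subgroup.characteristic_iff_map_le.mp hHchar φ)
        (Subgroup.characteristic_iff_map_le.mp hc1 φ))
    apply hmax.le_of_ge ⟨hchar2, ?_⟩ (le_inf hMH hMcH)
    intro x hx y hy
    exact (Subgroup.mem_centralizer_iff.mp hy.2 x hx.1)
  have hQH : Subgroup.centralizer (H : Set P) ≤ H := by
    by_contra hcon
    have hQn : (Subgroup.centralizer (H : Set P)).Normal := inferInstance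
    have hQbar_n : ((Subgroup.centralizer (H : Set P)).map (QuotientGroup.mk' M)).Normal :=
      hQn.map _ (QuotientGroup.mk'_surjective _)
    have hQbar_ne : (Subgroup.centralizer (H : Set P)).map (QuotientGroup.mk' M) ≠ ⊥ := by
      intro h
      rw [Subgroup.map_eq_bot_iff, QuotientGroup.ker_mk'] at h
      exact hcon (h.trans hMH)
    have hQp : IsPGroup p (P ⧸ M) := hP.to_quotient M
    obtain ⟨w, hw, hw1, hwc⟩ := Cfsg.Agent.Lib.Helper3.pn_inf_center (p := p)
      (⊤ : Subgroup (P ⧸ M)) ((Subgroup.centralizer (H : Set P)).map (QuotientGroup.mk' M))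
      (hQp.to_subgroup _) le_top (fun x _ d hd => hQbar_n.conj_mem d hd x) hQbar_ne
    have hD : p ^ 1 ≤ Nat.card ((Subgroup.centralizer (H : Set P)).map (QuotientGroup.mk' M) ⊓
        Subgroup.center (P ⧸ M) : Subgroup _) := by
      rw [pow_one]
      have hwD : w ∈ (Subgroup.centralizer (H : Set P)).map (QuotientGroup.mk' M) ⊓
          Subgroup.center (P ⧸ M) :=
        Subgroup.mem_inf.mpr ⟨hw, Subgroup.mem_center_iff.mpr (fun g => hwc g (Subgroup.mem_top g))⟩
      rcases (hQp.to_subgroup ((Subgroup.centralizer (H : Set P)).map (QuotientGroup.mk' M) ⊓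
          Subgroup.center (P ⧸ M))).card_eq_or_dvd with h | h
      · exfalso
        rw [Subgroup.card_eq_one] at h
        rw [h, Subgroup.mem_bot] at hwD
        exact hw1 hwD
      · exact Nat.le_of_dvd Nat.card_pos h
    obtain ⟨H', hH'le, hH'card⟩ := Sylow.exists_subgroup_le_card_pow_prime_of_le_card hp hQp hD
    rw [pow_one] at hH'card
    have hH'ne : H' ≠ ⊥ := by
      intro h
      rw [h, Subgroup.card_bot] at hH'card
      exact hp.one_lt.ne hH'card
    obtain ⟨v, hv1⟩ := (Subgroup.ne_bot_iff_exists_ne_one).mp hH'ne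
    have hvp : (v : P ⧸ M) ^ p = 1 := by
      have h1 := pow_card_eq_one' (G := H') (x := v)
      rw [hH'card] at h1
      exact congrArg Subtype.val h1
    have hvQ := (hH'le v.2).1
    have hvc : ∀ g : P ⧸ M, g * (v : P ⧸ M) = (v : P ⧸ M) * g :=
      fun g => Subgroup.mem_center_iff.mp (hH'le v.2).2 g
    obtain ⟨x, hxQ, hxv⟩ := hvQ
    have hmk : ∀ y : P, QuotientGroup.mk' M y = 1 ↔ y ∈ M := fun y => QuotientGroup.eq_one_iff y
    have hxH : x ∈ H := by
      refine ⟨Subgroup.centralizer_le (fun m hm => hMH hm) hxQ, fun g => ?_, ?_⟩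
      · rw [← hmk, map_commutatorElement, hxv, commutatorElement_eq_one_iff_mul_comm]
        exact (hvc _).symm
      · rw [← hmk, map_pow, hxv]
        exact hvp
    have hxM : x ∈ M := hZ ⟨hxH, hxQ⟩
    apply hv1
    apply Subtype.ext
    rw [← hxv]
    exact (hmk x).mpr hxM
  refine ⟨H, hHchar, ?_, ?_, hQH⟩
  · have hcomm : commutator ↥H ≤ M.subgroupOf H := by
      rw [commutator_def, Subgroup.commutator_le]
      intro x _ y _
      rw [Subgroup.mem_subgroupOf]
      exact x.2.2.1 y
    have hpow : ∀ x : ↥H, x ^ p ∈ M.subgroupOf H := by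
      intro x
      rw [Subgroup.mem_subgroupOf]
      exact x.2.2.2
    have hfr := Cfsg.Agent.S0013.result p (hP.to_subgroup H) (M.subgroupOf H) hcomm hpow
    rintro _ ⟨y, hy, rfl⟩
    exact hMcH (Subgroup.mem_subgroupOf.mp (hfr hy))
  · rw [Subgroup.commutator_le]
    intro x hx g _
    exact ⟨hMH (hx.2.1 g), hMcH (hx.2.1 g)⟩

end Cfsg.Agent.S0093
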