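import Mathlib
import Cfsg.Statements.S0099

set_option autoImplicit false

namespace Cfsg.Agent.S0099

open scoped commutatorElement Pointwise

universe u v w

/-- "extraspecial-like": class at most 2, centre of order `p`. -/
abbrev XS (p : ℕ) (E : Type*) [Group E] : Prop :=
  True ∧ (∀ a b : E, ⁅a, b⁆ ∈ Subgroup.center E) ∧
    Nat.card (Subgroup.center E) = p

theorem comm_mul {E : Type*} [Group E] (hcl : ∀ a b : E, ⁅a, b⁆ ∈ Subgroup.center E)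
    (g h u : E) : ⁅g * h, u⁆ = ⁅g, u⁆ * ⁅h, u⁆ := by
  have h1 : ⁅g * h, u⁆ = g * ⁅h, u⁆ * g⁻¹ * ⁅g, u⁆ := by
    simp only [commutatorElement_def]; group
  have h2 : g * ⁅h, u⁆ = ⁅h, u⁆ * g := (Subgroup.mem_center_iff.1 (hcl h u)) g
  rw [h1, h2, mul_assoc ⁅h, u⁆ g g⁻¹, mul_inv_cancel, mul_one]
  exact (Subgroup.mem_center_iff.1 (hcl g u)) ⁅h, u⁆

/-- `g ↦ ⁅g, u⁆` as a homomorphism into the centre. -/
noncomputable def kap {E : Type*} [Group E] (hcl : ∀ a b : E, ⁅a, b⁆ ∈ Subgroup.center E)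
    (u : E) : E →* ↥(Subgroup.center E) :=
  MonoidHom.mk' (fun g => ⟨⁅g, u⁆, hcl g u⟩) (fun a b => Subtype.ext (comm_mul hcl a b u))

/-- the subgroup of elements commuting with `x` and `y` -/
noncomputable def Cxy {E : Type*} [Group E] (hcl : ∀ a b : E, ⁅a, b⁆ ∈ Subgroup.center E)
    (x y : E) : Subgroup E :=
  ((kap hcl x).prod (kap hcl y)).ker

theorem mem_Cxy {E : Type*} [Group E] (hcl : ∀ a b : E, ⁅a, b⁆ ∈ Subgroup.center E)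
    (x y g : E) : g ∈ Cxy hcl x y ↔ g * x = x * g ∧ g * y = y * g := by
  unfold Cxy
  rw [MonoidHom.mem_ker, MonoidHom.prod_apply, Prod.mk_eq_one]
  constructor
  · rintro ⟨h1, h2⟩
    have h1' : ⁅g, x⁆ = 1 := congrArg Subtype.val h1
    have h2' : ⁅g, y⁆ = 1 := congrArg Subtype.val h2
    exact ⟨(commutatorElement_eq_one_iff_commute.1 h1').eq,
      (commutatorElement_eq_one_iff_commute.1 h2').eq⟩
  · rintro ⟨h1, h2⟩
    exact ⟨Subtype.ext (commutatorElement_eq_one_iff_commute.2 h1),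
      Subtype.ext (commutatorElement_eq_one_iff_commute.2 h2)⟩

theorem comm_of_decomp {E : Type*} [Group E] (w g t : E) (h1 : w * (g * t⁻¹) = (g * t⁻¹) * w)
    (h2 : w * t = t * w) : g * w = w * g := by
  calc g * w = (g * t⁻¹) * (t * w) := by group
    _ = (g * t⁻¹) * (w * t) := by rw [h2]
    _ = ((g * t⁻¹) * w) * t := (mul_assoc _ _ _).symm
    _ = (w * (g * t⁻¹)) * t := by rw [h1]
    _ = w * g := by group

theorem card_sup_le' {G : Type*} [Group G] [Finite G] (H K : Subgroup G)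
    (hK : K ≤ Subgroup.normalizer (H : Set G)) :
    Nat.card ↥(H ⊔ K) ≤ Nat.card H * Nat.card K := by
  have h1 : ((H ⊔ K : Subgroup G) : Set G) = (H : Set G) * (K : Set G) :=
    Subgroup.coe_mul_of_right_le_normalizer_left H K hK
  have h2 : Nat.card ↥(H ⊔ K) = Nat.card ((H : Set G) * (K : Set G) : Set G) := by
    rw [← h1]; rfl
  rw [h2]
  exact Set.natCard_mul_le

theorem card_sup_zpowers_le {G : Type*} [Group G] [Finite G] (H : Subgroup G) (Y : G)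
    (hnorm : Subgroup.zpowers Y ≤ Subgroup.normalizer (H : Set G)) (hY2 : Y ^ 2 ∈ H) :
    Nat.card ↥(H ⊔ Subgroup.zpowers Y) ≤ Nat.card H * 2 := by
  have h1 : ((H ⊔ Subgroup.zpowers Y : Subgroup G) : Set G)
      = (H : Set G) * (Subgroup.zpowers Y : Set G) :=
    Subgroup.coe_mul_of_right_le_normalizer_left H _ hnorm
  have h2 : ((H ⊔ Subgroup.zpowers Y : Subgroup G) : Set G) ⊆ (H : Set G) * ({1, Y} : Set G) := by
    rw [h1]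
    rintro _ ⟨h, hh, k, hk, rfl⟩
    obtain ⟨i, rfl⟩ := Subgroup.mem_zpowers_iff.1 hk
    have hi : Y ^ i = (Y ^ 2) ^ (i / 2) * Y ^ (i % 2) := by
      rw [← zpow_natCast Y 2, ← zpow_mul, ← zpow_add]
      congr 1
      push_cast
      omega
    have hpow : (Y ^ 2) ^ (i / 2) ∈ H := H.zpow_mem hY2 _
    rcases Int.emod_two_eq i with h0 | h0
    · refine Set.mem_mul.2 ⟨h * (Y ^ 2) ^ (i / 2), H.mul_mem hh hpow, 1, Set.mem_insert _ _, ?_⟩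
      rw [hi, h0, zpow_zero]
      simp only [mul_one]
    · refine Set.mem_mul.2 ⟨h * (Y ^ 2) ^ (i / 2), H.mul_mem hh hpow, Y,
        Set.mem_insert_of_mem _ (Set.mem_singleton _), ?_⟩
      rw [hi, h0, zpow_one, mul_assoc]
  have h3 : Nat.card ↥(H ⊔ Subgroup.zpowers Y)
      = ((H ⊔ Subgroup.zpowers Y : Subgroup G) : Set G).ncard := rfl
  have h4 : ((H ⊔ Subgroup.zpowers Y : Subgroup G) : Set G).ncard
      ≤ ((H : Set G) * ({1, Y} : Set G)).ncard := Set.ncard_le_ncard h2 (Set.toFinite _)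
  have h5 : ((H : Set G) * ({1, Y} : Set G)).ncard
      ≤ Nat.card ↥(H : Set G) * Nat.card ↥({1, Y} : Set G) := Set.natCard_mul_le
  have h6 : Nat.card ↥({1, Y} : Set G) ≤ 2 := by
    rw [Nat.card_coe_set_eq]
    exact (Set.ncard_insert_le _ _).trans (by rw [Set.ncard_singleton])
  have h7 : Nat.card ↥(H : Set G) = Nat.card H := rfl
  calc Nat.card ↥(H ⊔ Subgroup.zpowers Y) ≤ Nat.card ↥(H : Set G) * Nat.card ↥({1, Y} : Set G) :=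
        h3 ▸ (h4.trans h5)
    _ ≤ Nat.card H * 2 := by rw [h7]; exact Nat.mul_le_mul_left _ h6

section pair

variable {E : Type u} [Group E] [Finite E] {p : ℕ} [Fact p.Prime]

theorem zgen (hXS : XS p E) (x y : E) (hz : ⁅x, y⁆ ≠ 1) (w : ↥(Subgroup.center E)) :
    ∃ i : ℤ, w = (⟨⁅x, y⁆, hXS.2.1 x y⟩ : ↥(Subgroup.center E)) ^ i := by
  have h2 : w ∈ Subgroup.zpowers (⟨⁅x, y⁆, hXS.2.1 x y⟩ : ↥(Subgroup.center E)) :=
    mem_zpowers_of_prime_card hXS.2.2 (fun h => hz (congrArg Subtype.val h))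
  obtain ⟨i, hi⟩ := Subgroup.mem_zpowers_iff.1 h2
  exact ⟨i, hi.symm⟩

theorem kap_surj (hXS : XS p E) (x y : E) (hz : ⁅x, y⁆ ≠ 1) (u v : ↥(Subgroup.center E)) :
    ∃ a b : ℤ, kap hXS.2.1 x (x ^ a * y ^ b) = u ∧ kap hXS.2.1 y (x ^ a * y ^ b) = v := by
  obtain ⟨i, hi⟩ := zgen hXS x y hz u
  obtain ⟨j, hj⟩ := zgen hXS x y hz v
  have hxx : kap hXS.2.1 x x = 1 := Subtype.ext (commutatorElement_self x)
  have hxy : kap hXS.2.1 x y = (⟨⁅x, y⁆, hXS.2.1 x y⟩ : ↥(Subgroup.center E))⁻¹ :=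
    Subtype.ext (commutatorElement_inv x y).symm
  have hyx : kap hXS.2.1 y x = (⟨⁅x, y⁆, hXS.2.1 x y⟩ : ↥(Subgroup.center E)) := rfl
  have hyy : kap hXS.2.1 y y = 1 := Subtype.ext (commutatorElement_self y)
  refine ⟨j, -i, ?_, ?_⟩
  · rw [map_mul, map_zpow, map_zpow, hxx, hxy, one_zpow, one_mul, inv_zpow, zpow_neg, inv_inv, hi]
  · rw [map_mul, map_zpow, map_zpow, hyx, hyy, one_zpow, mul_one, hj]

theorem decomp (hXS : XS p E) (x y : E) (hz : ⁅x, y⁆ ≠ 1) (g : E) :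
    ∃ a b : ℤ, g * (x ^ a * y ^ b)⁻¹ ∈ Cxy hXS.2.1 x y := by
  obtain ⟨a, b, h1, h2⟩ := kap_surj hXS x y hz (kap hXS.2.1 x g) (kap hXS.2.1 y g)
  refine ⟨a, b, ?_⟩
  unfold Cxy
  rw [MonoidHom.mem_ker, MonoidHom.prod_apply, Prod.mk_eq_one]
  constructor
  · rw [map_mul, map_inv, h1, mul_inv_cancel]
  · rw [map_mul, map_inv, h2, mul_inv_cancel]

theorem index_Cxy (hXS : XS p E) (x y : E) (hz : ⁅x, y⁆ ≠ 1) :
    (Cxy hXS.2.1 x y).index = p * p := by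
  have hsurj : Function.Surjective ((kap hXS.2.1 x).prod (kap hXS.2.1 y)) := by
    rintro ⟨u, v⟩
    obtain ⟨a, b, h1, h2⟩ := kap_surj hXS x y hz u v
    exact ⟨x ^ a * y ^ b, Prod.ext h1 h2⟩
  unfold Cxy
  rw [Subgroup.index_ker, MonoidHom.range_eq_top.2 hsurj, Subgroup.card_top, Nat.card_prod,
    hXS.2.2]

theorem center_le_Cxy (hXS : XS p E) (x y : E) (w : E) (hw : w ∈ Subgroup.center E) :
    w ∈ Cxy hXS.2.1 x y := by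
  rw [mem_Cxy]
  exact ⟨((Subgroup.mem_center_iff.1 hw) x).symm, ((Subgroup.mem_center_iff.1 hw) y).symm⟩

theorem XS_Cxy (hXS : XS p E) (x y : E) (hz : ⁅x, y⁆ ≠ 1) : XS p ↥(Cxy hXS.2.1 x y) := by
  refine ⟨trivial, ?_, ?_⟩
  · intro a b
    rw [Subgroup.mem_center_iff]
    intro g
    apply Subtype.ext
    exact (Subgroup.mem_center_iff.1 (hXS.2.1 (a : E) (b : E))) (g : E)
  · have hmap : (Subgroup.center ↥(Cxy hXS.2.1 x y)).map (Cxy hXS.2.1 x y).subtype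
        = Subgroup.center E := by
      apply le_antisymm
      · rintro _ ⟨w, hw, rfl⟩
        rw [Subgroup.mem_center_iff]
        intro g
        obtain ⟨a, b, hab⟩ := decomp hXS x y hz g
        have hwx : (w : E) * x = x * (w : E) := ((mem_Cxy hXS.2.1 x y _).1 w.2).1
        have hwy : (w : E) * y = y * (w : E) := ((mem_Cxy hXS.2.1 x y _).1 w.2).2
        have hwc : (w : E) * (g * (x ^ a * y ^ b)⁻¹) = (g * (x ^ a * y ^ b)⁻¹) * (w : E) := by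
          have h3 := (Subgroup.mem_center_iff.1 hw) ⟨g * (x ^ a * y ^ b)⁻¹, hab⟩
          exact (congrArg Subtype.val h3).symm
        have hwxy : (w : E) * (x ^ a * y ^ b) = (x ^ a * y ^ b) * (w : E) :=
          (((show Commute (w : E) x from hwx).zpow_right a).mul_right
            ((show Commute (w : E) y from hwy).zpow_right b)).eq
        exact comm_of_decomp (w : E) g (x ^ a * y ^ b) hwc hwxy
      · intro w hw
        refine ⟨⟨w, center_le_Cxy hXS x y w hw⟩, Subgroup.mem_center_iff.2 (fun g => ?_), rfl⟩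
        exact Subtype.ext ((Subgroup.mem_center_iff.1 hw) (g : E))
    have h5 : Nat.card ↥((Subgroup.center ↥(Cxy hXS.2.1 x y)).map (Cxy hXS.2.1 x y).subtype)
        = Nat.card ↥(Subgroup.center ↥(Cxy hXS.2.1 x y)) :=
      Subgroup.card_map_of_injective (Subgroup.subtype_injective _)
    rw [hmap] at h5
    exact h5.symm.trans hXS.2.2

theorem exists_pair (hXS : XS p E) (hna : ∃ a b : E, a * b ≠ b * a) (z : E)
    (hzc : z ∈ Subgroup.center E) : ∃ x y : E, ⁅x, y⁆ = z := by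
  obtain ⟨a, b, hab⟩ := hna
  have hne : ⁅a, b⁆ ≠ 1 := fun h => hab (commutatorElement_eq_one_iff_commute.1 h).eq
  obtain ⟨k, hk⟩ := zgen hXS a b hne ⟨z, hzc⟩
  refine ⟨a ^ k, b, ?_⟩
  have h1 : kap hXS.2.1 b (a ^ k) = (kap hXS.2.1 b a) ^ k := map_zpow _ _ _
  have h2 := congrArg Subtype.val h1
  have h3 := congrArg Subtype.val hk
  exact h2.trans h3.symm

theorem abelian_iff_card (hXS : XS p E) : (∀ a b : E, a * b = b * a) ↔ Nat.card E = p := by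
  constructor
  · intro h
    have h1 : Subgroup.center E = ⊤ := by
      rw [eq_top_iff]
      intro w _
      rw [Subgroup.mem_center_iff]
      intro g
      exact h g w
    rw [← hXS.2.2, h1, Subgroup.card_top]
  · intro h a b
    have h1 : Subgroup.center E = ⊤ := by
      rw [← Subgroup.card_eq_iff_eq_top, hXS.2.2, h]
    have h2 : b ∈ Subgroup.center E := by rw [h1]; exact Subgroup.mem_top b
    exact (Subgroup.mem_center_iff.1 h2) a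

end pair

theorem step2 {E₁ : Type u} {E₂ : Type v} [Group E₁] [Group E₂] [Finite E₁] [Finite E₂]
    (h₁ : XS 2 E₁) (h₂ : XS 2 E₂) (hcard : Nat.card E₁ = Nat.card E₂)
    (x₁ y₁ : E₁) (x₂ y₂ : E₂) (hz₁ : ⁅x₁, y₁⁆ ≠ 1) (hz₂ : ⁅x₂, y₂⁆ ≠ 1)
    (htype : (x₁ ^ 2 = 1 ∧ y₁ ^ 2 = 1 ∧ x₂ ^ 2 = 1 ∧ y₂ ^ 2 = 1) ∨
      (x₁ ^ 2 = ⁅x₁, y₁⁆ ∧ y₁ ^ 2 = ⁅x₁, y₁⁆ ∧ x₂ ^ 2 = ⁅x₂, y₂⁆ ∧ y₂ ^ 2 = ⁅x₂, y₂⁆))
    (ψ : ↥(Cxy h₁.2.1 x₁ y₁) ≃* ↥(Cxy h₂.2.1 x₂ y₂))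
    (hψ : ∀ c : ↥(Cxy h₁.2.1 x₁ y₁), (c : E₁) = ⁅x₁, y₁⁆ →
      ((ψ c : ↥(Cxy h₂.2.1 x₂ y₂)) : E₂) = ⁅x₂, y₂⁆) :
    ∃ φ : E₁ ≃* E₂, φ ⁅x₁, y₁⁆ = ⁅x₂, y₂⁆ := by
  classical
  let f : ↥(Cxy h₁.2.1 x₁ y₁) →* E₁ × E₂ :=
    MonoidHom.prod (Cxy h₁.2.1 x₁ y₁).subtype ((Cxy h₂.2.1 x₂ y₂).subtype.comp ψ.toMonoidHom)
  have hf1 : ∀ c, (f c).1 = (c : E₁) := fun _ => rfl
  have hf2 : ∀ c, (f c).2 = ((ψ c : ↥(Cxy h₂.2.1 x₂ y₂)) : E₂) := fun _ => rfl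
  have hf : Function.Injective f := by
    intro a b hab
    exact Subtype.ext (congrArg Prod.fst hab)
  let D : Subgroup (E₁ × E₂) := f.range
  have hDcard : Nat.card D = Nat.card ↥(Cxy h₁.2.1 x₁ y₁) :=
    (Nat.card_congr (MonoidHom.ofInjective hf).toEquiv).symm
  let X : E₁ × E₂ := (x₁, x₂)
  let Y : E₁ × E₂ := (y₁, y₂)
  have hXD : ∀ d ∈ D, X * d = d * X := by
    rintro _ ⟨c, rfl⟩
    have e1 := ((mem_Cxy h₁.2.1 x₁ y₁ _).1 c.2).1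
    have e2 := ((mem_Cxy h₂.2.1 x₂ y₂ _).1 (ψ c).2).1
    exact Prod.ext e1.symm e2.symm
  have hYD : ∀ d ∈ D, Y * d = d * Y := by
    rintro _ ⟨c, rfl⟩
    have e1 := ((mem_Cxy h₁.2.1 x₁ y₁ _).1 c.2).2
    have e2 := ((mem_Cxy h₂.2.1 x₂ y₂ _).1 (ψ c).2).2
    exact Prod.ext e1.symm e2.symm
  have hz1C : ⁅x₁, y₁⁆ ∈ Cxy h₁.2.1 x₁ y₁ := center_le_Cxy h₁ x₁ y₁ _ (h₁.2.1 x₁ y₁)
  have hZD : ⁅X, Y⁆ ∈ D := by
    refine ⟨⟨⁅x₁, y₁⁆, hz1C⟩, ?_⟩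
    refine Prod.ext rfl ?_
    show ((ψ ⟨⁅x₁, y₁⁆, hz1C⟩ : ↥(Cxy h₂.2.1 x₂ y₂)) : E₂) = (⁅X, Y⁆).2
    rw [hψ ⟨⁅x₁, y₁⁆, hz1C⟩ rfl]; rfl
  let N : Subgroup (E₁ × E₂) := D ⊔ Subgroup.zpowers Y
  let Γ : Subgroup (E₁ × E₂) := N ⊔ Subgroup.zpowers X
  have hX2 : X ^ 2 ∈ D := by
    rcases htype with ⟨hx1, -, hx2, -⟩ | ⟨hx1, -, hx2, -⟩
    · have e : X ^ 2 = 1 := Prod.ext hx1 hx2
      rw [e]; exact D.one_mem
    · have e : X ^ 2 = ⁅X, Y⁆ := Prod.ext hx1 hx2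
      rw [e]; exact hZD
  have hY2 : Y ^ 2 ∈ D := by
    rcases htype with ⟨-, hy1, -, hy2⟩ | ⟨-, hy1, -, hy2⟩
    · have e : Y ^ 2 = 1 := Prod.ext hy1 hy2
      rw [e]; exact D.one_mem
    · have e : Y ^ 2 = ⁅X, Y⁆ := Prod.ext hy1 hy2
      rw [e]; exact hZD
  have hYnorm : Subgroup.zpowers Y ≤ Subgroup.normalizer (D : Set (E₁ × E₂)) := by
    rw [Subgroup.zpowers_le, Subgroup.mem_normalizer_iff]
    intro d
    constructor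
    · intro hd
      have e : Y * d * Y⁻¹ = d := by rw [hYD d hd, mul_inv_cancel_right]
      rw [e]; exact hd
    · intro hd
      have e1 := hYD _ hd
      have e2 : Y * d * Y⁻¹ = d := by
        have e3 : Y * (Y * d * Y⁻¹) = Y * d := by rw [e1]; group
        exact mul_left_cancel e3
      rw [← e2]; exact hd
  have hNcard : Nat.card N ≤ Nat.card ↥(Cxy h₁.2.1 x₁ y₁) * 2 := by
    calc Nat.card N ≤ Nat.card D * 2 := card_sup_zpowers_le D Y hYnorm hY2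
      _ = Nat.card ↥(Cxy h₁.2.1 x₁ y₁) * 2 := by rw [hDcard]
  have hXN : Subgroup.zpowers X ≤ Subgroup.normalizer (N : Set (E₁ × E₂)) := by
    rw [Subgroup.zpowers_le]
    have hle : N.map (MulAut.conj X).toMonoidHom ≤ N := by
      show (D ⊔ Subgroup.zpowers Y).map (MulAut.conj X).toMonoidHom ≤ N
      rw [Subgroup.map_sup, sup_le_iff]
      constructor
      · rintro _ ⟨d, hd, rfl⟩
        have e : (MulAut.conj X).toMonoidHom d = d := by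
          show X * d * X⁻¹ = d
          rw [hXD d hd, mul_inv_cancel_right]
        rw [e]; exact Subgroup.mem_sup_left hd
      · rw [MonoidHom.map_zpowers, Subgroup.zpowers_le]
        have e : (MulAut.conj X).toMonoidHom Y = ⁅X, Y⁆ * Y := by
          show X * Y * X⁻¹ = ⁅X, Y⁆ * Y
          rw [commutatorElement_def]; group
        rw [e]
        exact N.mul_mem (Subgroup.mem_sup_left hZD)
          (Subgroup.mem_sup_right (Subgroup.mem_zpowers Y))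
    have heq : N.map (MulAut.conj X).toMonoidHom = N := by
      apply Subgroup.eq_of_le_of_card_ge hle
      rw [Subgroup.card_map_of_injective (MulAut.conj X).injective]
    rw [Subgroup.mem_normalizer_iff]
    intro n
    constructor
    · intro hn
      exact hle (Subgroup.mem_map_of_mem _ hn)
    · intro hn
      rw [← heq] at hn
      obtain ⟨n', hn', hnn⟩ := Subgroup.mem_map.1 hn
      have e : n' = n := (MulAut.conj X).injective hnn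
      rw [← e]; exact hn'
  have hΓcard : Nat.card Γ ≤ Nat.card ↥(Cxy h₁.2.1 x₁ y₁) * (2 * 2) := by
    calc Nat.card Γ ≤ Nat.card N * 2 :=
          card_sup_zpowers_le N X hXN (Subgroup.mem_sup_left hX2)
      _ ≤ (Nat.card ↥(Cxy h₁.2.1 x₁ y₁) * 2) * 2 := Nat.mul_le_mul_right _ hNcard
      _ = Nat.card ↥(Cxy h₁.2.1 x₁ y₁) * (2 * 2) := by ring
  have hC₁card : Nat.card E₁ = Nat.card ↥(Cxy h₁.2.1 x₁ y₁) * (2 * 2) := by
    rw [← index_Cxy h₁ x₁ y₁ hz₁]; exact (Subgroup.card_mul_index _).symm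
  have hmemΓ : ∀ (c : ↥(Cxy h₁.2.1 x₁ y₁)) (a b : ℤ), f c * (X ^ a * Y ^ b) ∈ Γ := by
    intro c a b
    refine Γ.mul_mem (Subgroup.mem_sup_left (Subgroup.mem_sup_left ⟨c, rfl⟩)) (Γ.mul_mem ?_ ?_)
    · exact Subgroup.mem_sup_right (Subgroup.zpow_mem _ (Subgroup.mem_zpowers X) a)
    · exact Subgroup.mem_sup_left
        (Subgroup.mem_sup_right (Subgroup.zpow_mem _ (Subgroup.mem_zpowers Y) b))
  let pr₁ : ↥Γ →* E₁ := (MonoidHom.fst E₁ E₂).comp Γ.subtype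
  let pr₂ : ↥Γ →* E₂ := (MonoidHom.snd E₁ E₂).comp Γ.subtype
  have hs₁ : Function.Surjective pr₁ := by
    intro g
    obtain ⟨a, b, hab⟩ := decomp h₁ x₁ y₁ hz₁ g
    refine ⟨⟨f ⟨g * (x₁ ^ a * y₁ ^ b)⁻¹, hab⟩ * (X ^ a * Y ^ b), hmemΓ _ a b⟩, ?_⟩
    show (f ⟨g * (x₁ ^ a * y₁ ^ b)⁻¹, hab⟩ * (X ^ a * Y ^ b)).1 = g
    rw [Prod.fst_mul, Prod.fst_mul, Prod.pow_fst, Prod.pow_fst, hf1]
    show g * (x₁ ^ a * y₁ ^ b)⁻¹ * (x₁ ^ a * y₁ ^ b) = g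
    rw [inv_mul_cancel_right]
  have hs₂ : Function.Surjective pr₂ := by
    intro g
    obtain ⟨a, b, hab⟩ := decomp h₂ x₂ y₂ hz₂ g
    obtain ⟨c, hc⟩ := ψ.surjective ⟨g * (x₂ ^ a * y₂ ^ b)⁻¹, hab⟩
    refine ⟨⟨f c * (X ^ a * Y ^ b), hmemΓ c a b⟩, ?_⟩
    show (f c * (X ^ a * Y ^ b)).2 = g
    rw [Prod.snd_mul, Prod.snd_mul, Prod.pow_snd, Prod.pow_snd, hf2, hc]
    show g * (x₂ ^ a * y₂ ^ b)⁻¹ * (x₂ ^ a * y₂ ^ b) = g
    rw [inv_mul_cancel_right]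
  have hb₁ : Function.Bijective pr₁ :=
    hs₁.bijective_of_nat_card_le (by rw [hC₁card]; exact hΓcard)
  have hb₂ : Function.Bijective pr₂ :=
    hs₂.bijective_of_nat_card_le (by rw [← hcard, hC₁card]; exact hΓcard)
  let e₁ : ↥Γ ≃* E₁ := MulEquiv.ofBijective pr₁ hb₁
  let e₂ : ↥Γ ≃* E₂ := MulEquiv.ofBijective pr₂ hb₂
  refine ⟨e₁.symm.trans e₂, ?_⟩
  have hZΓ : ⁅X, Y⁆ ∈ Γ := Subgroup.mem_sup_left (Subgroup.mem_sup_left hZD)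
  have e3 : e₁ ⟨⁅X, Y⁆, hZΓ⟩ = ⁅x₁, y₁⁆ := rfl
  have e4 : e₁.symm ⁅x₁, y₁⁆ = ⟨⁅X, Y⁆, hZΓ⟩ := by rw [← e3, MulEquiv.symm_apply_apply]
  show e₂ (e₁.symm ⁅x₁, y₁⁆) = ⁅x₂, y₂⁆
  rw [e4]; rfl

section two

variable {E : Type u} [Group E] [Finite E]

theorem central_sq (hXS : XS 2 E) (z : E) (hz : z ∈ Subgroup.center E) : z ^ 2 = 1 := by
  have h1 : (⟨z, hz⟩ : ↥(Subgroup.center E)) ^ Nat.card ↥(Subgroup.center E) = 1 :=
    pow_card_eq_one'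
  rw [hXS.2.2] at h1
  exact congrArg Subtype.val h1

theorem central_cases (hXS : XS 2 E) (z : E) (hz : z ∈ Subgroup.center E) (hz1 : z ≠ 1)
    (w : E) (hw : w ∈ Subgroup.center E) : w = 1 ∨ w = z := by
  by_cases hw1 : w = 1
  · exact Or.inl hw1
  · right
    obtain ⟨y, -, hy⟩ := (Nat.card_eq_two_iff' (1 : ↥(Subgroup.center E))).1 hXS.2.2
    have h1 : (⟨w, hw⟩ : ↥(Subgroup.center E)) = y :=
      hy _ (fun h => hw1 (congrArg Subtype.val h))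
    have h2 : (⟨z, hz⟩ : ↥(Subgroup.center E)) = y :=
      hy _ (fun h => hz1 (congrArg Subtype.val h))
    exact congrArg Subtype.val (h1.trans h2.symm)

theorem central_sq' (hXS : XS 2 E) (w : ↥(Subgroup.center E)) : w ^ 2 = 1 := by
  have h1 : w ^ Nat.card ↥(Subgroup.center E) = 1 := pow_card_eq_one'
  rw [hXS.2.2] at h1
  exact h1

theorem sq_central (hXS : XS 2 E) (g : E) : g ^ 2 ∈ Subgroup.center E := by
  rw [Subgroup.mem_center_iff]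
  intro h
  have h1 : kap hXS.2.1 h (g ^ 2) = 1 := by
    rw [map_pow]
    exact central_sq' hXS _
  have h3 : ⁅g ^ 2, h⁆ = 1 := congrArg Subtype.val h1
  exact ((commutatorElement_eq_one_iff_commute.1 h3).eq).symm

theorem comm_eq (hXS : XS 2 E) (z : E) (hz : z ∈ Subgroup.center E) (hz1 : z ≠ 1) (a b : E)
    (hab : a * b ≠ b * a) : ⁅a, b⁆ = z := by
  rcases central_cases hXS z hz hz1 ⁅a, b⁆ (hXS.2.1 a b) with h | h
  · exact absurd (commutatorElement_eq_one_iff_commute.1 h).eq hab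
  · exact h

theorem hyp_of_inv (hXS : XS 2 E) (z : E) (hz : z ∈ Subgroup.center E) (hz1 : z ≠ 1) (x : E)
    (hx2 : x ^ 2 = 1) (hxz : x ∉ Subgroup.center E) : ∃ y : E, ⁅x, y⁆ = z ∧ y ^ 2 = 1 := by
  have h1 : ∃ y₀ : E, x * y₀ ≠ y₀ * x := by
    by_contra hcon
    push Not at hcon
    exact hxz (Subgroup.mem_center_iff.2 (fun g => (hcon g).symm))
  obtain ⟨y₀, hy₀⟩ := h1
  have hc : ⁅x, y₀⁆ = z := comm_eq hXS z hz hz1 x y₀ hy₀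
  rcases central_cases hXS z hz hz1 (y₀ ^ 2) (sq_central hXS y₀) with h | h
  · exact ⟨y₀, hc, h⟩
  · refine ⟨y₀ * x, ?_, ?_⟩
    · rw [← hc]; simp only [commutatorElement_def]; group
    · have hxy : x * y₀ = z * y₀ * x := by
        rw [← hc]; simp only [commutatorElement_def]; group
      have hzc' : y₀ * z = z * y₀ := (Subgroup.mem_center_iff.1 hz) y₀
      have hz2 : z ^ 2 = 1 := central_sq hXS z hz
      calc (y₀ * x) ^ 2 = y₀ * (x * y₀) * x := by rw [pow_two]; group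
        _ = y₀ * (z * y₀ * x) * x := by rw [hxy]
        _ = (y₀ * z) * y₀ * x * x := by group
        _ = (z * y₀) * y₀ * x * x := by rw [hzc']
        _ = z * y₀ ^ 2 * x ^ 2 := by rw [pow_two, pow_two]; simp only [mul_assoc]
        _ = 1 := by rw [h, hx2, mul_one, ← pow_two, hz2]

theorem exists_inv (hXS : XS 2 E) (x₀ y₀ : E) (hne : ⁅x₀, y₀⁆ ≠ 1)
    (hC : ∃ c ∈ Cxy hXS.2.1 x₀ y₀, c ∉ Subgroup.center E) :
    ∃ x : E, x ^ 2 = 1 ∧ x ∉ Subgroup.center E := by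
  have hxy : x₀ * y₀ ≠ y₀ * x₀ := fun h => hne (commutatorElement_eq_one_iff_commute.2 h)
  have hx₀ : x₀ ∉ Subgroup.center E := fun h => hxy ((Subgroup.mem_center_iff.1 h) y₀).symm
  by_cases hx2 : x₀ ^ 2 = 1
  · exact ⟨x₀, hx2, hx₀⟩
  · obtain ⟨c, hcC, hcZ⟩ := hC
    by_cases hc2 : c ^ 2 = 1
    · exact ⟨c, hc2, hcZ⟩
    · have hcx := ((mem_Cxy hXS.2.1 x₀ y₀ c).1 hcC).1
      have hcy := ((mem_Cxy hXS.2.1 x₀ y₀ c).1 hcC).2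
      have heq : c ^ 2 = x₀ ^ 2 := by
        rcases central_cases hXS (x₀ ^ 2) (sq_central hXS x₀) hx2 (c ^ 2) (sq_central hXS c)
          with h | h
        · exact absurd h hc2
        · exact h
      refine ⟨x₀ * c, ?_, ?_⟩
      · have h1 : (x₀ * c) ^ 2 = x₀ ^ 2 * c ^ 2 :=
          (show Commute x₀ c from hcx.symm).mul_pow 2
        rw [h1, heq, ← pow_two]
        exact central_sq hXS _ (sq_central hXS x₀)
      · intro hcen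
        apply hxy
        have h1 : y₀ * (x₀ * c) = (x₀ * c) * y₀ := (Subgroup.mem_center_iff.1 hcen) y₀
        have h2 : y₀ * x₀ * c = x₀ * y₀ * c := by
          calc y₀ * x₀ * c = y₀ * (x₀ * c) := by rw [mul_assoc]
            _ = (x₀ * c) * y₀ := h1
            _ = x₀ * (c * y₀) := by rw [mul_assoc]
            _ = x₀ * (y₀ * c) := by rw [hcy]
            _ = x₀ * y₀ * c := by rw [mul_assoc]
        exact (mul_right_cancel h2).symm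

theorem pair_type (hXS : XS 2 E) (hna : ∃ a b : E, a * b ≠ b * a) (z : E)
    (hz : z ∈ Subgroup.center E) (hz1 : z ≠ 1) :
    (∃ x y : E, ⁅x, y⁆ = z ∧ x ^ 2 = 1 ∧ y ^ 2 = 1) ∨
      (∃ x y : E, ⁅x, y⁆ = z ∧ x ^ 2 = z ∧ y ^ 2 = z) := by
  by_cases hT : ∃ x : E, x ^ 2 = 1 ∧ x ∉ Subgroup.center E
  · obtain ⟨x, hx2, hxz⟩ := hT
    obtain ⟨y, hy, hy2⟩ := hyp_of_inv hXS z hz hz1 x hx2 hxz
    exact Or.inl ⟨x, y, hy, hx2, hy2⟩
  · obtain ⟨a, b, hab⟩ := hna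
    have hc : ⁅a, b⁆ = z := comm_eq hXS z hz hz1 a b hab
    have ha : a ∉ Subgroup.center E := fun h => hab ((Subgroup.mem_center_iff.1 h) b).symm
    have hb : b ∉ Subgroup.center E := fun h => hab ((Subgroup.mem_center_iff.1 h) a)
    have ha2 : a ^ 2 = z := by
      rcases central_cases hXS z hz hz1 (a ^ 2) (sq_central hXS a) with h | h
      · exact absurd ⟨a, h, ha⟩ hT
      · exact h
    have hb2 : b ^ 2 = z := by
      rcases central_cases hXS z hz hz1 (b ^ 2) (sq_central hXS b) with h | h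
      · exact absurd ⟨b, h, hb⟩ hT
      · exact h
    exact Or.inr ⟨a, b, hc, ha2, hb2⟩

theorem hyp_pair_big (hXS : XS 2 E) (hna : ∃ a b : E, a * b ≠ b * a) (z : E)
    (hz : z ∈ Subgroup.center E) (hz1 : z ≠ 1) (hcard : Nat.card E ≠ 8) :
    ∃ x y : E, ⁅x, y⁆ = z ∧ x ^ 2 = 1 ∧ y ^ 2 = 1 := by
  obtain ⟨a, b, hab⟩ := hna
  have hne : ⁅a, b⁆ ≠ 1 := fun h => hab (commutatorElement_eq_one_iff_commute.1 h).eq
  have hidx := index_Cxy hXS a b hne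
  have hC : ∃ c ∈ Cxy hXS.2.1 a b, c ∉ Subgroup.center E := by
    by_contra hcon
    push Not at hcon
    have h1 : Cxy hXS.2.1 a b = Subgroup.center E :=
      le_antisymm hcon (fun w hw => center_le_Cxy hXS a b w hw)
    have h2 : Nat.card ↥(Cxy hXS.2.1 a b) * (Cxy hXS.2.1 a b).index = Nat.card E :=
      Subgroup.card_mul_index _
    rw [hidx, h1, hXS.2.2] at h2
    exact hcard (by omega)
  obtain ⟨x, hx2, hxz⟩ := exists_inv hXS a b hne hC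
  obtain ⟨y, hy, hy2⟩ := hyp_of_inv hXS z hz hz1 x hx2 hxz
  exact ⟨x, y, hy, hx2, hy2⟩

end two

theorem iso_card_two {A : Type u} {B : Type v} [Group A] [Group B] (hA : Nat.card A = 2)
    (hB : Nat.card B = 2) (a : A) (b : B) (ha : a ≠ 1) (hb : b ≠ 1) :
    ∃ ψ : A ≃* B, ψ a = b := by
  have hg₁ : ∀ x : A, x ∈ Subgroup.zpowers a := fun x => mem_zpowers_of_prime_card hA ha
  have hg₂ : ∀ x : B, x ∈ Subgroup.zpowers b := fun x => mem_zpowers_of_prime_card hB hb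
  have ho : orderOf a = orderOf b := by
    have h1 : a ^ 2 = 1 := by rw [← hA]; exact pow_card_eq_one'
    have h2 : b ^ 2 = 1 := by rw [← hB]; exact pow_card_eq_one'
    rw [orderOf_eq_prime h1 ha, orderOf_eq_prime h2 hb]
  exact ⟨mulEquivOfOrderOfEq hg₁ hg₂ ho, mulEquivOfOrderOfEq_apply_gen hg₁ hg₂ ho⟩

theorem glue_small {E₁ : Type u} {E₂ : Type v} [Group E₁] [Group E₂] [Finite E₁] [Finite E₂]
    (h₁ : XS 2 E₁) (h₂ : XS 2 E₂) (hc₁ : Nat.card E₁ = 8) (hc₂ : Nat.card E₂ = 8)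
    (z₁ : E₁) (z₂ : E₂) (hz₁ : z₁ ≠ 1) (hz₂ : z₂ ≠ 1)
    (x₁ y₁ : E₁) (x₂ y₂ : E₂) (hxy₁ : ⁅x₁, y₁⁆ = z₁) (hxy₂ : ⁅x₂, y₂⁆ = z₂)
    (htype : (x₁ ^ 2 = 1 ∧ y₁ ^ 2 = 1 ∧ x₂ ^ 2 = 1 ∧ y₂ ^ 2 = 1) ∨
      (x₁ ^ 2 = z₁ ∧ y₁ ^ 2 = z₁ ∧ x₂ ^ 2 = z₂ ∧ y₂ ^ 2 = z₂)) :
    ∃ φ : E₁ ≃* E₂, φ z₁ = z₂ := by
  subst hxy₁ hxy₂
  have hC₁ : Nat.card ↥(Cxy h₁.2.1 x₁ y₁) = 2 := by
    have h := Subgroup.card_mul_index (Cxy h₁.2.1 x₁ y₁)
    rw [index_Cxy h₁ x₁ y₁ hz₁, hc₁] at h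
    omega
  have hC₂ : Nat.card ↥(Cxy h₂.2.1 x₂ y₂) = 2 := by
    have h := Subgroup.card_mul_index (Cxy h₂.2.1 x₂ y₂)
    rw [index_Cxy h₂ x₂ y₂ hz₂, hc₂] at h
    omega
  have hz1C := center_le_Cxy h₁ x₁ y₁ _ (h₁.2.1 x₁ y₁)
  have hz2C := center_le_Cxy h₂ x₂ y₂ _ (h₂.2.1 x₂ y₂)
  obtain ⟨ψ, hψ⟩ := iso_card_two hC₁ hC₂ (⟨⁅x₁, y₁⁆, hz1C⟩ : ↥(Cxy h₁.2.1 x₁ y₁))
    (⟨⁅x₂, y₂⁆, hz2C⟩ : ↥(Cxy h₂.2.1 x₂ y₂)) (fun h => hz₁ (congrArg Subtype.val h))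
    (fun h => hz₂ (congrArg Subtype.val h))
  refine step2 h₁ h₂ (hc₁.trans hc₂.symm) x₁ y₁ x₂ y₂ hz₁ hz₂ htype ψ ?_
  intro c hc
  have e : c = ⟨⁅x₁, y₁⁆, hz1C⟩ := Subtype.ext hc
  rw [e, hψ]

theorem main2 : ∀ n : ℕ, ∀ (E₁ : Type u) (E₂ : Type v) (E₃ : Type w) [Group E₁] [Group E₂]
    [Group E₃] [Finite E₁] [Finite E₂] [Finite E₃], XS 2 E₁ → XS 2 E₂ → XS 2 E₃ →
    Nat.card E₁ = n → Nat.card E₂ = n → Nat.card E₃ = n →
    ∀ (z₁ : E₁) (z₂ : E₂) (z₃ : E₃), z₁ ∈ Subgroup.center E₁ → z₁ ≠ 1 →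
      z₂ ∈ Subgroup.center E₂ → z₂ ≠ 1 → z₃ ∈ Subgroup.center E₃ → z₃ ≠ 1 →
      (∃ φ : E₁ ≃* E₂, φ z₁ = z₂) ∨ (∃ φ : E₂ ≃* E₃, φ z₂ = z₃) ∨
        (∃ φ : E₁ ≃* E₃, φ z₁ = z₃) := by
  intro n
  induction n using Nat.strong_induction_on with
  | _ n ih =>
    intro E₁ E₂ E₃ _ _ _ _ _ _ h₁ h₂ h₃ hn₁ hn₂ hn₃ z₁ z₂ z₃ hz₁c hz₁ hz₂c hz₂ hz₃c hz₃
    by_cases hab : ∀ a b : E₁, a * b = b * a
    · have hc₁ : Nat.card E₁ = 2 := (abelian_iff_card h₁).1 hab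
      have hc₂ : Nat.card E₂ = 2 := by rw [hn₂, ← hn₁, hc₁]
      exact Or.inl (iso_card_two hc₁ hc₂ z₁ z₂ hz₁ hz₂)
    · have hna₁ : ∃ a b : E₁, a * b ≠ b * a := by
        by_contra hcon
        push Not at hcon
        exact hab hcon
      have hn2 : n ≠ 2 := fun h => hab ((abelian_iff_card h₁).2 (hn₁.trans h))
      have hna₂ : ∃ a b : E₂, a * b ≠ b * a := by
        by_contra hcon
        push Not at hcon
        exact hn2 (hn₂.symm.trans ((abelian_iff_card h₂).1 hcon))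
      have hna₃ : ∃ a b : E₃, a * b ≠ b * a := by
        by_contra hcon
        push Not at hcon
        exact hn2 (hn₃.symm.trans ((abelian_iff_card h₃).1 hcon))
      by_cases h8 : n = 8
      · have t₁ := pair_type h₁ hna₁ z₁ hz₁c hz₁
        have t₂ := pair_type h₂ hna₂ z₂ hz₂c hz₂
        have t₃ := pair_type h₃ hna₃ z₃ hz₃c hz₃
        have c₁ := hn₁.trans h8
        have c₂ := hn₂.trans h8
        have c₃ := hn₃.trans h8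
        rcases t₁ with ⟨x₁, y₁, e₁, a₁, b₁⟩ | ⟨x₁, y₁, e₁, a₁, b₁⟩ <;>
        rcases t₂ with ⟨x₂, y₂, e₂, a₂, b₂⟩ | ⟨x₂, y₂, e₂, a₂, b₂⟩ <;>
        rcases t₃ with ⟨x₃, y₃, e₃, a₃, b₃⟩ | ⟨x₃, y₃, e₃, a₃, b₃⟩
        · exact Or.inl (glue_small h₁ h₂ c₁ c₂ z₁ z₂ hz₁ hz₂ x₁ y₁ x₂ y₂ e₁ e₂
            (Or.inl ⟨a₁, b₁, a₂, b₂⟩))
        · exact Or.inl (glue_small h₁ h₂ c₁ c₂ z₁ z₂ hz₁ hz₂ x₁ y₁ x₂ y₂ e₁ e₂
            (Or.inl ⟨a₁, b₁, a₂, b₂⟩))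
        · exact Or.inr (Or.inr (glue_small h₁ h₃ c₁ c₃ z₁ z₃ hz₁ hz₃ x₁ y₁ x₃ y₃ e₁ e₃
            (Or.inl ⟨a₁, b₁, a₃, b₃⟩)))
        · exact Or.inr (Or.inl (glue_small h₂ h₃ c₂ c₃ z₂ z₃ hz₂ hz₃ x₂ y₂ x₃ y₃ e₂ e₃
            (Or.inr ⟨a₂, b₂, a₃, b₃⟩)))
        · exact Or.inr (Or.inl (glue_small h₂ h₃ c₂ c₃ z₂ z₃ hz₂ hz₃ x₂ y₂ x₃ y₃ e₂ e₃
            (Or.inl ⟨a₂, b₂, a₃, b₃⟩)))
        · exact Or.inr (Or.inr (glue_small h₁ h₃ c₁ c₃ z₁ z₃ hz₁ hz₃ x₁ y₁ x₃ y₃ e₁ e₃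
            (Or.inr ⟨a₁, b₁, a₃, b₃⟩)))
        · exact Or.inl (glue_small h₁ h₂ c₁ c₂ z₁ z₂ hz₁ hz₂ x₁ y₁ x₂ y₂ e₁ e₂
            (Or.inr ⟨a₁, b₁, a₂, b₂⟩))
        · exact Or.inl (glue_small h₁ h₂ c₁ c₂ z₁ z₂ hz₁ hz₂ x₁ y₁ x₂ y₂ e₁ e₂
            (Or.inr ⟨a₁, b₁, a₂, b₂⟩))
      · obtain ⟨x₁, y₁, e₁, a₁, b₁⟩ := hyp_pair_big h₁ hna₁ z₁ hz₁c hz₁ (by rw [hn₁]; exact h8)
        obtain ⟨x₂, y₂, e₂, a₂, b₂⟩ := hyp_pair_big h₂ hna₂ z₂ hz₂c hz₂ (by rw [hn₂]; exact h8)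
        obtain ⟨x₃, y₃, e₃, a₃, b₃⟩ := hyp_pair_big h₃ hna₃ z₃ hz₃c hz₃ (by rw [hn₃]; exact h8)
        subst e₁ e₂ e₃
        have hm₁ : Nat.card ↥(Cxy h₁.2.1 x₁ y₁) * (2 * 2) = n := by
          rw [← index_Cxy h₁ x₁ y₁ hz₁, Subgroup.card_mul_index, hn₁]
        have hm₂ : Nat.card ↥(Cxy h₂.2.1 x₂ y₂) * (2 * 2) = n := by
          rw [← index_Cxy h₂ x₂ y₂ hz₂, Subgroup.card_mul_index, hn₂]
        have hm₃ : Nat.card ↥(Cxy h₃.2.1 x₃ y₃) * (2 * 2) = n := by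
          rw [← index_Cxy h₃ x₃ y₃ hz₃, Subgroup.card_mul_index, hn₃]
        have hpos : 0 < Nat.card ↥(Cxy h₁.2.1 x₁ y₁) := Nat.card_pos
        have hlt : Nat.card ↥(Cxy h₁.2.1 x₁ y₁) < n := by omega
        have hceq₂ : Nat.card ↥(Cxy h₂.2.1 x₂ y₂) = Nat.card ↥(Cxy h₁.2.1 x₁ y₁) := by omega
        have hceq₃ : Nat.card ↥(Cxy h₃.2.1 x₃ y₃) = Nat.card ↥(Cxy h₁.2.1 x₁ y₁) := by omega
        have hz1C := center_le_Cxy h₁ x₁ y₁ _ hz₁c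
        have hz2C := center_le_Cxy h₂ x₂ y₂ _ hz₂c
        have hz3C := center_le_Cxy h₃ x₃ y₃ _ hz₃c
        have hcen₁ : (⟨⁅x₁, y₁⁆, hz1C⟩ : ↥(Cxy h₁.2.1 x₁ y₁)) ∈
            Subgroup.center ↥(Cxy h₁.2.1 x₁ y₁) :=
          Subgroup.mem_center_iff.2
            (fun g => Subtype.ext ((Subgroup.mem_center_iff.1 hz₁c) (g : E₁)))
        have hcen₂ : (⟨⁅x₂, y₂⁆, hz2C⟩ : ↥(Cxy h₂.2.1 x₂ y₂)) ∈
            Subgroup.center ↥(Cxy h₂.2.1 x₂ y₂) :=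
          Subgroup.mem_center_iff.2
            (fun g => Subtype.ext ((Subgroup.mem_center_iff.1 hz₂c) (g : E₂)))
        have hcen₃ : (⟨⁅x₃, y₃⁆, hz3C⟩ : ↥(Cxy h₃.2.1 x₃ y₃)) ∈
            Subgroup.center ↥(Cxy h₃.2.1 x₃ y₃) :=
          Subgroup.mem_center_iff.2
            (fun g => Subtype.ext ((Subgroup.mem_center_iff.1 hz₃c) (g : E₃)))
        rcases ih _ hlt ↥(Cxy h₁.2.1 x₁ y₁) ↥(Cxy h₂.2.1 x₂ y₂) ↥(Cxy h₃.2.1 x₃ y₃)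
          (XS_Cxy h₁ x₁ y₁ hz₁) (XS_Cxy h₂ x₂ y₂ hz₂) (XS_Cxy h₃ x₃ y₃ hz₃) rfl hceq₂ hceq₃
          ⟨⁅x₁, y₁⁆, hz1C⟩ ⟨⁅x₂, y₂⁆, hz2C⟩ ⟨⁅x₃, y₃⁆, hz3C⟩
          hcen₁ (fun h => hz₁ (congrArg Subtype.val h))
          hcen₂ (fun h => hz₂ (congrArg Subtype.val h))
          hcen₃ (fun h => hz₃ (congrArg Subtype.val h)) with ⟨ψ, hψ⟩ | ⟨ψ, hψ⟩ | ⟨ψ, hψ⟩
        · refine Or.inl (step2 h₁ h₂ (hn₁.trans hn₂.symm) x₁ y₁ x₂ y₂ hz₁ hz₂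
            (Or.inl ⟨a₁, b₁, a₂, b₂⟩) ψ ?_)
          intro c hc
          have e : c = ⟨⁅x₁, y₁⁆, hz1C⟩ := Subtype.ext hc
          rw [e, hψ]
        · refine Or.inr (Or.inl (step2 h₂ h₃ (hn₂.trans hn₃.symm) x₂ y₂ x₃ y₃ hz₂ hz₃
            (Or.inl ⟨a₂, b₂, a₃, b₃⟩) ψ ?_))
          intro c hc
          have e : c = ⟨⁅x₂, y₂⁆, hz2C⟩ := Subtype.ext hc
          rw [e, hψ]
        · refine Or.inr (Or.inr (step2 h₁ h₃ (hn₁.trans hn₃.symm) x₁ y₁ x₃ y₃ hz₁ hz₃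
            (Or.inl ⟨a₁, b₁, a₃, b₃⟩) ψ ?_))
          intro c hc
          have e : c = ⟨⁅x₁, y₁⁆, hz1C⟩ := Subtype.ext hc
          rw [e, hψ]

theorem xs_of_extraspecial {E : Type*} [Group E] (h : Cfsg.IsExtraspecial 2 E) : XS 2 E := by
  refine ⟨trivial, fun a b => ?_, h.2⟩
  have h1 : ⁅a, b⁆ ∈ commutator E :=
    Subgroup.commutator_mem_commutator (Subgroup.mem_top a) (Subgroup.mem_top b)
  rw [h.1.2.2] at h1
  exact h1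

theorem exists_central_ne_one {E : Type*} [Group E] [Finite E] {p : ℕ} [Fact p.Prime]
    (hX : XS p E) : ∃ z : E, z ∈ Subgroup.center E ∧ z ≠ 1 := by
  have hp : p.Prime := Fact.out
  haveI : Nontrivial ↥(Subgroup.center E) :=
    Finite.one_lt_card_iff_nontrivial.1 (by rw [hX.2.2]; exact hp.one_lt)
  obtain ⟨w, hw⟩ := exists_ne (1 : ↥(Subgroup.center E))
  exact ⟨w.1, w.2, fun h => hw (Subtype.ext h)⟩

/-- Among three extraspecial 2-groups of equal order, some two are isomorphic. -/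
theorem result {E₁ : Type*} {E₂ : Type*} {E₃ : Type*} [Group E₁] [Group E₂] [Group E₃] [Finite E₁] [Finite E₂] [Finite E₃] (h₁ : Cfsg.IsExtraspecial 2 E₁) (h₂ : Cfsg.IsExtraspecial 2 E₂) (h₃ : Cfsg.IsExtraspecial 2 E₃) (h12 : Nat.card E₁ = Nat.card E₂) (h23 : Nat.card E₂ = Nat.card E₃) : Nonempty (E₁ ≃* E₂) ∨ Nonempty (E₂ ≃* E₃) ∨ Nonempty (E₁ ≃* E₃) := by
  have hX₁ : XS 2 E₁ := xs_of_extraspecial h₁
  have hX₂ : XS 2 E₂ := xs_of_extraspecial h₂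
  have hX₃ : XS 2 E₃ := xs_of_extraspecial h₃
  obtain ⟨z₁, hz₁⟩ := exists_central_ne_one hX₁
  obtain ⟨z₂, hz₂⟩ := exists_central_ne_one hX₂
  obtain ⟨z₃, hz₃⟩ := exists_central_ne_one hX₃
  rcases main2 (Nat.card E₁) E₁ E₂ E₃ hX₁ hX₂ hX₃ rfl h12.symm (h12.trans h23).symm
    z₁ z₂ z₃ hz₁.1 hz₁.2 hz₂.1 hz₂.2 hz₃.1 hz₃.2 with ⟨φ, -⟩ | ⟨φ, -⟩ | ⟨φ, -⟩
  · exact Or.inl ⟨φ⟩
  · exact Or.inr (Or.inl ⟨φ⟩)
  · exact Or.inr (Or.inr ⟨φ⟩)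

end Cfsg.Agent.S0099
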