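import Cfsg.Statements.S0115
import Mathlib
import Cfsg.Agent.Lib.Helper8.MaxClass2
import Cfsg.Agent.Lib.Helper8.Q8Aut
import Cfsg.Agent.Lib.Helper3.GT1

set_option autoImplicit false
open Cfsg

namespace Cfsg.Agent.S0115

open Cfsg.Agent.Lib.Helper8
open scoped commutatorElement

universe u

theorem comm_of_cyclic_ab {G : Type*} [Group G] [Group.IsNilpotent G]
    (hcyc : IsCyclic (G ⧸ commutator G)) : ∀ a b : G, a * b = b * a := by
  have hKle : ⁅commutator G, (⊤ : Subgroup G)⁆ ≤ commutator G := Subgroup.commutator_le_left _ _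
  let f : G ⧸ ⁅commutator G, (⊤ : Subgroup G)⁆ →* G ⧸ commutator G :=
    QuotientGroup.map _ (commutator G) (MonoidHom.id G) hKle
  have hker : f.ker ≤ Subgroup.center (G ⧸ ⁅commutator G, (⊤ : Subgroup G)⁆) := by
    intro x hx
    obtain ⟨g, rfl⟩ := QuotientGroup.mk_surjective x
    have hg : g ∈ commutator G := by
      rw [MonoidHom.mem_ker] at hx
      exact (QuotientGroup.eq_one_iff g).mp hx
    rw [Subgroup.mem_center_iff]
    intro y
    obtain ⟨h, rfl⟩ := QuotientGroup.mk_surjective y
    rw [← QuotientGroup.mk_mul, ← QuotientGroup.mk_mul, QuotientGroup.eq]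
    have e : (h * g)⁻¹ * (g * h) = ⁅g⁻¹, h⁻¹⁆ := by
      rw [commutatorElement_def]; group
    rw [e]
    exact Subgroup.commutator_mem_commutator (Subgroup.inv_mem _ hg) (Subgroup.mem_top _)
  have hcomm := commutative_of_cyclic_center_quotient f hker
  have hle : commutator G ≤ ⁅commutator G, (⊤ : Subgroup G)⁆ := by
    rw [commutator_def, Subgroup.commutator_le]
    intro a _ b _
    rw [← QuotientGroup.eq_one_iff]
    have h1 : ((⁅a, b⁆ : G) : G ⧸ ⁅commutator G, (⊤ : Subgroup G)⁆) =
        ⁅(a : G ⧸ ⁅commutator G, (⊤ : Subgroup G)⁆), (b : G ⧸ ⁅commutator G, (⊤ : Subgroup G)⁆)⁆ := rfl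
    exact h1.trans (commutatorElement_eq_one_iff_mul_comm.mpr (hcomm _ _))
  have hbot : commutator G = ⊥ := h8_eq_bot_of_le_commutator_top (commutator G) hle
  intro a b
  have h1 : ⁅a, b⁆ ∈ commutator G :=
    Subgroup.commutator_mem_commutator (Subgroup.mem_top a) (Subgroup.mem_top b)
  rw [hbot, Subgroup.mem_bot, commutatorElement_eq_one_iff_mul_comm] at h1
  exact h1

theorem card_of_abelian_index_two {X : Type*} [Group X] [Finite X] (C : Subgroup X)
    (hC : ∀ a ∈ C, ∀ b ∈ C, a * b = b * a) (hidx : C.index = 2)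
    (hna : ¬ ∀ a b : X, a * b = b * a) :
    Nat.card C = Nat.card (commutator X) * Nat.card (Subgroup.center X) := by
  classical
  have hCn : C.Normal := Subgroup.normal_of_index_eq_two hidx
  obtain ⟨b, hb⟩ : ∃ b, b ∉ C := by
    by_contra h
    have h1 : C = ⊤ := eq_top_iff.mpr (fun x _ => by_contra (fun hx => h ⟨x, hx⟩))
    rw [h1, Subgroup.index_top] at hidx
    omega
  have hout : ∀ g : X, g ∉ C → ∃ x ∈ C, g = b * x := by
    intro g hg
    refine ⟨b⁻¹ * g, ?_, by group⟩
    rw [Subgroup.mul_mem_iff_of_index_two hidx]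
    constructor
    · intro h; exact absurd ((Subgroup.inv_mem_iff _).mp h) hb
    · intro h; exact absurd h hg
  have hZC : Subgroup.center X ≤ C := by
    intro z hz
    by_contra hzc
    apply hna
    have hz' : ∀ g : X, g * z = z * g := Subgroup.mem_center_iff.mp hz
    have key : ∀ g : X, ∃ x ∈ C, g = x ∨ g = z * x := by
      intro g
      by_cases hg : g ∈ C
      · exact ⟨g, hg, Or.inl rfl⟩
      · refine ⟨z⁻¹ * g, ?_, Or.inr (by group)⟩
        rw [Subgroup.mul_mem_iff_of_index_two hidx]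
        constructor
        · intro h; exact absurd ((Subgroup.inv_mem_iff _).mp h) hzc
        · intro h; exact absurd h hg
    intro a b'
    obtain ⟨x, hx, hi | hi⟩ := key a <;> obtain ⟨y, hy, hj | hj⟩ := key b'
    · rw [hi, hj]; exact hC x hx y hy
    · rw [hi, hj, ← mul_assoc, hz', mul_assoc, hC x hx y hy, mul_assoc]
    · rw [hi, hj, mul_assoc, hC x hx y hy, ← mul_assoc, ← hz', mul_assoc]
    · rw [hi, hj]
      calc z * x * (z * y) = z * (x * z) * y := by group
        _ = z * (z * x) * y := by rw [hz']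
        _ = z * z * (x * y) := by group
        _ = z * z * (y * x) := by rw [hC x hx y hy]
        _ = z * (z * y) * x := by group
        _ = z * (y * z) * x := by rw [hz']
        _ = z * y * (z * x) := by group
  have hmem : ∀ x ∈ C, x * b * x⁻¹ * b⁻¹ ∈ C := by
    intro x hx
    have h1 : b * x⁻¹ * b⁻¹ ∈ C := hCn.conj_mem _ (C.inv_mem hx) b
    have h2 : x * b * x⁻¹ * b⁻¹ = x * (b * x⁻¹ * b⁻¹) := by group
    rw [h2]; exact C.mul_mem hx h1
  let φ : C →* C := MonoidHom.mk' (fun x => ⟨(x : X) * b * (x : X)⁻¹ * b⁻¹, hmem x x.2⟩) (by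
    intro x y
    apply Subtype.ext
    show ((x * y : C) : X) * b * ((x * y : C) : X)⁻¹ * b⁻¹ =
      ((x : X) * b * (x : X)⁻¹ * b⁻¹) * ((y : X) * b * (y : X)⁻¹ * b⁻¹)
    have hu : b * (x : X)⁻¹ * b⁻¹ ∈ C := hCn.conj_mem _ (C.inv_mem x.2) b
    have hv : b * (y : X)⁻¹ * b⁻¹ ∈ C := hCn.conj_mem _ (C.inv_mem y.2) b
    have e1 : (x : X) * y * b * ((x : X) * y)⁻¹ * b⁻¹ =
        x * (y * (b * (y : X)⁻¹ * b⁻¹) * (b * (x : X)⁻¹ * b⁻¹)) := by group
    have e2 : (x : X) * b * (x : X)⁻¹ * b⁻¹ * (y * b * (y : X)⁻¹ * b⁻¹) =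
        x * ((b * (x : X)⁻¹ * b⁻¹) * (y * (b * (y : X)⁻¹ * b⁻¹))) := by group
    rw [Subgroup.coe_mul, e1, e2, hC _ (C.mul_mem y.2 hv) _ hu])
  have hφ : ∀ x : C, ((φ x : C) : X) = (x : X) * b * (x : X)⁻¹ * b⁻¹ := fun x => rfl
  have hker : φ.ker = (Subgroup.center X).subgroupOf C := by
    ext x
    rw [MonoidHom.mem_ker, Subgroup.mem_subgroupOf, Subgroup.mem_center_iff]
    constructor
    · intro h
      have h1 : (x : X) * b * (x : X)⁻¹ * b⁻¹ = 1 := by rw [← hφ, h]; rfl
      have h2 := mul_inv_eq_one.mp h1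
      have hxb : (x : X) * b = b * x := by
        calc (x : X) * b = (x * b * (x : X)⁻¹) * x := by group
          _ = b * x := by rw [h2]
      intro g
      by_cases hg : g ∈ C
      · exact hC g hg x x.2
      · obtain ⟨y, hy, rfl⟩ := hout g hg
        calc b * y * x = b * (y * x) := by group
          _ = b * (x * y) := by rw [hC y hy x x.2]
          _ = (b * x) * y := by group
          _ = x * b * y := by rw [hxb]
          _ = x * (b * y) := by group
    · intro h
      apply Subtype.ext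
      rw [hφ, ← h b]
      show b * (x : X) * (x : X)⁻¹ * b⁻¹ = 1
      group
  have hrange : φ.range.map C.subtype = commutator X := by
    apply le_antisymm
    · rintro _ ⟨_, ⟨x, rfl⟩, rfl⟩
      show ((φ x : C) : X) ∈ commutator X
      rw [hφ]
      exact Subgroup.commutator_mem_commutator (Subgroup.mem_top (x : X)) (Subgroup.mem_top b)
    · have hR : ∀ y ∈ C, y * b * y⁻¹ * b⁻¹ ∈ φ.range.map C.subtype :=
        fun y hy => ⟨φ ⟨y, hy⟩, ⟨⟨y, hy⟩, rfl⟩, rfl⟩
      have c1 : ∀ g : X, g ∉ C → ∀ y ∈ C, ⁅g, y⁆ ∈ φ.range.map C.subtype := by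
        intro g hg y hy
        obtain ⟨x, hx, rfl⟩ := hout g hg
        have e : ⁅b * x, y⁆ = (y * b * y⁻¹ * b⁻¹)⁻¹ := by
          rw [commutatorElement_def]
          calc b * x * y * (b * x)⁻¹ * y⁻¹ = b * (x * y) * x⁻¹ * b⁻¹ * y⁻¹ := by group
            _ = b * (y * x) * x⁻¹ * b⁻¹ * y⁻¹ := by rw [hC x hx y hy]
            _ = (y * b * y⁻¹ * b⁻¹)⁻¹ := by group
        rw [e]; exact Subgroup.inv_mem _ (hR y hy)
      have c2 : ∀ g : X, ∀ y ∈ C, ⁅g, y⁆ ∈ φ.range.map C.subtype := by
        intro g y hy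
        by_cases hg : g ∈ C
        · have h1 : ⁅g, y⁆ = 1 := by
            rw [commutatorElement_eq_one_iff_mul_comm]; exact hC g hg y hy
          rw [h1]; exact Subgroup.one_mem _
        · exact c1 g hg y hy
      rw [commutator_def, Subgroup.commutator_le]
      intro g _ h _
      by_cases hh : h ∈ C
      · exact c2 g h hh
      · by_cases hg : g ∈ C
        · have h1 : ⁅g, h⁆ = ⁅h, g⁆⁻¹ := (commutatorElement_inv h g).symm
          rw [h1]; exact Subgroup.inv_mem _ (c2 h g hg)
        · have hy : g⁻¹ * h ∈ C := by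
            rw [Subgroup.mul_mem_iff_of_index_two hidx]
            constructor
            · intro h'; exact absurd ((Subgroup.inv_mem_iff _).mp h') hg
            · intro h'; exact absurd h' hh
          have hy' : g * (g⁻¹ * h) * g⁻¹ ∈ C := hCn.conj_mem _ hy g
          have e : ⁅g, h⁆ = ⁅g, g * (g⁻¹ * h) * g⁻¹⁆ := by
            rw [commutatorElement_def, commutatorElement_def]; group
          rw [e]; exact c2 g _ hy'
  have h1 := Subgroup.card_mul_index φ.ker
  rw [Subgroup.index_ker, hker] at h1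
  have h2 : Nat.card ((Subgroup.center X).subgroupOf C) = Nat.card (Subgroup.center X) :=
    Nat.card_congr (Subgroup.subgroupOfEquivOfLe hZC).toEquiv
  have h3 : Nat.card φ.range = Nat.card (commutator X) := by
    rw [← hrange]
    exact (Subgroup.card_map_of_injective C.subtype_injective).symm
  rw [h2, h3] at h1
  rw [← h1, mul_comm]

theorem class_of_quot {X : Type*} [Group X] [Group.IsNilpotent X] [Nontrivial X]
    (Z₀ : Subgroup X) [Z₀.Normal] (h : Z₀ = Subgroup.center X) (k : ℕ)
    (hk : Group.nilpotencyClass (X ⧸ Z₀) = k) : Group.nilpotencyClass X = k + 1 := by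
  subst h
  rw [Group.nilpotencyClass_eq_quotient_center_plus_one, hk]

theorem taussky : ∀ (n : ℕ) (X : Type u) [Group X] [Finite X], 3 ≤ n → Nat.card X = 2 ^ n →
    Nat.card (X ⧸ commutator X) = 4 → Group.nilpotencyClass X = n - 1 := by
  intro n
  induction n using Nat.strong_induction_on with
  | _ n ih =>
  intro X _ _ hn hX h4
  classical
  have : Fact (Nat.Prime 2) := ⟨Nat.prime_two⟩
  have hXp : IsPGroup 2 X := IsPGroup.of_card hX
  have hnil : Group.IsNilpotent X := hXp.isNilpotent
  have hpow : 2 ^ n = 2 ^ (n - 2) * 4 := by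
    rw [show (4 : ℕ) = 2 ^ 2 from rfl, ← pow_add]; congr 1; omega
  have hX' : Nat.card (commutator X) = 2 ^ (n - 2) := by
    have h1 := Subgroup.card_mul_index (commutator X)
    rw [Subgroup.index_eq_card, h4, hX, hpow] at h1
    exact Nat.eq_of_mul_eq_mul_right (by norm_num) h1
  have h2le : 2 ≤ 2 ^ (n - 2) := by
    calc 2 = 2 ^ 1 := rfl
      _ ≤ 2 ^ (n - 2) := Nat.pow_le_pow_right (by norm_num) (by omega)
  have hX'ne : commutator X ≠ ⊥ := by
    intro h
    rw [h, Subgroup.card_bot] at hX'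
    omega
  have hle := h8_class_le 2 n X hX (by omega)
  have hge : 2 ≤ Group.nilpotencyClass X := by
    by_contra hlt
    have h1 : Group.nilpotencyClass X ≤ 1 := by omega
    rw [← Subgroup.lowerCentralSeries_eq_bot_iff_nilpotencyClass_le,
      Subgroup.top_lowerCentralSeries_one] at h1
    exact hX'ne h1
  by_cases hn3 : n = 3
  · subst hn3; omega
  have hna : ¬ ∀ a b : X, a * b = b * a := by
    intro h
    have := h8_class_le_one_of_comm h
    omega
  obtain ⟨z₀, hz₀X', hz₀1, hz₀c⟩ := Cfsg.Agent.Lib.Helper3.pn_inf_center (p := 2)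
    (⊤ : Subgroup X) (commutator X) (hXp.to_subgroup ⊤) le_top
    (fun x _ d hd => (inferInstance : (commutator X).Normal).conj_mem d hd x) hX'ne
  obtain ⟨k, hk⟩ := IsPGroup.iff_orderOf.mp hXp z₀
  have hk1 : 1 ≤ k := by
    by_contra h
    have h0 : k = 0 := by omega
    rw [h0, pow_zero, orderOf_eq_one_iff] at hk
    exact hz₀1 hk
  obtain ⟨z, hzdef⟩ : ∃ z, z = z₀ ^ (2 ^ (k - 1)) := ⟨_, rfl⟩
  have hzo : orderOf z = 2 := by
    rw [hzdef, orderOf_pow_of_dvd (by positivity) (by rw [hk]; exact pow_dvd_pow 2 (by omega)), hk]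
    have h1 : 2 ^ k = 2 ^ (k - 1) * 2 := by rw [← pow_succ]; congr 1; omega
    rw [h1, Nat.mul_div_cancel_left _ (by positivity)]
  have hzX' : z ∈ commutator X := by rw [hzdef]; exact Subgroup.pow_mem _ hz₀X' _
  have hzc : ∀ x : X, x * z = z * x := by
    intro x
    rw [hzdef]
    exact (Commute.pow_right (hz₀c x (Subgroup.mem_top x)) _).eq
  have hzC : z ∈ Subgroup.center X := Subgroup.mem_center_iff.mpr hzc
  have hZ₀c : Subgroup.zpowers z ≤ Subgroup.center X := by rw [Subgroup.zpowers_le]; exact hzC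
  have hZ₀n : (Subgroup.zpowers z).Normal := by
    constructor
    intro x hx g
    have hxc := hZ₀c hx
    have h1 : g * x * g⁻¹ = x := by rw [Subgroup.mem_center_iff.mp hxc g, mul_inv_cancel_right]
    rw [h1]; exact hx
  have hZ₀card : Nat.card (Subgroup.zpowers z) = 2 := by rw [Nat.card_zpowers, hzo]
  have hZ₀X' : Subgroup.zpowers z ≤ commutator X := by rw [Subgroup.zpowers_le]; exact hzX'
  have hXbar : Nat.card (X ⧸ Subgroup.zpowers z) = 2 ^ (n - 1) := by
    have h1 := Subgroup.card_mul_index (Subgroup.zpowers z)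
    rw [hZ₀card, hX, Subgroup.index_eq_card] at h1
    have h2 : 2 ^ n = 2 * 2 ^ (n - 1) := by rw [← pow_succ']; congr 1; omega
    omega
  have hcomm_bar : commutator (X ⧸ Subgroup.zpowers z) =
      (commutator X).map (QuotientGroup.mk' (Subgroup.zpowers z)) := by
    rw [commutator_def, commutator_def, Subgroup.map_commutator,
      Subgroup.map_top_of_surjective _ (QuotientGroup.mk'_surjective _)]
  have h4bar : Nat.card ((X ⧸ Subgroup.zpowers z) ⧸ commutator (X ⧸ Subgroup.zpowers z)) = 4 := by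
    rw [← Subgroup.index_eq_card, ← Subgroup.index_comap_of_surjective _
      (QuotientGroup.mk'_surjective (Subgroup.zpowers z)), hcomm_bar, Subgroup.comap_map_eq,
      QuotientGroup.ker_mk', sup_eq_left.mpr hZ₀X', Subgroup.index_eq_card]
    exact h4
  have hclbar := ih (n - 1) (by omega) (X ⧸ Subgroup.zpowers z) (by omega) hXbar h4bar
  obtain ⟨cbar, hcbar⟩ := h8_maxclass2_cyclic_max (n - 1) (X ⧸ Subgroup.zpowers z) hXbar
    (by omega) hclbar
  have hCidx : ((Subgroup.zpowers cbar).comap (QuotientGroup.mk' (Subgroup.zpowers z))).index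
      = 2 := by
    rw [Subgroup.index_comap_of_surjective _ (QuotientGroup.mk'_surjective _)]
    have h1 := Subgroup.card_mul_index (Subgroup.zpowers cbar)
    rw [Nat.card_zpowers, hcbar, hXbar] at h1
    have h2 : 2 ^ (n - 1) = 2 ^ (n - 1 - 1) * 2 := by rw [← pow_succ]; congr 1; omega
    rw [h2] at h1
    exact Nat.eq_of_mul_eq_mul_left (by positivity) h1
  have hCab : ∀ a ∈ (Subgroup.zpowers cbar).comap (QuotientGroup.mk' (Subgroup.zpowers z)),
      ∀ b ∈ (Subgroup.zpowers cbar).comap (QuotientGroup.mk' (Subgroup.zpowers z)),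
      a * b = b * a := by
    have hker : ((QuotientGroup.mk' (Subgroup.zpowers z)).subgroupComap
        (Subgroup.zpowers cbar)).ker ≤ Subgroup.center _ := by
      intro x hx
      rw [MonoidHom.mem_ker] at hx
      have hx1 : (QuotientGroup.mk' (Subgroup.zpowers z)) (x : X) = 1 := congrArg Subtype.val hx
      have hx2 : (x : X) ∈ Subgroup.zpowers z := (QuotientGroup.eq_one_iff _).mp hx1
      rw [Subgroup.mem_center_iff]
      intro g
      apply Subtype.ext
      exact Subgroup.mem_center_iff.mp (hZ₀c hx2) (g : X)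
    have hcomm := commutative_of_cyclic_center_quotient _ hker
    intro a ha b hb
    exact congrArg Subtype.val (hcomm ⟨a, ha⟩ ⟨b, hb⟩)
  have hcardC := card_of_abelian_index_two _ hCab hCidx hna
  have hcC : Nat.card ((Subgroup.zpowers cbar).comap (QuotientGroup.mk' (Subgroup.zpowers z)))
      = 2 ^ (n - 1) := by
    have h1 := Subgroup.card_mul_index
      ((Subgroup.zpowers cbar).comap (QuotientGroup.mk' (Subgroup.zpowers z)))
    rw [hCidx, hX] at h1
    have h2 : 2 ^ n = 2 ^ (n - 1) * 2 := by rw [← pow_succ]; congr 1; omega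
    omega
  rw [hcC, hX'] at hcardC
  have hcen : Nat.card (Subgroup.center X) = 2 := by
    have h2 : 2 ^ (n - 1) = 2 ^ (n - 2) * 2 := by rw [← pow_succ]; congr 1; omega
    rw [h2] at hcardC
    exact (Nat.eq_of_mul_eq_mul_left (by positivity) hcardC).symm
  have hZeq : Subgroup.zpowers z = Subgroup.center X :=
    Subgroup.eq_of_le_of_card_ge hZ₀c (by rw [hcen, hZ₀card])
  have hnt : Nontrivial X := by
    rw [← Finite.one_lt_card_iff_nontrivial, hX]
    exact Nat.one_lt_pow (by omega) (by norm_num)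
  have hfin := class_of_quot (Subgroup.zpowers z) hZeq _ hclbar
  omega

theorem fwd {X : Type u} [Group X] [Finite X] (n : ℕ) (hn : 3 ≤ n) (hX : Nat.card X = 2 ^ n)
    (hc : Group.nilpotencyClass X = n - 1) : IsKleinFour (X ⧸ commutator X) := by
  classical
  have : Fact (Nat.Prime 2) := ⟨Nat.prime_two⟩
  have hXp : IsPGroup 2 X := IsPGroup.of_card hX
  have hnil : Group.IsNilpotent X := hXp.isNilpotent
  have hne : (⊤ : Subgroup X).lowerCentralSeries (n - 2) ≠ ⊥ := by
    rw [Ne, Subgroup.lowerCentralSeries_eq_bot_iff_nilpotencyClass_le, hc]; omega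
  have hstep : ∀ i, (⊤ : Subgroup X).lowerCentralSeries i ≠ ⊥ →
      2 * Nat.card ((⊤ : Subgroup X).lowerCentralSeries (i + 1)) ≤
        Nat.card ((⊤ : Subgroup X).lowerCentralSeries i) := by
    intro i hi
    have hle : (⊤ : Subgroup X).lowerCentralSeries (i + 1) ≤
        (⊤ : Subgroup X).lowerCentralSeries i :=
      Subgroup.lowerCentralSeries_antitone (⊤ : Subgroup X) (Nat.le_succ i)
    have hne' : (⊤ : Subgroup X).lowerCentralSeries (i + 1) ≠
        (⊤ : Subgroup X).lowerCentralSeries i := by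
      intro h
      apply hi
      apply h8_eq_bot_of_le_commutator_top
      rw [Subgroup.lowerCentralSeries_succ] at h
      exact h.ge
    obtain ⟨k, hk⟩ := Subgroup.card_dvd_of_le hle
    have hk1 : k ≠ 1 := by
      intro h
      rw [h, mul_one] at hk
      exact hne' (Subgroup.eq_of_le_of_card_ge hle hk.le)
    have hk0 : k ≠ 0 := by
      intro h
      rw [h, mul_zero] at hk
      exact Nat.card_pos.ne' hk
    have hk2 : 2 ≤ k := by omega
    rw [hk, mul_comm]
    exact Nat.mul_le_mul_left _ hk2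
  have hchain : ∀ j, j ≤ n - 3 →
      2 ^ (j + 1) ≤ Nat.card ((⊤ : Subgroup X).lowerCentralSeries (n - 2 - j)) := by
    intro j
    induction j with
    | zero =>
      intro _
      have h1 := (Subgroup.one_lt_card_iff_ne_bot _).mpr hne
      simp only [zero_add, pow_one, Nat.sub_zero]
      exact h1
    | succ j ih =>
      intro hj
      have h1 := ih (by omega)
      have h2j : 2 ≤ 2 ^ (j + 1) := by
        calc 2 = 2 ^ 1 := rfl
          _ ≤ 2 ^ (j + 1) := Nat.pow_le_pow_right (by norm_num) (by omega)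
      have hne1 : (⊤ : Subgroup X).lowerCentralSeries (n - 2 - j) ≠ ⊥ := by
        intro h
        rw [h, Subgroup.card_bot] at h1
        omega
      have hne2 : (⊤ : Subgroup X).lowerCentralSeries (n - 2 - (j + 1)) ≠ ⊥ := by
        intro h
        apply hne1
        have hle := Subgroup.lowerCentralSeries_antitone (⊤ : Subgroup X)
          (show n - 2 - (j + 1) ≤ n - 2 - j by omega)
        rw [h] at hle
        exact le_bot_iff.mp hle
      have h2 := hstep _ hne2
      have e : n - 2 - (j + 1) + 1 = n - 2 - j := by omega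
      rw [e] at h2
      calc 2 ^ (j + 1 + 1) = 2 * 2 ^ (j + 1) := by rw [pow_succ']
        _ ≤ 2 * Nat.card ((⊤ : Subgroup X).lowerCentralSeries (n - 2 - j)) :=
          Nat.mul_le_mul_left 2 h1
        _ ≤ _ := h2
  have hX'ge : 2 ^ (n - 2) ≤ Nat.card (commutator X) := by
    have h1 := hchain (n - 3) le_rfl
    have e1 : n - 3 + 1 = n - 2 := by omega
    have e2 : n - 2 - (n - 3) = 1 := by omega
    rw [e1, e2, Subgroup.top_lowerCentralSeries_one] at h1
    exact h1
  have hncyc : ¬ IsCyclic (X ⧸ commutator X) := by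
    intro hcyc
    have h := comm_of_cyclic_ab hcyc
    have := h8_class_le_one_of_comm h
    omega
  have hpow : 2 ^ n = 2 ^ (n - 2) * 4 := by
    rw [show (4 : ℕ) = 2 ^ 2 from rfl, ← pow_add]; congr 1; omega
  have hcard_le : Nat.card (X ⧸ commutator X) ≤ 4 := by
    have h1 := Subgroup.card_mul_index (commutator X)
    rw [Subgroup.index_eq_card, hX, hpow] at h1
    have h2 : 2 ^ (n - 2) * Nat.card (X ⧸ commutator X) ≤ 2 ^ (n - 2) * 4 := by
      calc 2 ^ (n - 2) * Nat.card (X ⧸ commutator X)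
          ≤ Nat.card (commutator X) * Nat.card (X ⧸ commutator X) :=
            Nat.mul_le_mul_right _ hX'ge
        _ = 2 ^ (n - 2) * 4 := h1
    exact Nat.le_of_mul_le_mul_left h2 (by positivity)
  have hdvd : Nat.card (X ⧸ commutator X) ∣ 2 ^ n := by
    rw [← hX, ← Subgroup.index_eq_card]; exact Subgroup.index_dvd_card _
  obtain ⟨j, hjn, hj⟩ := (Nat.dvd_prime_pow Nat.prime_two).mp hdvd
  have hcard4 : Nat.card (X ⧸ commutator X) = 4 := by
    have hj2 : j ≤ 2 := by
      by_contra h
      have h8 : 2 ^ 3 ≤ 2 ^ j := Nat.pow_le_pow_right (by norm_num) (by omega)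
      rw [hj] at hcard_le; omega
    interval_cases j
    · exfalso; apply hncyc
      rw [pow_zero] at hj
      have := (Nat.card_eq_one_iff_unique.mp hj).1
      exact isCyclic_of_subsingleton
    · exfalso; apply hncyc
      exact isCyclic_of_prime_card (p := 2) (by rw [hj]; rfl)
    · rw [hj]; rfl
  have hnt : Nontrivial (X ⧸ commutator X) := by
    rw [← Finite.one_lt_card_iff_nontrivial, hcard4]; norm_num
  refine ⟨hcard4, ?_⟩
  rw [Monoid.exponent_eq_prime_iff Nat.prime_two]
  intro g hg
  have h1 : orderOf g ∣ 2 ^ 2 := by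
    have := orderOf_dvd_natCard g
    rw [hcard4] at this
    exact this
  obtain ⟨i, hi, hi'⟩ := (Nat.dvd_prime_pow Nat.prime_two).mp h1
  interval_cases i
  · exfalso; rw [pow_zero, orderOf_eq_one_iff] at hi'; exact hg hi'
  · rw [hi', pow_one]
  · exfalso
    exact hncyc (isCyclic_of_orderOf_eq_card g (by rw [hi', hcard4]; norm_num))



/-- A 2-group of order 2^n, n ≥ 3, is of maximal class exactly when its commutator quotient is a Klein four-group. -/
theorem result {X : Type*} [Group X] [Finite X] (n : ℕ) (hn : 3 ≤ n) (hX : Nat.card X = 2 ^ n) : Group.nilpotencyClass X = n - 1 ↔ IsKleinFour (X ⧸ commutator X) := by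
  constructor
  · intro hc
    exact fwd n hn hX hc
  · intro hK
    exact taussky n X hn hX hK.card_four

end Cfsg.Agent.S0115
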