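import Cfsg.Statements.S0126
import Mathlib
import Cfsg.Agent.S0130
import Cfsg.Agent.Lib.Helper8.UniqueSub
import Cfsg.Agent.Lib.Helper3.GT1
import Cfsg.Agent.Lib.Helper7.Hall

set_option autoImplicit false
open Cfsg

namespace Cfsg.Agent.S0126

universe u

open scoped commutatorElement

theorem aux (p : ℕ) [Fact p.Prime] (hp2 : p ≠ 2) : ∀ (n : ℕ) (R : Type u) [Group R] [Finite R],
    Nat.card R = n → IsPGroup p R → ¬ IsCyclic R →
    ∃ A : Subgroup R, A.Normal ∧ Cfsg.IsElementaryAbelian p A ∧ Nat.card A = p ^ 2 := by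
  have hp : p.Prime := Fact.out
  intro n
  induction n using Nat.strong_induction_on with
  | _ n ih =>
  intro R _ _ hcard hR hnc
  have hnt : Nontrivial R := by
    by_contra h
    rw [not_nontrivial_iff_subsingleton] at h
    exact hnc inferInstance
  have hcn : Nontrivial (Subgroup.center R) := hR.center_nontrivial
  have hpc : p ∣ Nat.card (Subgroup.center R) := by
    rcases (hR.to_subgroup (Subgroup.center R)).card_eq_or_dvd with h | h
    · exact absurd h (Finite.one_lt_card).ne'
    · exact h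
  obtain ⟨z0, hz0⟩ := exists_prime_orderOf_dvd_card' p hpc
  have hzo : orderOf (z0 : R) = p := by rw [← hz0, Subgroup.orderOf_coe]
  have hZcenter : Subgroup.zpowers (z0 : R) ≤ Subgroup.center R := Subgroup.zpowers_le.mpr z0.2
  have hZc : ∀ x ∈ Subgroup.zpowers (z0 : R), ∀ r : R, r * x = x * r := fun x hx r =>
    Subgroup.mem_center_iff.mp (hZcenter hx) r
  have hZn : (Subgroup.zpowers (z0 : R)).Normal := by
    constructor
    intro x hx g
    rw [hZc x hx g, mul_inv_cancel_right]; exact hx
  have hZcard : Nat.card (Subgroup.zpowers (z0 : R)) = p := by rw [Nat.card_zpowers, hzo]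
  have hZp : ∀ x ∈ Subgroup.zpowers (z0 : R), x ^ p = 1 := by
    intro x hx
    obtain ⟨k, rfl⟩ := Subgroup.mem_zpowers_iff.mp hx
    rw [← zpow_natCast, ← zpow_mul, mul_comm, zpow_mul, zpow_natCast, ← hzo, pow_orderOf_eq_one,
      one_zpow]
  have h3p : 2 < p := by have := hp.two_le; omega
  have hchoose : p ∣ p.choose 2 := hp.dvd_choose_self (by norm_num) h3p
  by_cases hcyc : IsCyclic (R ⧸ Subgroup.zpowers (z0 : R))
  · -- R is abelian
    have hcomm : ∀ a b : R, a * b = b * a :=
      commutative_of_cyclic_center_quotient (QuotientGroup.mk' (Subgroup.zpowers (z0 : R)))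
        (by rw [QuotientGroup.ker_mk']; exact hZcenter)
    let K : Subgroup R :=
      { carrier := {r | r ^ p = 1}
        mul_mem' := by
          intro a b ha hb
          show (a * b) ^ p = 1
          rw [(show Commute a b from hcomm a b).mul_pow, ha, hb, one_mul]
        one_mem' := one_pow p
        inv_mem' := by
          intro a ha
          show a⁻¹ ^ p = 1
          rw [inv_pow, ha, inv_one] }
    have hKmem : ∀ r, r ∈ K ↔ r ^ p = 1 := fun r => Iff.rfl
    by_cases hK : p ^ 2 ≤ Nat.card K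
    · obtain ⟨A, hAK, hA⟩ := Sylow.exists_subgroup_le_card_pow_prime_of_le_card hp hR hK
      refine ⟨A, ⟨fun a ha g => ?_⟩, ⟨⟨⟨fun a b => Subtype.ext (hcomm _ _)⟩⟩, fun a ha => ?_⟩, hA⟩
      · rw [hcomm g a, mul_inv_cancel_right]; exact ha
      · exact (hKmem a).mp (hAK ha)
    · exfalso
      apply hnc
      obtain ⟨m, hm⟩ := IsPGroup.iff_card.mp hR
      obtain ⟨j, hj⟩ := IsPGroup.iff_card.mp (hR.to_subgroup K)
      have hj1 : j < 2 := by
        by_contra hj2
        apply hK
        rw [hj]
        exact Nat.pow_le_pow_right hp.pos (by omega)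
      have hKle : Nat.card K ≤ p := by
        rw [hj]
        calc p ^ j ≤ p ^ 1 := Nat.pow_le_pow_right hp.pos (by omega)
          _ = p := pow_one p
      have hsub : ∀ H : Subgroup R, Nat.card H = p → H = K := by
        intro H hH
        apply Subgroup.eq_of_le_of_card_ge
        · intro h hh
          rw [hKmem]
          have := pow_card_eq_one' (G := H) (x := ⟨h, hh⟩)
          rw [hH] at this
          exact congrArg Subtype.val this
        · rw [hH]; exact hKle
      exact Cfsg.Agent.Lib.Helper8.h8_cyclic_of_unique_small p m R hm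
        (fun H K' hH hK' => (hsub H hH).trans (hsub K' hK').symm) (fun h => absurd h hp2)
  · -- induction
    have hlt : Nat.card (R ⧸ Subgroup.zpowers (z0 : R)) < n := by
      have h1 := Subgroup.card_eq_card_quotient_mul_card_subgroup (Subgroup.zpowers (z0 : R))
      rw [hZcard, hcard] at h1
      have hpos : 0 < Nat.card (R ⧸ Subgroup.zpowers (z0 : R)) := Nat.card_pos
      rw [h1]
      have := hp.two_le
      nlinarith
    obtain ⟨Abar, hAn, ⟨hAc, hAe⟩, hAcard⟩ :=
      ih _ hlt (R ⧸ Subgroup.zpowers (z0 : R)) rfl (hR.to_quotient _) hcyc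
    have hmkZ : ∀ x : R, QuotientGroup.mk' (Subgroup.zpowers (z0 : R)) x = 1 ↔
        x ∈ Subgroup.zpowers (z0 : R) := fun x => QuotientGroup.eq_one_iff x
    have hE1 : ∀ u ∈ Abar.comap (QuotientGroup.mk' (Subgroup.zpowers (z0 : R))),
        u ^ p ∈ Subgroup.zpowers (z0 : R) := by
      intro u hu
      rw [← hmkZ, map_pow]
      exact hAe _ hu
    have hE2 : ∀ u ∈ Abar.comap (QuotientGroup.mk' (Subgroup.zpowers (z0 : R))),
        ∀ v ∈ Abar.comap (QuotientGroup.mk' (Subgroup.zpowers (z0 : R))),
        ⁅v, u⁆ ∈ Subgroup.zpowers (z0 : R) := by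
      intro u hu v hv
      rw [← hmkZ, map_commutatorElement, commutatorElement_eq_one_iff_mul_comm]
      have := hAc.is_comm.comm ⟨_, hv⟩ ⟨_, hu⟩
      exact congrArg Subtype.val this
    have hpm : ∀ u ∈ Abar.comap (QuotientGroup.mk' (Subgroup.zpowers (z0 : R))),
        ∀ v ∈ Abar.comap (QuotientGroup.mk' (Subgroup.zpowers (z0 : R))),
        (u * v) ^ p = u ^ p * v ^ p := by
      intro u hu v hv
      have hw := hE2 u hu v hv
      have h1 := Cfsg.Agent.S0130.mul_pow_class2 u v (hZc _ hw u).symm (hZc _ hw v).symm p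
      obtain ⟨c, hc⟩ := hchoose
      rw [h1, hc, pow_mul, hZp _ hw, one_pow, one_mul]
    have hEn : (Abar.comap (QuotientGroup.mk' (Subgroup.zpowers (z0 : R)))).Normal :=
      hAn.comap _
    let Ω : Subgroup R :=
      { carrier := {u | u ∈ Abar.comap (QuotientGroup.mk' (Subgroup.zpowers (z0 : R))) ∧ u ^ p = 1}
        mul_mem' := by
          rintro a b ⟨ha, ha'⟩ ⟨hb, hb'⟩
          exact ⟨Subgroup.mul_mem _ ha hb, by rw [hpm a ha b hb, ha', hb', one_mul]⟩
        one_mem' := ⟨Subgroup.one_mem _, one_pow p⟩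
        inv_mem' := by
          rintro a ⟨ha, ha'⟩
          exact ⟨Subgroup.inv_mem _ ha, by rw [inv_pow, ha', inv_one]⟩ }
    have hΩmem : ∀ u, u ∈ Ω ↔
        (u ∈ Abar.comap (QuotientGroup.mk' (Subgroup.zpowers (z0 : R))) ∧ u ^ p = 1) :=
      fun u => Iff.rfl
    have hΩn : Ω.Normal := by
      constructor
      intro u hu g
      rw [hΩmem] at hu ⊢
      exact ⟨hEn.conj_mem u hu.1 g, by rw [conj_pow, hu.2, mul_one, mul_inv_cancel]⟩
    have hZΩ : Subgroup.zpowers (z0 : R) ≤ Ω := by
      intro x hx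
      rw [hΩmem]
      refine ⟨?_, hZp x hx⟩
      rw [Subgroup.mem_comap, (hmkZ x).mpr hx]
      exact Subgroup.one_mem _
    have hΩE : Ω ≤ Abar.comap (QuotientGroup.mk' (Subgroup.zpowers (z0 : R))) :=
      fun u hu => hu.1
    -- counting
    have hΩcard : p ^ 2 ≤ Nat.card Ω := by
      let π : ↥(Abar.comap (QuotientGroup.mk' (Subgroup.zpowers (z0 : R)))) →*
          ↥(Subgroup.zpowers (z0 : R)) :=
        MonoidHom.mk' (fun u => ⟨(u : R) ^ p, hE1 u.1 u.2⟩) (by
          intro a b
          apply Subtype.ext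
          exact hpm a.1 a.2 b.1 b.2)
      have hker : π.ker = Ω.subgroupOf (Abar.comap (QuotientGroup.mk' (Subgroup.zpowers (z0 : R)))) := by
        ext u
        rw [MonoidHom.mem_ker, Subgroup.mem_subgroupOf, hΩmem]
        constructor
        · intro h
          exact ⟨u.2, congrArg Subtype.val h⟩
        · intro h
          exact Subtype.ext h.2
      have h1 : Nat.card π.ker * Nat.card π.range
          = Nat.card (Abar.comap (QuotientGroup.mk' (Subgroup.zpowers (z0 : R)))) := by
        rw [← Subgroup.index_ker, Subgroup.card_mul_index]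
      have h2 : Nat.card π.range ≤ p := by
        have := Subgroup.card_subgroup_dvd_card π.range
        rw [hZcard] at this
        exact Nat.le_of_dvd hp.pos this
      have h3 : Nat.card (Abar.comap (QuotientGroup.mk' (Subgroup.zpowers (z0 : R)))) = p * p ^ 2 := by
        rw [Cfsg.Agent.Lib.Helper7.card_comap_mk', hZcard, hAcard]
      have h4 : Nat.card π.ker = Nat.card Ω := by
        rw [hker]
        exact Nat.card_congr (Subgroup.subgroupOfEquivOfLe hΩE).toEquiv
      rw [h4, h3] at h1
      by_contra hlt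
      have hlt' : Nat.card Ω < p ^ 2 := not_le.mp hlt
      have hpos : 0 < p := hp.pos
      have : Nat.card Ω * Nat.card π.range < p ^ 2 * p := by
        calc Nat.card Ω * Nat.card π.range ≤ Nat.card Ω * p := Nat.mul_le_mul_left _ h2
          _ < p ^ 2 * p := Nat.mul_lt_mul_of_pos_right hlt' hpos
      rw [h1] at this
      nlinarith
    -- the image of Ω in the quotient
    have hΩbar_n : (Ω.map (QuotientGroup.mk' (Subgroup.zpowers (z0 : R)))).Normal :=
      hΩn.map _ (QuotientGroup.mk'_surjective _)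
    have hΩbar_ne : Ω.map (QuotientGroup.mk' (Subgroup.zpowers (z0 : R))) ≠ ⊥ := by
      intro h
      rw [Subgroup.map_eq_bot_iff, QuotientGroup.ker_mk'] at h
      have := Subgroup.card_le_of_le h
      rw [hZcard] at this
      have h5 : p < p ^ 2 := by
        have := hp.one_lt
        nlinarith
      omega
    have hQp : IsPGroup p (R ⧸ Subgroup.zpowers (z0 : R)) := hR.to_quotient _
    obtain ⟨w, hw, hw1, hwc⟩ := Cfsg.Agent.Lib.Helper3.pn_inf_center (p := p)
      (⊤ : Subgroup (R ⧸ Subgroup.zpowers (z0 : R)))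
      (Ω.map (QuotientGroup.mk' (Subgroup.zpowers (z0 : R)))) (hQp.to_subgroup _) le_top
      (fun x _ d hd => hΩbar_n.conj_mem d hd x) hΩbar_ne
    have hD : p ^ 1 ≤ Nat.card (Ω.map (QuotientGroup.mk' (Subgroup.zpowers (z0 : R))) ⊓
        Subgroup.center (R ⧸ Subgroup.zpowers (z0 : R)) : Subgroup _) := by
      rw [pow_one]
      have hwD : w ∈ Ω.map (QuotientGroup.mk' (Subgroup.zpowers (z0 : R))) ⊓
          Subgroup.center (R ⧸ Subgroup.zpowers (z0 : R)) :=
        Subgroup.mem_inf.mpr ⟨hw, Subgroup.mem_center_iff.mpr (fun g => hwc g (Subgroup.mem_top g))⟩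
      rcases (hQp.to_subgroup (Ω.map (QuotientGroup.mk' (Subgroup.zpowers (z0 : R))) ⊓
          Subgroup.center (R ⧸ Subgroup.zpowers (z0 : R)))).card_eq_or_dvd with h | h
      · exfalso
        rw [Subgroup.card_eq_one] at h
        rw [h, Subgroup.mem_bot] at hwD
        exact hw1 hwD
      · exact Nat.le_of_dvd Nat.card_pos h
    obtain ⟨H', hH'le, hH'card⟩ := Sylow.exists_subgroup_le_card_pow_prime_of_le_card hp hQp hD
    have hH'n : H'.Normal := by
      constructor
      intro x hx g
      have hxc : x ∈ Subgroup.center (R ⧸ Subgroup.zpowers (z0 : R)) := (hH'le hx).2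
      rw [Subgroup.mem_center_iff.mp hxc g, mul_inv_cancel_right]; exact hx
    refine ⟨H'.comap (QuotientGroup.mk' (Subgroup.zpowers (z0 : R))), hH'n.comap _, ?_, ?_⟩
    · have hAcard' : Nat.card (H'.comap (QuotientGroup.mk' (Subgroup.zpowers (z0 : R)))) = p ^ 2 := by
        rw [Cfsg.Agent.Lib.Helper7.card_comap_mk', hZcard, hH'card]; ring
      refine ⟨⟨⟨fun a b => IsPGroup.commutative_of_card_eq_prime_sq hAcard' a b⟩⟩, ?_⟩
      intro a ha
      have h1 : QuotientGroup.mk' (Subgroup.zpowers (z0 : R)) a ∈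
          Ω.map (QuotientGroup.mk' (Subgroup.zpowers (z0 : R))) := (hH'le ha).1
      obtain ⟨ω, hω, hωa⟩ := h1
      have h2 : ω⁻¹ * a ∈ Subgroup.zpowers (z0 : R) := by
        rw [← hmkZ, map_mul, map_inv, hωa, inv_mul_cancel]
      have h3 : a ∈ Ω := by
        have := Ω.mul_mem hω (hZΩ h2)
        rwa [mul_inv_cancel_left] at this
      exact h3.2
    · rw [Cfsg.Agent.Lib.Helper7.card_comap_mk', hZcard, hH'card]; ring


/-- For odd p, every non-cyclic p-group contains a normal elementary abelian subgroup of order p^2. -/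
theorem result {R : Type*} [Group R] [Finite R] {p : ℕ} [Fact p.Prime] (hp : p ≠ 2) (hR : IsPGroup p R) (hnc : ¬ IsCyclic R) : ∃ A : Subgroup R, A.Normal ∧ Cfsg.IsElementaryAbelian p A ∧ Nat.card A = p ^ 2 := by
  exact aux p hp _ R rfl hR hnc

end Cfsg.Agent.S0126
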