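import Mathlib
import Cfsg.Statements.S2828
import Cfsg.Agent.S2820
import Cfsg.Agent.Lib.Helper2.PResidual
import Cfsg.Agent.Lib.Helper7.PCore

set_option autoImplicit false
open Cfsg

namespace Cfsg.Agent.S2828

/-- `p`-closedness across a surjection with `p`-group kernel -/
theorem pclosed_iff {A B : Type*} [Group A] [Group B] [Finite A] {p : ℕ} [Fact p.Prime]
    (f : A →* B) (hf : Function.Surjective f) (hker : IsPGroup p f.ker) :
    IsPClosed p A ↔ IsPClosed p B := by
  constructor
  · intro h Q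
    obtain ⟨P, rfl⟩ := Sylow.mapSurjective_surjective hf p Q
    rw [Sylow.coe_mapSurjective]
    exact (h P).map f hf
  · intro h P
    have h1 : ((P.mapSurjective hf : Sylow p B) : Subgroup B).Normal := h _
    rw [Sylow.coe_mapSurjective] at h1
    have h2 : (((P : Subgroup A).map f).comap f).Normal := h1.comap f
    rw [Subgroup.comap_map_eq] at h2
    haveI : f.ker.Normal := MonoidHom.normal_ker f
    have h3 : IsPGroup p ↥((P : Subgroup A) ⊔ f.ker) := P.isPGroup'.to_sup_of_normal_right hker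
    have h4 : (P : Subgroup A) ⊔ f.ker = P := P.is_maximal' h3 le_sup_left
    rw [h4] at h2
    exact h2

theorem pres_map_le {A B : Type*} [Group A] [Group B] {p : ℕ} (f : A →* B) :
    (pResidual p A).map f ≤ pResidual p B := by
  show (Subgroup.closure _).map f ≤ Subgroup.closure _
  rw [MonoidHom.map_closure]
  apply Subgroup.closure_mono
  rintro _ ⟨x, hx, rfl⟩
  exact Nat.Coprime.coprime_dvd_left (orderOf_map_dvd f x) hx

theorem pres_le_map {A B : Type*} [Group A] [Group B] [Finite A] {p : ℕ} [Fact p.Prime]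
    (f : A →* B) (hf : Function.Surjective f) : pResidual p B ≤ (pResidual p A).map f := by
  haveI hn : (pResidual p A).Normal := Cfsg.Agent.Lib.Helper2.pResidual_normal p A
  haveI hn' : ((pResidual p A).map f).Normal := hn.map f hf
  have hQ : IsPGroup p (B ⧸ (pResidual p A).map f) := by
    intro q
    obtain ⟨b, rfl⟩ := QuotientGroup.mk'_surjective _ q
    obtain ⟨a, rfl⟩ := hf b
    obtain ⟨k, hk⟩ := Cfsg.Agent.Lib.Helper2.pow_mem_pResidual (p := p) a
    refine ⟨k, ?_⟩
    rw [← map_pow, ← map_pow]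
    exact (QuotientGroup.eq_one_iff _).mpr ⟨_, hk, rfl⟩
  have := Cfsg.Agent.Lib.Helper2.pResidual_le_ker
    (QuotientGroup.mk' ((pResidual p A).map f)) hQ
  rw [QuotientGroup.ker_mk'] at this
  exact this

section
variable {H : Type*} [Group H] [Finite H] {p : ℕ} [Fact p.Prime]

theorem pres_le_of_map (D : Subgroup H) [D.Normal] (hD : IsPGroup p ↥D) (N : Subgroup H)
    [N.Normal] (h : pResidual p (H ⧸ D) ≤ N.map (QuotientGroup.mk' D)) :
    pResidual p H ≤ N := by
  show Subgroup.closure _ ≤ _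
  rw [Subgroup.closure_le]
  intro y hy
  have h1 : QuotientGroup.mk' D y ∈ N.map (QuotientGroup.mk' D) :=
    h (pres_map_le _ ⟨y, Subgroup.subset_closure hy, rfl⟩)
  have h2 : y ∈ (N.map (QuotientGroup.mk' D)).comap (QuotientGroup.mk' D) := h1
  rw [QuotientGroup.comap_map_mk'] at h2
  exact Cfsg.Agent.S2820.mem_of_coprime_sup D N hD h2 hy

theorem pcore_map_le (D : Subgroup H) [D.Normal] :
    (pCore p H).map (QuotientGroup.mk' D) ≤ pCore p (H ⧸ D) :=
  Cfsg.Agent.Lib.Helper7.le_pCore
    ((Cfsg.Agent.Lib.Helper7.pCore_normal p H).map _ (QuotientGroup.mk'_surjective D))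
    ((Cfsg.Agent.Lib.Helper7.pCore_isPGroup p H).map _)

theorem comap_pcore_le (D : Subgroup H) [D.Normal] (hD : IsPGroup p ↥D) :
    (pCore p (H ⧸ D)).comap (QuotientGroup.mk' D) ≤ pCore p H := by
  apply Cfsg.Agent.Lib.Helper7.le_pCore
  · exact (Cfsg.Agent.Lib.Helper7.pCore_normal p (H ⧸ D)).comap _
  · apply (Cfsg.Agent.Lib.Helper7.pCore_isPGroup p (H ⧸ D)).comap_of_ker_isPGroup
    rw [QuotientGroup.ker_mk']; exact hD

theorem comm_iff (D : Subgroup H) [D.Normal] (hD : IsPGroup p ↥D) (N : Subgroup H) :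
    ⁅N, (⊤ : Subgroup H)⁆ ≤ pCore p H ↔
      ⁅N.map (QuotientGroup.mk' D), (⊤ : Subgroup (H ⧸ D))⁆ ≤ pCore p (H ⧸ D) := by
  have e : ⁅N.map (QuotientGroup.mk' D), (⊤ : Subgroup (H ⧸ D))⁆ =
      (⁅N, (⊤ : Subgroup H)⁆).map (QuotientGroup.mk' D) := by
    rw [Subgroup.map_commutator, Subgroup.map_top_of_surjective _ (QuotientGroup.mk'_surjective D)]
  rw [e]
  constructor
  · intro h
    exact (Subgroup.map_mono h).trans (pcore_map_le D)
  · intro h
    rw [Subgroup.map_le_iff_le_comap] at h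
    exact h.trans (comap_pcore_le D hD)

theorem pclosed_map_iff (D : Subgroup H) [D.Normal] (hD : IsPGroup p ↥D) (N : Subgroup H) :
    IsPClosed p ↥N ↔ IsPClosed p ↥(N.map (QuotientGroup.mk' D)) := by
  apply pclosed_iff ((QuotientGroup.mk' D).subgroupMap N)
    ((QuotientGroup.mk' D).subgroupMap_surjective N)
  intro g
  have hg : ((g : ↥N) : H) ∈ D := by
    have h1 := g.2
    rw [MonoidHom.mem_ker] at h1
    have h2 : QuotientGroup.mk' D ((g : ↥N) : H) = 1 := congrArg Subtype.val h1
    exact (QuotientGroup.eq_one_iff _).mp h2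
  obtain ⟨k, hk⟩ := hD ⟨_, hg⟩
  refine ⟨k, ?_⟩
  apply Subtype.ext
  apply Subtype.ext
  have h3 : (((g : ↥N) : H)) ^ p ^ k = 1 := congrArg Subtype.val hk
  simpa using h3

end

/-- Let H be a finite group, p a prime and D a normal p-subgroup of H. Then H is p-irreducible if and only if H/D is p-irreducible, and H is strongly p-irreducible if and only if H/D is strongly p-irreducible. -/
theorem result {H : Type*} [Group H] [Finite H] {p : ℕ} [Fact p.Prime] (D : Subgroup H) [D.Normal] (hD : IsPGroup p ↥D) : (Cfsg.IsPIrreducible p H ↔ Cfsg.IsPIrreducible p (H ⧸ D)) ∧ (Cfsg.IsStronglyPIrreducible p H ↔ Cfsg.IsStronglyPIrreducible p (H ⧸ D)) := by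
  have hπ := QuotientGroup.mk'_surjective D
  have hker : IsPGroup p (QuotientGroup.mk' D).ker := by rw [QuotientGroup.ker_mk']; exact hD
  have hcl : IsPClosed p H ↔ IsPClosed p (H ⧸ D) := pclosed_iff _ hπ hker
  have hres : ∀ Nb : Subgroup (H ⧸ D), pResidual p H ≤ Nb.comap (QuotientGroup.mk' D) →
      pResidual p (H ⧸ D) ≤ Nb := by
    intro Nb h4
    calc pResidual p (H ⧸ D) ≤ (pResidual p H).map (QuotientGroup.mk' D) := pres_le_map _ hπ
      _ ≤ (Nb.comap (QuotientGroup.mk' D)).map (QuotientGroup.mk' D) := Subgroup.map_mono h4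
      _ = Nb := Subgroup.map_comap_eq_self_of_surjective hπ Nb
  constructor
  · constructor
    · rintro ⟨h1, h2⟩
      refine ⟨fun h => h1 (hcl.mpr h), ?_⟩
      intro Nb hNb hNbcl
      have hN : (Nb.comap (QuotientGroup.mk' D)).Normal := hNb.comap _
      have hmap : (Nb.comap (QuotientGroup.mk' D)).map (QuotientGroup.mk' D) = Nb :=
        Subgroup.map_comap_eq_self_of_surjective hπ Nb
      have h3 : ¬ IsPClosed p ↥(Nb.comap (QuotientGroup.mk' D)) := by
        intro h
        apply hNbcl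
        have := (pclosed_map_iff D hD _).mp h
        rw [hmap] at this
        exact this
      exact hres Nb (h2 _ hN h3)
    · rintro ⟨h1, h2⟩
      refine ⟨fun h => h1 (hcl.mp h), ?_⟩
      intro N hN hNcl
      haveI := hN
      have h3 : ¬ IsPClosed p ↥(N.map (QuotientGroup.mk' D)) :=
        fun h => hNcl ((pclosed_map_iff D hD N).mpr h)
      exact pres_le_of_map D hD N (h2 _ (hN.map _ hπ) h3)
  · constructor
    · rintro ⟨h1, h2⟩
      refine ⟨fun h => h1 (hcl.mpr h), ?_⟩
      intro Nb hNb hNbc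
      have hN : (Nb.comap (QuotientGroup.mk' D)).Normal := hNb.comap _
      have hmap : (Nb.comap (QuotientGroup.mk' D)).map (QuotientGroup.mk' D) = Nb :=
        Subgroup.map_comap_eq_self_of_surjective hπ Nb
      have h3 : ¬ ⁅Nb.comap (QuotientGroup.mk' D), (⊤ : Subgroup H)⁆ ≤ pCore p H := by
        intro h
        apply hNbc
        have := (comm_iff D hD _).mp h
        rw [hmap] at this
        exact this
      exact hres Nb (h2 _ hN h3)
    · rintro ⟨h1, h2⟩
      refine ⟨fun h => h1 (hcl.mp h), ?_⟩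
      intro N hN hNc
      haveI := hN
      have h3 : ¬ ⁅N.map (QuotientGroup.mk' D), (⊤ : Subgroup (H ⧸ D))⁆ ≤ pCore p (H ⧸ D) :=
        fun h => hNc ((comm_iff D hD N).mpr h)
      exact pres_le_of_map D hD N (h2 _ (hN.map _ hπ) h3)

end Cfsg.Agent.S2828
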