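import Mathlib
import Cfsg.Statements.S2815
import Cfsg.Agent.S2828
import Cfsg.Agent.Lib.Helper1.Comp
import Cfsg.Agent.Lib.Helper1.Layer
import Cfsg.Agent.Lib.Helper2.PResidual
import Cfsg.Agent.Lib.Helper6.PResidual
import Cfsg.Agent.Lib.Helper7.PCore
import Cfsg.Agent.Lib.Helper7.Coprime2

set_option autoImplicit false
open Cfsg
open scoped commutatorElement

namespace Cfsg.Agent.S2815

open Cfsg.Agent.Lib.Helper1

section
variable {H : Type*} [Group H] [Finite H] {p : ℕ} [Fact p.Prime]

/-- subgroups of order prime to `p` lie in `O^p` -/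
theorem le_pres_of_coprime (C : Subgroup H) (hC : (Nat.card C).Coprime p) :
    C ≤ pResidual p H := by
  intro x hx
  apply Subgroup.subset_closure
  show (orderOf x).Coprime p
  have h1 : orderOf (⟨x, hx⟩ : ↥C) ∣ Nat.card C := orderOf_dvd_natCard _
  rw [Subgroup.orderOf_mk] at h1
  exact Nat.Coprime.coprime_dvd_left h1 hC

/-- a normal subgroup with a normal Sylow `p`-subgroup has order prime to `p` if `O_p(H) = 1` -/
theorem coprime_of_sylow_normal (hO : pCore p H = ⊥) (C : Subgroup H) [hCn : C.Normal]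
    (P : Sylow p ↥C) (hP : (P : Subgroup ↥C).Normal) : (Nat.card C).Coprime p := by
  have h2 : (P : Subgroup ↥C).Characteristic := Sylow.characteristic_of_normal _ hP
  have h3 : ((P : Subgroup ↥C).map C.subtype).Normal :=
    ConjAct.normal_of_characteristic_of_normal
  have h4 : (P : Subgroup ↥C).map C.subtype ≤ pCore p H :=
    Cfsg.Agent.Lib.Helper7.le_pCore h3 (P.isPGroup'.map _)
  rw [hO] at h4
  have h5 : (P : Subgroup ↥C) = ⊥ := by
    rw [eq_bot_iff]
    intro x hx
    have : (x : H) ∈ (⊥ : Subgroup H) := h4 ⟨x, hx, rfl⟩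
    rw [Subgroup.mem_bot] at this ⊢
    exact Subtype.ext this
  have h6 := P.not_dvd_index
  rw [h5, Subgroup.index_bot] at h6
  have hp : p.Prime := Fact.out
  exact ((Nat.Prime.coprime_iff_not_dvd hp).mpr h6).symm

/-- normal subgroups not containing the quasisimple normal `K` centralize `K` -/
theorem centralizes (K : Subgroup H) [hKn : K.Normal] (hq : IsQuasisimple ↥K)
    (C : Subgroup H) [hCn : C.Normal] (hKC : ¬ K ≤ C) : ⁅K, C⁆ = ⊥ := by
  have hperf : ⁅K, K⁆ = K := IsComponent.perfect ⟨hKn.isSubnormal, hq⟩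
  have h1 : C.subgroupOf K ≤ Subgroup.center ↥K := by
    rcases subnormal_of_quasisimple hq (C.subgroupOf K) (hCn.subgroupOf K).isSubnormal with h | h
    · exact absurd (Subgroup.subgroupOf_eq_top.mp h) hKC
    · exact h
  have h2 : K ⊓ C ≤ Subgroup.centralizer (K : Set H) := by
    intro x hx
    obtain ⟨hxK, hxC⟩ := Subgroup.mem_inf.mp hx
    rw [Subgroup.mem_centralizer_iff]
    intro k hk
    have h3 := Subgroup.mem_center_iff.mp
      (h1 (Subgroup.mem_subgroupOf.mpr hxC : (⟨x, hxK⟩ : ↥K) ∈ C.subgroupOf K)) ⟨k, hk⟩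
    exact congrArg Subtype.val h3
  have h4 : ⁅⁅K, C⁆, K⁆ = ⊥ := by
    rw [Subgroup.commutator_eq_bot_iff_le_centralizer]
    exact (Subgroup.commutator_le_inf K C).trans h2
  have h5 : ⁅⁅C, K⁆, K⁆ = ⊥ := by
    rw [Subgroup.commutator_comm C K]; exact h4
  have h6 := Subgroup.commutator_commutator_eq_bot_of_rotate h4 h5
  rw [hperf] at h6
  exact h6

theorem part3 (hO : pCore p H = ⊥) (K : Subgroup H) (hK : K = pResidual p H) [hKn : K.Normal]
    (hq : IsQuasisimple ↥K) (C : Subgroup H) (hCn : C.Normal) (hKC : ¬ K ≤ C) :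
    (Nat.card C).Coprime p := by
  haveI := hCn
  have hcen := centralizes K hq C hKC
  rw [Subgroup.commutator_eq_bot_iff_le_centralizer] at hcen
  obtain ⟨P⟩ : Nonempty (Sylow p ↥C) := inferInstance
  apply coprime_of_sylow_normal hO C P
  constructor
  intro x hx c
  obtain ⟨r, hr, s, hs, rfl⟩ := Cfsg.Agent.Lib.Helper6.pres_exists_mul P c
  have hrK : (r : H) ∈ K := by
    rw [hK]
    exact Cfsg.Agent.S2828.pres_map_le C.subtype ⟨r, hr, rfl⟩
  have hrc : ∀ y : ↥C, r * y = y * r := by
    intro y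
    apply Subtype.ext
    have := Subgroup.mem_centralizer_iff.mp (hcen hrK) (y : H) y.2
    exact this.symm
  have h1 : r * s * x * (r * s)⁻¹ = s * x * s⁻¹ := by
    calc r * s * x * (r * s)⁻¹ = r * (s * x * s⁻¹) * r⁻¹ := by group
      _ = (s * x * s⁻¹) * r * r⁻¹ := by rw [hrc]
      _ = s * x * s⁻¹ := by group
  rw [h1]
  exact (P : Subgroup ↥C).mul_mem ((P : Subgroup ↥C).mul_mem hs hx)
    ((P : Subgroup ↥C).inv_mem hs)

theorem part1 (hO : pCore p H = ⊥) (K : Subgroup H) (hK : K = pResidual p H) [hKn : K.Normal]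
    (hq : IsQuasisimple ↥K) : K = generalizedFittingSubgroup H := by
  have hcomp : IsComponent K := ⟨hKn.isSubnormal, hq⟩
  apply le_antisymm
  · exact (IsComponent.le_layer hcomp).trans (layer_le_genFitting H)
  · apply sup_le
    · apply sSup_le
      intro L hL
      have hperf : ⁅L, L⁆ = L := IsComponent.perfect hL
      have hQ : IsPGroup p (H ⧸ K) := by
        subst hK
        exact Cfsg.Agent.Lib.Helper2.isPGroup_quotient_pResidual p H
      haveI : Group.IsNilpotent (H ⧸ K) := hQ.isNilpotent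
      by_contra hLK
      have hne : L.map (QuotientGroup.mk' K) ≠ ⊥ := by
        intro h
        apply hLK
        have h' := (Subgroup.map_eq_bot_iff _).mp h
        rw [QuotientGroup.ker_mk'] at h'
        exact h'
      have hlt := Group.IsSolvable.commutator_lt_of_ne_bot hne
      rw [← Subgroup.map_commutator, hperf] at hlt
      exact lt_irrefl _ hlt
    · apply sSup_le
      rintro N ⟨hNn, hNnil⟩
      haveI := hNn
      haveI := hNnil
      rw [hK]
      apply le_pres_of_coprime
      obtain ⟨P⟩ : Nonempty (Sylow p ↥N) := inferInstance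
      exact coprime_of_sylow_normal hO N P
        (Sylow.normal_of_normalizerCondition Group.normalizerCondition_of_isNilpotent P)

theorem part2 (hO : pCore p H = ⊥) (K : Subgroup H) (hK : K = pResidual p H) [hKn : K.Normal]
    (hq : IsQuasisimple ↥K) (Y : Subgroup H) (hYp : IsPGroup p ↥Y) (hY1 : Y ≠ ⊥) :
    ⁅K, Y⁆ = K ∧ K ≤ ⨆ k : ↥K, Y.map (MulAut.conj (k : H)).toMonoidHom := by
  have hperf : ⁅K, K⁆ = K := IsComponent.perfect ⟨hKn.isSubnormal, hq⟩
  have hle : ⁅K, Y⁆ ≤ K := Subgroup.commutator_le_left K Y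
  have h1 : ⁅K, Y⁆ = K := by
    apply le_antisymm hle
    have hn : ((⁅K, Y⁆).subgroupOf K).Normal :=
      (Subgroup.normal_subgroupOf_iff_le_normalizer hle).mpr
        (Cfsg.Agent.Lib.Helper7.le_normalizer_commutator_left K Y)
    rcases subnormal_of_quasisimple hq _ hn.isSubnormal with h | h
    · exact Subgroup.subgroupOf_eq_top.mp h
    · exfalso
      have h2 : ⁅K, Y⁆ ≤ Subgroup.centralizer (K : Set H) := by
        intro x hx
        rw [Subgroup.mem_centralizer_iff]
        intro k hk
        have h3 := Subgroup.mem_center_iff.mp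
          (h (Subgroup.mem_subgroupOf.mpr hx : (⟨x, hle hx⟩ : ↥K) ∈ (⁅K, Y⁆).subgroupOf K))
          ⟨k, hk⟩
        exact congrArg Subtype.val h3
      have h4 : ⁅⁅K, Y⁆, K⁆ = ⊥ := Subgroup.commutator_eq_bot_iff_le_centralizer.mpr h2
      have h5 : ⁅⁅Y, K⁆, K⁆ = ⊥ := by rw [Subgroup.commutator_comm Y K]; exact h4
      have h6 := Subgroup.commutator_commutator_eq_bot_of_rotate h4 h5
      rw [hperf] at h6
      have h7 : Y ≤ Subgroup.centralizer (K : Set H) := by
        rw [Subgroup.commutator_comm] at h6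
        exact Subgroup.commutator_eq_bot_iff_le_centralizer.mp h6
      have hKC : ¬ K ≤ Subgroup.centralizer (K : Set H) := by
        intro hKK
        apply IsQuasisimple.center_ne_top hq
        rw [eq_top_iff]
        intro k _
        rw [Subgroup.mem_center_iff]
        intro g
        apply Subtype.ext
        exact Subgroup.mem_centralizer_iff.mp (hKK k.2) g g.2
      have hcop := part3 hO K hK hq (Subgroup.centralizer (K : Set H)) inferInstance hKC
      have hYc : Nat.card Y ∣ Nat.card ↥(Subgroup.centralizer (K : Set H)) :=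
        Subgroup.card_dvd_of_le h7
      rcases hYp.card_eq_or_dvd with h8 | h8
      · exact hY1 (Subgroup.eq_bot_of_card_eq _ h8)
      · have hp : p.Prime := Fact.out
        have := Nat.Coprime.coprime_dvd_left (h8.trans hYc) hcop
        rw [Nat.coprime_self] at this
        exact hp.ne_one this
  refine ⟨h1, ?_⟩
  have h9 : ⁅K, Y⁆ ≤ ⨆ k : ↥K, Y.map (MulAut.conj (k : H)).toMonoidHom := by
    rw [Subgroup.commutator_le]
    intro k hk y hy
    rw [commutatorElement_def]
    apply Subgroup.mul_mem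
    · exact Subgroup.mem_iSup_of_mem ⟨k, hk⟩ ⟨y, hy, rfl⟩
    · apply Subgroup.inv_mem
      refine Subgroup.mem_iSup_of_mem (1 : ↥K) ⟨y, hy, ?_⟩
      show (1 : H) * y * (1 : H)⁻¹ = y
      group
  rw [h1] at h9
  exact h9

theorem part4 (hp : p ∣ Nat.card H) (hO : pCore p H = ⊥) (K : Subgroup H)
    (hK : K = pResidual p H) [hKn : K.Normal] (hq : IsQuasisimple ↥K) :
    IsPIrreducible p H := by
  refine ⟨?_, ?_⟩
  · intro hcl
    obtain ⟨S⟩ : Nonempty (Sylow p H) := inferInstance
    have hS : (S : Subgroup H) ≤ pCore p H :=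
      Cfsg.Agent.Lib.Helper7.le_pCore (hcl S) S.isPGroup'
    rw [hO] at hS
    have h1 : (S : Subgroup H) = ⊥ := le_bot_iff.mp hS
    have h2 := S.not_dvd_index
    rw [h1, Subgroup.index_bot] at h2
    exact h2 hp
  · intro N hNn hNcl
    rw [← hK]
    by_contra hKN
    apply hNcl
    have hcop := part3 hO K hK hq N hNn hKN
    intro P
    have h1 : (P : Subgroup ↥N) = ⊥ := by
      rcases P.isPGroup'.card_eq_or_dvd with h | h
      · exact Subgroup.eq_bot_of_card_eq _ h
      · exfalso
        have hpp : p.Prime := Fact.out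
        have h2 : p ∣ Nat.card ↥N := h.trans (Subgroup.card_subgroup_dvd_card _)
        have := Nat.Coprime.coprime_dvd_left h2 hcop
        rw [Nat.coprime_self] at this
        exact hpp.ne_one this
    rw [h1]
    infer_instance

end

/-- Let H be a finite group and p a prime dividing its order with O_p(H) = 1, and suppose K = O^p(H) (generated by the elements of order prime to p) is quasisimple. Then K = F*(H); for every nontrivial p-subgroup Y of H, K = [K, Y] and K lies in the subgroup generated by the K-conjugates of Y; every normal subgroup of H not containing K has order prime to p; and H is p-irreducible. -/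
theorem result {H : Type*} [Group H] [Finite H] {p : ℕ} [Fact p.Prime] (hp : p ∣ Nat.card H) (hO : Cfsg.pCore p H = ⊥) (hq : Cfsg.IsQuasisimple ↥(Cfsg.pResidual p H)) : Cfsg.pResidual p H = Cfsg.generalizedFittingSubgroup H ∧ (∀ Y : Subgroup H, IsPGroup p ↥Y → Y ≠ ⊥ → ⁅Cfsg.pResidual p H, Y⁆ = Cfsg.pResidual p H ∧ Cfsg.pResidual p H ≤ ⨆ k : ↥(Cfsg.pResidual p H), Y.map (MulAut.conj (k : H)).toMonoidHom) ∧ (∀ C : Subgroup H, C.Normal → ¬ Cfsg.pResidual p H ≤ C → (Nat.card ↥C).Coprime p) ∧ Cfsg.IsPIrreducible p H := by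
  haveI hKn : (pResidual p H).Normal := Cfsg.Agent.Lib.Helper2.pResidual_normal p H
  exact ⟨part1 hO _ rfl hq, fun Y hY hY1 => part2 hO _ rfl hq Y hY hY1,
    fun C hC hKC => part3 hO _ rfl hq C hC hKC, part4 hp hO _ rfl hq⟩

end Cfsg.Agent.S2815
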