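import Mathlib
import Cfsg.Statements.S2812
import Cfsg.Agent.S1900
import Cfsg.Agent.S2815
import Cfsg.Agent.S2820
import Cfsg.Agent.Lib.Helper1.Comp
import Cfsg.Agent.Lib.Helper1.Layer
import Cfsg.Agent.Lib.Helper1.GenFit
import Cfsg.Agent.Lib.Helper1.GenFit2
import Cfsg.Agent.Lib.Helper3.WCChar
import Cfsg.Agent.Lib.Helper3.GT13
import Cfsg.Agent.Lib.Helper6.PResidual
import Cfsg.Agent.Lib.Helper7.PCore
import Cfsg.Agent.Lib.Helper7.Coprime2

set_option autoImplicit false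
open Cfsg
open Cfsg.Agent.Lib.Helper1
open scoped commutatorElement

namespace Cfsg.Agent.S2812

universe u

/-- `O_p` of a subnormal subgroup is trivial if `O_p` of the group is -/
theorem pCore_eq_bot_of_subnormal {X : Type*} [Group X] [Finite X] {p : ℕ} [Fact p.Prime]
    (hO : pCore p X = ⊥) (S : Subgroup X) (hS : S.IsSubnormal) : pCore p ↥S = ⊥ := by
  have hA : ((pCore p ↥S).map S.subtype).IsSubnormal :=
    (Cfsg.Agent.Lib.Helper7.pCore_normal p ↥S).isSubnormal.trans' hS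
  have hAp : IsPGroup p ↥((pCore p ↥S).map S.subtype) :=
    (Cfsg.Agent.Lib.Helper7.pCore_isPGroup p ↥S).map _
  have h1 := Cfsg.Agent.S2820.normalClosure_isPGroup _ hA hAp
  have h2 : Subgroup.normalClosure (((pCore p ↥S).map S.subtype : Subgroup X) : Set X)
      ≤ pCore p X :=
    Cfsg.Agent.Lib.Helper7.le_pCore Subgroup.normalClosure_normal h1
  rw [hO] at h2
  have h3 : (pCore p ↥S).map S.subtype ≤ ⊥ := Subgroup.le_normalClosure.trans h2
  exact (Subgroup.map_eq_bot_iff_of_injective _ S.subtype_injective).mp (le_bot_iff.mp h3)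

/-- a component of `L` normalizing `X ≤ L` lies in `X` or centralizes it -/
theorem comp_dich {G : Type u} [Group G] [Finite G] (L : Subgroup G) (K' : Subgroup ↥L)
    (hK' : IsComponent K') (X : Subgroup G) (hXL : X ≤ L)
    (hLX : K'.map L.subtype ≤ Subgroup.normalizer (X : Set G)) :
    K'.map L.subtype ≤ X ∨ ⁅K'.map L.subtype, X⁆ = ⊥ := by
  have hinv : K' ≤ Subgroup.normalizer ((X.subgroupOf L : Subgroup ↥L) : Set ↥L) := by
    intro x hx
    rw [Subgroup.mem_normalizer_iff]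
    intro h
    rw [Subgroup.mem_subgroupOf, Subgroup.mem_subgroupOf]
    exact Subgroup.mem_normalizer_iff.mp (hLX ⟨x, hx, rfl⟩) h
  rcases IsComponent.le_or_commutator_eq_bot_of_le_normalizer hK' hinv with h | h
  · left
    have h1 := Subgroup.map_mono (f := L.subtype) h
    rwa [Subgroup.map_subgroupOf_eq_of_le hXL] at h1
  · right
    have h1 := congrArg (Subgroup.map L.subtype) h
    rwa [Subgroup.map_commutator, Subgroup.map_subgroupOf_eq_of_le hXL, Subgroup.map_bot] at h1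

/-- three subgroups lemma for a perfect subgroup -/
theorem comp_aux {G : Type*} [Group G] (K X Y : Subgroup G) (hperf : ⁅K, K⁆ = K)
    (hKY : ⁅K, Y⁆ ≤ X) (hKX : ⁅K, X⁆ = ⊥) : K ≤ Subgroup.centralizer (Y : Set G) := by
  have h1 : ⁅⁅K, Y⁆, K⁆ = ⊥ := by
    rw [eq_bot_iff]
    calc ⁅⁅K, Y⁆, K⁆ ≤ ⁅X, K⁆ := Subgroup.commutator_mono hKY le_rfl
      _ = ⁅K, X⁆ := Subgroup.commutator_comm X K
      _ = ⊥ := hKX
  have h2 : ⁅⁅Y, K⁆, K⁆ = ⊥ := by rw [Subgroup.commutator_comm Y K]; exact h1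
  have h3 : ⁅⁅K, K⁆, Y⁆ = ⊥ := Subgroup.commutator_commutator_eq_bot_of_rotate h1 h2
  rw [hperf] at h3
  exact Subgroup.commutator_eq_bot_iff_le_centralizer.mp h3

/-- the splitting for a group `L = F(L)E(L)` with `O_p(L) = 1` acted on by a `p`-group `Y` -/
theorem core {G : Type u} [Group G] [Finite G] {p : ℕ} [Fact p.Prime] (L Y : Subgroup G)
    (hY : IsPGroup p ↥Y) (hYL : Y ≤ Subgroup.normalizer (L : Set G))
    (hFE : fittingSubgroup ↥L ⊔ layer ↥L = ⊤) (hO : pCore p ↥L = ⊥) :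
    ⁅L, Y⁆ ⊔ (L ⊓ Subgroup.centralizer (Y : Set G)) = L ∧ ⁅L, Y⁆ = ⁅⁅L, Y⁆, Y⁆ := by
  have hpp : p.Prime := Fact.out
  obtain ⟨F, hF⟩ : ∃ F : Subgroup G, F = (fittingSubgroup ↥L).map L.subtype := ⟨_, rfl⟩
  obtain ⟨E, hE⟩ : ∃ E : Subgroup G, E = (layer ↥L).map L.subtype := ⟨_, rfl⟩
  obtain ⟨M, hM⟩ : ∃ M : Subgroup G, M = ⁅L, Y⁆ := ⟨_, rfl⟩
  obtain ⟨D, hD⟩ : ∃ D : Subgroup G, D = ⁅M, Y⁆ := ⟨_, rfl⟩
  rw [← hM, ← hD]
  have hML : M ≤ L := by
    rw [hM]; exact Cfsg.Agent.Lib.Helper7.commutator_le_of_le_normalizer hYL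
  have hLM : L ≤ Subgroup.normalizer (M : Set G) := by
    rw [hM]; exact Cfsg.Agent.Lib.Helper7.le_normalizer_commutator_left L Y
  have hYM : Y ≤ Subgroup.normalizer (M : Set G) := by
    rw [hM]; exact Cfsg.Agent.Lib.Helper7.le_normalizer_commutator_right L Y
  have hDM : D ≤ M := by
    rw [hD]; exact Cfsg.Agent.Lib.Helper7.commutator_le_of_le_normalizer hYM
  have hMD : M ≤ Subgroup.normalizer (D : Set G) := by
    rw [hD]; exact Cfsg.Agent.Lib.Helper7.le_normalizer_commutator_left M Y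
  have hYD : Y ≤ Subgroup.normalizer (D : Set G) := by
    rw [hD]; exact Cfsg.Agent.Lib.Helper7.le_normalizer_commutator_right M Y
  have hFL : F ≤ L := by rw [hF]; exact Subgroup.map_subtype_le _
  have hLeq : L = F ⊔ E := by
    rw [hF, hE, ← Subgroup.map_sup, hFE, ← MonoidHom.range_eq_map, Subgroup.range_subtype]
  have hYF : Y ≤ Subgroup.normalizer (F : Set G) := by
    rw [hF]; exact le_normalizer_map_subtype_of_characteristic hYL (fittingSubgroup ↥L)
  have hFcop : (Nat.card F).Coprime p := by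
    haveI := Cfsg.Agent.Lib.Helper7.fitting_normal ↥L
    haveI := Cfsg.Agent.Lib.Helper7.fitting_isNilpotent ↥L
    obtain ⟨P⟩ : Nonempty (Sylow p ↥(fittingSubgroup ↥L)) := inferInstance
    have h1 := Cfsg.Agent.S2815.coprime_of_sylow_normal hO (fittingSubgroup ↥L) P
      (Sylow.normal_of_normalizerCondition Group.normalizerCondition_of_isNilpotent P)
    rw [hF, Subgroup.card_map_of_injective L.subtype_injective]
    exact h1
  have hcop : (Nat.card Y).Coprime (Nat.card F) := by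
    obtain ⟨n, hn⟩ := IsPGroup.iff_card.mp hY
    rw [hn]
    exact Nat.Coprime.pow_left n hFcop.symm
  have hsolv : Group.IsSolvable ↥Y ∨ Group.IsSolvable ↥F := by
    left
    haveI := hY.isNilpotent
    infer_instance
  have hF1 : ⁅F, Y⁆ ⊔ (F ⊓ Subgroup.centralizer (Y : Set G)) = F :=
    Cfsg.Agent.Lib.Helper7.commutator_sup_centralizer Y F hYF hcop hsolv
  have hF2 : ⁅⁅F, Y⁆, Y⁆ = ⁅F, Y⁆ :=
    Cfsg.Agent.Lib.Helper7.commutator_commutator_eq Y F hYF hcop hsolv
  have hFD : ⁅F, Y⁆ ≤ D := by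
    rw [← hF2, hD, hM]
    exact Subgroup.commutator_mono (Subgroup.commutator_mono hFL le_rfl) le_rfl
  have hCD : L ⊓ Subgroup.centralizer (Y : Set G) ≤ Subgroup.normalizer (D : Set G) := by
    rw [hD]
    refine le_trans ?_ (Cfsg.Agent.Lib.Helper6.gl_normalizer_commutator M Y)
    exact le_inf (inf_le_left.trans hLM)
      (inf_le_right.trans (Subgroup.centralizer_le_normalizer _))
  -- component dichotomy
  have hcomp : ∀ K' : Subgroup ↥L, IsComponent K' →
      K'.map L.subtype ≤ D ⊔ (L ⊓ Subgroup.centralizer (Y : Set G)) := by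
    intro K' hK'
    have hperf : ⁅K'.map L.subtype, K'.map L.subtype⁆ = K'.map L.subtype := by
      rw [← Subgroup.map_commutator, IsComponent.perfect hK']
    have hKL : K'.map L.subtype ≤ L := Subgroup.map_subtype_le _
    have hKYM : ⁅K'.map L.subtype, Y⁆ ≤ M := by
      rw [hM]; exact Subgroup.commutator_mono hKL le_rfl
    rcases comp_dich L K' hK' M hML (hKL.trans hLM) with h | h
    · have hKYD : ⁅K'.map L.subtype, Y⁆ ≤ D := by
        rw [hD]; exact Subgroup.commutator_mono h le_rfl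
      rcases comp_dich L K' hK' D (hDM.trans hML) (h.trans hMD) with h' | h'
      · exact h'.trans le_sup_left
      · exact (le_inf hKL (comp_aux _ D Y hperf hKYD h')).trans le_sup_right
    · exact (le_inf hKL (comp_aux _ M Y hperf hKYM h)).trans le_sup_right
  have hEle : E ≤ D ⊔ (L ⊓ Subgroup.centralizer (Y : Set G)) := by
    rw [hE, Subgroup.map_le_iff_le_comap]
    apply sSup_le
    intro K' hK'
    rw [← Subgroup.map_le_iff_le_comap]
    exact hcomp K' hK'
  have hFle : F ≤ D ⊔ (L ⊓ Subgroup.centralizer (Y : Set G)) := by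
    refine (le_of_eq hF1.symm).trans (sup_le (hFD.trans le_sup_left) ?_)
    exact (inf_le_inf_right _ hFL).trans le_sup_right
  have hLle : L ≤ D ⊔ (L ⊓ Subgroup.centralizer (Y : Set G)) :=
    (le_of_eq hLeq).trans (sup_le hFle hEle)
  refine ⟨le_antisymm (sup_le hML inf_le_left) (hLle.trans (sup_le_sup_right hDM _)), ?_⟩
  apply le_antisymm _ hDM
  have hstab : L ≤ Cfsg.Agent.Lib.Helper3.stabSub D Y := by
    refine hLle.trans (sup_le ?_ ?_)
    · intro d hd
      rw [Cfsg.Agent.Lib.Helper3.mem_stabSub]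
      refine ⟨Subgroup.le_normalizer hd, fun r hr => ?_⟩
      have h1 : d * r * d⁻¹ * r⁻¹ = d * (r * d⁻¹ * r⁻¹) := by group
      rw [h1]
      exact D.mul_mem hd ((Subgroup.mem_normalizer_iff.mp (hYD hr) _).mp (D.inv_mem hd))
    · intro c hc
      rw [Cfsg.Agent.Lib.Helper3.mem_stabSub]
      refine ⟨hCD hc, fun r hr => ?_⟩
      have h0 : r * c = c * r :=
        Subgroup.mem_centralizer_iff.mp (Subgroup.mem_inf.mp hc).2 r hr
      have h1 : c * r * c⁻¹ * r⁻¹ = 1 := by
        rw [← h0]; group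
      rw [h1]
      exact D.one_mem
  rw [hM, Subgroup.commutator_le]
  intro l hl y hy
  rw [commutatorElement_def]
  exact ((Cfsg.Agent.Lib.Helper3.mem_stabSub).mp (hstab hl)).2 y hy

/-- Let H be a subgroup of the finite group G with O_p(H) = 1, Y a p-subgroup of G normalizing H, and L a subgroup of the generalized Fitting subgroup F*(H) that is subnormal in H and normalized by Y. Then L = [L, Y]·C_L(Y) and [L, Y] = [L, Y, Y]. -/
theorem result {G : Type*} [Group G] [Finite G] {p : ℕ} [Fact p.Prime] (H : Subgroup G) (hO : Cfsg.pCore p ↥H = ⊥) (Y : Subgroup G) (hY : IsPGroup p ↥Y) (hYH : Y ≤ Subgroup.normalizer (H : Set G)) (L : Subgroup G) (hLF : L ≤ (Cfsg.generalizedFittingSubgroup ↥H).map H.subtype) (hLsn : (L.subgroupOf H).IsSubnormal) (hYL : Y ≤ Subgroup.normalizer (L : Set G)) : ⁅L, Y⁆ ⊔ (L ⊓ Subgroup.centralizer (Y : Set G)) = L ∧ ⁅L, Y⁆ = ⁅⁅L, Y⁆, Y⁆ := by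
  have hLH : L ≤ H := hLF.trans (Subgroup.map_subtype_le _)
  have hS : L.subgroupOf H ≤ generalizedFittingSubgroup ↥H := by
    intro x hx
    rw [Subgroup.mem_subgroupOf] at hx
    obtain ⟨y, hy, hyx⟩ := hLF hx
    have : y = x := Subtype.ext hyx
    rw [← this]; exact hy
  have hFE0 := fitting_sup_layer_eq_top_of_subnormal hLsn hS
  have e : ↥(L.subgroupOf H) ≃* ↥L := Subgroup.subgroupOfEquivOfLe hLH
  have hFE : fittingSubgroup ↥L ⊔ layer ↥L = ⊤ := by
    rw [← fitting_map_equiv e, ← layer_map_equiv e, ← Subgroup.map_sup, hFE0]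
    exact Subgroup.map_top_of_surjective _ e.surjective
  have hO0 : pCore p ↥(L.subgroupOf H) = ⊥ := pCore_eq_bot_of_subnormal hO _ hLsn
  have hOL : pCore p ↥L = ⊥ := by
    rw [← Cfsg.Agent.Lib.Helper3.pCore_map_equiv e, hO0, Subgroup.map_bot]
  exact core L Y hY hYL hFE hOL

end Cfsg.Agent.S2812
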