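import Mathlib
import Cfsg.Statements.S2816
import Cfsg.Agent.S2812

set_option autoImplicit false
open Cfsg
open Cfsg.Agent.Lib.Helper1
open scoped commutatorElement

namespace Cfsg.Agent.S2816

/-- if `M = [M, Y]` then `M` lies in every subnormal subgroup containing `Y` -/
theorem le_of_subnormal {H : Type*} [Group H] (M Y : Subgroup H) (hM : M = ⁅M, Y⁆)
    (K : Subgroup H) (hK : K.IsSubnormal) : Y ≤ K → M ≤ K := by
  induction hK with
  | top => intro _; exact le_top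
  | step K K₁ h_le hSubn hN ih =>
    intro hYK
    have h1 : M ≤ K₁ := ih (hYK.trans h_le)
    have h2 : K₁ ≤ Subgroup.normalizer (K : Set H) :=
      (Subgroup.normal_subgroupOf_iff_le_normalizer h_le).mp hN
    rw [hM]
    calc ⁅M, Y⁆ ≤ ⁅K₁, K⁆ := Subgroup.commutator_mono h1 hYK
      _ = ⁅K, K₁⁆ := Subgroup.commutator_comm _ _
      _ ≤ K := Cfsg.Agent.Lib.Helper7.commutator_le_of_le_normalizer h2

/-- Let H be a finite group and p a prime with O_p(H) = 1, and Y a p-subgroup of H. Then for every subnormal subgroup K of H containing Y, [F*(H), Y] = [F*(K), Y] = [F*(K), Y, Y]; and if Y₀ ≤ Y with [F*(H), Y, Y₀] = 1 then Y₀ = 1 (in particular [F*(H), Y] = 1 forces Y = 1). -/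
theorem result {H : Type*} [Group H] [Finite H] {p : ℕ} [Fact p.Prime] (hO : Cfsg.pCore p H = ⊥) (Y : Subgroup H) (hY : IsPGroup p ↥Y) : (∀ K : Subgroup H, K.IsSubnormal → Y ≤ K → ⁅Cfsg.generalizedFittingSubgroup H, Y⁆ = ⁅(Cfsg.generalizedFittingSubgroup ↥K).map K.subtype, Y⁆ ∧ ⁅(Cfsg.generalizedFittingSubgroup ↥K).map K.subtype, Y⁆ = ⁅⁅(Cfsg.generalizedFittingSubgroup ↥K).map K.subtype, Y⁆, Y⁆) ∧ (∀ Y₀ : Subgroup H, Y₀ ≤ Y → ⁅⁅Cfsg.generalizedFittingSubgroup H, Y⁆, Y₀⁆ = ⊥ → Y₀ = ⊥) := by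
  obtain ⟨X, hX⟩ : ∃ X : Subgroup H, X = generalizedFittingSubgroup H := ⟨_, rfl⟩
  rw [← hX]
  have hXn : X.Normal := by rw [hX]; exact genFitting_normal H
  have hnorm : ∀ Z : Subgroup H, Z ≤ Subgroup.normalizer (X : Set H) := by
    intro Z; rw [Subgroup.normalizer_eq_top_iff.mpr hXn]; exact le_top
  have hFE : fittingSubgroup ↥X ⊔ layer ↥X = ⊤ :=
    fitting_sup_layer_eq_top_of_subnormal hXn.isSubnormal (le_of_eq hX)
  have hOX : pCore p ↥X = ⊥ :=
    Cfsg.Agent.S2812.pCore_eq_bot_of_subnormal hO X hXn.isSubnormal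
  have hcore : ∀ Z : Subgroup H, IsPGroup p ↥Z → ⁅X, Z⁆ = ⁅⁅X, Z⁆, Z⁆ := fun Z hZ =>
    (Cfsg.Agent.S2812.core X Z hZ (hnorm Z) hFE hOX).2
  refine ⟨?_, ?_⟩
  · intro K hK hYK
    have hXK : (generalizedFittingSubgroup ↥K).map K.subtype = X ⊓ K := by
      rw [hX]; exact (genFitting_inf_eq_of_subnormal hK).symm
    rw [hXK]
    have hsn : (X ⊓ K).IsSubnormal := hXn.isSubnormal.inf hK
    have hFE' : fittingSubgroup ↥(X ⊓ K) ⊔ layer ↥(X ⊓ K) = ⊤ :=
      fitting_sup_layer_eq_top_of_subnormal hsn (inf_le_left.trans (le_of_eq hX))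
    have hO' : pCore p ↥(X ⊓ K) = ⊥ :=
      Cfsg.Agent.S2812.pCore_eq_bot_of_subnormal hO _ hsn
    have hYn : Y ≤ Subgroup.normalizer ((X ⊓ K : Subgroup H) : Set H) := by
      intro y hy
      rw [Subgroup.mem_normalizer_iff]
      intro h
      rw [Subgroup.mem_inf, Subgroup.mem_inf]
      have h1 := Subgroup.mem_normalizer_iff.mp (hnorm Y hy) h
      have h2 : h ∈ K ↔ y * h * y⁻¹ ∈ K := by
        constructor
        · intro hh; exact K.mul_mem (K.mul_mem (hYK hy) hh) (K.inv_mem (hYK hy))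
        · intro hh
          have e : h = y⁻¹ * (y * h * y⁻¹) * y := by group
          rw [e]
          exact K.mul_mem (K.mul_mem (K.inv_mem (hYK hy)) hh) (hYK hy)
      rw [h1, h2]
    have hc2 := (Cfsg.Agent.S2812.core (X ⊓ K) Y hY hYn hFE' hO').2
    refine ⟨?_, hc2⟩
    apply le_antisymm
    · have h1 : ⁅X, Y⁆ ≤ K := le_of_subnormal ⁅X, Y⁆ Y (hcore Y hY) K hK hYK
      have h2 : ⁅X, Y⁆ ≤ X := Cfsg.Agent.Lib.Helper7.commutator_le_of_le_normalizer (hnorm Y)
      calc ⁅X, Y⁆ = ⁅⁅X, Y⁆, Y⁆ := hcore Y hY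
        _ ≤ ⁅X ⊓ K, Y⁆ := Subgroup.commutator_mono (le_inf h2 h1) le_rfl
    · exact Subgroup.commutator_mono inf_le_left le_rfl
  · intro Y₀ hY₀ h
    have hY₀p : IsPGroup p ↥Y₀ := hY.to_le hY₀
    have h1 : ⁅X, Y₀⁆ = ⊥ := by
      rw [hcore Y₀ hY₀p, eq_bot_iff, ← h]
      exact Subgroup.commutator_mono (Subgroup.commutator_mono le_rfl hY₀) le_rfl
    have h2 : Y₀ ≤ Subgroup.centralizer (X : Set H) := by
      rw [Subgroup.commutator_comm] at h1
      exact Subgroup.commutator_eq_bot_iff_le_centralizer.mp h1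
    have h3 : Y₀ ≤ X := by
      refine h2.trans ?_
      rw [hX]; exact centralizer_genFitting_le H
    obtain ⟨Zc, hZc⟩ : ∃ Zc : Subgroup H, Zc = X ⊓ Subgroup.centralizer (X : Set H) :=
      ⟨_, rfl⟩
    haveI hZn : Zc.Normal := by
      rw [hZc]
      haveI := hXn
      haveI : (Subgroup.centralizer (X : Set H)).Normal := Subgroup.normal_centralizer
      infer_instance
    obtain ⟨P⟩ : Nonempty (Sylow p ↥Zc) := inferInstance
    have hPn : (P : Subgroup ↥Zc).Normal := by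
      refine ⟨fun n hn g => ?_⟩
      have hg : (g : H) ∈ X ⊓ Subgroup.centralizer (X : Set H) := by rw [← hZc]; exact g.2
      have hn' : (n : H) ∈ X ⊓ Subgroup.centralizer (X : Set H) := by rw [← hZc]; exact n.2
      have hc : (n : H) * g = g * n :=
        Subgroup.mem_centralizer_iff.mp (Subgroup.mem_inf.mp hg).2 n (Subgroup.mem_inf.mp hn').1
      have e : g * n * g⁻¹ = n := by
        apply Subtype.ext
        show (g : H) * n * (g : H)⁻¹ = n
        rw [← hc]; group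
      rw [e]; exact hn
    have hcop := Cfsg.Agent.S2815.coprime_of_sylow_normal hO Zc P hPn
    have h4 : Y₀ ≤ Zc := by rw [hZc]; exact le_inf h3 h2
    have h5 : Nat.card Y₀ ∣ Nat.card Zc := Subgroup.card_dvd_of_le h4
    rcases hY₀p.card_eq_or_dvd with h6 | h6
    · exact Subgroup.eq_bot_of_card_eq _ h6
    · exfalso
      have hpp : p.Prime := Fact.out
      have h7 : p ∣ Nat.card Zc := h6.trans h5
      exact (Nat.Prime.coprime_iff_not_dvd hpp).mp hcop.symm h7

end Cfsg.Agent.S2816
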