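import Mathlib
import Cfsg.Statements.S2817
import Cfsg.Agent.S2812
import Cfsg.Agent.S2816

set_option autoImplicit false
open Cfsg
open Cfsg.Agent.Lib.Helper1
open scoped commutatorElement

namespace Cfsg.Agent.S2817

universe u

/-- `Z(G) ∩ G' ≤ Φ(G)` -/
theorem center_inf_commutator_le_frattini (G : Type*) [Group G] :
    Subgroup.center G ⊓ commutator G ≤ frattini G := by
  unfold frattini Order.radical
  refine le_iInf₂ fun M hM => ?_
  have hM' : IsCoatom M := hM
  by_contra hcon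
  have h1 : M ⊔ Subgroup.center G = ⊤ := by
    by_contra h2
    have h3 : M ⊔ Subgroup.center G = M := by
      rcases hM'.le_iff.mp (le_sup_left : M ≤ M ⊔ Subgroup.center G) with h | h
      · exact absurd h h2
      · exact h
    exact hcon (inf_le_left.trans (by rw [← h3]; exact le_sup_right))
  have h4 : commutator G ≤ M := by
    rw [_root_.commutator_def, ← h1, Subgroup.commutator_le]
    intro a ha b hb
    obtain ⟨m₁, hm₁, z₁, hz₁, rfl⟩ := Subgroup.mem_sup_of_normal_right.mp ha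
    obtain ⟨m₂, hm₂, z₂, hz₂, rfl⟩ := Subgroup.mem_sup_of_normal_right.mp hb
    have c1 : ∀ g : G, g * z₁ = z₁ * g := fun g => Subgroup.mem_center_iff.mp hz₁ g
    have c2 : ∀ g : G, g * z₂ = z₂ * g := fun g => Subgroup.mem_center_iff.mp hz₂ g
    have e : ⁅m₁ * z₁, m₂ * z₂⁆ = m₁ * m₂ * m₁⁻¹ * m₂⁻¹ := by
      rw [commutatorElement_def]
      calc m₁ * z₁ * (m₂ * z₂) * (m₁ * z₁)⁻¹ * (m₂ * z₂)⁻¹
          = m₁ * (z₁ * (m₂ * z₂)) * z₁⁻¹ * m₁⁻¹ * z₂⁻¹ * m₂⁻¹ := by group
        _ = m₁ * ((m₂ * z₂) * z₁) * z₁⁻¹ * m₁⁻¹ * z₂⁻¹ * m₂⁻¹ := by rw [(c1 (m₂ * z₂)).symm]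
        _ = m₁ * m₂ * (z₂ * m₁⁻¹) * z₂⁻¹ * m₂⁻¹ := by group
        _ = m₁ * m₂ * (m₁⁻¹ * z₂) * z₂⁻¹ * m₂⁻¹ := by rw [(c2 m₁⁻¹).symm]
        _ = m₁ * m₂ * m₁⁻¹ * m₂⁻¹ := by group
    rw [e]
    exact M.mul_mem (M.mul_mem (M.mul_mem hm₁ hm₂) (M.inv_mem hm₁)) (M.inv_mem hm₂)
  exact hcon (inf_le_right.trans h4)

/-- the norm argument: a `Q`-fixed element of `L = [L, Q]` has `|Q|`-torsion image in `L/L'` -/
theorem norm_arg {H : Type*} [Group H] [Finite H] (L Q : Subgroup H)
    (hQL : Q ≤ Subgroup.normalizer (L : Set H)) (hLQ : ⁅L, Q⁆ = L)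
    (z : H) (hzL : z ∈ L) (hzQ : ∀ q ∈ Q, q * z = z * q) :
    Abelianization.of (⟨z, hzL⟩ : ↥L) ^ Nat.card Q = 1 := by
  classical
  letI : Fintype ↥Q := Fintype.ofFinite _
  let cj : ↥Q → (↥L →* ↥L) := fun q =>
    { toFun := fun x => ⟨(q : H) * x * (q : H)⁻¹,
        (Subgroup.mem_normalizer_iff.mp (hQL q.2) x).mp x.2⟩
      map_one' := by apply Subtype.ext; simp
      map_mul' := fun a b => by apply Subtype.ext; simp }
  have hcj : ∀ (q : ↥Q) (x : ↥L), ((cj q x : ↥L) : H) = (q : H) * x * (q : H)⁻¹ :=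
    fun q x => rfl
  let ν : ↥L →* Abelianization ↥L := ∏ q : ↥Q, (Abelianization.of.comp (cj q))
  have hν : ∀ x : ↥L, ν x = ∏ q : ↥Q, Abelianization.of (cj q x) := by
    intro x
    simp only [ν, MonoidHom.finset_prod_apply, MonoidHom.comp_apply]
  have hinv : ∀ (q₀ : ↥Q) (x : ↥L), ν (cj q₀ x) = ν x := by
    intro q₀ x
    rw [hν, hν]
    refine Fintype.prod_equiv (Equiv.mulRight q₀) _ _ (fun q => ?_)
    congr 1
    apply Subtype.ext
    rw [hcj, hcj, hcj]
    simp [mul_assoc]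
  have hker : ⁅L, Q⁆ ≤ ν.ker.map L.subtype := by
    rw [Subgroup.commutator_le]
    intro l hl q hq
    refine ⟨(⟨l, hl⟩ : ↥L) * cj ⟨q, hq⟩ ((⟨l, hl⟩ : ↥L)⁻¹), ?_, ?_⟩
    · show ν _ = 1
      rw [map_mul, hinv, ← map_mul, mul_inv_cancel, map_one]
    · show l * (q * l⁻¹ * q⁻¹) = ⁅l, q⁆
      rw [commutatorElement_def]; group
  have hall : ∀ x : ↥L, ν x = 1 := by
    intro x
    have h1 : (x : H) ∈ ν.ker.map L.subtype := hker (by rw [hLQ]; exact x.2)
    obtain ⟨y, hy, hyx⟩ := h1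
    have h2 : y = x := Subtype.ext hyx
    rw [← h2]; exact hy
  have hz := hall ⟨z, hzL⟩
  rw [hν] at hz
  have hconst : ∀ q : ↥Q, cj q ⟨z, hzL⟩ = ⟨z, hzL⟩ := by
    intro q
    apply Subtype.ext
    show (q : H) * z * (q : H)⁻¹ = z
    rw [hzQ q q.2]; group
  simp only [hconst] at hz
  rw [Finset.prod_const, Finset.card_univ, ← Nat.card_eq_fintype_card] at hz
  exact hz

/-- `F(L)` is a `p'`-group when `O_p(L) = 1` -/
theorem fitting_coprime {L : Type*} [Group L] [Finite L] {p : ℕ} [Fact p.Prime]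
    (hO : pCore p L = ⊥) : (Nat.card (fittingSubgroup L)).Coprime p := by
  haveI := Cfsg.Agent.Lib.Helper7.fitting_normal L
  haveI := Cfsg.Agent.Lib.Helper7.fitting_isNilpotent L
  obtain ⟨P⟩ : Nonempty (Sylow p ↥(fittingSubgroup L)) := inferInstance
  exact Cfsg.Agent.S2815.coprime_of_sylow_normal hO (fittingSubgroup L) P
    (Sylow.normal_of_normalizerCondition Group.normalizerCondition_of_isNilpotent P)

/-- a `Q`-fixed element of `L = [L, Q] = F(L)E(L)` lies in `L'` -/
theorem mem_commutator_of_fixed {H : Type u} [Group H] [Finite H] {p : ℕ} [Fact p.Prime]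
    (L Q : Subgroup H) (hQ : IsPGroup p ↥Q) (hQL : Q ≤ Subgroup.normalizer (L : Set H))
    (hLQ : ⁅L, Q⁆ = L) (hFE : fittingSubgroup ↥L ⊔ layer ↥L = ⊤)
    (hcop : (Nat.card (fittingSubgroup ↥L)).Coprime p)
    (z : H) (hzL : z ∈ L) (hzQ : ∀ q ∈ Q, q * z = z * q) :
    (⟨z, hzL⟩ : ↥L) ∈ commutator ↥L := by
  have h1 := norm_arg L Q hQL hLQ z hzL hzQ
  obtain ⟨m, hm⟩ : ∃ m, m = Nat.card (fittingSubgroup ↥L) := ⟨_, rfl⟩
  have h2 : ∀ x : ↥L, Abelianization.of x ^ m = 1 := by
    have hle : (⊤ : Subgroup ↥L) ≤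
        ((powMonoidHom m).comp (Abelianization.of (G := ↥L))).ker := by
      rw [← hFE]
      refine sup_le ?_ ?_
      · intro x hx
        rw [MonoidHom.mem_ker, MonoidHom.comp_apply, powMonoidHom_apply, ← map_pow]
        have h3 : (⟨x, hx⟩ : ↥(fittingSubgroup ↥L)) ^ m = 1 := by
          rw [hm]; exact pow_card_eq_one'
        have h4 : x ^ m = 1 := by
          have := congrArg Subtype.val h3
          simpa using this
        rw [h4, map_one]
      · intro x hx
        rw [MonoidHom.mem_ker, MonoidHom.comp_apply, powMonoidHom_apply]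
        have h3 : x ∈ commutator ↥L := by
          rw [_root_.commutator_def]
          have h4 : ⁅layer ↥L, layer ↥L⁆ ≤ ⁅(⊤ : Subgroup ↥L), ⊤⁆ :=
            Subgroup.commutator_mono le_top le_top
          apply h4
          rw [layer_perfect]; exact hx
        have h5 : Abelianization.of x = 1 := by
          rw [← MonoidHom.mem_ker, Abelianization.ker_of]; exact h3
        rw [h5, one_pow]
    intro x
    have h3 := hle (Subgroup.mem_top x)
    rwa [MonoidHom.mem_ker, MonoidHom.comp_apply, powMonoidHom_apply] at h3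
  obtain ⟨k, hk⟩ := IsPGroup.iff_card.mp hQ
  rw [hk] at h1
  have h3 : orderOf (Abelianization.of (⟨z, hzL⟩ : ↥L)) ∣ p ^ k := orderOf_dvd_of_pow_eq_one h1
  have h4 : orderOf (Abelianization.of (⟨z, hzL⟩ : ↥L)) ∣ m :=
    orderOf_dvd_of_pow_eq_one (h2 _)
  have h5 : orderOf (Abelianization.of (⟨z, hzL⟩ : ↥L)) = 1 := by
    have hc : (p ^ k).Coprime m := Nat.Coprime.pow_left k (by rw [hm]; exact hcop.symm)
    exact Nat.eq_one_of_dvd_coprimes hc h3 h4
  rw [orderOf_eq_one_iff] at h5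
  rw [← Abelianization.ker_of, MonoidHom.mem_ker]; exact h5

theorem normalizer_le_normalizer_centralizer {H : Type*} [Group H] (A : Subgroup H) :
    Subgroup.normalizer (A : Set H) ≤
      Subgroup.normalizer ((Subgroup.centralizer (A : Set H) : Subgroup H) : Set H) := by
  intro g hg
  rw [Subgroup.mem_normalizer_iff]
  intro c
  constructor
  · intro hc
    rw [Subgroup.mem_centralizer_iff] at hc ⊢
    intro a ha
    have h1 : g⁻¹ * a * g ∈ A := by
      have := (Subgroup.mem_normalizer_iff.mp (Subgroup.inv_mem _ hg) a).mp ha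
      simpa using this
    have h2 := hc _ h1
    calc a * (g * c * g⁻¹) = g * (g⁻¹ * a * g * c) * g⁻¹ := by group
      _ = g * (c * (g⁻¹ * a * g)) * g⁻¹ := by rw [h2]
      _ = g * c * g⁻¹ * a := by group
  · intro hc
    rw [Subgroup.mem_centralizer_iff] at hc ⊢
    intro a ha
    have h1 : g * a * g⁻¹ ∈ A := (Subgroup.mem_normalizer_iff.mp hg a).mp ha
    have h2 := hc _ h1
    have h3 : g * (a * c) * g⁻¹ = g * (c * a) * g⁻¹ := by
      calc g * (a * c) * g⁻¹ = g * a * g⁻¹ * (g * c * g⁻¹) := by group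
        _ = g * c * g⁻¹ * (g * a * g⁻¹) := h2
        _ = g * (c * a) * g⁻¹ := by group
    simpa using h3

theorem norm_inf_le {H : Type*} [Group H] (A B : Subgroup H) :
    Subgroup.normalizer (A : Set H) ⊓ Subgroup.normalizer (B : Set H) ≤
      Subgroup.normalizer ((A ⊓ B : Subgroup H) : Set H) := by
  intro g hg
  obtain ⟨hA, hB⟩ := Subgroup.mem_inf.mp hg
  rw [Subgroup.mem_normalizer_iff]
  intro h
  rw [Subgroup.mem_inf, Subgroup.mem_inf, ← Subgroup.mem_normalizer_iff.mp hA h,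
    ← Subgroup.mem_normalizer_iff.mp hB h]

theorem centralizer_sup {H : Type*} [Group H] (A B : Subgroup H) :
    Subgroup.centralizer ((A ⊔ B : Subgroup H) : Set H) =
      Subgroup.centralizer (A : Set H) ⊓ Subgroup.centralizer (B : Set H) := by
  apply le_antisymm
  · exact le_inf (Subgroup.centralizer_le (SetLike.coe_subset_coe.mpr le_sup_left))
      (Subgroup.centralizer_le (SetLike.coe_subset_coe.mpr le_sup_right))
  · rw [Subgroup.le_centralizer_iff]
    refine sup_le ?_ ?_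
    · rw [Subgroup.le_centralizer_iff]; exact inf_le_left
    · rw [Subgroup.le_centralizer_iff]; exact inf_le_right

/-- Let H be a finite group and p a prime with O_p(H) = 1, Q a p-subgroup of H, L = [F*(H), Q], and F the largest normal subgroup of F*(H) centralized by Q (a normal subgroup of F*(H) centralized by Q and containing every such). Then F = C_{F*(H)}(LQ); L = [L, Q]; L ∩ F ≤ Φ(L); every p-subgroup B of N_H(Q) with [L, B] ≤ F satisfies [L, B] = 1; and C_H(FL) has order prime to p. -/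
theorem result {H : Type*} [Group H] [Finite H] {p : ℕ} [Fact p.Prime] (hO : Cfsg.pCore p H = ⊥) (Q : Subgroup H) (hQ : IsPGroup p ↥Q) (L : Subgroup H) (hL : L = ⁅Cfsg.generalizedFittingSubgroup H, Q⁆) (F : Subgroup H) (hF : F ≤ Cfsg.generalizedFittingSubgroup H ∧ Cfsg.generalizedFittingSubgroup H ≤ Subgroup.normalizer (F : Set H) ∧ Q ≤ Subgroup.centralizer (F : Set H) ∧ ∀ N : Subgroup H, N ≤ Cfsg.generalizedFittingSubgroup H → Cfsg.generalizedFittingSubgroup H ≤ Subgroup.normalizer (N : Set H) → Q ≤ Subgroup.centralizer (N : Set H) → N ≤ F) : F = Cfsg.generalizedFittingSubgroup H ⊓ Subgroup.centralizer ((L ⊔ Q : Subgroup H) : Set H) ∧ ⁅L, Q⁆ = L ∧ L ⊓ F ≤ (frattini ↥L).map L.subtype ∧ (∀ B : Subgroup H, IsPGroup p ↥B → B ≤ Subgroup.normalizer (Q : Set H) → ⁅L, B⁆ ≤ F → ⁅L, B⁆ = ⊥) ∧ (Nat.card ↥(Subgroup.centralizer ((F ⊔ L : Subgroup H) : Set H))).Coprime p := by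
  obtain ⟨hFX, hXF, hQF, hFmax⟩ := hF
  obtain ⟨X, hX⟩ : ∃ X : Subgroup H, X = generalizedFittingSubgroup H := ⟨_, rfl⟩
  rw [← hX] at hL hFX hXF hFmax ⊢
  have hpp : p.Prime := Fact.out
  have hXn : X.Normal := by rw [hX]; exact genFitting_normal H
  have hnorm : ∀ Z : Subgroup H, Z ≤ Subgroup.normalizer (X : Set H) := by
    intro Z; rw [Subgroup.normalizer_eq_top_iff.mpr hXn]; exact le_top
  have hcore : ∀ S : Subgroup H, S.IsSubnormal → S ≤ X → ∀ Z : Subgroup H, IsPGroup p ↥Z →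
      Z ≤ Subgroup.normalizer (S : Set H) →
      ⁅S, Z⁆ ⊔ (S ⊓ Subgroup.centralizer (Z : Set H)) = S ∧ ⁅S, Z⁆ = ⁅⁅S, Z⁆, Z⁆ := by
    intro S hS hSX Z hZ hZS
    exact Cfsg.Agent.S2812.core S Z hZ hZS
      (fitting_sup_layer_eq_top_of_subnormal hS (hSX.trans (le_of_eq hX)))
      (Cfsg.Agent.S2812.pCore_eq_bot_of_subnormal hO S hS)
  obtain ⟨hX1, hX2⟩ := hcore X hXn.isSubnormal le_rfl Q hQ (hnorm Q)
  rw [← hL] at hX1 hX2
  have hLX : L ≤ X := by
    rw [hL]; exact Cfsg.Agent.Lib.Helper7.commutator_le_of_le_normalizer (hnorm Q)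
  have hXL : X ≤ Subgroup.normalizer (L : Set H) := by
    rw [hL]; exact Cfsg.Agent.Lib.Helper7.le_normalizer_commutator_left X Q
  have hQL : Q ≤ Subgroup.normalizer (L : Set H) := by
    rw [hL]; exact Cfsg.Agent.Lib.Helper7.le_normalizer_commutator_right X Q
  have hLsn : L.IsSubnormal := by
    refine Subgroup.IsSubnormal.trans hLX ?_ hXn.isSubnormal
    exact ((Subgroup.normal_subgroupOf_iff_le_normalizer hLX).mpr hXL).isSubnormal
  have hFQ : ⁅F, Q⁆ = ⊥ := by
    rw [Subgroup.commutator_comm, Subgroup.commutator_eq_bot_iff_le_centralizer]; exact hQF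
  have hLF : ⁅L, F⁆ = ⊥ := by
    have h1 : ⁅⁅X, F⁆, Q⁆ = ⊥ := by
      rw [eq_bot_iff, ← hFQ]
      refine Subgroup.commutator_mono ?_ le_rfl
      rw [Subgroup.commutator_comm]
      exact Cfsg.Agent.Lib.Helper7.commutator_le_of_le_normalizer hXF
    have h2 : ⁅⁅F, Q⁆, X⁆ = ⊥ := by rw [hFQ]; exact Subgroup.commutator_bot_left _
    have h3 : ⁅⁅Q, X⁆, F⁆ = ⊥ := Subgroup.commutator_commutator_eq_bot_of_rotate h1 h2
    rw [Subgroup.commutator_comm Q X, ← hL] at h3
    exact h3
  have hFCL : F ≤ Subgroup.centralizer (L : Set H) := by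
    rw [← Subgroup.commutator_eq_bot_iff_le_centralizer, Subgroup.commutator_comm]; exact hLF
  have hFCQ : F ≤ Subgroup.centralizer (Q : Set H) := by
    rw [← Subgroup.commutator_eq_bot_iff_le_centralizer]; exact hFQ
  have h1 : F = X ⊓ Subgroup.centralizer ((L ⊔ Q : Subgroup H) : Set H) := by
    apply le_antisymm
    · rw [centralizer_sup]; exact le_inf hFX (le_inf hFCL hFCQ)
    · apply hFmax
      · exact inf_le_left
      · have hN2 : Subgroup.normalizer (X : Set H) ⊓ (Subgroup.normalizer (L : Set H) ⊓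
            Subgroup.normalizer (Q : Set H)) ≤ Subgroup.normalizer
              ((X ⊓ Subgroup.centralizer ((L ⊔ Q : Subgroup H) : Set H) : Subgroup H) : Set H) := by
          rw [centralizer_sup]
          refine le_trans ?_ (norm_inf_le _ _)
          refine inf_le_inf_left _ ?_
          refine le_trans ?_ (norm_inf_le _ _)
          exact inf_le_inf (normalizer_le_normalizer_centralizer L)
            (normalizer_le_normalizer_centralizer Q)
        refine (le_of_eq hX1.symm).trans (sup_le ?_ ?_)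
        · refine le_trans ?_ (Subgroup.centralizer_le_normalizer _)
          rw [Subgroup.le_centralizer_iff, centralizer_sup]
          exact inf_le_right.trans inf_le_left
        · refine le_trans ?_ hN2
          exact le_inf (inf_le_left.trans (hnorm X)) (le_inf (inf_le_left.trans hXL)
            (inf_le_right.trans (Subgroup.centralizer_le_normalizer _)))
      · rw [Subgroup.le_centralizer_iff, centralizer_sup]
        exact inf_le_right.trans inf_le_right
  have hFEL : fittingSubgroup ↥L ⊔ layer ↥L = ⊤ :=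
    fitting_sup_layer_eq_top_of_subnormal hLsn (hLX.trans (le_of_eq hX))
  have hOL : pCore p ↥L = ⊥ := Cfsg.Agent.S2812.pCore_eq_bot_of_subnormal hO L hLsn
  have h3 : L ⊓ F ≤ (frattini ↥L).map L.subtype := by
    intro z hz
    obtain ⟨hzL, hzF⟩ := Subgroup.mem_inf.mp hz
    have hzQ : ∀ q ∈ Q, q * z = z * q := fun q hq =>
      Subgroup.mem_centralizer_iff.mp (hFCQ hzF) q hq
    have hc := mem_commutator_of_fixed L Q hQ hQL hX2.symm hFEL (fitting_coprime hOL) z hzL hzQ
    have hcen : (⟨z, hzL⟩ : ↥L) ∈ Subgroup.center ↥L := by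
      rw [Subgroup.mem_center_iff]
      intro g
      apply Subtype.ext
      exact Subgroup.mem_centralizer_iff.mp (hFCL hzF) g g.2
    exact ⟨⟨z, hzL⟩, center_inf_commutator_le_frattini ↥L (Subgroup.mem_inf.mpr ⟨hcen, hc⟩), rfl⟩
  have h4 : ∀ B : Subgroup H, IsPGroup p ↥B → B ≤ Subgroup.normalizer (Q : Set H) →
      ⁅L, B⁆ ≤ F → ⁅L, B⁆ = ⊥ := by
    intro B hB hBQ hLB
    have hBL : B ≤ Subgroup.normalizer (L : Set H) := by
      rw [hL]
      exact (le_inf (hnorm B) hBQ).trans (Cfsg.Agent.Lib.Helper6.gl_normalizer_commutator X Q)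
    obtain ⟨hd, -⟩ := hcore L hLsn hLX B hB hBL
    have hLBL : ⁅L, B⁆ ≤ L := Cfsg.Agent.Lib.Helper7.commutator_le_of_le_normalizer hBL
    have hfr : ⁅L, B⁆ ≤ (frattini ↥L).map L.subtype := (le_inf hLBL hLB).trans h3
    have htop : (L ⊓ Subgroup.centralizer (B : Set H)).subgroupOf L = ⊤ := by
      apply frattini_nongenerating
      apply Subgroup.map_injective L.subtype_injective
      rw [Subgroup.map_sup, Subgroup.map_subgroupOf_eq_of_le inf_le_left,
        ← MonoidHom.range_eq_map, Subgroup.range_subtype]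
      apply le_antisymm
      · exact sup_le inf_le_left (Subgroup.map_subtype_le _)
      · exact (le_of_eq hd.symm).trans (sup_le (hfr.trans le_sup_right) le_sup_left)
    have hLC : L ≤ Subgroup.centralizer (B : Set H) := by
      rw [Subgroup.subgroupOf_eq_top] at htop
      exact htop.trans inf_le_right
    exact Subgroup.commutator_eq_bot_iff_le_centralizer.mpr hLC
  have h5 : (Nat.card ↥(Subgroup.centralizer ((F ⊔ L : Subgroup H) : Set H))).Coprime p := by
    obtain ⟨C, hC⟩ : ∃ C : Subgroup H,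
      C = Subgroup.centralizer ((F ⊔ L : Subgroup H) : Set H) := ⟨_, rfl⟩
    rw [← hC]
    obtain ⟨W, hW⟩ : ∃ W : Subgroup H, W = X ⊓ Subgroup.centralizer (L : Set H) := ⟨_, rfl⟩
    have hWX : W ≤ X := by rw [hW]; exact inf_le_left
    have hNW : Subgroup.normalizer (X : Set H) ⊓ Subgroup.normalizer (L : Set H) ≤
        Subgroup.normalizer (W : Set H) := by
      rw [hW]
      exact (inf_le_inf_left _ (normalizer_le_normalizer_centralizer L)).trans (norm_inf_le _ _)
    have hXW : X ≤ Subgroup.normalizer (W : Set H) := (le_inf (hnorm X) hXL).trans hNW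
    have hQW : Q ≤ Subgroup.normalizer (W : Set H) := (le_inf (hnorm Q) hQL).trans hNW
    have hWsn : W.IsSubnormal := by
      refine Subgroup.IsSubnormal.trans hWX ?_ hXn.isSubnormal
      exact ((Subgroup.normal_subgroupOf_iff_le_normalizer hWX).mpr hXW).isSubnormal
    obtain ⟨hWd, -⟩ := hcore W hWsn hWX Q hQ hQW
    have hWFL : W ≤ F ⊔ L := by
      refine (le_of_eq hWd.symm).trans (sup_le ?_ ?_)
      · refine le_trans ?_ le_sup_right
        rw [hL]; exact Subgroup.commutator_mono hWX le_rfl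
      · refine le_trans ?_ le_sup_left
        refine le_trans ?_ (le_of_eq h1.symm)
        rw [centralizer_sup, hW]
        exact le_inf (inf_le_left.trans inf_le_left)
          (le_inf (inf_le_left.trans inf_le_right) inf_le_right)
    have hT : ∀ T : Subgroup H, IsPGroup p ↥T → T ≤ C → T = ⊥ := by
      intro T hTp hTC
      have hTFL : F ⊔ L ≤ Subgroup.centralizer (T : Set H) := by
        rw [Subgroup.le_centralizer_iff, ← hC]; exact hTC
      have hTL : ⁅T, L⁆ = ⊥ := by
        rw [Subgroup.commutator_eq_bot_iff_le_centralizer]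
        refine hTC.trans ?_
        rw [hC, centralizer_sup]; exact inf_le_right
      have hXTL : ⁅⁅X, T⁆, L⁆ = ⊥ := by
        refine Subgroup.commutator_commutator_eq_bot_of_rotate ?_ ?_
        · rw [hTL]; exact Subgroup.commutator_bot_left _
        · rw [eq_bot_iff]
          calc ⁅⁅L, X⁆, T⁆ ≤ ⁅L, T⁆ := Subgroup.commutator_mono
                (Cfsg.Agent.Lib.Helper7.commutator_le_of_le_normalizer hXL) le_rfl
            _ = ⁅T, L⁆ := Subgroup.commutator_comm _ _
            _ = ⊥ := hTL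
      have hXTW : ⁅X, T⁆ ≤ W := by
        rw [hW]
        exact le_inf (Cfsg.Agent.Lib.Helper7.commutator_le_of_le_normalizer (hnorm T))
          (Subgroup.commutator_eq_bot_iff_le_centralizer.mp hXTL)
      have hXTT : ⁅⁅X, T⁆, T⁆ = ⊥ := by
        rw [Subgroup.commutator_eq_bot_iff_le_centralizer]
        exact hXTW.trans (hWFL.trans hTFL)
      exact (Cfsg.Agent.S2816.result hO T hTp).2 T le_rfl (by rw [← hX]; exact hXTT)
    obtain ⟨P⟩ : Nonempty (Sylow p ↥C) := inferInstance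
    have hP : (P : Subgroup ↥C).map C.subtype = ⊥ :=
      hT _ (P.isPGroup'.map _) (Subgroup.map_subtype_le _)
    have hP' : (P : Subgroup ↥C) = ⊥ :=
      (Subgroup.map_eq_bot_iff_of_injective _ C.subtype_injective).mp hP
    have h6 := P.not_dvd_index
    rw [hP', Subgroup.index_bot] at h6
    exact ((Nat.Prime.coprime_iff_not_dvd hpp).mpr h6).symm
  exact ⟨h1, hX2.symm, h3, h4, h5⟩

end Cfsg.Agent.S2817
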