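import Mathlib
import Cfsg.Statements.S0129
import Cfsg.Agent.S0015
import Cfsg.Agent.S2817
import Cfsg.Agent.S2820

set_option autoImplicit false
open Cfsg
open scoped commutatorElement

namespace Cfsg.Agent.S0129

/-- iterated commutators of `A` with the whole group -/
def cseq {G : Type*} [Group G] (A : Subgroup G) (k : ℕ) : Subgroup G :=
  Nat.rec A (fun _ K => ⁅K, (⊤ : Subgroup G)⁆) k

theorem cseq_zero {G : Type*} [Group G] (A : Subgroup G) : cseq A 0 = A := rfl

theorem cseq_succ {G : Type*} [Group G] (A : Subgroup G) (k : ℕ) :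
    cseq A (k + 1) = ⁅cseq A k, (⊤ : Subgroup G)⁆ := rfl

theorem cseq_le_lcs {G : Type*} [Group G] (A : Subgroup G) (k : ℕ) :
    cseq A k ≤ Subgroup.lowerCentralSeries (⊤ : Subgroup G) k := by
  induction k with
  | zero => exact le_top
  | succ k ih => exact Subgroup.commutator_mono ih le_rfl

theorem cseq_normal {G : Type*} [Group G] (A : Subgroup G) [hA : A.Normal] (k : ℕ) :
    (cseq A k).Normal := by
  induction k with
  | zero => exact hA
  | succ k ih =>
    rw [cseq_succ]
    haveI := ih
    exact Subgroup.commutator_normal _ _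

theorem cseq_le {G : Type*} [Group G] (A : Subgroup G) [hA : A.Normal] (k : ℕ) :
    cseq A k ≤ A := by
  induction k with
  | zero => exact le_rfl
  | succ k ih =>
    rw [cseq_succ]
    haveI := cseq_normal A k
    exact (Subgroup.commutator_le_left _ _).trans ih

/-- in a nilpotent group, between two normal subgroups `B < A` there is an element of `A`
outside `B` that is central modulo `B`. -/
theorem exists_central_mod {G : Type*} [Group G] [hnil : Group.IsNilpotent G] (A B : Subgroup G)
    [A.Normal] [B.Normal] (hBA : B < A) :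
    ∃ x ∈ A, x ∉ B ∧ ∀ g : G, g * x * g⁻¹ * x⁻¹ ∈ B := by
  classical
  obtain ⟨n, hn⟩ := nilpotent_iff_lowerCentralSeries.mp hnil
  have hex : ∃ k, cseq A k ≤ B := ⟨n, by
    have h1 := cseq_le_lcs A n
    rw [hn] at h1
    exact h1.trans bot_le⟩
  have h0 : ¬ cseq A 0 ≤ B := by
    rw [cseq_zero]
    exact not_le_of_gt hBA
  have hk0 : Nat.find hex ≠ 0 := by
    intro h
    have h1 := Nat.find_spec hex
    rw [h] at h1
    exact h0 h1
  obtain ⟨m, hm⟩ := Nat.exists_eq_succ_of_ne_zero hk0
  have h1 : ¬ cseq A m ≤ B := Nat.find_min hex (by omega)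
  have h2 : cseq A (m + 1) ≤ B := by
    have h3 := Nat.find_spec hex
    rw [hm] at h3
    exact h3
  obtain ⟨x, hx, hxB⟩ := SetLike.not_le_iff_exists.mp h1
  refine ⟨x, cseq_le A m hx, hxB, fun g => ?_⟩
  have h3 : ⁅x, g⁆ ∈ cseq A (m + 1) :=
    Subgroup.commutator_mem_commutator hx (Subgroup.mem_top g)
  have h4 := B.inv_mem (h2 h3)
  have e : (⁅x, g⁆)⁻¹ = g * x * g⁻¹ * x⁻¹ := by rw [commutatorElement_def]; group
  rw [e] at h4
  exact h4

theorem relIndex_le {G : Type*} [Group G] [Finite G] (B : Subgroup G) (x₀ : G)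
    (hx : ∀ g : G, g * x₀ * g⁻¹ * x₀⁻¹ ∈ B) :
    (Subgroup.centralizer ((B ⊔ Subgroup.zpowers x₀ : Subgroup G) : Set G)).relIndex
      (Subgroup.centralizer (B : Set G)) ≤ Nat.card B := by
  have hinj : Function.Injective
      (fun q : ↥(Subgroup.centralizer (B : Set G)) ⧸
          (Subgroup.centralizer ((B ⊔ Subgroup.zpowers x₀ : Subgroup G) : Set G)).subgroupOf
            (Subgroup.centralizer (B : Set G)) =>
        (⟨((q.out : ↥(Subgroup.centralizer (B : Set G))) : G) * x₀ *
          ((q.out : ↥(Subgroup.centralizer (B : Set G))) : G)⁻¹ * x₀⁻¹, hx _⟩ : ↥B)) := by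
    intro q q' h
    have h1 : ((q.out : ↥(Subgroup.centralizer (B : Set G))) : G) * x₀ *
          ((q.out : ↥(Subgroup.centralizer (B : Set G))) : G)⁻¹ * x₀⁻¹ =
        ((q'.out : ↥(Subgroup.centralizer (B : Set G))) : G) * x₀ *
          ((q'.out : ↥(Subgroup.centralizer (B : Set G))) : G)⁻¹ * x₀⁻¹ :=
      congrArg Subtype.val h
    have hcomm : Commute x₀ (((q.out : ↥(Subgroup.centralizer (B : Set G))) : G)⁻¹ *
        ((q'.out : ↥(Subgroup.centralizer (B : Set G))) : G)) := by
      generalize ((q.out : ↥(Subgroup.centralizer (B : Set G))) : G) = a at h1 ⊢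
      generalize ((q'.out : ↥(Subgroup.centralizer (B : Set G))) : G) = b at h1 ⊢
      show x₀ * (a⁻¹ * b) = a⁻¹ * b * x₀
      have h2 : a * x₀ * a⁻¹ = b * x₀ * b⁻¹ := by
        calc a * x₀ * a⁻¹ = (a * x₀ * a⁻¹ * x₀⁻¹) * x₀ := by group
          _ = (b * x₀ * b⁻¹ * x₀⁻¹) * x₀ := by rw [h1]
          _ = b * x₀ * b⁻¹ := by group
      calc x₀ * (a⁻¹ * b) = a⁻¹ * (a * x₀ * a⁻¹) * b := by group
        _ = a⁻¹ * (b * x₀ * b⁻¹) * b := by rw [h2]
        _ = a⁻¹ * b * x₀ := by group
    have hmem : (q.out)⁻¹ * q'.out ∈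
        (Subgroup.centralizer ((B ⊔ Subgroup.zpowers x₀ : Subgroup G) : Set G)).subgroupOf
          (Subgroup.centralizer (B : Set G)) := by
      rw [Subgroup.mem_subgroupOf]
      have h5 : (((q.out)⁻¹ * q'.out : ↥(Subgroup.centralizer (B : Set G))) : G) ∈
          Subgroup.centralizer (B : Set G) ⊓
            Subgroup.centralizer ((Subgroup.zpowers x₀ : Subgroup G) : Set G) := by
        have h6 : (((q.out)⁻¹ * q'.out : ↥(Subgroup.centralizer (B : Set G))) : G) ∈
            Subgroup.centralizer ((Subgroup.zpowers x₀ : Subgroup G) : Set G) := by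
          rw [Subgroup.mem_centralizer_iff]
          rintro _ ⟨k, rfl⟩
          exact (hcomm.zpow_left k).eq
        exact ⟨((q.out)⁻¹ * q'.out).2, h6⟩
      rw [← Cfsg.Agent.S2817.centralizer_sup] at h5
      exact h5
    have h3 : (QuotientGroup.mk q.out : ↥(Subgroup.centralizer (B : Set G)) ⧸ _) =
        QuotientGroup.mk q'.out := QuotientGroup.eq.mpr hmem
    rw [QuotientGroup.out_eq', QuotientGroup.out_eq'] at h3
    exact h3
  exact Nat.card_le_card_of_injective _ hinj

/-- The order of a p-group is bounded by p^(a(a+1)/2) when it has a maximal normal abelian subgroup of order p^a. -/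
theorem result {G : Type*} [Group G] [Finite G] {p : ℕ} [Fact p.Prime] (hG : IsPGroup p G) (A : Subgroup G) [A.Normal] (hA : IsMulCommutative A) (hmax : ∀ B : Subgroup G, B.Normal → IsMulCommutative B → A ≤ B → B = A) (a : ℕ) (ha : Nat.card A = p ^ a) : Nat.card G ≤ p ^ (a * (a + 1) / 2) := by
  classical
  have hp : p.Prime := Fact.out
  haveI hnil : Group.IsNilpotent G := hG.isNilpotent
  haveI := hA
  have hCA : Subgroup.centralizer (A : Set G) = A := Cfsg.Agent.S0015.result A hmax
  have Q : ∀ n : ℕ, ∀ (B : Subgroup G) (b : ℕ), B.Normal → B ≤ A → Nat.card B = p ^ b →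
      Nat.card A ≤ Nat.card B + n →
      (Subgroup.centralizer (A : Set G)).relIndex (Subgroup.centralizer (B : Set G)) *
        p ^ (b.choose 2) ≤ p ^ (a.choose 2) := by
    intro n
    induction n with
    | zero =>
      intro B b hBn hBA hb hn
      have hBA' : B = A := Subgroup.eq_of_le_of_card_ge hBA (by omega)
      subst hBA'
      have hab : b = a := Nat.pow_right_injective hp.two_le (hb.symm.trans ha)
      rw [Subgroup.relIndex_self, one_mul, hab]
    | succ n ih =>
      intro B b hBn hBA hb hn
      by_cases hBA' : B = A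
      · subst hBA'
        have hab : b = a := Nat.pow_right_injective hp.two_le (hb.symm.trans ha)
        rw [Subgroup.relIndex_self, one_mul, hab]
      · haveI := hBn
        obtain ⟨x, hxA, hxB, hx⟩ := exists_central_mod A B (lt_of_le_of_ne hBA hBA')
        have hB'n : (B ⊔ Subgroup.zpowers x).Normal := by
          constructor
          intro y hy g
          have key : B ⊔ Subgroup.zpowers x ≤
              (B ⊔ Subgroup.zpowers x).comap (MulAut.conj g).toMonoidHom := by
            refine sup_le ?_ ?_
            · intro z hz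
              rw [Subgroup.mem_comap]
              exact Subgroup.mem_sup_left (hBn.conj_mem z hz g)
            · rw [Subgroup.zpowers_le, Subgroup.mem_comap]
              show g * x * g⁻¹ ∈ _
              have e : g * x * g⁻¹ = (g * x * g⁻¹ * x⁻¹) * x := by group
              rw [e]
              exact Subgroup.mul_mem _ (Subgroup.mem_sup_left (hx g))
                (Subgroup.mem_sup_right (Subgroup.mem_zpowers x))
          exact key hy
        have hB'A : B ⊔ Subgroup.zpowers x ≤ A :=
          sup_le hBA (by rw [Subgroup.zpowers_le]; exact hxA)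
        have hlt : B < B ⊔ Subgroup.zpowers x := by
          refine lt_of_le_of_ne le_sup_left ?_
          intro h
          apply hxB
          rw [h]
          exact Subgroup.mem_sup_right (Subgroup.mem_zpowers x)
        have hcardlt : Nat.card B < Nat.card ↥(B ⊔ Subgroup.zpowers x) :=
          Cfsg.Agent.S2820.card_lt hlt
        obtain ⟨b', hb'⟩ := IsPGroup.iff_card.mp (hG.to_subgroup (B ⊔ Subgroup.zpowers x))
        have hbb' : b < b' := by
          rw [hb, hb'] at hcardlt
          exact (Nat.pow_lt_pow_iff_right hp.one_lt).mp hcardlt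
        have h1 := ih (B ⊔ Subgroup.zpowers x) b' hB'n hB'A hb' (by omega)
        have h2 := relIndex_le B x hx
        have hle1 : Subgroup.centralizer (A : Set G) ≤
            Subgroup.centralizer ((B ⊔ Subgroup.zpowers x : Subgroup G) : Set G) :=
          Subgroup.centralizer_le (SetLike.coe_subset_coe.mpr hB'A)
        have hle2 : Subgroup.centralizer ((B ⊔ Subgroup.zpowers x : Subgroup G) : Set G) ≤
            Subgroup.centralizer (B : Set G) :=
          Subgroup.centralizer_le (SetLike.coe_subset_coe.mpr le_sup_left)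
        rw [← Subgroup.relIndex_mul_relIndex _ _ _ hle1 hle2]
        have h3 : b + b.choose 2 = (b + 1).choose 2 := by
          rw [Nat.choose_succ_succ', Nat.choose_one_right]
        have h4 : (b + 1).choose 2 ≤ b'.choose 2 := Nat.choose_le_choose 2 hbb'
        have h5 : p ^ (b + 1).choose 2 ≤ p ^ b'.choose 2 := Nat.pow_le_pow_right hp.pos h4
        calc (Subgroup.centralizer (A : Set G)).relIndex
                (Subgroup.centralizer ((B ⊔ Subgroup.zpowers x : Subgroup G) : Set G)) *
              (Subgroup.centralizer ((B ⊔ Subgroup.zpowers x : Subgroup G) : Set G)).relIndex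
                (Subgroup.centralizer (B : Set G)) * p ^ b.choose 2
            ≤ (Subgroup.centralizer (A : Set G)).relIndex
                (Subgroup.centralizer ((B ⊔ Subgroup.zpowers x : Subgroup G) : Set G)) *
              Nat.card B * p ^ b.choose 2 :=
              Nat.mul_le_mul_right _ (Nat.mul_le_mul_left _ h2)
          _ = (Subgroup.centralizer (A : Set G)).relIndex
                (Subgroup.centralizer ((B ⊔ Subgroup.zpowers x : Subgroup G) : Set G)) *
              p ^ (b + 1).choose 2 := by
              rw [hb, mul_assoc, ← pow_add, h3]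
          _ ≤ (Subgroup.centralizer (A : Set G)).relIndex
                (Subgroup.centralizer ((B ⊔ Subgroup.zpowers x : Subgroup G) : Set G)) *
              p ^ b'.choose 2 := Nat.mul_le_mul_left _ h5
          _ ≤ p ^ a.choose 2 := h1
  have h0 := Q (Nat.card A) ⊥ 0 inferInstance bot_le
    (by rw [Subgroup.card_bot, pow_zero]) (by omega)
  have hbot : Subgroup.centralizer (((⊥ : Subgroup G) : Subgroup G) : Set G) = ⊤ := by
    rw [eq_top_iff]
    intro g _
    rw [Subgroup.mem_centralizer_iff]
    intro h hh
    rw [Subgroup.mem_bot.mp hh, one_mul, mul_one]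
  rw [hbot, Subgroup.relIndex_top_right, hCA] at h0
  have h6 : Nat.choose 0 2 = 0 := rfl
  rw [h6, pow_zero, mul_one] at h0
  have h7 : Nat.card G = p ^ a * A.index := by rw [← ha]; exact (Subgroup.card_mul_index A).symm
  have h8 : a + a.choose 2 = a * (a + 1) / 2 := by
    have h9 := Nat.choose_two_right (a + 1)
    rw [Nat.choose_succ_succ', Nat.choose_one_right] at h9
    rw [h9, Nat.add_sub_cancel, mul_comm]
  rw [h7, ← h8, pow_add]
  exact Nat.mul_le_mul_left _ h0

end Cfsg.Agent.S0129
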