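import Cfsg.Statements.S0132
import Mathlib
import Cfsg.Agent.Lib.Helper3.GT1

set_option autoImplicit false
open Cfsg

namespace Cfsg.Agent.S0132

open Cfsg.Agent.Lib.Helper2 (hasNormalPComplement_iff mem_of_index_pow_of_coprime_orderOf FrobCond)
open scoped commutatorElement


/-- A minimal non-p-nilpotent finite group is a minimal non-nilpotent group with a normal Sylow p-subgroup. -/
theorem result {G : Type*} [Group G] [Finite G] {p : ℕ} [Fact p.Prime] (h1 : ¬ Cfsg.HasNormalPComplement p G) (h2 : ∀ H : Subgroup G, H ≠ ⊤ → Cfsg.HasNormalPComplement p H) : (∀ H : Subgroup G, H ≠ ⊤ → Group.IsNilpotent H) ∧ ¬ Group.IsNilpotent G ∧ ∀ P : Sylow p G, (P : Subgroup G).Normal := by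
  classical
  have hp : p.Prime := Fact.out
  have hF : ¬ FrobCond p G := fun h => h1 (Cfsg.Agent.Lib.Helper2.frobenius h)
  obtain ⟨Q, hQ, g, hg, hgo, hgc⟩ : ∃ Q : Subgroup G, IsPGroup p Q ∧ ∃ g,
      g ∈ Subgroup.normalizer (Q : Set G) ∧ (orderOf g).Coprime p ∧
      g ∉ Subgroup.centralizer (Q : Set G) := by
    by_contra hcon
    apply hF
    intro Q hQ g hg hgo
    by_contra hgc
    exact hcon ⟨Q, hQ, g, hg, hgo, hgc⟩
  have hKN : Q ⊔ Subgroup.zpowers g ≤ Subgroup.normalizer (Q : Set G) :=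
    sup_le Subgroup.le_normalizer (by rw [Subgroup.zpowers_le]; exact hg)
  have hKtop : Q ⊔ Subgroup.zpowers g = ⊤ := by
    by_contra hne
    have hK := h2 _ hne
    rw [hasNormalPComplement_iff] at hK
    obtain ⟨Y, hYn, hYc, a, ha⟩ := hK
    have := hYn
    have hgK : g ∈ Q ⊔ Subgroup.zpowers g :=
      (le_sup_right : Subgroup.zpowers g ≤ _) (Subgroup.mem_zpowers g)
    have hgY : (⟨g, hgK⟩ : ↥(Q ⊔ Subgroup.zpowers g)) ∈ Y := by
      apply mem_of_index_pow_of_coprime_orderOf Y ha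
      rw [Subgroup.orderOf_mk]; exact hgo
    apply hgc
    rw [Subgroup.mem_centralizer_iff]
    intro q hq
    exact (Cfsg.Agent.Lib.Helper3.pn_comm (Q ⊔ Subgroup.zpowers g) Y hYc Q hQ le_sup_left
      (fun n hn q hq => (Subgroup.mem_normalizer_iff.mp (hKN hn) q).mp hq) ⟨g, hgK⟩ hgY q hq).symm
  have hQn : Q.Normal := by
    rw [← Subgroup.normalizer_eq_top_iff]
    exact top_le_iff.mp (hKtop ▸ hKN)
  have := hQn
  have hidx : Q.index ∣ orderOf g := by
    have h1 : Q.relIndex (Q ⊔ Subgroup.zpowers g) = Q.relIndex (Subgroup.zpowers g) :=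
      Subgroup.relIndex_sup_left _ _
    rw [hKtop, Subgroup.relIndex_top_right] at h1
    rw [h1, ← Nat.card_zpowers]
    exact Subgroup.relIndex_dvd_card _ _
  have hnd : ¬ p ∣ Q.index := fun h => by
    have h3 : p ∣ orderOf g := h.trans hidx
    exact hp.one_lt.ne' (Nat.Coprime.eq_one_of_dvd hgo.symm h3)
  let S : Sylow p G := hQ.toSylow hnd
  have : Unique (Sylow p G) := Sylow.unique_of_normal S hQn
  have hcomG : _root_.commutator G ≤ Q :=
    Subgroup.Normal.commutator_le_of_self_sup_commutative_eq_top hKtop inferInstance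
  refine ⟨?_, ?_, ?_⟩
  · intro H hH
    obtain ⟨P, N, hNn, hc⟩ := h2 H hH
    have := hNn
    have hNc : (Nat.card N).Coprime p := by
      rw [← hc.index_eq_card]
      exact Nat.Coprime.symm (hp.coprime_iff_not_dvd.mpr P.not_dvd_index)
    have hcomm : ∀ y ∈ N, ∀ q ∈ Q ⊓ H, (y : G) * q = q * (y : G) := fun y hy q hq =>
      Cfsg.Agent.Lib.Helper3.pn_comm H N hNc (Q ⊓ H) (hQ.to_le inf_le_left) inf_le_right
        (fun n hn q hq => ⟨hQn.conj_mem q hq.1 n, H.mul_mem (H.mul_mem hn hq.2) (H.inv_mem hn)⟩)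
        y hy q hq
    have hNab : ∀ a b : N, a * b = b * a := by
      intro a b
      have hx1 : a.1 * b.1 * a.1⁻¹ * b.1⁻¹ ∈ N :=
        N.mul_mem (N.mul_mem (N.mul_mem a.2 b.2) (N.inv_mem a.2)) (N.inv_mem b.2)
      have hx2 : a.1 * b.1 * a.1⁻¹ * b.1⁻¹ ∈ Q.subgroupOf H := by
        rw [Subgroup.mem_subgroupOf]
        apply hcomG
        have : ((a.1 * b.1 * a.1⁻¹ * b.1⁻¹ : H) : G) = ⁅(a.1 : G), (b.1 : G)⁆ := by
          rw [commutatorElement_def]; rfl
        rw [this]
        exact Subgroup.commutator_mem_commutator (Subgroup.mem_top _) (Subgroup.mem_top _)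
      have hx3 : a.1 * b.1 * a.1⁻¹ * b.1⁻¹ ∈ (Q.subgroupOf H) ⊓ N := ⟨hx2, hx1⟩
      have hinf : (Q.subgroupOf H) ⊓ N = ⊥ :=
        Cfsg.Agent.Lib.Helper3.inf_eq_bot_of_coprime' (P := Q.subgroupOf H) hQ.comap_subtype hNc
      rw [hinf, Subgroup.mem_bot] at hx3
      apply Subtype.ext
      exact mul_inv_eq_iff_eq_mul.mp (mul_inv_eq_one.mp hx3)
    let _ : CommGroup N := { (inferInstance : Group N) with mul_comm := hNab }
    have hnilN : Group.IsNilpotent N := inferInstance
    have hnilQ : Group.IsNilpotent (Q.subgroupOf H) :=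
      (hQ.comap_subtype (K := H)).isNilpotent
    let φ : (Q.subgroupOf H) × N →* H :=
      MonoidHom.noncommCoprod (Q.subgroupOf H).subtype N.subtype (by
        intro a b
        show (a : H) * (b : H) = (b : H) * (a : H)
        apply Subtype.ext
        exact (hcomm b.1 b.2 a.1.1 ⟨Subgroup.mem_subgroupOf.mp a.2, a.1.2⟩).symm)
    have hφ : Function.Surjective φ := by
      intro h
      obtain ⟨⟨n, x⟩, hnx⟩ := hc.2 h
      have hxQ : ((x : H) : G) ∈ Q := by
        have h1 : IsPGroup p ((P : Subgroup H).map H.subtype) := P.isPGroup'.map _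
        obtain ⟨P', hP'⟩ := h1.exists_le_sylow
        have hPS : P' = S := Subsingleton.elim _ _
        have h2 := hP' (Subgroup.mem_map_of_mem H.subtype x.2)
        rw [hPS] at h2
        exact h2
      refine ⟨(⟨(n : H) * x * (n : H)⁻¹, ?_⟩, n), ?_⟩
      · rw [Subgroup.mem_subgroupOf]
        exact hQn.conj_mem _ hxQ _
      · show (n : H) * x * (n : H)⁻¹ * (n : H) = h
        rw [inv_mul_cancel_right]; exact hnx
    exact Group.nilpotent_of_surjective φ hφ
  · intro hnil
    have hall : ∀ (r : ℕ) (_ : Fact r.Prime) (R : Sylow r G), (R : Subgroup G).Normal :=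
      ((Group.isNilpotent_of_finite_tfae (G := G)).out 0 3).mp hnil
    have hidxC : ∃ a, (Subgroup.centralizer (Q : Set G)).index = p ^ a := by
      refine ⟨_, Nat.eq_prime_pow_of_unique_prime_dvd (Subgroup.index_ne_zero_of_finite) ?_⟩
      intro r hr hrd
      by_contra hrp
      have : Fact r.Prime := ⟨hr⟩
      obtain ⟨R⟩ : Nonempty (Sylow r G) := inferInstance
      have hRn := hall r ⟨hr⟩ R
      have hRC : (R : Subgroup G) ≤ Subgroup.centralizer (Q : Set G) := by
        intro x hx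
        rw [Subgroup.mem_centralizer_iff]
        intro q hq
        have hdis : Disjoint (R : Subgroup G) Q :=
          IsPGroup.disjoint_of_ne r p hrp _ _ R.isPGroup' hQ
        exact (Subgroup.commute_of_normal_of_disjoint _ _ hRn hQn hdis x q hx hq).eq.symm
      exact R.not_dvd_index (hrd.trans (Subgroup.index_dvd_of_le hRC))
    obtain ⟨a, ha⟩ := hidxC
    exact hgc (mem_of_index_pow_of_coprime_orderOf _ ha g hgo)
  · intro P
    have hPS : P = S := Subsingleton.elim _ _
    rw [hPS]; exact hQn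

end Cfsg.Agent.S0132
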