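import Mathlib
import Cfsg.Statements.S0199
import Cfsg.Agent.Lib.Helper5.BaerSuzuki

set_option autoImplicit false
open Cfsg

namespace Cfsg.Agent.S0199

open Cfsg.Agent.Lib.Helper5

theorem result {G : Type*} [Group G] [Finite G] {p : ℕ} [Fact p.Prime] (X : Subgroup G) (hX : IsPGroup p X) (h : ∀ g : G, IsPGroup p ↥(X ⊔ X.map (MulAut.conj g).toMonoidHom)) : ∃ N : Subgroup G, N.Normal ∧ IsPGroup p N ∧ X ≤ N := by
  obtain ⟨P⟩ : Nonempty (Sylow p G) := inferInstance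
  have hK : ∀ g x : G, x ∈ {k : G | ∃ a : G, ∃ x ∈ X, k = a * x * a⁻¹} →
      g * x * g⁻¹ ∈ {k : G | ∃ a : G, ∃ x ∈ X, k = a * x * a⁻¹} := by
    rintro g _ ⟨a, x, hx, rfl⟩
    exact ⟨g * a, x, hx, by group⟩
  have hpair : ∀ u ∈ {k : G | ∃ a : G, ∃ x ∈ X, k = a * x * a⁻¹},
      ∀ v ∈ {k : G | ∃ a : G, ∃ x ∈ X, k = a * x * a⁻¹},
      IsPGroup p (Subgroup.closure ({u, v} : Set G)) := by
    rintro _ ⟨a, x, hx, rfl⟩ _ ⟨b, y, hy, rfl⟩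
    have hp := (h (a⁻¹ * b)).map (MulAut.conj a).toMonoidHom
    apply hp.to_le
    rw [Subgroup.closure_le]
    intro z hz
    rcases hz with rfl | rfl
    · exact ⟨x, (le_sup_left : X ≤ _) hx, rfl⟩
    · refine ⟨(a⁻¹ * b) * y * (a⁻¹ * b)⁻¹, (le_sup_right : X.map _ ≤ _) ⟨y, hy, rfl⟩, ?_⟩
      change a * ((a⁻¹ * b) * y * (a⁻¹ * b)⁻¹) * a⁻¹ = b * y * b⁻¹
      group
  refine ⟨(P : Subgroup G).normalCore, inferInstance, P.isPGroup'.to_le (Subgroup.normalCore_le _), ?_⟩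
  intro x hx g
  exact baer_suzuki_set p _ hK hpair (g * x * g⁻¹) ⟨g, x, hx, rfl⟩ P

end Cfsg.Agent.S0199
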