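import Mathlib
import Cfsg.Statements.S0214
import Cfsg.Agent.Lib.Helper5.Invol
import Cfsg.Agent.Lib.Helper5.StrEmb
import Cfsg.Agent.Lib.Helper5.BaerSuzuki

set_option autoImplicit false
open Cfsg

namespace Cfsg.Agent.S0214

open Cfsg.Agent.Lib.Helper5

theorem mem_map_conj {G : Type*} [Group G] (A : Subgroup G) (g x : G) :
    x ∈ A.map (MulAut.conj g).toMonoidHom ↔ g⁻¹ * x * g ∈ A := by
  constructor
  · rintro ⟨y, hy, rfl⟩
    change g⁻¹ * (g * y * g⁻¹) * g ∈ A
    have e : g⁻¹ * (g * y * g⁻¹) * g = y := by group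
    rw [e]; exact hy
  · intro h
    exact ⟨g⁻¹ * x * g, h, by change g * (g⁻¹ * x * g) * g⁻¹ = x; group⟩

theorem two_dvd_card_of_pgroup {G : Type*} [Group G] [Finite G] (Y : Subgroup G)
    (hY : IsPGroup 2 Y) (hne : Y ≠ ⊥) : 2 ∣ Nat.card Y := by
  haveI : Fact (Nat.Prime 2) := ⟨Nat.prime_two⟩
  obtain ⟨n, hn⟩ := IsPGroup.iff_card.mp hY
  rcases Nat.eq_zero_or_pos n with rfl | hpos
  · exfalso; apply hne; apply Subgroup.eq_bot_of_card_eq; rw [hn, pow_zero]
  · rw [hn]; exact dvd_pow_self 2 hpos.ne'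

theorem mem_normalizer_zpowers_of_commute {G : Type*} [Group G] (a b : G) (h : Commute a b) :
    a ∈ Subgroup.normalizer ((Subgroup.zpowers b : Subgroup G) : Set G) := by
  rw [Subgroup.mem_normalizer_iff]
  intro w
  constructor
  · intro hw
    obtain ⟨j, rfl⟩ := Subgroup.mem_zpowers_iff.mp hw
    have : a * b ^ j * a⁻¹ = b ^ j := by
      rw [(h.zpow_right j).eq, mul_inv_cancel_right]
    rw [this]; exact hw
  · intro hw
    obtain ⟨j, hj⟩ := Subgroup.mem_zpowers_iff.mp hw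
    have : w = b ^ j := by
      have e : w = a⁻¹ * (a * w * a⁻¹) * a := by group
      rw [e, ← hj, mul_assoc, ← (h.zpow_right j).eq, inv_mul_cancel_left]
    rw [this]; exact Subgroup.zpow_mem_zpowers _ _

theorem normalizer_le_of {G : Type*} [Group G] [Finite G] (H : Subgroup G) (P : Sylow 2 ↥H)
    (hyp : ∀ X : Subgroup ↥H, X ≤ (P : Subgroup ↥H) → X ≠ ⊥ →
      Subgroup.normalizer ((X.map H.subtype : Subgroup G) : Set G) ≤ H)
    (Y : Subgroup G) (hYH : Y ≤ H) (hY : IsPGroup 2 Y) (hne : Y ≠ ⊥) :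
    Subgroup.normalizer (Y : Set G) ≤ H := by
  haveI : Fact (Nat.Prime 2) := ⟨Nat.prime_two⟩
  have hY' : IsPGroup 2 (Y.subgroupOf H) := hY.comap_of_injective H.subtype H.subtype_injective
  obtain ⟨S, hS⟩ := hY'.exists_le_sylow
  obtain ⟨h, rfl⟩ := MulAction.exists_smul_eq ↥H P S
  have hmemYh : ∀ w, w ∈ Y.map (MulAut.conj (h : G)⁻¹).toMonoidHom ↔ (h : G) * w * (h : G)⁻¹ ∈ Y := by
    intro w; rw [mem_map_conj, inv_inv]
  have hYhH : Y.map (MulAut.conj (h : G)⁻¹).toMonoidHom ≤ H := by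
    intro w hw
    rw [hmemYh] at hw
    have e : w = (h : G)⁻¹ * ((h : G) * w * (h : G)⁻¹) * (h : G) := by group
    rw [e]; exact H.mul_mem (H.mul_mem (H.inv_mem h.2) (hYH hw)) h.2
  have hXP : (Y.map (MulAut.conj (h : G)⁻¹).toMonoidHom).subgroupOf H ≤ (P : Subgroup ↥H) := by
    intro w hw
    rw [Subgroup.mem_subgroupOf, hmemYh] at hw
    have h1 : h * w * h⁻¹ ∈ Y.subgroupOf H := by rw [Subgroup.mem_subgroupOf]; exact hw
    have h2 := (mem_sylow_smul_iff_gen P h _).mp (hS h1)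
    have e : h⁻¹ * (h * w * h⁻¹) * h = w := by group
    rw [e] at h2; exact h2
  have hXne : (Y.map (MulAut.conj (h : G)⁻¹).toMonoidHom).subgroupOf H ≠ ⊥ := by
    intro hbot
    apply hne
    rw [Subgroup.eq_bot_iff_forall]
    intro y hy
    have hmem : (h : G)⁻¹ * y * (h : G) ∈ Y.map (MulAut.conj (h : G)⁻¹).toMonoidHom := by
      rw [hmemYh]
      have e : (h : G) * ((h : G)⁻¹ * y * (h : G)) * (h : G)⁻¹ = y := by group
      rw [e]; exact hy
    have h3 : (⟨(h : G)⁻¹ * y * (h : G), hYhH hmem⟩ : ↥H) ∈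
        (Y.map (MulAut.conj (h : G)⁻¹).toMonoidHom).subgroupOf H := by
      rw [Subgroup.mem_subgroupOf]; exact hmem
    rw [hbot, Subgroup.mem_bot] at h3
    have h4 : (h : G)⁻¹ * y * (h : G) = 1 := congrArg Subtype.val h3
    have e : y = (h : G) * ((h : G)⁻¹ * y * (h : G)) * (h : G)⁻¹ := by group
    rw [e, h4]; group
  have hN := hyp _ hXP hXne
  rw [Subgroup.map_subgroupOf_eq_of_le hYhH] at hN
  intro n hn
  have h5 : (h : G)⁻¹ * n * (h : G) ∈
      Subgroup.normalizer ((Y.map (MulAut.conj (h : G)⁻¹).toMonoidHom : Subgroup G) : Set G) := by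
    rw [Subgroup.mem_normalizer_iff]
    intro w
    rw [hmemYh, hmemYh]
    have := (Subgroup.mem_normalizer_iff.mp hn) ((h : G) * w * (h : G)⁻¹)
    rw [this]
    have e : n * ((h : G) * w * (h : G)⁻¹) * n⁻¹ = (h : G) * ((h : G)⁻¹ * n * (h : G) * w *
        ((h : G)⁻¹ * n * (h : G))⁻¹) * (h : G)⁻¹ := by group
    rw [e]
  have h6 := hN h5
  have e : n = (h : G) * ((h : G)⁻¹ * n * (h : G)) * (h : G)⁻¹ := by group
  rw [e]; exact H.mul_mem (H.mul_mem h.2 h6) (H.inv_mem h.2)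

theorem result {G : Type*} [Group G] [Finite G] (H : Subgroup G) (hH : H ≠ ⊤) (P : Sylow 2 ↥H) (hP : (P : Subgroup ↥H) ≠ ⊥) : Cfsg.IsStronglyEmbedded H ↔ (∀ X : Subgroup ↥H, X ≤ (P : Subgroup ↥H) → X ≠ ⊥ → Subgroup.normalizer ((X.map H.subtype : Subgroup G) : Set G) ≤ H) := by
  haveI : Fact (Nat.Prime 2) := ⟨Nat.prime_two⟩
  constructor
  · rintro ⟨_, _, hodd⟩ X hXP hX n hn
    by_contra hnH
    have hle : X.map H.subtype ≤ H ⊓ H.map (MulAut.conj n).toMonoidHom := by
      intro x hx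
      refine Subgroup.mem_inf.mpr ⟨?_, ?_⟩
      · obtain ⟨y, _, rfl⟩ := hx
        exact y.2
      · rw [mem_map_conj]
        have := (Subgroup.mem_normalizer_iff''.mp hn x).mp hx
        obtain ⟨y, _, hy⟩ := this
        rw [← hy]; exact y.2
    have h2 : 2 ∣ Nat.card (X.map H.subtype) := by
      rw [Subgroup.card_map_of_injective H.subtype_injective]
      exact two_dvd_card_of_pgroup X (P.isPGroup'.to_le hXP) hX
    have h3 := h2.trans (Subgroup.card_dvd_of_le hle)
    exact (Nat.not_even_iff_odd.mpr (hodd n hnH)) (even_iff_two_dvd.mpr h3)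
  · intro hyp
    have hev : Even (Nat.card H) := by
      have h2 := two_dvd_card_of_pgroup (P : Subgroup ↥H) P.isPGroup' hP
      exact even_iff_two_dvd.mpr (h2.trans (Subgroup.card_subgroup_dvd_card _))
    refine ⟨hH, hev, fun g hg => ?_⟩
    by_contra hodd
    obtain ⟨t, htH, ht2, u, huH, hu2, rfl⟩ := exists_invol_of_even_inf H g hodd
    have hzu : IsPGroup 2 (Subgroup.zpowers (⟨u, huH⟩ : ↥H)) :=
      IsPGroup.of_card (n := 1) (by rw [Nat.card_zpowers, Subgroup.orderOf_mk, hu2, pow_one])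
    obtain ⟨Su, hSu⟩ := hzu.exists_le_sylow
    have huSu : (⟨u, huH⟩ : ↥H) ∈ (Su : Subgroup ↥H) := hSu (Subgroup.mem_zpowers _)
    have hSu'H : (Su : Subgroup ↥H).map H.subtype ≤ H := by
      rintro _ ⟨y, _, rfl⟩; exact y.2
    have hSu'p : IsPGroup 2 ((Su : Subgroup ↥H).map H.subtype) := Su.isPGroup'.map _
    have huSu' : u ∈ (Su : Subgroup ↥H).map H.subtype := ⟨⟨u, huH⟩, huSu, rfl⟩
    have hSu'ne : (Su : Subgroup ↥H).map H.subtype ≠ ⊥ := by
      intro h
      rw [h, Subgroup.mem_bot] at huSu'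
      exact ne_one_of_order_two hu2 huSu'
    obtain ⟨Q, hQ⟩ : ∃ Q : Subgroup G,
        Q = ((Su : Subgroup ↥H).map H.subtype).map (MulAut.conj g).toMonoidHom := ⟨_, rfl⟩
    have hQp : IsPGroup 2 Q := by rw [hQ]; exact hSu'p.map _
    have htQ : g * u * g⁻¹ ∈ Q := by rw [hQ]; exact ⟨u, huSu', rfl⟩
    haveI : Nontrivial ↥Q := ⟨⟨⟨g * u * g⁻¹, htQ⟩, 1, by
      intro h; exact ne_one_of_order_two ht2 (congrArg Subtype.val h)⟩⟩
    haveI := hQp.center_nontrivial
    obtain ⟨⟨z', hz'c⟩, hz'1⟩ := exists_ne (1 : Subgroup.center ↥Q)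
    have hz1 : (z' : G) ≠ 1 := by
      intro h; apply hz'1; apply Subtype.ext; apply Subtype.ext; exact h
    have hzcomm : ∀ q ∈ Q, q * (z' : G) = (z' : G) * q := by
      intro q hq
      have := (Subgroup.mem_center_iff.mp hz'c) ⟨q, hq⟩
      exact congrArg Subtype.val this
    have hCt := normalizer_le_of H P hyp (Subgroup.zpowers (g * u * g⁻¹))
      (by rw [Subgroup.zpowers_le]; exact htH)
      (IsPGroup.of_card (n := 1) (by rw [Nat.card_zpowers, ht2, pow_one]))
      (by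
        intro h
        have := Subgroup.mem_zpowers (g * u * g⁻¹)
        rw [h, Subgroup.mem_bot] at this
        exact ne_one_of_order_two ht2 this)
    have hzH : (z' : G) ∈ H :=
      hCt (mem_normalizer_zpowers_of_commute _ _ (hzcomm _ htQ).symm)
    have hCz := normalizer_le_of H P hyp (Subgroup.zpowers (z' : G))
      (by rw [Subgroup.zpowers_le]; exact hzH)
      (hQp.to_le (by rw [Subgroup.zpowers_le]; exact z'.2))
      (by
        intro h
        have := Subgroup.mem_zpowers (z' : G)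
        rw [h, Subgroup.mem_bot] at this
        exact hz1 this)
    have hQH : Q ≤ H := fun q hq => hCz (mem_normalizer_zpowers_of_commute _ _ (hzcomm q hq))
    have hQ'p : IsPGroup 2 (Q.subgroupOf H) := hQp.comap_of_injective _ H.subtype_injective
    obtain ⟨S2, hS2⟩ := hQ'p.exists_le_sylow
    have hcardQ : Nat.card (Q.subgroupOf H) = Nat.card (Su : Subgroup ↥H) := by
      rw [Nat.card_congr (Subgroup.subgroupOfEquivOfLe hQH).toEquiv, hQ,
        Subgroup.card_map_of_injective (MulAut.conj g).injective,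
        Subgroup.card_map_of_injective H.subtype_injective]
    have hQeq : Q.subgroupOf H = (S2 : Subgroup ↥H) := by
      apply Subgroup.eq_of_le_of_card_ge hS2
      rw [hcardQ, Sylow.card_eq_multiplicity, Sylow.card_eq_multiplicity]
    obtain ⟨h, hh⟩ := MulAction.exists_smul_eq ↥H Su S2
    have key : ∀ w' : G, w' ∈ Q ↔ (h : G)⁻¹ * w' * (h : G) ∈ (Su : Subgroup ↥H).map H.subtype := by
      intro w'
      constructor
      · intro hw'
        have h1 : (⟨w', hQH hw'⟩ : ↥H) ∈ Q.subgroupOf H := by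
          rw [Subgroup.mem_subgroupOf]; exact hw'
        rw [hQeq, ← hh] at h1
        have h2 := (mem_sylow_smul_iff_gen Su h _).mp h1
        exact ⟨_, h2, rfl⟩
      · rintro ⟨y, hy, hy'⟩
        have hy'' : (y : G) = (h : G)⁻¹ * w' * (h : G) := hy'
        have hw'H : w' ∈ H := by
          have e : w' = (h : G) * ((h : G)⁻¹ * w' * (h : G)) * (h : G)⁻¹ := by group
          rw [e, ← hy'']; exact H.mul_mem (H.mul_mem h.2 y.2) (H.inv_mem h.2)
        have h1 : (⟨w', hw'H⟩ : ↥H) ∈ ((h • Su : Sylow 2 ↥H) : Subgroup ↥H) := by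
          apply (mem_sylow_smul_iff_gen Su h _).mpr
          have e : h⁻¹ * (⟨w', hw'H⟩ : ↥H) * h = y := by apply Subtype.ext; exact hy''.symm
          rw [e]; exact hy
        rw [hh, ← hQeq, Subgroup.mem_subgroupOf] at h1
        exact h1
    have hnorm : (h : G)⁻¹ * g ∈
        Subgroup.normalizer ((((Su : Subgroup ↥H).map H.subtype : Subgroup G)) : Set G) := by
      rw [Subgroup.mem_normalizer_iff]
      intro w
      have h1 : w ∈ (Su : Subgroup ↥H).map H.subtype ↔ g * w * g⁻¹ ∈ Q := by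
        rw [hQ, mem_map_conj]
        have e : g⁻¹ * (g * w * g⁻¹) * g = w := by group
        rw [e]
      rw [h1, key]
      have e : (h : G)⁻¹ * (g * w * g⁻¹) * (h : G) = (h : G)⁻¹ * g * w * ((h : G)⁻¹ * g)⁻¹ := by
        group
      rw [e]
    have hfin := normalizer_le_of H P hyp _ hSu'H hSu'p hSu'ne hnorm
    apply hg
    have e : g = (h : G) * ((h : G)⁻¹ * g) := by group
    rw [e]; exact H.mul_mem h.2 hfin

end Cfsg.Agent.S0214
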