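import Mathlib
import Cfsg.Statements.S0223
import Cfsg.Agent.Lib.Helper5.StrEmb

set_option autoImplicit false
open Cfsg

namespace Cfsg.Agent.S0223

open Cfsg.Agent.Lib.Helper5

theorem result {G : Type*} [Group G] [Finite G] (H : Subgroup G) (hH : H ≠ ⊤) (heven : Even (Nat.card H)) : Cfsg.IsStronglyEmbedded H ↔ ((∀ t ∈ H, orderOf t = 2 → Subgroup.centralizer ({t} : Set G) ≤ H) ∧ (∀ t ∈ H, ∀ s ∈ H, orderOf t = 2 → orderOf s = 2 → IsConj t s → ∃ h ∈ H, h * t * h⁻¹ = s)) := by
  constructor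
  · rintro ⟨_, _, hodd⟩
    have key : ∀ (g t : G), t ∈ H → orderOf t = 2 → g * t * g⁻¹ ∈ H → g ∈ H := by
      intro g t htH ht2 hgt
      by_contra hg
      have hmem := mem_inf_conj H g t hgt htH
      have ho : orderOf (g * t * g⁻¹) = 2 := by
        have : orderOf ((MulAut.conj g) t) = orderOf t := MulEquiv.orderOf_eq _ _
        rw [MulAut.conj_apply] at this
        rw [this, ht2]
      exact not_odd_of_invol_mem _ _ hmem ho (hodd g hg)
    constructor
    · intro t htH ht2 c hc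
      rw [Subgroup.mem_centralizer_iff] at hc
      have h1 := hc t rfl
      apply key c t htH ht2
      have : c * t * c⁻¹ = t := by rw [← h1]; group
      rw [this]; exact htH
    · intro t htH s hsH ht2 hs2 hconj
      rw [isConj_iff] at hconj
      obtain ⟨c, hc⟩ := hconj
      exact ⟨c, key c t htH ht2 (by rw [hc]; exact hsH), hc⟩
  · rintro ⟨h1, h2⟩
    refine ⟨hH, heven, fun g hg => ?_⟩
    by_contra hodd
    obtain ⟨t, htH, ht2, t', ht'H, ht'2, rfl⟩ := exists_invol_of_even_inf H g hodd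
    obtain ⟨h, hhH, hh⟩ := h2 t' ht'H _ htH ht'2 ht2 (isConj_iff.mpr ⟨g, rfl⟩)
    have hc : g * h⁻¹ ∈ Subgroup.centralizer ({g * t' * g⁻¹} : Set G) := by
      rw [Subgroup.mem_centralizer_iff]
      intro y hy
      rw [Set.mem_singleton_iff] at hy
      rw [hy]
      have e1 : g * t' * g⁻¹ * (g * h⁻¹) = g * t' * h⁻¹ := by group
      have e2 : g * h⁻¹ * (g * t' * g⁻¹) = g * (h⁻¹ * (g * t' * g⁻¹) * h) * h⁻¹ := by group
      rw [e1, e2, ← hh]
      group
    have := h1 _ htH ht2 hc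
    apply hg
    have e : g = g * h⁻¹ * h := by group
    rw [e]
    exact H.mul_mem this hhH

end Cfsg.Agent.S0223
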