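import Mathlib
import Cfsg.Statements.S0224
import Cfsg.Agent.Lib.Helper5.StrEmb

set_option autoImplicit false
open Cfsg

namespace Cfsg.Agent.S0224

open Cfsg.Agent.Lib.Helper5

theorem result {G : Type*} [Group G] [Finite G] (H : Subgroup G) (hH : H ≠ ⊤) (heven : Even (Nat.card H)) : Cfsg.IsStronglyEmbedded H ↔ ∀ t ∈ H, orderOf t = 2 → Nat.card {c : G ⧸ H // t • c = c} = 1 := by
  have hfix : ∀ (t g : G), t • ((g : G) : G ⧸ H) = (g : G ⧸ H) ↔ g⁻¹ * t * g ∈ H := by
    intro t g
    rw [MulAction.Quotient.smul_mk, eq_comm, QuotientGroup.eq, smul_eq_mul, mul_assoc]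
  constructor
  · rintro ⟨_, _, hodd⟩ t htH ht2
    have key : ∀ c : G ⧸ H, t • c = c → c = ((1 : G) : G ⧸ H) := by
      intro c
      induction c using QuotientGroup.induction_on with
      | H g =>
        intro hg
        rw [hfix] at hg
        by_contra hne
        have hgH : g ∉ H := fun h => hne (by
          rw [QuotientGroup.eq]; exact H.mul_mem (H.inv_mem h) H.one_mem)
        have hmem := mem_inf_conj H g (g⁻¹ * t * g) (by
          have : g * (g⁻¹ * t * g) * g⁻¹ = t := by group
          rw [this]; exact htH) hg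
        have : g * (g⁻¹ * t * g) * g⁻¹ = t := by group
        rw [this] at hmem
        exact not_odd_of_invol_mem _ t hmem ht2 (hodd g hgH)
    rw [Nat.card_eq_one_iff_unique]
    refine ⟨⟨?_⟩, ⟨⟨((1 : G) : G ⧸ H), ?_⟩⟩⟩
    · rintro ⟨c, hc⟩ ⟨d, hd⟩
      apply Subtype.ext
      change c = d
      rw [key c hc, key d hd]
    · rw [hfix]
      simpa using htH
  · intro h
    refine ⟨hH, heven, fun g hg => ?_⟩
    by_contra hodd
    obtain ⟨t, htH, ht2, t', ht'H, ht'2, rfl⟩ := exists_invol_of_even_inf H g hodd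
    have h1 := h _ htH ht2
    rw [Nat.card_eq_one_iff_unique] at h1
    have h2 := h1.1.elim ⟨((1 : G) : G ⧸ H), by rw [hfix]; simpa using htH⟩ ⟨(g : G ⧸ H), by
      rw [hfix]
      have : g⁻¹ * (g * t' * g⁻¹) * g = t' := by group
      rw [this]; exact ht'H⟩
    have h3 : ((1 : G) : G ⧸ H) = (g : G ⧸ H) := congrArg Subtype.val h2
    rw [QuotientGroup.eq] at h3
    apply hg
    simpa using h3

end Cfsg.Agent.S0224
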