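import Cfsg.Statements.S1292
import Cfsg.Agent.Lib.Helper1.PxQ

set_option autoImplicit false
open Cfsg

open Cfsg.Agent.Lib.Helper1 Cfsg.Agent.Lib.Helper7

namespace Cfsg.Agent.S1292

/-- Let G be a finite group such that F*(C_G(t)) = O_2(C_G(t)) for every involution t. Then F*(N_G(T)) = O_2(N_G(T)) for every nontrivial 2-subgroup T of G. -/
theorem result {G : Type*} [Group G] [Finite G] (h : ∀ t : G, orderOf t = 2 → Cfsg.generalizedFittingSubgroup ↥(Subgroup.centralizer ({t} : Set G)) = Cfsg.pCore 2 ↥(Subgroup.centralizer ({t} : Set G))) (T : Subgroup G) (hT : IsPGroup 2 ↥T) (hT1 : T ≠ ⊥) : Cfsg.generalizedFittingSubgroup ↥(Subgroup.normalizer (T : Set G)) = Cfsg.pCore 2 ↥(Subgroup.normalizer (T : Set G)) := by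
  haveI : Fact (Nat.Prime 2) := ⟨Nat.prime_two⟩
  haveI : Nontrivial ↥T := (Subgroup.nontrivial_iff_ne_bot T).mpr hT1
  have hZ : Nontrivial ↥(Subgroup.center ↥T) := hT.center_nontrivial
  have hZ2 : 2 ∣ Nat.card ↥(Subgroup.center ↥T) := by
    have hZp : IsPGroup 2 ↥(Subgroup.center ↥T) := hT.to_subgroup _
    obtain ⟨n, hn⟩ := IsPGroup.iff_card.mp hZp
    rw [hn]
    have hn0 : n ≠ 0 := by
      rintro rfl
      rw [pow_zero] at hn
      have hs : Subsingleton ↥(Subgroup.center ↥T) := (Nat.card_eq_one_iff_unique.mp hn).1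
      exact not_nontrivial _ hZ
    exact dvd_pow_self 2 hn0
  obtain ⟨z, hz⟩ := exists_prime_orderOf_dvd_card' 2 hZ2
  have hto : orderOf (((z : ↥T) : G)) = 2 := by
    rw [Subgroup.orderOf_coe, Subgroup.orderOf_coe]; exact hz
  have hTH : T ≤ Subgroup.centralizer ({((z : ↥T) : G)} : Set G) := by
    intro x hx
    rw [Subgroup.mem_centralizer_iff]
    intro y hy
    rw [Set.mem_singleton_iff] at hy
    rw [hy]
    have := Subgroup.mem_center_iff.mp z.2 ⟨x, hx⟩
    exact (congrArg Subtype.val this).symm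
  have hCT : Subgroup.centralizer (T : Set G)
      ≤ Subgroup.centralizer ({((z : ↥T) : G)} : Set G) :=
    Subgroup.centralizer_le (by
      intro y hy; rw [Set.mem_singleton_iff] at hy; rw [hy]; exact (z : ↥T).2)
  set H := Subgroup.centralizer ({((z : ↥T) : G)} : Set G) with hH
  have hUp : IsPGroup 2 ↥((Cfsg.pCore 2 ↥H).map H.subtype) := (pCore_isPGroup 2 ↥H).map _
  have hHU : H ≤ Subgroup.normalizer (((Cfsg.pCore 2 ↥H).map H.subtype : Subgroup G) : Set G) :=
    le_normalizer_map_subtype_of_normal _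
  have hCU : H ⊓ Subgroup.centralizer (((Cfsg.pCore 2 ↥H).map H.subtype : Subgroup G) : Set G)
      ≤ (Cfsg.pCore 2 ↥H).map H.subtype := by
    rintro x ⟨hx1, hx2⟩
    have h1 := centralizer_pCore_le_of_genFitting_eq 2 ↥H (h _ hto)
    have h2 : (⟨x, hx1⟩ : ↥H) ∈ Subgroup.centralizer (Cfsg.pCore 2 ↥H : Set ↥H) := by
      rw [Subgroup.mem_centralizer_iff]
      intro y hy
      apply Subtype.ext
      exact (Subgroup.mem_centralizer_iff.mp hx2) (y : G) ⟨y, hy, rfl⟩
    exact ⟨⟨x, hx1⟩, h1 h2, rfl⟩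
  exact genFitting_normalizer_eq_pCore 2 hUp hHU hCU hT hTH hCT

end Cfsg.Agent.S1292
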