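import Mathlib
import Cfsg.Statements.S1910
import Cfsg.Agent.S1900
import Cfsg.Agent.Lib.Helper8.Basic
import Cfsg.Agent.Lib.Helper7.Coprime

set_option autoImplicit false
open Cfsg
open Cfsg.Agent.Lib.Helper8

namespace Cfsg.Agent.S1910

variable {G : Type*} [Group G]

/-- element form of tight embedding -/
def TE (K : Subgroup G) : Prop :=
  ∀ u ∈ K, orderOf u = 2 → ∀ x : G, x⁻¹ * u * x ∈ K → x ∈ Subgroup.normalizer (K : Set G)

theorem te_of_tight [Finite G] {K : Subgroup G} (hK : Cfsg.IsTightlyEmbedded K) : TE K := by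
  intro u hu ho x hx
  by_contra hxn
  have hodd := hK.2 x hxn
  have hu' : u ∈ K.map (MulAut.conj x).toMonoidHom := (h8_mem_map_conj x K u).2 hx
  have hdvd : orderOf (⟨u, Subgroup.mem_inf.2 ⟨hu, hu'⟩⟩ :
      ↥(K ⊓ K.map (MulAut.conj x).toMonoidHom)) ∣ Nat.card _ := orderOf_dvd_natCard _
  rw [Subgroup.orderOf_mk, ho] at hdvd
  exact (Nat.not_even_iff_odd.2 hodd) (even_iff_two_dvd.2 hdvd)

theorem te_conj [Finite G] (g : G) {K : Subgroup G} (hK : TE K) :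
    TE (K.map (MulAut.conj g).toMonoidHom) := by
  intro u hu ho x hx
  rw [h8_mem_map_conj] at hu hx
  have ho' : orderOf (g⁻¹ * u * g) = 2 := by
    have := h8_orderOf_conj g⁻¹ u
    rw [inv_inv] at this
    rw [this, ho]
  have h1 := hK (g⁻¹ * u * g) hu ho' (g⁻¹ * x * g) (by convert hx using 1; group)
  apply S1900.mem_normalizer_of_conj_mem
  intro h hh
  rw [h8_mem_map_conj] at hh ⊢
  have := (Subgroup.mem_normalizer_iff.mp h1 (g⁻¹ * h * g)).mp hh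
  convert this using 1
  group

theorem no_invol_bot [Finite G] {U : Subgroup G} (hU : IsPGroup 2 U)
    (h : ∀ u ∈ U, orderOf u ≠ 2) : U = ⊥ := by
  by_contra hne
  haveI : Fact (Nat.Prime 2) := ⟨Nat.prime_two⟩
  haveI : Nontrivial U := (Subgroup.nontrivial_iff_ne_bot U).2 hne
  obtain ⟨n, hn⟩ := IsPGroup.iff_card.mp hU
  have h1 : 1 < Nat.card U := Finite.one_lt_card
  have hn0 : n ≠ 0 := by
    rintro rfl
    rw [hn] at h1
    simp at h1
  have hdvd : 2 ∣ Nat.card U := by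
    rw [hn]
    exact dvd_pow_self 2 hn0
  obtain ⟨x, hx⟩ := exists_prime_orderOf_dvd_card' 2 hdvd
  exact h (x : G) x.2 (by rw [Subgroup.orderOf_coe]; exact hx)

theorem exists_invol [Finite G] {U : Subgroup G} (hU : IsPGroup 2 U) (hne : U ≠ ⊥) :
    ∃ u ∈ U, orderOf u = 2 := by
  by_contra hcon
  push_neg at hcon
  exact hne (no_invol_bot hU hcon)

theorem normalizer_le_of_te [Finite G] {K U : Subgroup G} (hK : TE K) (hUK : U ≤ K)
    (hU : IsPGroup 2 U) (hne : U ≠ ⊥) :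
    Subgroup.normalizer (U : Set G) ≤ Subgroup.normalizer (K : Set G) := by
  obtain ⟨u, hu, ho⟩ := exists_invol hU hne
  intro x hx
  apply hK u (hUK hu) ho x
  apply hUK
  have := (Subgroup.mem_normalizer_iff.mp (Subgroup.inv_mem _ hx) u).mp hu
  simpa using this

theorem conj_into [Finite G] {A S V : Subgroup G} (hS : IsPGroup 2 S)
    (hodd : ¬ 2 ∣ S.relIndex A) (hVA : V ≤ A) (hV : IsPGroup 2 V) :
    ∃ a ∈ A, ∀ v ∈ V, a⁻¹ * v * a ∈ S := by
  haveI : Fact (Nat.Prime 2) := ⟨Nat.prime_two⟩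
  have hS' : IsPGroup 2 (S.subgroupOf A) := hS.comap_subtype
  have hV' : IsPGroup 2 (V.subgroupOf A) := hV.comap_subtype
  obtain ⟨h, hh⟩ := h8_exists_conj_sylow_ge (hS'.toSylow hodd) hV'
  refine ⟨h, h.2, fun v hv => ?_⟩
  have h1 := hh ⟨v, hVA hv⟩ (by rw [Subgroup.mem_subgroupOf]; exact hv)
  have h2 := (IsPGroup.mem_toSylow hS' hodd).1 h1
  rw [Subgroup.mem_subgroupOf] at h2
  simpa using h2

theorem conjHom (U V : Subgroup G) (c : G) (h : ∀ u ∈ U, c * u * c⁻¹ ∈ V) :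
    ∃ f : U →* V, Function.Injective f := by
  refine ⟨MonoidHom.mk' (fun u => ⟨c * u * c⁻¹, h u u.2⟩) ?_, ?_⟩
  · intro a b
    apply Subtype.ext
    simp [mul_assoc]
  · intro a b hab
    have h1 := congrArg Subtype.val hab
    simp only [MonoidHom.mk'_apply] at h1
    apply Subtype.ext
    have h2 : c⁻¹ * (c * (a : G) * c⁻¹) * c = c⁻¹ * (c * (b : G) * c⁻¹) * c := by rw [h1]
    simpa [mul_assoc] using h2

theorem card_le_of_syl [Finite G] {A S V : Subgroup G} (hS : IsPGroup 2 S)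
    (hodd : ¬ 2 ∣ S.relIndex A) (hVA : V ≤ A) (hV : IsPGroup 2 V) :
    Nat.card V ≤ Nat.card S := by
  obtain ⟨a, -, hav⟩ := conj_into hS hodd hVA hV
  obtain ⟨f, hf⟩ := conjHom V S a⁻¹ (fun v hv => by simpa using hav v hv)
  exact Nat.card_le_card_of_injective f hf

theorem exists_syl [Finite G] {A V : Subgroup G} (hVA : V ≤ A) (hV : IsPGroup 2 V) :
    ∃ S : Subgroup G, V ≤ S ∧ S ≤ A ∧ IsPGroup 2 S ∧ ¬ 2 ∣ S.relIndex A := by
  haveI : Fact (Nat.Prime 2) := ⟨Nat.prime_two⟩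
  have hV' : IsPGroup 2 (V.subgroupOf A) := hV.comap_subtype
  obtain ⟨P, hP⟩ := hV'.exists_le_sylow
  refine ⟨(P : Subgroup A).map A.subtype, ?_, ?_, ?_, ?_⟩
  · intro v hv
    exact ⟨⟨v, hVA hv⟩, hP (by rw [Subgroup.mem_subgroupOf]; exact hv), rfl⟩
  · exact Subgroup.map_subtype_le _
  · exact P.isPGroup'.map _
  · have : ((P : Subgroup A).map A.subtype).subgroupOf A = (P : Subgroup A) :=
      Subgroup.comap_map_eq_self_of_injective Subtype.coe_injective _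
    rw [Subgroup.relIndex, this]
    exact P.not_dvd_index

theorem card_cj [Finite G] (g : G) (A : Subgroup G) :
    Nat.card (A.map (MulAut.conj g).toMonoidHom) = Nat.card A :=
  Subgroup.card_map_of_injective (MulAut.conj g).injective

theorem equiv_of_inj [Finite G] {U V : Subgroup G} (f : U →* V) (hf : Function.Injective f)
    (h : Nat.card V ≤ Nat.card U) : Nonempty (U ≃* V) :=
  ⟨MulEquiv.ofBijective f (hf.bijective_of_nat_card_le h)⟩

theorem proj {A B H : Subgroup G} (hAB : A ⊓ B = ⊥) (hc : ∀ a ∈ A, ∀ b ∈ B, a * b = b * a)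
    (hH : H ≤ A ⊔ B) (hHA : H ⊓ A = ⊥) : ∃ f : H →* B, Function.Injective f := by
  have hBN : B ≤ Subgroup.normalizer (A : Set G) := by
    intro b hb
    rw [Subgroup.mem_normalizer_iff]
    intro a
    constructor
    · intro ha
      have h1 := hc a ha b hb
      have : b * a * b⁻¹ = a := by rw [← h1]; group
      rw [this]; exact ha
    · intro ha
      have h1 := hc _ ha b hb
      have : a = b * a * b⁻¹ := by
        have h2 : b * a = b * (b * a * b⁻¹) := by rw [← h1]; group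
        exact mul_left_cancel h2
      rw [this]; exact ha
  have hdec : ∀ h ∈ H, ∃ a ∈ A, ∃ b ∈ B, h = a * b := fun h hh =>
    Cfsg.Agent.Lib.Helper7.exists_mul_of_mem_sup hBN (hH hh)
  choose a ha b hb hab using hdec
  have huniq : ∀ a₁ ∈ A, ∀ b₁ ∈ B, ∀ a₂ ∈ A, ∀ b₂ ∈ B, a₁ * b₁ = a₂ * b₂ → b₁ = b₂ := by
    intro a₁ ha₁ b₁ hb₁ a₂ ha₂ b₂ hb₂ h
    have h1 : a₂⁻¹ * a₁ = b₂ * b₁⁻¹ := by
      have : a₂⁻¹ * a₁ = a₂⁻¹ * (a₁ * b₁) * b₁⁻¹ := by group
      rw [this, h]; group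
    have h2 : b₂ * b₁⁻¹ ∈ A ⊓ B :=
      Subgroup.mem_inf.2 ⟨h1 ▸ A.mul_mem (A.inv_mem ha₂) ha₁, B.mul_mem hb₂ (B.inv_mem hb₁)⟩
    rw [hAB, Subgroup.mem_bot] at h2
    have : b₂ = b₂ * b₁⁻¹ * b₁ := by group
    rw [this, h2, one_mul]
  refine ⟨MonoidHom.mk' (fun h => ⟨b h h.2, hb h h.2⟩) ?_, ?_⟩
  · intro h₁ h₂
    apply Subtype.ext
    show b (h₁ * h₂ : H) (h₁ * h₂).2 = b h₁ h₁.2 * b h₂ h₂.2
    apply huniq (a (h₁ * h₂ : H) (h₁ * h₂).2) (ha _ _) _ (hb _ _) (a h₁ h₁.2 * a h₂ h₂.2)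
      (A.mul_mem (ha _ _) (ha _ _)) _ (B.mul_mem (hb _ _) (hb _ _))
    rw [← hab (h₁ * h₂ : H) (h₁ * h₂).2]
    have e1 := hab h₁ h₁.2
    have e2 := hab h₂ h₂.2
    have e3 := hc (a h₂ h₂.2) (ha _ _) (b h₁ h₁.2) (hb _ _)
    calc ((h₁ * h₂ : H) : G) = (h₁ : G) * (h₂ : G) := rfl
      _ = a h₁ h₁.2 * b h₁ h₁.2 * (a h₂ h₂.2 * b h₂ h₂.2) :=
          congrArg₂ (fun x y => x * y) e1 e2
      _ = a h₁ h₁.2 * (b h₁ h₁.2 * a h₂ h₂.2) * b h₂ h₂.2 := by simp only [mul_assoc]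
      _ = a h₁ h₁.2 * (a h₂ h₂.2 * b h₁ h₁.2) * b h₂ h₂.2 := by rw [e3]
      _ = a h₁ h₁.2 * a h₂ h₂.2 * (b h₁ h₁.2 * b h₂ h₂.2) := by simp only [mul_assoc]
  · intro h₁ h₂ h12
    have hbb : b h₁ h₁.2 = b h₂ h₂.2 := congrArg Subtype.val h12
    have e1 := hab h₁ h₁.2
    have e2 := hab h₂ h₂.2
    have h3 : (h₁ : G) * (h₂ : G)⁻¹ = a h₁ h₁.2 * (a h₂ h₂.2)⁻¹ := by
      calc (h₁ : G) * (h₂ : G)⁻¹
          = (a h₁ h₁.2 * b h₁ h₁.2) * (a h₂ h₂.2 * b h₂ h₂.2)⁻¹ :=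
            congrArg₂ (fun x y => x * y⁻¹) e1 e2
        _ = a h₁ h₁.2 * (a h₂ h₂.2)⁻¹ := by rw [hbb]; group
    have h4 : (h₁ : G) * (h₂ : G)⁻¹ ∈ H ⊓ A :=
      Subgroup.mem_inf.2 ⟨H.mul_mem h₁.2 (H.inv_mem h₂.2),
        h3 ▸ A.mul_mem (ha _ _) (A.inv_mem (ha _ _))⟩
    rw [hHA, Subgroup.mem_bot] at h4
    apply Subtype.ext
    exact mul_inv_eq_one.mp h4

theorem mainI [Finite G] {K K' : Subgroup G} (g : G)
    (hK' : K' = K.map (MulAut.conj g).toMonoidHom)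
    (hTE' : TE K') (hno : ∀ u, u ∈ K → u ∈ K' → orderOf u ≠ 2)
    {T S : Subgroup G} (hTK' : T ≤ K') (hTN : T ≤ Subgroup.normalizer (K : Set G))
    (hT2 : IsPGroup 2 T) (hTS : T ≤ S) (hS : S ≤ K ⊔ T) (hS2 : IsPGroup 2 S)
    (hSodd : ¬ 2 ∣ S.relIndex (K ⊔ T)) :
    T ⊓ K = ⊥ ∧
    (∀ t ∈ T, ∀ r ∈ S ⊓ Subgroup.normalizer (T : Set G) ⊓ K, t * r = r * t) ∧
    T ⊔ (S ⊓ Subgroup.normalizer (T : Set G) ⊓ K) = S ⊓ Subgroup.normalizer (T : Set G) ∧
    Nat.card T ≤ Nat.card ↥(S ⊓ Subgroup.normalizer (T : Set G) ⊓ K) ∧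
    (Nat.card ↥(S ⊓ Subgroup.normalizer (T : Set G) ⊓ K) ≤ Nat.card T →
      Nonempty (↥(S ⊓ Subgroup.normalizer (T : Set G) ⊓ K) ≃* T)) := by
  classical
  haveI : Fact (Nat.Prime 2) := ⟨Nat.prime_two⟩
  generalize hN : S ⊓ Subgroup.normalizer (T : Set G) = N
  have hNS' : N ≤ S := by rw [← hN]; exact inf_le_left
  have hNT : N ≤ Subgroup.normalizer (T : Set G) := by rw [← hN]; exact inf_le_right
  have hKN : K ≤ Subgroup.normalizer (K : Set G) := Subgroup.le_normalizer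
  have hS2K : ∀ s ∈ S, s ∈ K → s ∈ K' → s = 1 := by
    intro s hs hsK hsK'
    have hbot : S ⊓ K ⊓ K' = ⊥ := by
      apply no_invol_bot (hS2.to_le (inf_le_left.trans inf_le_left))
      intro u hu
      rw [Subgroup.mem_inf, Subgroup.mem_inf] at hu
      exact hno u hu.1.2 hu.2
    have : s ∈ S ⊓ K ⊓ K' := Subgroup.mem_inf.2 ⟨Subgroup.mem_inf.2 ⟨hs, hsK⟩, hsK'⟩
    rw [hbot, Subgroup.mem_bot] at this
    exact this
  have F1 : T ⊓ K = ⊥ := by
    rw [eq_bot_iff]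
    intro u hu
    rw [Subgroup.mem_inf] at hu
    rw [Subgroup.mem_bot]
    exact hS2K u (hTS hu.1) hu.2 (hTK' hu.1)
  have F2 : ∀ t ∈ T, ∀ r ∈ N ⊓ K, t * r = r * t := by
    intro t ht r hr
    rw [Subgroup.mem_inf] at hr
    obtain ⟨hrN, hrK⟩ := hr
    have h1 : t * r * t⁻¹ * r⁻¹ ∈ T := by
      have h0 : r * t⁻¹ * r⁻¹ ∈ T :=
        (Subgroup.mem_normalizer_iff.mp (hNT hrN) t⁻¹).mp (T.inv_mem ht)
      have := T.mul_mem ht h0
      convert this using 1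
      group
    have h2 : t * r * t⁻¹ * r⁻¹ ∈ K := by
      have h0 : t * r * t⁻¹ ∈ K := (Subgroup.mem_normalizer_iff.mp (hTN ht) r).mp hrK
      exact K.mul_mem h0 (K.inv_mem hrK)
    have h3 : t * r * t⁻¹ * r⁻¹ ∈ T ⊓ K := Subgroup.mem_inf.2 ⟨h1, h2⟩
    rw [F1, Subgroup.mem_bot] at h3
    have : t * r = (t * r * t⁻¹ * r⁻¹) * (r * t) := by group
    rw [this, h3, one_mul]
  have hTN' : T ≤ N := by
    rw [← hN]
    exact le_inf hTS Subgroup.le_normalizer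
  have hdec : ∀ x ∈ N, ∃ k ∈ N ⊓ K, ∃ t ∈ T, x = k * t := by
    intro x hx
    obtain ⟨k, hk, t, ht, rfl⟩ :=
      Cfsg.Agent.Lib.Helper7.exists_mul_of_mem_sup hTN (hS (hNS' hx))
    refine ⟨k, ?_, t, ht, rfl⟩
    have : k = (k * t) * t⁻¹ := by group
    refine Subgroup.mem_inf.2 ⟨?_, hk⟩
    rw [this]
    exact N.mul_mem hx (N.inv_mem (hTN' ht))
  have F3 : T ⊔ (N ⊓ K) = N := by
    apply le_antisymm (sup_le hTN' inf_le_left)
    intro x hx
    obtain ⟨k, hk, t, ht, rfl⟩ := hdec x hx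
    exact Subgroup.mul_mem _ (Subgroup.mem_sup_right hk) (Subgroup.mem_sup_left ht)
  refine ⟨F1, F2, F3, ?_⟩
  have hgi : ∀ V : Subgroup G, V ≤ K' → V.map (MulAut.conj g⁻¹).toMonoidHom ≤ K := by
    intro V hV y hy
    rw [h8_mem_map_conj] at hy
    have := hV hy
    rw [hK', h8_mem_map_conj] at this
    simpa [mul_assoc] using this
  by_cases hNS : N = S
  · -- Case B
    have hRS : ∀ s ∈ S, s ∈ K → s ∈ N ⊓ K := by
      intro s hs hsK
      refine Subgroup.mem_inf.2 ⟨?_, hsK⟩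
      rw [hNS]; exact hs
    have B1 : ∀ V : Subgroup G, V ≤ K → IsPGroup 2 V → Nat.card V ≤ Nat.card ↥(N ⊓ K) := by
      intro V hVK hV
      obtain ⟨a, ha, hav⟩ := conj_into hS2 hSodd (hVK.trans le_sup_left) hV
      have haN : a ∈ Subgroup.normalizer (K : Set G) := (sup_le hKN hTN) ha
      have hmem : ∀ v ∈ V, a⁻¹ * v * a⁻¹⁻¹ ∈ N ⊓ K := by
        intro v hv
        apply hRS
        · simpa using hav v hv
        · exact (Subgroup.mem_normalizer_iff.mp (Subgroup.inv_mem _ haN) v).mp (hVK hv)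
      obtain ⟨f, hf⟩ := conjHom V (N ⊓ K) a⁻¹ hmem
      exact Nat.card_le_card_of_injective f hf
    have hcardT : Nat.card T ≤ Nat.card ↥(N ⊓ K) := by
      have h1 := B1 (T.map (MulAut.conj g⁻¹).toMonoidHom) (hgi T hTK') (hT2.map _)
      rwa [card_cj] at h1
    refine ⟨hcardT, fun hle => ?_⟩
    obtain ⟨P, hTP, hPK', hP2, hPodd⟩ := exists_syl hTK' hT2
    have hPcard : Nat.card P ≤ Nat.card ↥(N ⊓ K) := by
      have h1 := B1 (P.map (MulAut.conj g⁻¹).toMonoidHom) (hgi P hPK') (hP2.map _)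
      rwa [card_cj] at h1
    have hTP' : T = P := Subgroup.eq_of_le_of_card_ge hTP (hPcard.trans hle)
    rw [← hTP'] at hPodd
    have hR2 : IsPGroup 2 ↥(N ⊓ K) := hS2.to_le (inf_le_left.trans hNS')
    have hle' : (N ⊓ K).map (MulAut.conj g).toMonoidHom ≤ K' := by
      rw [hK']
      exact Subgroup.map_mono inf_le_right
    obtain ⟨a, ha, hav⟩ := conj_into (A := K') (S := T)
      (V := (N ⊓ K).map (MulAut.conj g).toMonoidHom) hT2 hPodd hle' (hR2.map _)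
    have hmem : ∀ r ∈ N ⊓ K, (a⁻¹ * g) * r * (a⁻¹ * g)⁻¹ ∈ T := by
      intro r hr
      have := hav (g * r * g⁻¹) (h8_conj_mem_map_conj g _ hr)
      convert this using 1
      group
    obtain ⟨f, hf⟩ := conjHom (N ⊓ K) T (a⁻¹ * g) hmem
    exact equiv_of_inj f hf hcardT
  · -- Case A
    obtain ⟨x, hxS, hxN, hxnN⟩ := h8_normalizer_growth hS2 hNS' hNS
    have F4 : ∀ y ∈ N, y ∈ K' → y ∈ T := by
      intro y hy hyK'
      obtain ⟨k, hk, t, ht, rfl⟩ := hdec y hy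
      rw [Subgroup.mem_inf] at hk
      obtain ⟨hkN, hkK⟩ := hk
      have hk1 : k = 1 := hS2K k (hNS' hkN) hkK (by
        have : k = (k * t) * t⁻¹ := by group
        rw [this]
        exact K'.mul_mem hyK' (K'.inv_mem (hTK' ht)))
      rw [hk1, one_mul]
      exact ht
    have hxK' : x ∉ Subgroup.normalizer (K' : Set G) := by
      intro hx
      apply hxnN
      rw [← hN]
      refine Subgroup.mem_inf.2 ⟨hxS, ?_⟩
      apply S1900.mem_normalizer_of_conj_mem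
      intro t ht
      apply F4
      · exact (Subgroup.mem_normalizer_iff.mp hxN t).mp (hTN' ht)
      · exact (Subgroup.mem_normalizer_iff.mp hx t).mp (hTK' ht)
    have hTx : (T.map (MulAut.conj x).toMonoidHom) ⊓ T = ⊥ := by
      apply no_invol_bot (hT2.to_le inf_le_right)
      intro u hu ho
      rw [Subgroup.mem_inf, h8_mem_map_conj] at hu
      exact hxK' (hTE' u (hTK' hu.2) ho x (hTK' hu.1))
    have hTxN : T.map (MulAut.conj x).toMonoidHom ≤ T ⊔ (N ⊓ K) := by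
      rw [F3]
      intro y hy
      rw [h8_mem_map_conj] at hy
      have := (Subgroup.mem_normalizer_iff.mp hxN _).mp (hTN' hy)
      convert this using 1
      group
    have hTR : T ⊓ (N ⊓ K) = ⊥ := by
      rw [eq_bot_iff, ← F1]
      exact inf_le_inf_left _ inf_le_right
    obtain ⟨f, hf⟩ := proj hTR F2 hTxN hTx
    obtain ⟨f0, hf0⟩ := conjHom T (T.map (MulAut.conj x).toMonoidHom) x
      (fun t ht => h8_conj_mem_map_conj x T ht)
    have hinj : Function.Injective (f.comp f0) := hf.comp hf0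
    refine ⟨Nat.card_le_card_of_injective _ hinj, fun hle => ?_⟩
    obtain ⟨e⟩ := equiv_of_inj (f.comp f0) hinj hle
    exact ⟨e.symm⟩

/-- Let Q be a tightly embedded subgroup of a finite group G, g an element outside N_G(Q), T a nontrivial Sylow 2-subgroup of Q^g ∩ N_G(Q), and S a Sylow 2-subgroup of QT containing T. Then T ∩ Q = 1, and N_S(T) is the direct product of T and N_S(T) ∩ Q, with N_S(T) ∩ Q isomorphic to T. -/
theorem result {G : Type*} [Group G] [Finite G] (Q : Subgroup G) (hQ : Cfsg.IsTightlyEmbedded Q)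
    (g : G) (hg : g ∉ Subgroup.normalizer (Q : Set G))
    (T : Subgroup G) (hT1 : T ≠ ⊥) (hT : T ≤ Q.map (MulAut.conj g).toMonoidHom ⊓ Subgroup.normalizer (Q : Set G))
    (hTsyl : IsPGroup 2 T ∧ ¬ 2 ∣ T.relIndex (Q.map (MulAut.conj g).toMonoidHom ⊓ Subgroup.normalizer (Q : Set G)))
    (S : Subgroup G) (hTS : T ≤ S) (hS : S ≤ Q ⊔ T) (hSsyl : IsPGroup 2 S ∧ ¬ 2 ∣ S.relIndex (Q ⊔ T)) :
    T ⊓ Q = ⊥ ∧
      T ⊓ (S ⊓ Subgroup.normalizer (T : Set G) ⊓ Q) = ⊥ ∧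
      ⁅T, S ⊓ Subgroup.normalizer (T : Set G) ⊓ Q⁆ = ⊥ ∧
      T ⊔ (S ⊓ Subgroup.normalizer (T : Set G) ⊓ Q) = S ⊓ Subgroup.normalizer (T : Set G) ∧
      Nonempty (↥(S ⊓ Subgroup.normalizer (T : Set G) ⊓ Q) ≃* T) := by
  classical
  haveI : Fact (Nat.Prime 2) := ⟨Nat.prime_two⟩
  have hTEQ : TE Q := te_of_tight hQ
  have hTEQ' : TE (Q.map (MulAut.conj g).toMonoidHom) := te_conj g hTEQ
  have hno : ∀ u, u ∈ Q → u ∈ Q.map (MulAut.conj g).toMonoidHom → orderOf u ≠ 2 := by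
    intro u hu hu' ho
    have hodd := hQ.2 g hg
    have hdvd : orderOf (⟨u, Subgroup.mem_inf.2 ⟨hu, hu'⟩⟩ :
        ↥(Q ⊓ Q.map (MulAut.conj g).toMonoidHom)) ∣ Nat.card _ := orderOf_dvd_natCard _
    rw [Subgroup.orderOf_mk, ho] at hdvd
    exact (Nat.not_even_iff_odd.2 hodd) (even_iff_two_dvd.2 hdvd)
  have hTQ' : T ≤ Q.map (MulAut.conj g).toMonoidHom := hT.trans inf_le_left
  have hTNQ : T ≤ Subgroup.normalizer (Q : Set G) := hT.trans inf_le_right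
  obtain ⟨F1, F2, F3, hle, hiso⟩ :=
    mainI g rfl hTEQ' hno hTQ' hTNQ hTsyl.1 hTS hS hSsyl.1 hSsyl.2
  generalize hR : S ⊓ Subgroup.normalizer (T : Set G) ⊓ Q = R at *
  have hRT : T ⊓ R = ⊥ := by
    rw [eq_bot_iff, ← F1, ← hR]
    exact inf_le_inf_left _ inf_le_right
  refine ⟨F1, hRT, ?_, F3, hiso ?_⟩
  · rw [Subgroup.commutator_eq_bot_iff_le_centralizer]
    intro t ht r hr
    exact (F2 t ht r hr).symm
  · by_cases hRbot : R = ⊥
    · rw [hRbot]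
      simp only [Subgroup.card_bot]
      exact Nat.card_pos
    · have hR2 : IsPGroup 2 R := by
        rw [← hR]
        exact hSsyl.1.to_le (inf_le_left.trans inf_le_left)
      have hRQ : R ≤ Q := by rw [← hR]; exact inf_le_right
      have hRNT : R ≤ Subgroup.normalizer (T : Set G) := by
        rw [← hR]; exact inf_le_left.trans inf_le_right
      have hNT := normalizer_le_of_te hTEQ' hTQ' hTsyl.1 hT1
      obtain ⟨R₁, hRR₁, hR₁A, hR₁2, hR₁odd⟩ := exists_syl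
        (A := Q ⊓ Subgroup.normalizer ((Q.map (MulAut.conj g).toMonoidHom : Subgroup G) : Set G))
        (le_inf hRQ (hRNT.trans hNT)) hR2
      have hR₁ne : R₁ ≠ ⊥ := fun h => hRbot (by rw [eq_bot_iff, ← h]; exact hRR₁)
      obtain ⟨S₁, hS₁R, hS₁A, hS₁2, hS₁odd⟩ := exists_syl
        (A := Q.map (MulAut.conj g).toMonoidHom ⊔ R₁) (V := R₁) le_sup_right hR₁2
      have hQeq : Q = (Q.map (MulAut.conj g).toMonoidHom).map (MulAut.conj g⁻¹).toMonoidHom := by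
        rw [← h8_map_conj_mul, inv_mul_cancel, h8_map_conj_one]
      obtain ⟨-, -, -, hle₁, -⟩ := mainI (K := Q.map (MulAut.conj g).toMonoidHom) (K' := Q)
        g⁻¹ hQeq hTEQ (fun u hu hu' => hno u hu' hu) (hR₁A.trans inf_le_left)
        (hR₁A.trans inf_le_right) hR₁2 hS₁R hS₁A hS₁2 hS₁odd
      have hW : S₁ ⊓ Subgroup.normalizer (R₁ : Set G) ⊓ Q.map (MulAut.conj g).toMonoidHom ≤
          Q.map (MulAut.conj g).toMonoidHom ⊓ Subgroup.normalizer (Q : Set G) :=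
        le_inf inf_le_right ((inf_le_left.trans inf_le_right).trans
          (normalizer_le_of_te hTEQ (hR₁A.trans inf_le_left) hR₁2 hR₁ne))
      have hWT := card_le_of_syl hTsyl.1 hTsyl.2 hW (hS₁2.to_le (inf_le_left.trans inf_le_left))
      calc Nat.card R ≤ Nat.card R₁ := Subgroup.card_le_of_le hRR₁
        _ ≤ _ := hle₁
        _ ≤ Nat.card T := hWT

end Cfsg.Agent.S1910
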