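import Mathlib
import Cfsg.Statements.S1924
import Cfsg.Agent.S1910
import Cfsg.Agent.Lib.Helper2.PResidual
import Cfsg.Agent.Lib.Helper2.Frobenius

set_option autoImplicit false
open Cfsg
open Cfsg.Agent.Lib.Helper2

namespace Cfsg.Agent.S1924

universe u

theorem sign_semireg {α : Type*} [Fintype α] [DecidableEq α] (σ : Equiv.Perm α) (m : ℕ)
    (hm : 1 ≤ m) (hpow : σ ^ (2 ^ m) = 1) (hfix : ∀ x, (σ ^ (2 ^ (m - 1))) x ≠ x)
    (k : ℕ) (hk : Odd k) (hcard : Fintype.card α = k * 2 ^ m) :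
    Equiv.Perm.sign σ = -1 := by
  have hall : ∀ a ∈ σ.cycleType, a = 2 ^ m := by
    intro a ha
    have h1 : a ∣ 2 ^ m :=
      (Equiv.Perm.dvd_of_mem_cycleType ha).trans (orderOf_dvd_of_pow_eq_one hpow)
    obtain ⟨j, hj, rfl⟩ := (Nat.dvd_prime_pow Nat.prime_two).mp h1
    by_contra hne
    have hj' : j ≤ m - 1 := by
      have : j ≠ m := fun h => hne (by rw [h])
      omega
    obtain ⟨c, τ, hστ, hd, hc, hcard'⟩ := Equiv.Perm.mem_cycleType_iff.mp ha
    obtain ⟨x, hx⟩ := hc.nonempty_support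
    apply hfix x
    have hcp : c ^ (2 ^ (m - 1)) = 1 := by
      apply orderOf_dvd_iff_pow_eq_one.mp
      rw [hc.orderOf, hcard']
      exact pow_dvd_pow 2 hj'
    have hτx : τ x = x := by
      rcases hd x with h | h
      · exact absurd h (Equiv.Perm.mem_support.mp hx)
      · exact h
    rw [hστ, hd.commute.mul_pow, hcp, one_mul]
    exact Equiv.Perm.pow_apply_eq_self_of_apply_eq_self hτx _
  have hrep : σ.cycleType = Multiset.replicate (Multiset.card σ.cycleType) (2 ^ m) :=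
    Multiset.eq_replicate_card.mpr hall
  have hsupp : σ.support = Finset.univ := by
    ext x
    simp only [Equiv.Perm.mem_support, Finset.mem_univ, iff_true]
    intro hx
    exact hfix x (Equiv.Perm.pow_apply_eq_self_of_apply_eq_self hx _)
  have hsum : σ.cycleType.sum = k * 2 ^ m := by
    rw [Equiv.Perm.sum_cycleType, hsupp, Finset.card_univ, hcard]
  have hcnt : Multiset.card σ.cycleType = k := by
    rw [hrep, Multiset.sum_replicate, smul_eq_mul] at hsum
    exact Nat.eq_of_mul_eq_mul_right (by positivity) hsum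
  rw [Equiv.Perm.sign_of_cycleType, hsum, hcnt]
  have : Odd (k * 2 ^ m + k) := by
    obtain ⟨m', rfl⟩ : ∃ m', m = m' + 1 := ⟨m - 1, by omega⟩
    rw [pow_succ]
    obtain ⟨j, rfl⟩ := hk
    exact ⟨(2 * j + 1) * 2 ^ m' + j, by ring⟩
  exact this.neg_one_pow

theorem st_sign {G : Type*} [Group G] [Finite G] (M : Subgroup G) [Fintype (G ⧸ M)]
    [DecidableEq (G ⧸ M)] (u : G) (m : ℕ) (hm : 1 ≤ m)
    (hu : u ^ (2 ^ m) = 1) (hfix : ∀ g : G, g⁻¹ * u ^ (2 ^ (m - 1)) * g ∉ M)
    (k : ℕ) (hk : Odd k) (hcard : Nat.card G = k * Nat.card M * 2 ^ m) :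
    Equiv.Perm.sign (MulAction.toPermHom G (G ⧸ M) u) = -1 := by
  apply sign_semireg _ m hm _ _ k hk
  · have h1 := Subgroup.card_eq_card_quotient_mul_card_subgroup M
    rw [hcard, Nat.card_eq_fintype_card (α := G ⧸ M)] at h1
    have hpos : 0 < Nat.card M := Nat.card_pos
    have h2 : (k * 2 ^ m) * Nat.card M = Fintype.card (G ⧸ M) * Nat.card M := by
      rw [← h1]; ring
    exact (Nat.eq_of_mul_eq_mul_right hpos h2).symm
  · rw [← map_pow, hu, map_one]
  · intro x
    induction x using QuotientGroup.induction_on with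
    | H g =>
      rw [← map_pow]
      intro h
      have h' : ((u ^ (2 ^ (m - 1)) * g : G) : G ⧸ M) = (g : G ⧸ M) := h
      rw [QuotientGroup.eq] at h'
      apply hfix g
      have := M.inv_mem h'
      convert this using 1
      group

theorem units_two : IsPGroup 2 ℤˣ := by
  intro a
  refine ⟨1, ?_⟩
  rcases Int.units_eq_one_or a with h | h <;> rw [h] <;> decide

theorem res_le_ker {G : Type*} [Group G] (φ : G →* ℤˣ) : Cfsg.pResidual 2 G ≤ φ.ker :=
  pResidual_le_ker φ units_two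

theorem ker_index {G : Type*} [Group G] (φ : G →* ℤˣ) (a : G) (ha : φ a = -1) :
    φ.ker.index = 2 := by
  rw [Subgroup.index_ker]
  have : φ.range = ⊤ := by
    rw [eq_top_iff]
    intro b _
    rcases Int.units_eq_one_or b with h | h
    · rw [h]; exact one_mem _
    · rw [h]; exact ⟨a, ha⟩
  rw [this, Subgroup.card_top, Nat.card_eq_fintype_card]
  rfl

theorem not_ker {G : Type*} [Group G] (φ : G →* ℤˣ) (a : G) (ha : a ∉ φ.ker) : φ a = -1 := by
  rcases Int.units_eq_one_or (φ a) with h | h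
  · exact absurd (MonoidHom.mem_ker.mpr h) ha
  · exact h

theorem res_map_le {G : Type*} [Group G] (N : Subgroup G) :
    (Cfsg.pResidual 2 ↥N).map N.subtype ≤ Cfsg.pResidual 2 G := by
  rw [Subgroup.map_le_iff_le_comap]
  unfold Cfsg.pResidual
  rw [Subgroup.closure_le]
  intro y hy
  show (y : G) ∈ Subgroup.closure {g : G | Nat.Coprime (orderOf g) 2}
  apply Subgroup.subset_closure
  show Nat.Coprime (orderOf (y : G)) 2
  rw [Subgroup.orderOf_coe]
  exact hy

theorem res_map {G : Type*} [Group G] (N : Subgroup G) (hN : Cfsg.pResidual 2 G ≤ N) :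
    (Cfsg.pResidual 2 ↥N).map N.subtype = Cfsg.pResidual 2 G := by
  apply le_antisymm (res_map_le N)
  intro g hg
  have hg' := hg
  unfold Cfsg.pResidual at hg'
  induction hg' using Subgroup.closure_induction with
  | mem x hx =>
    have hxN : x ∈ N := hN (mem_pResidual_of_coprime hx)
    refine ⟨⟨x, hxN⟩, mem_pResidual_of_coprime ?_, rfl⟩
    rw [Subgroup.orderOf_mk]
    exact hx
  | one => exact one_mem _
  | mul a b ha hb iha ihb =>
    exact mul_mem (iha (Subgroup.closure_le _ |>.mpr (fun _ h => Subgroup.subset_closure h) ha))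
      (ihb (Subgroup.closure_le _ |>.mpr (fun _ h => Subgroup.subset_closure h) hb))
  | inv a ha iha =>
    exact inv_mem (iha (Subgroup.closure_le _ |>.mpr (fun _ h => Subgroup.subset_closure h) ha))

theorem card_mul_relIndex' {G : Type*} [Group G] {H K : Subgroup G} (h : H ≤ K) :
    Nat.card H * H.relIndex K = Nat.card K := by
  have h1 := Subgroup.card_mul_index (H.subgroupOf K)
  rw [Nat.card_congr (Subgroup.subgroupOfEquivOfLe h).toEquiv] at h1
  exact h1

theorem chain : ∀ (n : ℕ) (G : Type u) [Group G] [Finite G] (T C : Subgroup G),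
    Nat.card C = n → IsCyclic C → T ⊓ C = ⊥ → IsPGroup 2 C →
    (∃ k, Odd k ∧ Nat.card G = k * (Nat.card T * Nat.card C)) →
    T ≤ Cfsg.pResidual 2 G →
    (∀ c ∈ C, orderOf c = 2 → ∀ g : G, g * c * g⁻¹ ∉ T) →
    ∃ k, Odd k ∧ Nat.card (Cfsg.pResidual 2 G) = k * Nat.card T := by
  intro n
  induction n using Nat.strong_induction_on with
  | _ n ih =>
  intro G _ _ T C hn hcyc hTC hC2 ⟨k, hk, hcard⟩ hTK hfus
  classical
  haveI : Fact (Nat.Prime 2) := ⟨Nat.prime_two⟩
  by_cases hCbot : C = ⊥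
  · have hC1 : Nat.card C = 1 := by rw [hCbot]; exact Subgroup.card_bot
    rw [hC1, mul_one] at hcard
    obtain ⟨j, hj⟩ := Subgroup.card_dvd_of_le hTK
    have hdvd : Nat.card (Cfsg.pResidual 2 G) ∣ Nat.card G := Subgroup.card_subgroup_dvd_card _
    rw [hj, hcard, mul_comm k] at hdvd
    have hjk : j ∣ k := Nat.dvd_of_mul_dvd_mul_left Nat.card_pos hdvd
    exact ⟨j, Odd.of_dvd_nat hk hjk, by rw [hj, mul_comm]⟩
  · obtain ⟨g, hg⟩ := IsCyclic.exists_generator (α := C)
    have hog : orderOf (g : G) = Nat.card C := by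
      rw [Subgroup.orderOf_coe]; exact orderOf_eq_card_of_forall_mem_zpowers hg
    obtain ⟨m, hm⟩ := IsPGroup.iff_card.mp hC2
    have hm1 : 1 ≤ m := by
      rcases Nat.eq_zero_or_pos m with rfl | h
      · exfalso
        apply hCbot
        rw [pow_zero] at hm
        exact Subgroup.eq_bot_of_card_eq C hm
      · exact h
    obtain ⟨m', rfl⟩ : ∃ m', m = m' + 1 := ⟨m - 1, by omega⟩
    have hc₀C : (g : G) ∈ C := g.2
    have hoc₀ : orderOf (g : G) = 2 ^ (m' + 1) := by rw [hog, hm]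
    have hcinv : orderOf ((g : G) ^ 2 ^ (m' + 1 - 1)) = 2 := by
      rw [orderOf_pow_of_dvd (by positivity)
        (by rw [hoc₀]; exact pow_dvd_pow 2 (Nat.sub_le _ 1)), hoc₀]
      simp [pow_succ]
    letI : Fintype (G ⧸ T) := Fintype.ofFinite _
    let φ : G →* ℤˣ := Equiv.Perm.sign.comp (MulAction.toPermHom G (G ⧸ T))
    have hφc₀ : φ (g : G) = -1 := by
      refine st_sign T (g : G) (m' + 1) hm1 ?_ ?_ k hk ?_
      · rw [← hoc₀]; exact pow_orderOf_eq_one _
      · intro a ha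
        exact hfus ((g : G) ^ 2 ^ (m' + 1 - 1)) (C.pow_mem hc₀C _) hcinv a⁻¹ (by simpa using ha)
      · rw [hcard, hm]; ring
    have hsqN : (g : G) ^ 2 ∈ φ.ker := by
      rw [MonoidHom.mem_ker, map_pow, hφc₀]; decide
    have hKN : Cfsg.pResidual 2 G ≤ φ.ker := res_le_ker φ
    have hNidx : φ.ker.index = 2 := ker_index φ _ hφc₀
    have hoc₁ : orderOf (⟨(g : G) ^ 2, hsqN⟩ : φ.ker) = 2 ^ m' := by
      rw [Subgroup.orderOf_mk, orderOf_pow_of_dvd (by norm_num)
        (by rw [hoc₀]; exact dvd_pow_self 2 (by omega)), hoc₀]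
      simp [pow_succ]
    have hC'card : Nat.card (Subgroup.zpowers (⟨(g : G) ^ 2, hsqN⟩ : φ.ker)) = 2 ^ m' := by
      rw [Nat.card_zpowers, hoc₁]
    have hlt : Nat.card (Subgroup.zpowers (⟨(g : G) ^ 2, hsqN⟩ : φ.ker)) < n := by
      rw [hC'card, ← hn, hm]
      exact Nat.pow_lt_pow_right (by norm_num) (by omega)
    have hTN : T ≤ φ.ker := hTK.trans hKN
    have hC'C : ∀ y ∈ Subgroup.zpowers (⟨(g : G) ^ 2, hsqN⟩ : φ.ker), (y : G) ∈ C := by
      intro y hy
      obtain ⟨i, rfl⟩ := Subgroup.mem_zpowers_iff.mp hy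
      rw [Subgroup.coe_zpow]
      exact C.zpow_mem (C.pow_mem hc₀C 2) i
    have hinf : T.subgroupOf φ.ker ⊓ Subgroup.zpowers (⟨(g : G) ^ 2, hsqN⟩ : φ.ker) = ⊥ := by
      rw [eq_bot_iff]
      intro y hy
      rw [Subgroup.mem_inf, Subgroup.mem_subgroupOf] at hy
      have : (y : G) ∈ T ⊓ C := Subgroup.mem_inf.2 ⟨hy.1, hC'C y hy.2⟩
      rw [hTC, Subgroup.mem_bot] at this
      rw [Subgroup.mem_bot]
      exact Subtype.ext this
    have hcardN : Nat.card ↥φ.ker = k * (Nat.card (T.subgroupOf φ.ker) *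
        Nat.card (Subgroup.zpowers (⟨(g : G) ^ 2, hsqN⟩ : φ.ker))) := by
      rw [hC'card, Nat.card_congr (Subgroup.subgroupOfEquivOfLe hTN).toEquiv]
      have h1 := Subgroup.card_mul_index φ.ker
      rw [hNidx, hcard, hm, pow_succ] at h1
      have : Nat.card φ.ker * 2 = (k * (Nat.card T * 2 ^ m')) * 2 := by rw [h1]; ring
      exact Nat.eq_of_mul_eq_mul_right (by norm_num) this
    have hres : T.subgroupOf φ.ker ≤ Cfsg.pResidual 2 ↥φ.ker := by
      intro y hy
      rw [Subgroup.mem_subgroupOf] at hy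
      have h1 := hTK hy
      rw [← res_map _ hKN] at h1
      obtain ⟨z, hz, hzy⟩ := h1
      have : z = y := Subtype.ext hzy
      rw [← this]
      exact hz
    have hfus' : ∀ c ∈ Subgroup.zpowers (⟨(g : G) ^ 2, hsqN⟩ : φ.ker), orderOf c = 2 →
        ∀ a : φ.ker, a * c * a⁻¹ ∉ T.subgroupOf φ.ker := by
      intro c hc ho a hmem
      rw [Subgroup.mem_subgroupOf] at hmem
      exact hfus (c : G) (hC'C c hc) (by rw [Subgroup.orderOf_coe]; exact ho) (a : G)
        (by simpa using hmem)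
    obtain ⟨k', hk', hcardK⟩ := ih _ hlt ↥φ.ker (T.subgroupOf φ.ker)
      (Subgroup.zpowers (⟨(g : G) ^ 2, hsqN⟩ : φ.ker)) rfl inferInstance hinf
      (IsPGroup.of_card hC'card) ⟨k, hk, hcardN⟩ hres hfus'
    refine ⟨k', hk', ?_⟩
    rw [← res_map _ hKN, Subgroup.card_map_of_injective (Subgroup.subtype_injective _), hcardK,
      Nat.card_congr (Subgroup.subgroupOfEquivOfLe hTN).toEquiv]

theorem dih_out (n : ℕ) (hn : 2 ≤ n) (C' : Subgroup (DihedralGroup n)) (hc : IsCyclic C')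
    (hcard : Nat.card C' = n) (x : DihedralGroup n) (hx : x ∉ C') : orderOf x = 2 := by
  haveI : NeZero n := ⟨by omega⟩
  cases x with
  | sr i => exact DihedralGroup.orderOf_sr i
  | r i =>
    obtain ⟨g, hg⟩ := IsCyclic.exists_generator (α := C')
    have hog : orderOf g = n := by rw [orderOf_eq_card_of_forall_mem_zpowers hg, hcard]
    have hog' : orderOf (g : DihedralGroup n) = n := by rw [Subgroup.orderOf_coe]; exact hog
    rcases hgv : (g : DihedralGroup n) with j | j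
    · exfalso
      apply hx
      have hle : C' ≤ Subgroup.zpowers (DihedralGroup.r (1 : ZMod n)) := by
        intro y hy
        obtain ⟨k, hk⟩ := Subgroup.mem_zpowers_iff.mp (hg ⟨y, hy⟩)
        have hy' : y = (g : DihedralGroup n) ^ k := by
          have := congrArg Subtype.val hk
          simpa using this.symm
        rw [hy', hgv]
        apply Subgroup.zpow_mem
        rw [Subgroup.mem_zpowers_iff]
        exact ⟨(j.val : ℤ), by rw [zpow_natCast, DihedralGroup.r_one_pow, ZMod.natCast_zmod_val]⟩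
      have heq : C' = Subgroup.zpowers (DihedralGroup.r (1 : ZMod n)) := by
        apply Subgroup.eq_of_le_of_card_ge hle
        rw [Nat.card_zpowers, DihedralGroup.orderOf_r_one, hcard]
      rw [heq, Subgroup.mem_zpowers_iff]
      exact ⟨(i.val : ℤ), by rw [zpow_natCast, DihedralGroup.r_one_pow, ZMod.natCast_zmod_val]⟩
    · rw [hgv, DihedralGroup.orderOf_sr] at hog'
      subst hog'
      have hi : i ≠ 0 := by
        rintro rfl
        exact hx (by rw [← DihedralGroup.one_def]; exact C'.one_mem)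
      rw [DihedralGroup.orderOf_r]
      have : i.val = 1 := by
        have h1 : i.val < 2 := ZMod.val_lt i
        have h2 : i.val ≠ 0 := fun h => hi ((ZMod.val_eq_zero i).mp h)
        omega
      rw [this]
      rfl

theorem core {G : Type*} [Group G] [Finite G] (L T S D C : Subgroup G) (hL : Cfsg.pResidual 2 ↥L = ⊤)
    (hTL : T ≤ L) (hT2 : IsPGroup 2 T) (hTsyl : ¬ 2 ∣ T.relIndex L)
    (hS2 : IsPGroup 2 S) (hSsyl : ¬ 2 ∣ S.index) (hTS : T ≤ S)
    (hDS : D ≤ S) (hDinv : ∀ x ∈ D, x ∉ C → orderOf x = 2) (hDT : D ⊓ T = ⊥) (hTD : T ⊔ D = S) (hTDc : Nat.card T * Nat.card D = Nat.card S)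
    (hCD : C ≤ D) (hC : IsCyclic ↥C) (hCi : C.relIndex D = 2)
    (h1 : ∀ x ∈ D, x ∉ C → orderOf x = 2 → ∀ g : G, g * x * g⁻¹ ∈ T ⊔ C → False)
    (h2 : ∀ c ∈ C, orderOf c = 2 → ∀ g : G, g * c * g⁻¹ ∈ T → False) :
    ∃ K : Subgroup G, K.Normal ∧ K ⊔ D = ⊤ ∧
      ∀ T' : Subgroup G, T' ≤ L → IsPGroup 2 T' → ¬ 2 ∣ T'.relIndex L → T' ≤ K ∧ ¬ 2 ∣ T'.relIndex K := by
  classical
  haveI : Fact (Nat.Prime 2) := ⟨Nat.prime_two⟩
  have hLK : L ≤ Cfsg.pResidual 2 G := by
    intro x hx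
    apply res_map_le L
    refine ⟨⟨x, hx⟩, ?_, rfl⟩
    rw [hL]
    exact Subgroup.mem_top _
  have hDC : Nat.card D = Nat.card C * 2 := by
    rw [← hCi]; exact (card_mul_relIndex' hCD).symm
  have hTC : T ⊓ C = ⊥ := by
    rw [eq_bot_iff, ← hDT, inf_comm]
    exact inf_le_inf_right T hCD
  have hMge : Nat.card T * Nat.card C ≤ Nat.card ↥(T ⊔ C) := by
    rw [← Nat.card_prod]
    apply Nat.card_le_card_of_injective (fun p : T × C =>
      (⟨(p.1 : G) * (p.2 : G), Subgroup.mul_mem _ (Subgroup.mem_sup_left p.1.2)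
        (Subgroup.mem_sup_right p.2.2)⟩ : ↥(T ⊔ C)))
    rintro ⟨t, c⟩ ⟨t', c'⟩ h
    have h0 : (t : G) * c = t' * c' := congrArg Subtype.val h
    have h1' : (t' : G)⁻¹ * t = c' * (c : G)⁻¹ := by
      have : (t' : G)⁻¹ * t = (t' : G)⁻¹ * (t * c) * (c : G)⁻¹ := by group
      rw [this, h0]; group
    have h2' : (c' : G) * (c : G)⁻¹ ∈ T ⊓ C :=
      Subgroup.mem_inf.2 ⟨h1' ▸ T.mul_mem (T.inv_mem t'.2) t.2, C.mul_mem c'.2 (C.inv_mem c.2)⟩
    rw [hTC, Subgroup.mem_bot] at h2'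
    have hc : (c' : G) = c := mul_inv_eq_one.mp h2'
    have ht : (t : G) = t' := by rw [hc] at h0; exact mul_right_cancel h0
    exact Prod.ext (Subtype.ext ht) (Subtype.ext hc.symm)
  obtain ⟨x₀, hx₀D, hx₀C⟩ : ∃ x ∈ D, x ∉ C := by
    by_contra hcon
    push_neg at hcon
    have : C.relIndex D = 1 := Subgroup.relIndex_eq_one.mpr hcon
    omega
  have hx₀M : x₀ ∉ T ⊔ C := fun h =>
    h1 x₀ hx₀D hx₀C (hDinv x₀ hx₀D hx₀C) 1 (by simpa using h)
  have hMS : T ⊔ C ≤ S := sup_le hTS (hCD.trans hDS)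
  have hMle : 2 * Nat.card ↥(T ⊔ C) ≤ Nat.card S := by
    obtain ⟨j, hj⟩ := Subgroup.card_dvd_of_le hMS
    have hj1 : j ≠ 1 := by
      rintro rfl
      apply hx₀M
      have : T ⊔ C = S := Subgroup.eq_of_le_of_card_ge hMS (by omega)
      rw [this]
      exact hDS hx₀D
    have hj0 : j ≠ 0 := by
      rintro rfl
      have := Nat.card_pos (α := S)
      omega
    have h2j : 2 ≤ j := by omega
    rw [hj]
    nlinarith [Nat.card_pos (α := ↥(T ⊔ C))]
  have hScard : Nat.card S = 2 * (Nat.card T * Nat.card C) := by rw [← hTDc, hDC]; ring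
  have hM : Nat.card ↥(T ⊔ C) = Nat.card T * Nat.card C := by linarith
  letI : Fintype (G ⧸ (T ⊔ C)) := Fintype.ofFinite _
  let φ : G →* ℤˣ := Equiv.Perm.sign.comp (MulAction.toPermHom G (G ⧸ (T ⊔ C)))
  have hSidx : Odd S.index := Nat.odd_iff.mpr (Nat.two_dvd_ne_zero.mp hSsyl)
  have hGcard : Nat.card G = S.index * Nat.card ↥(T ⊔ C) * 2 ^ 1 := by
    rw [← Subgroup.card_mul_index S, hM, hScard]; ring
  have hφ : ∀ x ∈ D, x ∉ C → φ x = -1 := by
    intro x hx hxC
    have ho := hDinv x hx hxC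
    refine st_sign (T ⊔ C) x 1 le_rfl ?_ ?_ S.index hSidx hGcard
    · rw [pow_one, ← ho]; exact pow_orderOf_eq_one x
    · intro g hg
      simp only [Nat.sub_self, pow_zero, pow_one] at hg
      exact h1 x hx hxC ho g⁻¹ (by simpa using hg)
  have hKN : Cfsg.pResidual 2 G ≤ φ.ker := res_le_ker φ
  have hCN : C ≤ φ.ker := by
    intro c hc
    by_contra hcN
    have h3 : φ (x₀ * c) = -1 := hφ (x₀ * c) (D.mul_mem hx₀D (hCD hc)) (fun h => hx₀C (by
      have := C.mul_mem h (C.inv_mem hc)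
      simpa using this))
    rw [map_mul, hφ x₀ hx₀D hx₀C, not_ker φ c hcN] at h3
    exact absurd h3 (by decide)
  have hNidx : φ.ker.index = 2 := ker_index φ x₀ (hφ x₀ hx₀D hx₀C)
  have hTN : T ≤ φ.ker := (hTL.trans hLK).trans hKN
  have hcyc : IsCyclic ↥(C.subgroupOf φ.ker) :=
    (MulEquiv.isCyclic (Subgroup.subgroupOfEquivOfLe hCN)).mpr hC
  have hinf : T.subgroupOf φ.ker ⊓ C.subgroupOf φ.ker = ⊥ := by
    rw [eq_bot_iff]
    intro y hy
    rw [Subgroup.mem_inf, Subgroup.mem_subgroupOf, Subgroup.mem_subgroupOf] at hy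
    have : (y : G) ∈ T ⊓ C := Subgroup.mem_inf.2 hy
    rw [hTC, Subgroup.mem_bot] at this
    rw [Subgroup.mem_bot]
    exact Subtype.ext this
  have hpg : IsPGroup 2 ↥(C.subgroupOf φ.ker) := (hS2.to_le (hCD.trans hDS)).comap_subtype
  have hcardN : Nat.card ↥φ.ker =
      S.index * (Nat.card (T.subgroupOf φ.ker) * Nat.card (C.subgroupOf φ.ker)) := by
    rw [Nat.card_congr (Subgroup.subgroupOfEquivOfLe hTN).toEquiv,
      Nat.card_congr (Subgroup.subgroupOfEquivOfLe hCN).toEquiv]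
    have h3 := Subgroup.card_mul_index φ.ker
    rw [hNidx, hGcard, hM] at h3
    have : Nat.card φ.ker * 2 = (S.index * (Nat.card T * Nat.card C)) * 2 := by rw [h3]; ring
    exact Nat.eq_of_mul_eq_mul_right (by norm_num) this
  have hres : T.subgroupOf φ.ker ≤ Cfsg.pResidual 2 ↥φ.ker := by
    intro y hy
    rw [Subgroup.mem_subgroupOf] at hy
    have h3 := (hTL.trans hLK) hy
    rw [← res_map _ hKN] at h3
    obtain ⟨z, hz, hzy⟩ := h3
    have : z = y := Subtype.ext hzy
    rw [← this]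
    exact hz
  have hfus : ∀ c ∈ C.subgroupOf φ.ker, orderOf c = 2 → ∀ a : φ.ker,
      a * c * a⁻¹ ∉ T.subgroupOf φ.ker := by
    intro c hc ho a hmem
    rw [Subgroup.mem_subgroupOf] at hc hmem
    exact h2 (c : G) hc (by rw [Subgroup.orderOf_coe]; exact ho) (a : G) (by simpa using hmem)
  obtain ⟨k', hk', hcardK⟩ := chain (Nat.card (C.subgroupOf φ.ker)) ↥φ.ker (T.subgroupOf φ.ker)
    (C.subgroupOf φ.ker) rfl hcyc hinf hpg ⟨S.index, hSidx, hcardN⟩ hres hfus
  have hKcard : Nat.card (Cfsg.pResidual 2 G) = k' * Nat.card T := by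
    rw [← res_map _ hKN, Subgroup.card_map_of_injective (Subgroup.subtype_injective _), hcardK,
      Nat.card_congr (Subgroup.subgroupOfEquivOfLe hTN).toEquiv]
  refine ⟨Cfsg.pResidual 2 G, pResidual_normal 2 G, ?_, ?_⟩
  · have h3 : S ⊔ Cfsg.pResidual 2 G = ⊤ := sylow_sup_pResidual_eq_top (hS2.toSylow hSsyl)
    rw [eq_top_iff, ← h3, ← hTD]
    exact sup_le (sup_le ((hTL.trans hLK).trans le_sup_left) le_sup_right) le_sup_left
  · intro T' hT'L hT'2 hT'odd
    refine ⟨hT'L.trans hLK, ?_⟩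
    have hc1 : Nat.card T' ≤ Nat.card T := S1910.card_le_of_syl hT2 hTsyl hT'L hT'2
    have hc2 : Nat.card T ≤ Nat.card T' := S1910.card_le_of_syl hT'2 hT'odd hTL hT2
    have hc : Nat.card T' = Nat.card T := le_antisymm hc1 hc2
    have h4 := card_mul_relIndex' (hT'L.trans hLK)
    rw [hKcard, hc] at h4
    have h5 : T'.relIndex (Cfsg.pResidual 2 G) = k' := by
      have hpos : 0 < Nat.card T := Nat.card_pos
      rw [mul_comm] at h4
      exact Nat.eq_of_mul_eq_mul_right hpos h4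
    rw [h5]
    exact fun h => (Nat.not_even_iff_odd.mpr hk') (even_iff_two_dvd.mpr h)

/-- A consequence of Thompson's transfer lemma. Let G be a finite group, L a subgroup with O²(L) = L, T a Sylow 2-subgroup of L and S a Sylow 2-subgroup of G containing T. Suppose D ≤ S is a dihedral subgroup of order at least 4 (the four-group counts) with D ∩ T = 1 and S = TD as a set of products (so |S| = |T|·|D|), and C ≤ D is cyclic of index 2 in D. If no involution of D outside C is G-conjugate to an involution of the subgroup generated by T and C, and the involution of C is not G-conjugate to any involution of T, then G has a normal subgroup K, containing every Sylow 2-subgroup of L as a Sylow 2-subgroup, with G = KD. -/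
theorem result {G : Type*} [Group G] [Finite G] (L T S D C : Subgroup G) (hL : Cfsg.pResidual 2 ↥L = ⊤)
    (hTL : T ≤ L) (hT2 : IsPGroup 2 T) (hTsyl : ¬ 2 ∣ T.relIndex L)
    (hS2 : IsPGroup 2 S) (hSsyl : ¬ 2 ∣ S.index) (hTS : T ≤ S)
    (hDS : D ≤ S) (hDih : ∃ n : ℕ, 2 ≤ n ∧ Nonempty (↥D ≃* DihedralGroup n)) (hDT : D ⊓ T = ⊥) (hTD : T ⊔ D = S) (hTDc : Nat.card T * Nat.card D = Nat.card S)
    (hCD : C ≤ D) (hC : IsCyclic ↥C) (hCi : C.relIndex D = 2)
    (h1 : ∀ x ∈ D, x ∉ C → orderOf x = 2 → ∀ g : G, g * x * g⁻¹ ∈ T ⊔ C → False)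
    (h2 : ∀ c ∈ C, orderOf c = 2 → ∀ g : G, g * c * g⁻¹ ∈ T → False) :
    ∃ K : Subgroup G, K.Normal ∧ K ⊔ D = ⊤ ∧
      ∀ T' : Subgroup G, T' ≤ L → IsPGroup 2 T' → ¬ 2 ∣ T'.relIndex L → T' ≤ K ∧ ¬ 2 ∣ T'.relIndex K := by
  classical
  obtain ⟨n, hn, ⟨e⟩⟩ := hDih
  have hDcard : Nat.card D = 2 * n := by rw [Nat.card_congr e.toEquiv, DihedralGroup.nat_card]
  have hDC : Nat.card D = Nat.card C * 2 := by
    rw [← hCi]; exact (card_mul_relIndex' hCD).symm
  have hDinv : ∀ x ∈ D, x ∉ C → orderOf x = 2 := by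
    intro x hx hxC
    have hcyc' : IsCyclic ↥((C.subgroupOf D).map e.toMonoidHom) := by
      have e1 : ↥C ≃* ↥((C.subgroupOf D).map e.toMonoidHom) :=
        (Subgroup.subgroupOfEquivOfLe hCD).symm.trans
          ((C.subgroupOf D).equivMapOfInjective e.toMonoidHom e.injective)
      exact (MulEquiv.isCyclic e1).mp hC
    have hcard' : Nat.card ↥((C.subgroupOf D).map e.toMonoidHom) = n := by
      rw [Subgroup.card_map_of_injective e.injective,
        Nat.card_congr (Subgroup.subgroupOfEquivOfLe hCD).toEquiv]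
      omega
    have h3 := dih_out n hn _ hcyc' hcard' (e ⟨x, hx⟩) (by
      rintro ⟨y, hy, hye⟩
      have : y = ⟨x, hx⟩ := e.injective hye
      subst this
      exact hxC (Subgroup.mem_subgroupOf.mp hy))
    rw [MulEquiv.orderOf_eq, Subgroup.orderOf_mk] at h3
    exact h3
  exact core L T S D C hL hTL hT2 hTsyl hS2 hSsyl hTS hDS hDinv hDT hTD hTDc hCD hC hCi h1 h2

end Cfsg.Agent.S1924
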