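import Cfsg.Statements.S0556
import Mathlib
import Cfsg.Agent.S0035
import Cfsg.Agent.S0042
import Cfsg.Agent.Lib.Helper9.KW1
import Cfsg.Agent.Lib.Helper9.SSInd

set_option autoImplicit false
open Cfsg

namespace Cfsg.Agent.S0556

open Cfsg.Agent.Lib.Helper9
open scoped Pointwise commutatorElement

universe u

theorem ds2_of_abelian_quot {G : Type u} [Group G] (N : Subgroup G)
    (hq : ∀ x y : G, ⁅x, y⁆ ∈ N) (hN : ∀ a ∈ N, ∀ b ∈ N, a * b = b * a) :
    derivedSeries G 2 = ⊥ := by
  have h1 : derivedSeries G 1 ≤ N := by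
    rw [derivedSeries_succ, derivedSeries_zero, Subgroup.commutator_le]
    intro x _ y _
    exact hq x y
  rw [derivedSeries_succ, eq_bot_iff, Subgroup.commutator_le]
  intro x hx y hy
  rw [Subgroup.mem_bot, commutatorElement_eq_one_iff_commute]
  exact hN x (h1 hx) y (h1 hy)

theorem comm_mem_of_normal_coatom {G : Type u} [Group G] (A : Subgroup G) (hA : IsCoatom A)
    (hAn : A.Normal) : ∀ x y : G, ⁅x, y⁆ ∈ A := by
  obtain ⟨g, hg⟩ : ∃ g, g ∉ A := by
    by_contra h
    push Not at h
    exact hA.1 (eq_top_iff.mpr (fun x _ => h x))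
  have hsup : A ⊔ Subgroup.zpowers g = ⊤ := by
    rcases hA.le_iff.mp (le_sup_left : A ≤ A ⊔ Subgroup.zpowers g) with h | h
    · exact h
    · exact absurd ((le_sup_right.trans (le_of_eq h)) (Subgroup.mem_zpowers g)) hg
  have hrep : ∀ x : G, ∃ i : ℤ, (QuotientGroup.mk' A x) = (QuotientGroup.mk' A g) ^ i := by
    intro x
    have hx : x ∈ ((A ⊔ Subgroup.zpowers g : Subgroup G) : Set G) := by
      rw [hsup]; exact Subgroup.mem_top x
    rw [Subgroup.normal_mul] at hx
    obtain ⟨a, ha, z, hz, rfl⟩ := Set.mem_mul.mp hx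
    obtain ⟨i, rfl⟩ := Subgroup.mem_zpowers_iff.mp hz
    refine ⟨i, ?_⟩
    rw [map_mul, map_zpow]
    have h1 : QuotientGroup.mk' A a = 1 := (QuotientGroup.eq_one_iff a).mpr ha
    rw [h1, one_mul]
  intro x y
  obtain ⟨i, hi⟩ := hrep x
  obtain ⟨j, hj⟩ := hrep y
  rw [← QuotientGroup.eq_one_iff]
  show QuotientGroup.mk' A ⁅x, y⁆ = 1
  rw [map_commutatorElement, hi, hj, commutatorElement_eq_one_iff_commute]
  exact (Commute.refl _).zpow_zpow i j

/-- If a finite group has a maximal subgroup that is abelian, then the third term of its derived series is trivial (so the group is solvable of derived length at most three). -/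
theorem result {G : Type*} [Group G] [Finite G] (A : Subgroup G) (hA : IsCoatom A) [IsMulCommutative A] : derivedSeries G 3 = ⊥ := by
  classical
  have hAc : ∀ a ∈ A, ∀ b ∈ A, a * b = b * a := fun a ha b hb =>
    congrArg Subtype.val (mul_comm' (⟨a, ha⟩ : A) ⟨b, hb⟩)
  by_cases hAn : A.Normal
  · have h2 := ds2_of_abelian_quot A (comm_mem_of_normal_coatom A hA hAn) hAc
    rw [derivedSeries_succ, h2, eq_bot_iff, Subgroup.commutator_le]
    intro x hx y hy
    rw [Subgroup.mem_bot] at hx hy ⊢
    rw [hx, hy, commutatorElement_one_right]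
  · have hNA : ∀ g, g ∈ Subgroup.normalizer (A : Set G) → g ∈ A := by
      intro g hg
      rcases hA.le_iff.mp (Subgroup.le_normalizer (H := A)) with h | h
      · exact absurd (Subgroup.normalizer_eq_top_iff.mp h) hAn
      · rw [h] at hg
        exact hg
    have hZ : ∀ g, g ∉ A → ∀ x, x ∈ A → x ∈ MulAut.conj g • A → x ∈ Subgroup.center G := by
      intro g hg x hxA hxg
      have h1 : A ≤ Subgroup.centralizer ({x} : Set G) := by
        intro a ha
        rw [Subgroup.mem_centralizer_singleton_iff]
        exact hAc a ha x hxA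
      have h2 : MulAut.conj g • A ≤ Subgroup.centralizer ({x} : Set G) := by
        intro y hy
        rw [Subgroup.mem_centralizer_singleton_iff]
        rw [mem_conj_smul_iff] at hy hxg
        have hc := hAc _ hy _ hxg
        have e1 : y * x = g * ((g⁻¹ * y * g) * (g⁻¹ * x * g)) * g⁻¹ := by group
        have e2 : x * y = g * ((g⁻¹ * x * g) * (g⁻¹ * y * g)) * g⁻¹ := by group
        rw [e1, e2, hc]
      have h3 : A ⊔ MulAut.conj g • A = ⊤ := by
        rcases hA.le_iff.mp (le_sup_left : A ≤ A ⊔ MulAut.conj g • A) with h | h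
        · exact h
        · exfalso
          apply hg
          apply hNA
          apply mem_normalizer_of_conj_smul_le
          exact le_sup_right.trans (le_of_eq h)
      have h4 : Subgroup.centralizer ({x} : Set G) = ⊤ := top_le_iff.mp (h3 ▸ sup_le h1 h2)
      rw [Subgroup.mem_center_iff]
      intro y
      have h5 : y ∈ Subgroup.centralizer ({x} : Set G) := by rw [h4]; exact Subgroup.mem_top y
      exact Subgroup.mem_centralizer_singleton_iff.mp h5
    have hZA : Subgroup.center G ≤ A := by
      by_contra hle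
      apply hAn
      have h3 : A ⊔ Subgroup.center G = ⊤ := by
        rcases hA.le_iff.mp (le_sup_left : A ≤ A ⊔ Subgroup.center G) with h | h
        · exact h
        · exact absurd (le_sup_right.trans (le_of_eq h)) hle
      constructor
      intro n hn g
      have hg : g ∈ ((A ⊔ Subgroup.center G : Subgroup G) : Set G) := by
        rw [h3]; exact Subgroup.mem_top g
      rw [Subgroup.mul_normal] at hg
      obtain ⟨a, ha, z, hz, rfl⟩ := Set.mem_mul.mp hg
      have hz' := Subgroup.mem_center_iff.mp hz
      have e : a * z * n * (a * z)⁻¹ = a * n * a⁻¹ := by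
        have e1 : z * n = n * z := (hz' n).symm
        calc a * z * n * (a * z)⁻¹ = a * (z * n) * z⁻¹ * a⁻¹ := by group
          _ = a * (n * z) * z⁻¹ * a⁻¹ := by rw [e1]
          _ = a * n * a⁻¹ := by group
      rw [e]
      exact A.mul_mem (A.mul_mem ha hn) (A.inv_mem ha)
    obtain ⟨π, hπdef⟩ : ∃ π : G →* G ⧸ Subgroup.center G,
        π = QuotientGroup.mk' (Subgroup.center G) := ⟨_, rfl⟩
    have hπs : Function.Surjective π := by
      rw [hπdef]; exact QuotientGroup.mk'_surjective _
    have hker : π.ker = Subgroup.center G := by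
      rw [hπdef]; exact QuotientGroup.ker_mk' _
    have hFC : Cfsg.IsFrobeniusComplement (A.map π) := by
      refine ⟨?_, ?_, ?_⟩
      · intro h
        apply hAn
        have hAZ : A ≤ Subgroup.center G := by
          rw [← hker]; exact (Subgroup.map_eq_bot_iff _).mp h
        have h0 : A = Subgroup.center G := le_antisymm hAZ hZA
        rw [h0]
        infer_instance
      · intro h
        apply hA.1
        have h1 := Subgroup.comap_map_eq π A
        rw [h, Subgroup.comap_top, hker, sup_eq_left.mpr hZA] at h1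
        exact h1.symm
      · intro q hq
        obtain ⟨g, rfl⟩ := hπs q
        have hg : g ∉ A := fun h => hq (Subgroup.mem_map_of_mem π h)
        rw [Subgroup.eq_bot_iff_forall]
        rintro y ⟨hy1, hy2⟩
        obtain ⟨a, ha, rfl⟩ := Subgroup.mem_map.mp hy1
        have hy2' : π a ∈ MulAut.conj (π g) • A.map π := hy2
        rw [mem_conj_smul_iff] at hy2'
        obtain ⟨a', ha', e⟩ := Subgroup.mem_map.mp hy2'
        have e2 : π (a'⁻¹ * (g⁻¹ * a * g)) = 1 := by
          simp only [map_mul, map_inv, e]
          group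
        have h5 : a'⁻¹ * (g⁻¹ * a * g) ∈ Subgroup.center G := by
          rw [← hker]; exact e2
        have h6 : g⁻¹ * a * g ∈ A := by
          have e3 : g⁻¹ * a * g = a' * (a'⁻¹ * (g⁻¹ * a * g)) := by group
          rw [e3]
          exact A.mul_mem ha' (hZA h5)
        have h7 : a ∈ Subgroup.center G := hZ g hg a ha (mem_conj_smul_iff.mpr h6)
        rw [← hker] at h7
        exact h7
    obtain ⟨N, hNK, hNn, hNnil⟩ := Cfsg.Agent.S0042.result (A.map π) hFC
    obtain ⟨N', hN'K, -, hNc⟩ := Cfsg.Agent.S0035.result (A.map π) hFC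
    have hNN' : N' = N := SetLike.coe_injective (hN'K.trans hNK.symm)
    rw [hNN'] at hNc
    have hdisj : ∀ x, x ∈ N → x ∈ A.map π → x = 1 := by
      intro x hx1 hx2
      have h0 : x ∈ N ⊓ A.map π := ⟨hx1, hx2⟩
      rw [hNc.disjoint.eq_bot, Subgroup.mem_bot] at h0
      exact h0
    have hAbarc : ∀ a ∈ A.map π, ∀ b ∈ A.map π, a * b = b * a := by
      rintro _ ⟨a, ha, rfl⟩ _ ⟨b, hb, rfl⟩
      rw [← map_mul, ← map_mul, hAc a ha b hb]
    have hcoat : IsCoatom (A.map π) :=
      isCoatom_map_of_surjective_of_ker_le π hπs hA ((le_of_eq hker).trans hZA)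
    have hNne : N ≠ ⊥ := by
      intro h
      apply hFC.2.1
      have h0 := hNc.sup_eq_top
      rw [h, bot_sup_eq] at h0
      exact h0
    have hNcomm : ∀ x ∈ N, ∀ y ∈ N, x * y = y * x := by
      have hCn : ((Subgroup.center N).map N.subtype).Normal :=
        ConjAct.normal_of_characteristic_of_normal
      obtain ⟨z, hzN, hz1, hzc⟩ := kw_exists_central_in hNnil N le_rfl Subgroup.le_normalizer hNne
      have hzC : z ∈ (Subgroup.center N).map N.subtype := by
        refine Subgroup.mem_map.mpr ⟨⟨z, hzN⟩, ?_, rfl⟩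
        rw [Subgroup.mem_center_iff]
        intro g
        exact Subtype.ext (hzc g g.2).symm
      have hCN : (Subgroup.center N).map N.subtype ≤ N := Subgroup.map_subtype_le _
      have hsup : (Subgroup.center N).map N.subtype ⊔ A.map π = ⊤ := by
        rcases hcoat.le_iff.mp
          (le_sup_right : A.map π ≤ (Subgroup.center N).map N.subtype ⊔ A.map π) with h | h
        · exact h
        · exfalso
          have hz2 : z ∈ A.map π := (le_sup_left.trans (le_of_eq h)) hzC
          exact hz1 (hdisj z hzN hz2)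
      have hNC : N ≤ (Subgroup.center N).map N.subtype := by
        intro n hn
        have hn' : n ∈ (((Subgroup.center N).map N.subtype ⊔ A.map π :
            Subgroup (G ⧸ Subgroup.center G)) : Set (G ⧸ Subgroup.center G)) := by
          rw [hsup]; exact Subgroup.mem_top n
        rw [Subgroup.normal_mul] at hn'
        obtain ⟨c, hc, a, ha, rfl⟩ := Set.mem_mul.mp hn'
        have ha1 : a = 1 := by
          apply hdisj a _ ha
          have e : a = c⁻¹ * (c * a) := by group
          rw [e]
          exact N.mul_mem (N.inv_mem (hCN hc)) hn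
        rw [ha1, mul_one]
        exact hc
      intro x hx y hy
      obtain ⟨x', hx', rfl⟩ := Subgroup.mem_map.mp (hNC hx)
      have h0 := Subgroup.mem_center_iff.mp hx' ⟨y, hy⟩
      exact (congrArg Subtype.val h0).symm
    have hq : ∀ x y : G ⧸ Subgroup.center G, ⁅x, y⁆ ∈ N := by
      have hrep : ∀ x : G ⧸ Subgroup.center G, ∃ a ∈ A.map π,
          QuotientGroup.mk' N x = QuotientGroup.mk' N a := by
        intro x
        have hx : x ∈ ((N ⊔ A.map π : Subgroup (G ⧸ Subgroup.center G)) :
            Set (G ⧸ Subgroup.center G)) := by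
          rw [hNc.sup_eq_top]; exact Subgroup.mem_top x
        rw [Subgroup.normal_mul] at hx
        obtain ⟨n, hn, a, ha, rfl⟩ := Set.mem_mul.mp hx
        refine ⟨a, ha, ?_⟩
        have h1 : QuotientGroup.mk' N n = 1 := (QuotientGroup.eq_one_iff n).mpr hn
        rw [map_mul, h1, one_mul]
      intro x y
      obtain ⟨a, ha, hxa⟩ := hrep x
      obtain ⟨b, hb, hyb⟩ := hrep y
      rw [← QuotientGroup.eq_one_iff]
      show QuotientGroup.mk' N ⁅x, y⁆ = 1
      rw [map_commutatorElement, hxa, hyb, ← map_commutatorElement,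
        commutatorElement_eq_one_iff_commute.mpr (hAbarc a ha b hb), map_one]
    have h2 : derivedSeries (G ⧸ Subgroup.center G) 2 = ⊥ := ds2_of_abelian_quot N hq hNcomm
    have h3 : derivedSeries G 2 ≤ Subgroup.center G := by
      have h4 := map_derivedSeries_le_derivedSeries π 2
      rw [h2, le_bot_iff, Subgroup.map_eq_bot_iff, hker] at h4
      exact h4
    rw [derivedSeries_succ, eq_bot_iff, Subgroup.commutator_le]
    intro x hx y hy
    rw [Subgroup.mem_bot, commutatorElement_eq_one_iff_commute]
    exact (Subgroup.mem_center_iff.mp (h3 hx) y).symm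

end Cfsg.Agent.S0556
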