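import Cfsg.Statements.S0565
import Mathlib
import Cfsg.Agent.S0564
import Cfsg.Agent.Lib.Helper9.PrimSolv
import Cfsg.Agent.Lib.Helper9.MinNormal

set_option autoImplicit false
open Cfsg

namespace Cfsg.Agent.S0565

open Cfsg.Agent.Lib.Helper9
open scoped Pointwise

universe u

theorem nilp_case {G : Type u} [Group G] [Finite G] (hG : Group.IsNilpotent G) (H : Subgroup G)
    (hH : H ≠ ⊤) : ∃ N : Subgroup G, N.Normal ∧ N ≠ ⊤ ∧ H ≤ N := by
  obtain ⟨M, hM, hHM⟩ := (eq_top_or_exists_le_coatom H).resolve_left hH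
  have hall : ∀ H : Subgroup G, IsCoatom H → H.Normal :=
    ((Group.isNilpotent_of_finite_tfae (G := G)).out 0 2).mp hG
  exact ⟨M, hall M hM, hM.1, hHM⟩

/-- if `G = AN` with `N` an abelian minimal normal `p`-subgroup and `A` nilpotent,
then the Sylow `p`-subgroup of `A` is normal in `G` -/
theorem key_normal {G : Type u} [Group G] [Finite G] (A N : Subgroup G)
    (hA : Group.IsNilpotent A) (hNn : N.Normal) (hNne : N ≠ ⊥)
    (hmin : ∀ K : Subgroup G, K.Normal → K ≤ N → K = ⊥ ∨ K = N)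
    (hcomm : ∀ a ∈ N, ∀ b ∈ N, a * b = b * a) (p : ℕ) [Fact p.Prime] (hNp : IsPGroup p N)
    (hAN : A ⊔ N = ⊤) : (kwSy p A).Normal := by
  have hfac : ∀ g : G, ∃ a ∈ A, ∃ n ∈ N, g = a * n := by
    intro g
    have hg : g ∈ ((A ⊔ N : Subgroup G) : Set G) := by rw [hAN]; exact Subgroup.mem_top g
    rw [Subgroup.mul_normal] at hg
    obtain ⟨a, ha, n, hn, e⟩ := Set.mem_mul.mp hg
    exact ⟨a, ha, n, hn, e.symm⟩
  have hTp : IsPGroup p (N ⊔ kwSy p A : Subgroup G) :=
    IsPGroup.to_sup_of_normal_left hNp (kwSy_isPGroup p A)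
  have hTnil : Group.IsNilpotent (N ⊔ kwSy p A : Subgroup G) := hTp.isNilpotent
  obtain ⟨z, hzN, hz1, hzc⟩ := kw_exists_central_in hTnil N le_sup_left (by
    intro x _
    rw [Subgroup.normalizer_eq_top]
    exact Subgroup.mem_top x) hNne
  have hDn : (N ⊓ Subgroup.centralizer (kwSy p A : Set G)).Normal := by
    constructor
    intro x hx g
    obtain ⟨a, ha, n, hn, rfl⟩ := hfac g
    have e1 : n * x * n⁻¹ = x := by
      rw [hcomm n hn x hx.1, mul_assoc, mul_inv_cancel, mul_one]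
    have e2 : a * n * x * (a * n)⁻¹ = a * x * a⁻¹ := by
      have e : a * n * x * (a * n)⁻¹ = a * (n * x * n⁻¹) * a⁻¹ := by group
      rw [e, e1]
    rw [e2]
    refine Subgroup.mem_inf.mpr ⟨hNn.conj_mem x hx.1 a, ?_⟩
    rw [Subgroup.mem_centralizer_iff]
    intro a₀ ha₀
    have h1 : a⁻¹ * a₀ * a ∈ kwSy p A := by
      have h0 := (Subgroup.mem_normalizer_iff.mp (kwSy_normalizer hA (A.inv_mem ha)) a₀).mp ha₀
      simpa using h0
    have h2 := Subgroup.mem_centralizer_iff.mp hx.2 _ h1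
    have e3 : a₀ * (a * x * a⁻¹) = a * ((a⁻¹ * a₀ * a) * x) * a⁻¹ := by group
    have e4 : a * x * a⁻¹ * a₀ = a * (x * (a⁻¹ * a₀ * a)) * a⁻¹ := by group
    rw [e3, e4, h2]
  have hzD : z ∈ N ⊓ Subgroup.centralizer (kwSy p A : Set G) := by
    refine Subgroup.mem_inf.mpr ⟨hzN, ?_⟩
    rw [Subgroup.mem_centralizer_iff]
    intro a₀ ha₀
    exact (hzc a₀ (Subgroup.mem_sup_right ha₀)).symm
  have hDN : N ⊓ Subgroup.centralizer (kwSy p A : Set G) = N := by
    rcases hmin _ hDn inf_le_left with h | h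
    · exfalso
      rw [h, Subgroup.mem_bot] at hzD
      exact hz1 hzD
    · exact h
  constructor
  intro a₀ ha₀ g
  obtain ⟨a, ha, n, hn, rfl⟩ := hfac g
  have hn' : n ∈ Subgroup.centralizer (kwSy p A : Set G) := by
    have h0 : n ∈ N ⊓ Subgroup.centralizer (kwSy p A : Set G) := by rw [hDN]; exact hn
    exact h0.2
  have e1 : n * a₀ * n⁻¹ = a₀ := by
    have h0 := Subgroup.mem_centralizer_iff.mp hn' a₀ ha₀
    rw [← h0, mul_assoc, mul_inv_cancel, mul_one]
  have e2 : a * n * a₀ * (a * n)⁻¹ = a * a₀ * a⁻¹ := by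
    have e : a * n * a₀ * (a * n)⁻¹ = a * (n * a₀ * n⁻¹) * a⁻¹ := by group
    rw [e, e1]
  rw [e2]
  exact (Subgroup.mem_normalizer_iff.mp (kwSy_normalizer hA ha) a₀).mp ha₀

theorem exists_normal_sup_ne_top {G : Type u} [Group G] [Finite G] (A B : Subgroup G)
    (hA : Group.IsNilpotent A) (hB : Group.IsNilpotent B)
    (hAB : ∀ g : G, ∃ a ∈ A, ∃ b ∈ B, g = a * b) (hAt : A ≠ ⊤) (hBt : B ≠ ⊤) :
    ∃ N₀ : Subgroup G, N₀.Normal ∧ N₀ ≠ ⊥ ∧ (A ⊔ N₀ ≠ ⊤ ∨ B ⊔ N₀ ≠ ⊤) := by
  have hsolv : Group.IsSolvable G := Cfsg.Agent.S0564.result A B hA hB hAB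
  have hnt : Nontrivial G := by
    by_contra h
    rw [not_nontrivial_iff_subsingleton] at h
    exact hAt (Subsingleton.elim _ _)
  obtain ⟨N, hNn, hNne, hNmin⟩ := exists_minimal_normal G
  by_cases h1 : A ⊔ N = ⊤
  · by_cases h2 : B ⊔ N = ⊤
    · have hcomm := minimal_normal_comm N hNne hNmin
      obtain ⟨p, d, hp, hd, hcard⟩ := minimal_normal_card N hNne hNmin
      have := Fact.mk hp
      have hNp : IsPGroup p N := IsPGroup.of_card hcard
      have hpG : p ∣ Nat.card G :=
        (dvd_pow_self p hd.ne').trans (hcard ▸ Subgroup.card_subgroup_dvd_card N)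
      have hpAB : p ∣ Nat.card A ∨ p ∣ Nat.card B := by
        by_contra hcon
        push Not at hcon
        obtain ⟨P, Q, R, hR⟩ := Cfsg.Agent.S0560.result A B hAB p
        have hP : (P : Subgroup A) = ⊥ := by
          rw [← Subgroup.card_eq_one, Sylow.card_eq_multiplicity,
            Nat.factorization_eq_zero_of_not_dvd hcon.1, pow_zero]
        have hQ : (Q : Subgroup B) = ⊥ := by
          rw [← Subgroup.card_eq_one, Sylow.card_eq_multiplicity,
            Nat.factorization_eq_zero_of_not_dvd hcon.2, pow_zero]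
        rw [hP, hQ, Subgroup.map_bot, Subgroup.map_bot] at hR
        apply R.ne_bot_of_dvd_card hpG
        rw [Subgroup.eq_bot_iff_forall]
        intro x hx
        have hx' : x ∈ ((R : Subgroup G) : Set G) := hx
        rw [hR] at hx'
        obtain ⟨a, ha, b, hb, rfl⟩ := Set.mem_mul.mp hx'
        rw [SetLike.mem_coe, Subgroup.mem_bot] at ha hb
        rw [ha, hb, mul_one]
      rcases hpAB with hpA | hpB
      · have hn := key_normal A N hA hNn hNne hNmin hcomm p hNp h1
        refine ⟨kwSy p A, hn, kwSy_ne_bot hpA, Or.inl ?_⟩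
        rw [sup_eq_left.mpr (kwSy_le p A)]
        exact hAt
      · have hn := key_normal B N hB hNn hNne hNmin hcomm p hNp h2
        refine ⟨kwSy p B, hn, kwSy_ne_bot hpB, Or.inr ?_⟩
        rw [sup_eq_left.mpr (kwSy_le p B)]
        exact hBt
    · exact ⟨N, hNn, hNne, Or.inr h2⟩
  · exact ⟨N, hNn, hNne, Or.inl h1⟩

theorem kegel_aux : ∀ (n : ℕ) (G : Type u) [Group G] [Finite G], Nat.card G = n →
    ∀ A B : Subgroup G, Group.IsNilpotent A → Group.IsNilpotent B →
    (∀ g : G, ∃ a ∈ A, ∃ b ∈ B, g = a * b) → (A ≠ ⊤ ∨ B ≠ ⊤) →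
    ∃ N : Subgroup G, N.Normal ∧ N ≠ ⊤ ∧ (A ≤ N ∨ B ≤ N) := by
  intro n
  induction n using Nat.strong_induction_on with
  | _ n IH =>
    intro G _ _ hn A B hA hB hAB hproper
    subst hn
    by_cases hAt : A = ⊤
    · have hBt : B ≠ ⊤ := hproper.resolve_left (not_not.mpr hAt)
      subst hAt
      have := hA
      have hG : Group.IsNilpotent G := Group.nilpotent_of_mulEquiv Subgroup.topEquiv
      obtain ⟨N, hNn, hNt, hle⟩ := nilp_case hG B hBt
      exact ⟨N, hNn, hNt, Or.inr hle⟩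
    · by_cases hBt : B = ⊤
      · subst hBt
        have := hB
        have hG : Group.IsNilpotent G := Group.nilpotent_of_mulEquiv Subgroup.topEquiv
        obtain ⟨N, hNn, hNt, hle⟩ := nilp_case hG A hAt
        exact ⟨N, hNn, hNt, Or.inl hle⟩
      · obtain ⟨N₀, hN₀n, hN₀ne, hN₀⟩ := exists_normal_sup_ne_top A B hA hB hAB hAt hBt
        have hlt : Nat.card (G ⧸ N₀) < Nat.card G := Cfsg.Agent.S0564.card_quot_lt N₀ hN₀ne
        have := hA
        have := hB
        have hmapne : ∀ H : Subgroup G, H ⊔ N₀ ≠ ⊤ → H.map (QuotientGroup.mk' N₀) ≠ ⊤ := by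
          intro H hH htop
          apply hH
          have h1 := Subgroup.comap_map_eq (QuotientGroup.mk' N₀) H
          rw [htop, Subgroup.comap_top, QuotientGroup.ker_mk'] at h1
          exact h1.symm
        obtain ⟨Nq, hNqn, hNqt, hNq⟩ := IH (Nat.card (G ⧸ N₀)) hlt (G ⧸ N₀) rfl
          (A.map (QuotientGroup.mk' N₀)) (B.map (QuotientGroup.mk' N₀))
          (Group.nilpotent_of_surjective ((QuotientGroup.mk' N₀).subgroupMap A)
            ((QuotientGroup.mk' N₀).subgroupMap_surjective A))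
          (Group.nilpotent_of_surjective ((QuotientGroup.mk' N₀).subgroupMap B)
            ((QuotientGroup.mk' N₀).subgroupMap_surjective B))
          (by
            intro q
            obtain ⟨g, rfl⟩ := QuotientGroup.mk'_surjective N₀ q
            obtain ⟨h, hh, k, hk, rfl⟩ := hAB g
            exact ⟨_, Subgroup.mem_map_of_mem _ hh, _, Subgroup.mem_map_of_mem _ hk,
              map_mul _ h k⟩)
          (hN₀.imp (hmapne A) (hmapne B))
        refine ⟨Nq.comap (QuotientGroup.mk' N₀), hNqn.comap _, ?_,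
          hNq.imp Subgroup.map_le_iff_le_comap.mp Subgroup.map_le_iff_le_comap.mp⟩
        intro htop
        apply hNqt
        rw [← Subgroup.map_comap_eq_self_of_surjective (QuotientGroup.mk'_surjective N₀) Nq, htop,
          Subgroup.map_top_of_surjective _ (QuotientGroup.mk'_surjective N₀)]

/-- Let the finite group G be the product AB of nilpotent subgroups A and B, not both equal to G. Then there is a proper normal subgroup of G containing A or containing B. -/
theorem result {G : Type*} [Group G] [Finite G] (A B : Subgroup G) (hA : Group.IsNilpotent A) (hB : Group.IsNilpotent B) (hAB : ∀ g : G, ∃ a ∈ A, ∃ b ∈ B, g = a * b) (hproper : A ≠ ⊤ ∨ B ≠ ⊤) : ∃ N : Subgroup G, N.Normal ∧ N ≠ ⊤ ∧ (A ≤ N ∨ B ≤ N) := by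
  exact kegel_aux _ G rfl A B hA hB hAB hproper

end Cfsg.Agent.S0565
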