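import Mathlib
import Cfsg.Statements.S0597
import Cfsg.Agent.S2820
import Cfsg.Agent.Lib.Helper9.Subnormal

set_option autoImplicit false
open Cfsg
open scoped commutatorElement

namespace Cfsg.Agent.S0597

theorem conj_mem_comm {G : Type*} [Group G] (A B : Subgroup G) (x : G) (hx : x ∈ A) :
    ∀ h ∈ (⁅A, B⁆ : Subgroup G), x * h * x⁻¹ ∈ (⁅A, B⁆ : Subgroup G) := by
  have key : (⁅A, B⁆ : Subgroup G) ≤ (⁅A, B⁆ : Subgroup G).comap (MulAut.conj x).toMonoidHom := by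
    rw [Subgroup.commutator_le]
    intro a ha b hb
    rw [Subgroup.mem_comap]
    have e : (MulAut.conj x).toMonoidHom ⁅a, b⁆ = ⁅x * a, b⁆ * ⁅x, b⁆⁻¹ := by
      simp only [MulEquiv.coe_toMonoidHom, MulAut.conj_apply, commutatorElement_def]
      group
    rw [e]
    exact Subgroup.mul_mem _ (Subgroup.commutator_mem_commutator (A.mul_mem hx ha) hb)
      (Subgroup.inv_mem _ (Subgroup.commutator_mem_commutator hx hb))
  intro h hh
  have h2 := key hh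
  simpa [Subgroup.mem_comap] using h2

theorem left_le_normalizer {G : Type*} [Group G] (A B : Subgroup G) :
    A ≤ Subgroup.normalizer ((⁅A, B⁆ : Subgroup G) : Set G) := by
  intro x hx
  rw [Subgroup.mem_normalizer_iff]
  intro h
  constructor
  · exact conj_mem_comm A B x hx h
  · intro hh
    have h2 := conj_mem_comm A B x⁻¹ (A.inv_mem hx) _ hh
    have e : x⁻¹ * (x * h * x⁻¹) * x⁻¹⁻¹ = h := by group
    rw [e] at h2
    exact h2

/-- the subgroup of elements normalizing `W` and acting trivially on `V` modulo `W`. -/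
def stabSub {G : Type*} [Group G] (V W : Subgroup G) : Subgroup G where
  carrier := {g | g ∈ Subgroup.normalizer (W : Set G) ∧ ∀ v ∈ V, ⁅v, g⁆ ∈ W}
  one_mem' := ⟨Subgroup.one_mem _, fun v _ => by
    have : ⁅v, (1 : G)⁆ = 1 := by rw [commutatorElement_def]; group
    rw [this]; exact W.one_mem⟩
  mul_mem' := by
    rintro g h ⟨hg, hg'⟩ ⟨hh, hh'⟩
    refine ⟨Subgroup.mul_mem _ hg hh, fun v hv => ?_⟩
    have e : ⁅v, g * h⁆ = ⁅v, g⁆ * (g * ⁅v, h⁆ * g⁻¹) := by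
      simp only [commutatorElement_def]; group
    rw [e]
    exact W.mul_mem (hg' v hv) ((Subgroup.mem_normalizer_iff.mp hg _).mp (hh' v hv))
  inv_mem' := by
    rintro g ⟨hg, hg'⟩
    refine ⟨Subgroup.inv_mem _ hg, fun v hv => ?_⟩
    have e : ⁅v, g⁻¹⁆ = g⁻¹ * ⁅v, g⁆⁻¹ * g⁻¹⁻¹ := by
      simp only [commutatorElement_def]; group
    rw [e]
    exact (Subgroup.mem_normalizer_iff.mp (Subgroup.inv_mem _ hg) _).mp (W.inv_mem (hg' v hv))

theorem mem_stabSub {G : Type*} [Group G] (V W : Subgroup G) (g : G) :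
    g ∈ stabSub V W ↔ g ∈ Subgroup.normalizer (W : Set G) ∧ ∀ v ∈ V, ⁅v, g⁆ ∈ W := Iff.rfl

theorem pow_eq_one_comm {G : Type*} [Group G] {p : ℕ} (V H : Subgroup G)
    (hV : Cfsg.IsElementaryAbelian p V) (hHV : H ≤ Subgroup.normalizer (V : Set G))
    (hf : H ⊓ Subgroup.centralizer (V : Set G) = ⊥) (E₁ E₂ : Subgroup G) (h₁ : E₁ ≤ H)
    (h₂ : E₂ ≤ H) (hc : ⁅⁅V, E₁⁆, E₂⁆ = ⊥) : ∀ d ∈ (⁅E₁, E₂⁆ : Subgroup G), d ^ p = 1 := by
  have hVc : ∀ h ∈ H, ∀ v ∈ V, h * v * h⁻¹ ∈ V := fun h hh v hv =>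
    (Subgroup.mem_normalizer_iff.mp (hHV hh) v).mp hv
  have hWV : (⁅V, E₁⁆ : Subgroup G) ≤ V := by
    rw [Subgroup.commutator_le]
    intro v hv e he
    have e1 : ⁅v, e⁆ = v * (e * v⁻¹ * e⁻¹) := by rw [commutatorElement_def]; group
    rw [e1]
    exact V.mul_mem hv (hVc e (h₁ he) _ (V.inv_mem hv))
  -- E₁ normalizes W (conj)
  have hE₁W : ∀ e ∈ E₁, ∀ w ∈ (⁅V, E₁⁆ : Subgroup G), e * w * e⁻¹ ∈ (⁅V, E₁⁆ : Subgroup G) := by
    intro e he
    have key : (⁅V, E₁⁆ : Subgroup G) ≤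
        (⁅V, E₁⁆ : Subgroup G).comap (MulAut.conj e).toMonoidHom := by
      rw [Subgroup.commutator_le]
      intro v hv f hf'
      rw [Subgroup.mem_comap]
      have e1 : (MulAut.conj e).toMonoidHom ⁅v, f⁆ = ⁅e * v * e⁻¹, e * f * e⁻¹⁆ := by
        simp only [MulEquiv.coe_toMonoidHom, MulAut.conj_apply, commutatorElement_def]
        group
      rw [e1]
      exact Subgroup.commutator_mem_commutator (hVc e (h₁ he) v hv)
        (E₁.mul_mem (E₁.mul_mem he hf') (E₁.inv_mem he))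
    intro w hw
    have h2 := key hw
    simpa [Subgroup.mem_comap] using h2
  have hE₁N : E₁ ≤ Subgroup.normalizer ((⁅V, E₁⁆ : Subgroup G) : Set G) := by
    intro x hx
    rw [Subgroup.mem_normalizer_iff]
    intro h
    constructor
    · exact hE₁W x hx h
    · intro hh
      have h2 := hE₁W x⁻¹ (E₁.inv_mem hx) _ hh
      have e : x⁻¹ * (x * h * x⁻¹) * x⁻¹⁻¹ = h := by group
      rw [e] at h2
      exact h2
  -- E₂ centralizes W
  have hE₂W : ∀ e ∈ E₂, ∀ w ∈ (⁅V, E₁⁆ : Subgroup G), e * w = w * e := by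
    intro e he w hw
    have h := Subgroup.commutator_eq_bot_iff_le_centralizer.mp hc hw
    exact (Subgroup.mem_centralizer_iff.mp h e he)
  have hE₂C : E₂ ≤ Subgroup.centralizer ((⁅V, E₁⁆ : Subgroup G) : Set G) := by
    intro e he
    rw [Subgroup.mem_centralizer_iff]
    intro w hw
    exact (hE₂W e he w hw).symm
  have hE₂N : E₂ ≤ Subgroup.normalizer ((⁅V, E₁⁆ : Subgroup G) : Set G) :=
    hE₂C.trans (Subgroup.centralizer_le_normalizer _)
  have hE₁K : E₁ ≤ stabSub V ⁅V, E₁⁆ := by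
    intro e he
    exact ⟨hE₁N he, fun v hv => Subgroup.commutator_mem_commutator hv he⟩
  have hDK : (⁅E₁, E₂⁆ : Subgroup G) ≤ stabSub V ⁅V, E₁⁆ ⊓
      Subgroup.centralizer ((⁅V, E₁⁆ : Subgroup G) : Set G) := by
    rw [Subgroup.commutator_le]
    intro e₁ he₁ e₂ he₂
    have e0 : ⁅e₁, e₂⁆ = e₁ * (e₂ * e₁⁻¹ * e₂⁻¹) := by rw [commutatorElement_def]; group
    have hconjK : e₂ * e₁⁻¹ * e₂⁻¹ ∈ stabSub V ⁅V, E₁⁆ := by
      refine ⟨Subgroup.mul_mem _ (Subgroup.mul_mem _ (hE₂N he₂)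
        (Subgroup.inv_mem _ (hE₁N he₁))) (Subgroup.inv_mem _ (hE₂N he₂)), fun v hv => ?_⟩
      have hv' : e₂⁻¹ * v * e₂ ∈ V := by
        have := hVc e₂⁻¹ (H.inv_mem (h₂ he₂)) v hv
        simpa using this
      have hw : ⁅e₂⁻¹ * v * e₂, e₁⁻¹⁆ ∈ (⁅V, E₁⁆ : Subgroup G) :=
        Subgroup.commutator_mem_commutator hv' (E₁.inv_mem he₁)
      have e1 : ⁅v, e₂ * e₁⁻¹ * e₂⁻¹⁆ = e₂ * ⁅e₂⁻¹ * v * e₂, e₁⁻¹⁆ * e₂⁻¹ := by
        simp only [commutatorElement_def]; group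
      rw [e1, hE₂W e₂ he₂ _ hw, mul_assoc, mul_inv_cancel, mul_one]
      exact hw
    have hconjC : e₁ * e₂ * e₁⁻¹ ∈ Subgroup.centralizer ((⁅V, E₁⁆ : Subgroup G) : Set G) := by
      rw [Subgroup.mem_centralizer_iff]
      intro w hw
      have hw2 : e₁⁻¹ * w * e₁ ∈ (⁅V, E₁⁆ : Subgroup G) := by
        have := hE₁W e₁⁻¹ (E₁.inv_mem he₁) w hw
        simpa using this
      have c2 : e₂ * (e₁⁻¹ * w * e₁) = (e₁⁻¹ * w * e₁) * e₂ := hE₂W e₂ he₂ _ hw2
      calc w * (e₁ * e₂ * e₁⁻¹) = e₁ * ((e₁⁻¹ * w * e₁) * e₂) * e₁⁻¹ := by group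
        _ = e₁ * (e₂ * (e₁⁻¹ * w * e₁)) * e₁⁻¹ := by rw [c2]
        _ = e₁ * e₂ * e₁⁻¹ * w := by group
    refine ⟨?_, ?_⟩
    · rw [e0]
      exact Subgroup.mul_mem _ (hE₁K he₁) hconjK
    · rw [commutatorElement_def]
      exact Subgroup.mul_mem _ hconjC (Subgroup.inv_mem _ (hE₂C he₂))
  intro d hd
  have hdK := (hDK hd).1
  have hdC := (hDK hd).2
  have hdH : d ∈ H := by
    have hle : (⁅E₁, E₂⁆ : Subgroup G) ≤ H := by
      rw [Subgroup.commutator_le]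
      intro a ha b hb
      rw [commutatorElement_def]
      exact H.mul_mem (H.mul_mem (H.mul_mem (h₁ ha) (h₂ hb)) (H.inv_mem (h₁ ha)))
        (H.inv_mem (h₂ hb))
    exact hle hd
  have hcen : d ^ p ∈ Subgroup.centralizer (V : Set G) := by
    rw [Subgroup.mem_centralizer_iff]
    intro v hv
    have hw : ⁅v⁻¹, d⁆ ∈ (⁅V, E₁⁆ : Subgroup G) := hdK.2 _ (V.inv_mem hv)
    have hcomm : Commute d ⁅v⁻¹, d⁆ := by
      have := Subgroup.mem_centralizer_iff.mp hdC _ hw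
      exact this.symm
    have e1 : d * v = v * ⁅v⁻¹, d⁆ * d := by rw [commutatorElement_def]; group
    have hk : ∀ k : ℕ, d ^ k * v = v * ⁅v⁻¹, d⁆ ^ k * d ^ k := by
      intro k
      induction k with
      | zero => simp
      | succ k ih =>
        calc d ^ (k + 1) * v = d * (d ^ k * v) := by rw [pow_succ', mul_assoc]
          _ = d * (v * ⁅v⁻¹, d⁆ ^ k * d ^ k) := by rw [ih]
          _ = (d * v) * ⁅v⁻¹, d⁆ ^ k * d ^ k := by simp only [mul_assoc]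
          _ = v * ⁅v⁻¹, d⁆ * (d * ⁅v⁻¹, d⁆ ^ k) * d ^ k := by rw [e1]; simp only [mul_assoc]
          _ = v * ⁅v⁻¹, d⁆ * (⁅v⁻¹, d⁆ ^ k * d) * d ^ k := by rw [(hcomm.pow_right k).eq]
          _ = v * ⁅v⁻¹, d⁆ ^ (k + 1) * d ^ (k + 1) := by
            rw [pow_succ' _ k, pow_succ' d k]; simp only [mul_assoc]
    have hwp : ⁅v⁻¹, d⁆ ^ p = 1 := hV.2 _ (hWV hw)
    have h3 := hk p
    rw [hwp, mul_one] at h3
    exact h3.symm
  have h4 : d ^ p ∈ H ⊓ Subgroup.centralizer (V : Set G) := ⟨H.pow_mem hdH p, hcen⟩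
  rw [hf] at h4
  exact Subgroup.mem_bot.mp h4

/-- If two subnormal subgroups of a faithful group on an elementary abelian p-group satisfy [V, E₁, E₂] = 1, then their commutator lies in the largest normal p-subgroup. -/
theorem result {G : Type*} [Group G] [Finite G] {p : ℕ} [Fact p.Prime] (V H : Subgroup G) (hV : Cfsg.IsElementaryAbelian p V) (hHV : H ≤ Subgroup.normalizer (V : Set G)) (hf : H ⊓ Subgroup.centralizer (V : Set G) = ⊥) (E₁ E₂ : Subgroup G) (h₁ : E₁ ≤ H) (h₂ : E₂ ≤ H) (hs₁ : (E₁.subgroupOf H).IsSubnormal) (hs₂ : (E₂.subgroupOf H).IsSubnormal) (hc : ⁅⁅V, E₁⁆, E₂⁆ = ⊥) : ⁅E₁, E₂⁆ ≤ (Cfsg.pCore p H).map H.subtype := by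
  have hpow := pow_eq_one_comm V H hV hHV hf E₁ E₂ h₁ h₂ hc
  have hsub : (E₁.subgroupOf H ⊔ E₂.subgroupOf H).IsSubnormal :=
    Cfsg.Agent.Lib.Helper9.isSubnormal_sup _ _ hs₁ hs₂
  have hle : (⁅E₁.subgroupOf H, E₂.subgroupOf H⁆ : Subgroup ↥H) ≤
      E₁.subgroupOf H ⊔ E₂.subgroupOf H := by
    rw [Subgroup.commutator_le]
    intro a ha b hb
    rw [commutatorElement_def]
    have ha' : a ∈ E₁.subgroupOf H ⊔ E₂.subgroupOf H := Subgroup.mem_sup_left ha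
    have hb' : b ∈ E₁.subgroupOf H ⊔ E₂.subgroupOf H := Subgroup.mem_sup_right hb
    exact Subgroup.mul_mem _ (Subgroup.mul_mem _ (Subgroup.mul_mem _ ha' hb')
      (Subgroup.inv_mem _ ha')) (Subgroup.inv_mem _ hb')
  have hnorm : E₁.subgroupOf H ⊔ E₂.subgroupOf H ≤
      Subgroup.normalizer ((⁅E₁.subgroupOf H, E₂.subgroupOf H⁆ : Subgroup ↥H) : Set ↥H) := by
    refine sup_le (left_le_normalizer _ _) ?_
    rw [Subgroup.commutator_comm]
    exact left_le_normalizer _ _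
  haveI : ((⁅E₁.subgroupOf H, E₂.subgroupOf H⁆ : Subgroup ↥H).subgroupOf
      (E₁.subgroupOf H ⊔ E₂.subgroupOf H)).Normal :=
    (Subgroup.normal_subgroupOf_iff_le_normalizer hle).mpr hnorm
  have hD : (⁅E₁.subgroupOf H, E₂.subgroupOf H⁆ : Subgroup ↥H).IsSubnormal :=
    Subgroup.IsSubnormal.trans hle (Subgroup.Normal.isSubnormal inferInstance) hsub
  have hmap : (⁅E₁.subgroupOf H, E₂.subgroupOf H⁆ : Subgroup ↥H).map H.subtype = ⁅E₁, E₂⁆ := by
    rw [Subgroup.map_commutator, Subgroup.map_subgroupOf_eq_of_le h₁,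
      Subgroup.map_subgroupOf_eq_of_le h₂]
  have hDp : IsPGroup p ↥(⁅E₁.subgroupOf H, E₂.subgroupOf H⁆ : Subgroup ↥H) := by
    intro d
    refine ⟨1, ?_⟩
    have hd : ((d : ↥H) : G) ∈ (⁅E₁, E₂⁆ : Subgroup G) := by
      rw [← hmap]
      exact Subgroup.mem_map_of_mem _ d.2
    have h5 := hpow _ hd
    apply Subtype.ext
    apply Subtype.ext
    simpa using h5
  have hncl := Cfsg.Agent.S2820.normalClosure_isPGroup _ hD hDp
  have hle2 : (⁅E₁.subgroupOf H, E₂.subgroupOf H⁆ : Subgroup ↥H) ≤ Cfsg.pCore p ↥H :=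
    (Subgroup.le_normalClosure (H := ⁅E₁.subgroupOf H, E₂.subgroupOf H⁆)).trans
      (le_sSup (show Subgroup.normalClosure
        (((⁅E₁.subgroupOf H, E₂.subgroupOf H⁆ : Subgroup ↥H) : Set ↥H)) ∈
          {N : Subgroup ↥H | N.Normal ∧ IsPGroup p N} from
        ⟨Subgroup.normalClosure_normal, hncl⟩))
  rw [← hmap]
  exact Subgroup.map_mono hle2

end Cfsg.Agent.S0597
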