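import Mathlib
import Cfsg.Statements.S0609
import Cfsg.Agent.Lib.Helper3.GT6
import Cfsg.Agent.Lib.Helper3.Stable
import Cfsg.Agent.Lib.Helper1.Local2
import Cfsg.Agent.Lib.Helper1.PCore2

set_option autoImplicit false
open Cfsg

namespace Cfsg.Agent.S0609

open Cfsg.Agent.Lib.Helper3

universe u

theorem key {G : Type u} [Group G] [Finite G] {p : ℕ} [Fact p.Prime] (S : Sylow p G) :
    Subgroup.centralizer (omegaOne p (((S : Subgroup G).map (QuotientGroup.mk' (pPrimeCore p G))) ⊓
        Subgroup.centralizer ((((S : Subgroup G).map (QuotientGroup.mk' (pPrimeCore p G)) :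
          Subgroup (G ⧸ pPrimeCore p G))) : Set (G ⧸ pPrimeCore p G))) : Set (G ⧸ pPrimeCore p G))
      = (Subgroup.centralizer (omegaOne p ((S : Subgroup G) ⊓
          Subgroup.centralizer ((S : Subgroup G) : Set G)) : Set G)).map
          (QuotientGroup.mk' (pPrimeCore p G)) ∧
    Subgroup.normalizer (thompsonSubgroupOf p ((S : Subgroup G).map
        (QuotientGroup.mk' (pPrimeCore p G))) : Set (G ⧸ pPrimeCore p G))
      = (Subgroup.normalizer (thompsonSubgroupOf p (S : Subgroup G) : Set G)).map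
          (QuotientGroup.mk' (pPrimeCore p G)) := by
  have hOc : (Nat.card (pPrimeCore p G)).Coprime p := Cfsg.Agent.Lib.Helper7.pPrimeCore_coprime p G
  have hSp : IsPGroup p (S : Subgroup G) := S.isPGroup'
  have hker : (S : Subgroup G) ⊓ (QuotientGroup.mk' (pPrimeCore p G)).ker = ⊥ := by
    rw [QuotientGroup.ker_mk']; exact inf_eq_bot_of_coprime' hSp hOc
  have hZ : ((S : Subgroup G).map (QuotientGroup.mk' (pPrimeCore p G))) ⊓
      Subgroup.centralizer ((((S : Subgroup G).map (QuotientGroup.mk' (pPrimeCore p G)) :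
          Subgroup (G ⧸ pPrimeCore p G))) : Set (G ⧸ pPrimeCore p G))
      = ((S : Subgroup G) ⊓ Subgroup.centralizer ((S : Subgroup G) : Set G)).map
          (QuotientGroup.mk' (pPrimeCore p G)) := by
    ext y
    constructor
    · rintro ⟨⟨x, hx, rfl⟩, hy2⟩
      refine ⟨x, ⟨hx, ?_⟩, rfl⟩
      refine Subgroup.mem_centralizer_iff.mpr ?_
      intro s hs
      apply eq_of_map_eq_of_inf_ker hker ((S : Subgroup G).mul_mem hs hx)
        ((S : Subgroup G).mul_mem hx hs)
      rw [map_mul, map_mul]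
      exact Subgroup.mem_centralizer_iff.mp hy2 _ ⟨s, hs, rfl⟩
    · rintro ⟨x, ⟨hx1, hx2⟩, rfl⟩
      refine ⟨⟨x, hx1, rfl⟩, Subgroup.mem_centralizer_iff.mpr ?_⟩
      rintro _ ⟨s, hs, rfl⟩
      rw [← map_mul, ← map_mul, Subgroup.mem_centralizer_iff.mp hx2 s hs]
  have hZk : ((S : Subgroup G) ⊓ Subgroup.centralizer ((S : Subgroup G) : Set G)) ⊓
      (QuotientGroup.mk' (pPrimeCore p G)).ker = ⊥ := by
    rw [eq_bot_iff, ← hker]; exact inf_le_inf_right _ inf_le_left
  constructor
  · rw [hZ, omegaOne_map_gen p hZk]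
    have hAS : omegaOne p ((S : Subgroup G) ⊓ Subgroup.centralizer ((S : Subgroup G) : Set G)) ≤
        (S : Subgroup G) := (omegaOne_le' p _).trans inf_le_left
    have hAp : IsPGroup p ↥(omegaOne p ((S : Subgroup G) ⊓
        Subgroup.centralizer ((S : Subgroup G) : Set G))) := hSp.to_le hAS
    have hcop : (Nat.card ↥(omegaOne p ((S : Subgroup G) ⊓
        Subgroup.centralizer ((S : Subgroup G) : Set G)))).Coprime
        (Nat.card (pPrimeCore p G)) := by
      obtain ⟨k, hk⟩ := IsPGroup.iff_card.mp hAp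
      rw [hk]
      exact Nat.Coprime.pow_left k hOc.symm
    apply le_antisymm
    · exact Cfsg.Agent.Lib.Helper1.centralizer_map_mk_le _ _ hcop
        (Cfsg.Agent.Lib.Helper1.isSolvable_of_isPGroup hAp)
    · rintro _ ⟨c, hc, rfl⟩
      refine Subgroup.mem_centralizer_iff.mpr ?_
      rintro _ ⟨a, ha, rfl⟩
      rw [← map_mul, ← map_mul, Subgroup.mem_centralizer_iff.mp hc a ha]
  · rw [thompsonSubgroupOf_map_gen p hker]
    have hJp : IsPGroup p ↥(thompsonSubgroupOf p (S : Subgroup G)) :=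
      hSp.to_le (thompsonSubgroupOf_le' p _)
    apply le_antisymm
    · intro y hy
      obtain ⟨n, hn⟩ := normMap_surj (pPrimeCore p G) hOc _ hJp _ rfl y hy
      exact ⟨n, n.2, hn⟩
    · exact Subgroup.le_normalizer_map _

/-- Thompson factorizability passes to and from the quotient by the largest normal subgroup of order prime to p. -/
theorem result {G : Type*} [Group G] [Finite G] {p : ℕ} [Fact p.Prime] : Cfsg.IsThompsonFactorizable p G ↔ Cfsg.IsThompsonFactorizable p (G ⧸ Cfsg.pPrimeCore p G) := by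
  have hbot : pPrimeCore p (G ⧸ pPrimeCore p G) = ⊥ :=
    Cfsg.Agent.Lib.Helper1.pPrimeCore_quotient_eq_bot p G
  have hπs : Function.Surjective (QuotientGroup.mk' (pPrimeCore p G)) :=
    QuotientGroup.mk'_surjective _
  constructor
  · intro h Sb gb
    obtain ⟨S, rfl⟩ := Sylow.mapSurjective_surjective hπs p Sb
    obtain ⟨g, rfl⟩ := hπs gb
    obtain ⟨x, hx, c, hc, n, hn, hg⟩ := h S g
    obtain ⟨k1, k2⟩ := key S
    refine ⟨1, Subgroup.one_mem _, QuotientGroup.mk' _ c, ?_, QuotientGroup.mk' _ n, ?_, ?_⟩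
    · rw [Sylow.coe_mapSurjective, k1]; exact Subgroup.mem_map_of_mem _ hc
    · rw [Sylow.coe_mapSurjective, k2]; exact Subgroup.mem_map_of_mem _ hn
    · have hx1 : QuotientGroup.mk' (pPrimeCore p G) x = 1 := (QuotientGroup.eq_one_iff x).mpr hx
      rw [hg, map_mul, map_mul, hx1]
  · intro h S g
    obtain ⟨x, hx, c, hc, n, hn, hg⟩ := h (S.mapSurjective hπs) (QuotientGroup.mk' _ g)
    obtain ⟨k1, k2⟩ := key S
    rw [Sylow.coe_mapSurjective, k1] at hc
    rw [Sylow.coe_mapSurjective, k2] at hn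
    obtain ⟨c', hc', rfl⟩ := hc
    obtain ⟨n', hn', rfl⟩ := hn
    rw [hbot, Subgroup.mem_bot] at hx
    rw [hx, one_mul, ← map_mul] at hg
    refine ⟨g * (c' * n')⁻¹, ?_, c', hc', n', hn', by group⟩
    rw [← QuotientGroup.eq_one_iff]
    have h1 : QuotientGroup.mk' (pPrimeCore p G) (g * (c' * n')⁻¹) = 1 := by
      rw [map_mul, map_inv, hg, mul_inv_cancel]
    exact h1

end Cfsg.Agent.S0609
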