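import Mathlib
import Cfsg.Statements.S2804
import Cfsg.Agent.S2820
import Cfsg.Agent.S2961
import Cfsg.Agent.Lib.Helper6.PResidual
import Cfsg.Agent.Lib.Helper6.PReduced
import Cfsg.Agent.Lib.Helper7.PCore
import Cfsg.Agent.Lib.Helper7.Coprime2

set_option autoImplicit false
open Cfsg
open scoped commutatorElement

namespace Cfsg.Agent.S2804

/-- a subnormal subgroup acting as a `p`-group on a `p`-reduced normal subgroup centralizes it -/
theorem le_centralizer_of_subnormal {L : Type*} [Group L] [Finite L] {p : ℕ} [Fact p.Prime]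
    {V : Subgroup L} (hV : IsPReducedNormal p V) (N : Subgroup L) (hN : N.IsSubnormal)
    (hp : ∀ n ∈ N, ∃ k : ℕ, n ^ (p ^ k) ∈ Subgroup.centralizer (V : Set L)) :
    N ≤ Subgroup.centralizer (V : Set L) := by
  obtain ⟨_, _, hn, hcore⟩ := hV
  have h1 : (N.map (QuotientGroup.mk' (Subgroup.centralizer (V : Set L)))).IsSubnormal :=
    Subgroup.IsSubnormal.map (QuotientGroup.mk'_surjective _) hN
  have h2 : IsPGroup p ↥(N.map (QuotientGroup.mk' (Subgroup.centralizer (V : Set L)))) := by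
    rintro ⟨_, ⟨n, hnN, rfl⟩⟩
    obtain ⟨k, hk⟩ := hp n hnN
    refine ⟨k, ?_⟩
    ext
    simp only [Subgroup.coe_pow, Subgroup.coe_one, QuotientGroup.mk'_apply]
    rw [← QuotientGroup.mk_pow]
    exact (QuotientGroup.eq_one_iff _).2 hk
  have h3 := Cfsg.Agent.S2820.normalClosure_isPGroup _ h1 h2
  have h4 : Subgroup.normalClosure
      ((N.map (QuotientGroup.mk' (Subgroup.centralizer (V : Set L))) : Subgroup _) : Set _) ≤
      pCore p (L ⧸ Subgroup.centralizer (V : Set L)) :=
    Cfsg.Agent.Lib.Helper7.le_pCore Subgroup.normalClosure_normal h3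
  rw [hcore] at h4
  intro n hnN
  have h5 : (QuotientGroup.mk' (Subgroup.centralizer (V : Set L))) n ∈
      (⊥ : Subgroup (L ⧸ Subgroup.centralizer (V : Set L))) :=
    h4 (Subgroup.le_normalClosure ⟨n, hnN, rfl⟩)
  rw [Subgroup.mem_bot] at h5
  exact (QuotientGroup.eq_one_iff _).1 h5

/-- Let L be a finite group and p a prime with C_L(O_p(L)) ≤ O_p(L), V a p-reduced normal subgroup of L and K a subnormal subgroup of L. Then [V, O^p(K)] is contained in K and is a p-reduced normal subgroup of K, where O^p(K) is the subgroup of K generated by its elements of order prime to p. -/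
theorem result {L : Type*} [Group L] [Finite L] {p : ℕ} [Fact p.Prime] (hchar : Subgroup.centralizer (Cfsg.pCore p L : Set L) ≤ Cfsg.pCore p L) (V : Subgroup L) (hV : Cfsg.IsPReducedNormal p V) (K : Subgroup L) (hK : K.IsSubnormal) : ⁅V, (Cfsg.pResidual p ↥K).map K.subtype⁆ ≤ K ∧ Cfsg.IsPReducedNormal p ((⁅V, (Cfsg.pResidual p ↥K).map K.subtype⁆).subgroupOf K) := by
  obtain ⟨R, hR⟩ : ∃ R : Subgroup L, R = (pResidual p ↥K).map K.subtype := ⟨_, rfl⟩
  rw [← hR]
  have hRop : R = Cfsg.Agent.S2820.opIn p K := by rw [hR]; exact Cfsg.Agent.S2820.opIn_eq p K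
  have hRK : R ≤ K := by rw [hR]; exact Subgroup.map_subtype_le _
  have hVn : V.Normal := hV.1
  have hVtop : ∀ Z : Subgroup L, Z ≤ Subgroup.normalizer (V : Set L) := by
    intro Z; rw [Subgroup.normalizer_eq_top_iff.mpr hVn]; exact le_top
  have hVp : IsPGroup p ↥V := by
    rintro ⟨v, hv⟩
    refine ⟨1, ?_⟩
    apply Subtype.ext
    simpa using hV.2.1.2 v hv
  have hRsn : R.IsSubnormal := by
    rw [hR]
    exact (Cfsg.Agent.Lib.Helper6.pres_normal p ↥K).isSubnormal.trans' hK
  have hRres : (pResidual p ↥R).map R.subtype = R := by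
    rw [Cfsg.Agent.S2820.opIn_eq]
    apply le_antisymm (Cfsg.Agent.S2820.opIn_le p R)
    have h1 : Cfsg.Agent.S2820.opIn p K ≤ Cfsg.Agent.S2820.opIn p R := by
      show Subgroup.closure _ ≤ _
      rw [Subgroup.closure_le]
      intro x hx
      apply Subgroup.subset_closure
      refine ⟨?_, hx.2⟩
      rw [hRop]; exact Subgroup.subset_closure hx
    exact (le_of_eq hRop).trans h1
  have hVR : V ≤ Subgroup.normalizer (R : Set L) :=
    (Cfsg.Agent.S2820.result V R hVn.isSubnormal hRsn hVp hRres).1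
  obtain ⟨W, hW⟩ : ∃ W : Subgroup L, W = ⁅V, R⁆ := ⟨_, rfl⟩
  rw [← hW]
  have hWR : W ≤ R := by
    rw [hW, Subgroup.commutator_comm]
    exact Cfsg.Agent.Lib.Helper7.commutator_le_of_le_normalizer hVR
  have hWV : W ≤ V := by
    rw [hW]
    exact Cfsg.Agent.Lib.Helper7.commutator_le_of_le_normalizer (hVtop R)
  have hWK : W ≤ K := hWR.trans hRK
  refine ⟨hWK, ?_⟩
  have hKW : K ≤ Subgroup.normalizer (W : Set L) := by
    rw [hW]
    refine le_trans ?_ (Cfsg.Agent.Lib.Helper6.gl_normalizer_commutator V R)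
    refine le_inf (hVtop K) ?_
    rw [hRop]
    exact Subgroup.le_normalizer.trans (Cfsg.Agent.S2820.normalizer_le_normalizer_opIn p K)
  have hWn : (W.subgroupOf K).Normal :=
    (Subgroup.normal_subgroupOf_iff_le_normalizer hWK).mpr hKW
  have hWp : IsPGroup p ↥W := hVp.to_le hWV
  have hWea : IsElementaryAbelian p (W.subgroupOf K) := by
    refine ⟨?_, ?_⟩
    · rw [← Subgroup.le_centralizer_iff_isMulCommutative]
      intro a ha
      rw [Subgroup.mem_centralizer_iff]
      intro b hb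
      have hcomm := hV.2.1.1
      apply Subtype.ext
      have h1 := hcomm.is_comm.comm ⟨(b : L), hWV hb⟩ ⟨(a : L), hWV ha⟩
      have h2 : (b : L) * (a : L) = (a : L) * (b : L) := congrArg Subtype.val h1
      exact h2
    · intro a ha
      apply Subtype.ext
      have h1 := hV.2.1.2 (a : L) (hWV ha)
      simpa using h1
  have hCn : (Subgroup.centralizer ((W.subgroupOf K : Subgroup ↥K) : Set ↥K)).Normal := by
    haveI := hWn; exact Subgroup.normal_centralizer
  refine ⟨hWn, hWea, hCn, ?_⟩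
  rw [eq_bot_iff]
  intro x hx
  rw [Subgroup.mem_bot]
  obtain ⟨d, rfl⟩ := QuotientGroup.mk'_surjective _ x
  obtain ⟨D, hD⟩ : ∃ D : Subgroup ↥K, D = (pCore p
      (↥K ⧸ Subgroup.centralizer ((W.subgroupOf K : Subgroup ↥K) : Set ↥K))).comap
        (QuotientGroup.mk' _) := ⟨_, rfl⟩
  have hdD : d ∈ D := by rw [hD]; exact hx
  have hDn : D.Normal := by
    rw [hD]; exact (Cfsg.Agent.Lib.Helper7.pCore_normal p _).comap _
  have hDp : ∀ d ∈ D, ∃ k : ℕ, d ^ (p ^ k) ∈
      Subgroup.centralizer ((W.subgroupOf K : Subgroup ↥K) : Set ↥K) := by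
    intro d hd
    rw [hD] at hd
    obtain ⟨k, hk⟩ := (Cfsg.Agent.Lib.Helper7.pCore_isPGroup p _) ⟨_, hd⟩
    refine ⟨k, ?_⟩
    rw [← QuotientGroup.eq_one_iff]
    have h1 := congrArg Subtype.val hk
    simpa using h1
  have hD'sn : (D.map K.subtype).IsSubnormal := hDn.isSubnormal.trans' hK
  have hop : Cfsg.Agent.S2820.opIn p (D.map K.subtype) ≤ Subgroup.centralizer (V : Set L) := by
    show Subgroup.closure _ ≤ _
    rw [Subgroup.closure_le]
    rintro _ ⟨⟨yK, hyD, rfl⟩, hyo⟩
    have hyo' : (orderOf (yK : L)).Coprime p := hyo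
    obtain ⟨j, hj⟩ := hDp yK hyD
    have hco : (p ^ j).Coprime (orderOf yK) := by
      rw [← Subgroup.orderOf_coe]
      exact Nat.Coprime.pow_left j hyo'.symm
    obtain ⟨c, hc⟩ := exists_pow_eq_self_of_coprime hco
    have hyC : yK ∈ Subgroup.centralizer ((W.subgroupOf K : Subgroup ↥K) : Set ↥K) := by
      rw [← hc]; exact Subgroup.pow_mem _ hj c
    have hyW : ∀ w ∈ W, (yK : L) * w = w * (yK : L) := by
      intro w hw
      have h1 := Subgroup.mem_centralizer_iff.mp hyC ⟨w, hWK hw⟩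
        (by rw [SetLike.mem_coe, Subgroup.mem_subgroupOf]; exact hw)
      exact (congrArg Subtype.val h1).symm
    have hyR : (yK : L) ∈ R := by
      rw [hRop]
      exact Subgroup.subset_closure ⟨yK.2, hyo'⟩
    show (yK : L) ∈ Subgroup.centralizer (V : Set L)
    rw [Subgroup.mem_centralizer_iff]
    intro v hv
    have hr : (yK : L) * v * (yK : L)⁻¹ * v⁻¹ ∈ W := by
      have h1 : ⁅(yK : L), v⁆ ∈ ⁅R, V⁆ := Subgroup.commutator_mem_commutator hyR hv
      rw [Subgroup.commutator_comm, ← hW, commutatorElement_def] at h1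
      exact h1
    exact (Cfsg.Agent.S2961.coprime_stab W hWp (yK : L) v hyo' hyW hr).symm
  have hD'p : ∀ n ∈ D.map K.subtype, ∃ k : ℕ, n ^ (p ^ k) ∈ Subgroup.centralizer (V : Set L) := by
    intro n hn
    obtain ⟨k, hk⟩ := Cfsg.Agent.S2820.pow_mem_opIn p (D.map K.subtype) hn
    exact ⟨k, hop hk⟩
  have hD'C := le_centralizer_of_subnormal hV _ hD'sn hD'p
  apply (QuotientGroup.eq_one_iff _).2
  rw [Subgroup.mem_centralizer_iff]
  intro w hw
  apply Subtype.ext
  have hw' : (w : L) ∈ W := by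
    rw [SetLike.mem_coe, Subgroup.mem_subgroupOf] at hw; exact hw
  exact Subgroup.mem_centralizer_iff.mp (hD'C ⟨d, hdD, rfl⟩) (w : L) (hWV hw')

end Cfsg.Agent.S2804
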