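import Mathlib
import Cfsg.Statements.S2825
import Cfsg.Agent.S1900
import Cfsg.Agent.S2804
import Cfsg.Agent.S2820
import Cfsg.Agent.S2961
import Cfsg.Agent.Lib.Helper1.Layer
import Cfsg.Agent.Lib.Helper6.PResidual
import Cfsg.Agent.Lib.Helper6.PReduced
import Cfsg.Agent.Lib.Helper6.PReduced2
import Cfsg.Agent.Lib.Helper7.PCore
import Cfsg.Agent.Lib.Helper7.Coprime2

set_option autoImplicit false
open Cfsg
open scoped commutatorElement

namespace Cfsg.Agent.S2825

universe u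

/-- criterion for being `p`-reduced -/
theorem crit {G : Type*} [Group G] [Finite G] {p : ℕ} [Fact p.Prime] (V : Subgroup G)
    (hVn : V.Normal) (hVe : IsElementaryAbelian p V)
    (h : ∀ D : Subgroup G, D.Normal →
      (∀ d ∈ D, ∃ k : ℕ, d ^ (p ^ k) ∈ Subgroup.centralizer (V : Set G)) →
      D ≤ Subgroup.centralizer (V : Set G)) :
    IsPReducedNormal p V := by
  have hCn : (Subgroup.centralizer (V : Set G)).Normal := by
    haveI := hVn; exact Subgroup.normal_centralizer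
  refine ⟨hVn, hVe, hCn, ?_⟩
  rw [eq_bot_iff]
  intro x hx
  rw [Subgroup.mem_bot]
  obtain ⟨d, rfl⟩ := QuotientGroup.mk'_surjective _ x
  apply (QuotientGroup.eq_one_iff _).2
  refine h ((pCore p (G ⧸ Subgroup.centralizer (V : Set G))).comap (QuotientGroup.mk' _))
    ((Cfsg.Agent.Lib.Helper7.pCore_normal p _).comap _) ?_ hx
  intro d hd
  obtain ⟨k, hk⟩ := (Cfsg.Agent.Lib.Helper7.pCore_isPGroup p _) ⟨_, hd⟩
  refine ⟨k, ?_⟩
  rw [← QuotientGroup.eq_one_iff]
  have h1 := congrArg Subtype.val hk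
  simpa using h1

/-- the largest `p`-reduced normal subgroup of a finite group is `p`-reduced -/
theorem largest_isPReduced (p : ℕ) [Fact p.Prime] (G : Type*) [Group G] [Finite G] :
    IsPReducedNormal p (largestPReduced p G) := by
  have hle : largestPReduced p G ≤
      omegaOne p (pCore p G ⊓ Subgroup.centralizer (pCore p G : Set G)) := by
    apply sSup_le
    intro V hV v hv
    apply Subgroup.subset_closure
    have h1 : V ≤ Subgroup.centralizer (pCore p G : Set G) :=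
      Subgroup.le_centralizer_iff.1 (Cfsg.Agent.Lib.Helper6.pr_pcore_le_centralizer hV)
    have hVp : IsPGroup p ↥V := by
      rintro ⟨w, hw⟩
      refine ⟨1, ?_⟩
      apply Subtype.ext
      simpa using hV.2.1.2 w hw
    have h2 : V ≤ pCore p G := Cfsg.Agent.Lib.Helper7.le_pCore hV.1 hVp
    exact ⟨Subgroup.mem_inf.2 ⟨h2 hv, h1 hv⟩, hV.2.1.2 v hv⟩
  have hmem : ∀ a ∈ largestPReduced p G, a ∈ pCore p G ∧
      a ∈ Subgroup.centralizer (pCore p G : Set G) ∧ a ^ p = 1 :=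
    fun a ha => Cfsg.Agent.Lib.Helper6.fr_omegaOne_center_mem p (pCore p G) (hle ha)
  apply crit
  · exact Cfsg.Agent.Lib.Helper6.pr_largest_normal p
  · refine ⟨?_, fun a ha => (hmem a ha).2.2⟩
    rw [← Subgroup.le_centralizer_iff_isMulCommutative]
    intro a ha
    rw [Subgroup.mem_centralizer_iff]
    intro b hb
    exact (Subgroup.mem_centralizer_iff.1 (hmem a ha).2.1) b (hmem b hb).1
  · intro D hDn hp
    rw [Subgroup.le_centralizer_iff]
    apply sSup_le
    intro V hV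
    rw [← Subgroup.le_centralizer_iff]
    apply Cfsg.Agent.Lib.Helper6.pr_le_centralizer hV D hDn
    intro n hn
    obtain ⟨k, hk⟩ := hp n hn
    exact ⟨k, Subgroup.centralizer_le
      (SetLike.coe_subset_coe.mpr (Cfsg.Agent.Lib.Helper6.pr_le_largest hV)) hk⟩

/-- transport of `p`-reducedness along an isomorphism -/
theorem isPReduced_map_equiv {G G' : Type*} [Group G] [Group G'] [Finite G'] {p : ℕ}
    [Fact p.Prime] (e : G ≃* G') {V : Subgroup G} (hV : IsPReducedNormal p V) :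
    IsPReducedNormal p (V.map e.toMonoidHom) := by
  apply crit
  · exact hV.1.map e.toMonoidHom e.surjective
  · refine ⟨?_, ?_⟩
    · rw [← Subgroup.le_centralizer_iff_isMulCommutative]
      rintro _ ⟨a, ha, rfl⟩
      rw [Subgroup.mem_centralizer_iff]
      rintro _ ⟨b, hb, rfl⟩
      show e b * e a = e a * e b
      rw [← map_mul, ← map_mul]
      have h1 := hV.2.1.1.is_comm.comm ⟨b, hb⟩ ⟨a, ha⟩
      have h2 : b * a = a * b := congrArg Subtype.val h1
      rw [h2]
    · rintro _ ⟨a, ha, rfl⟩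
      show e a ^ p = 1
      rw [← map_pow, hV.2.1.2 a ha, map_one]
  · intro D hDn hp
    have h1 : D.comap e.toMonoidHom ≤ Subgroup.centralizer (V : Set G) := by
      apply Cfsg.Agent.Lib.Helper6.pr_le_centralizer hV _ (hDn.comap _)
      intro n hn
      obtain ⟨k, hk⟩ := hp (e n) hn
      refine ⟨k, ?_⟩
      rw [Subgroup.mem_centralizer_iff] at hk ⊢
      intro v hv
      apply e.injective
      have h2 := hk (e v) ⟨v, hv, rfl⟩
      rw [map_mul, map_mul, map_pow]
      exact h2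
    intro d hd
    rw [Subgroup.mem_centralizer_iff]
    rintro _ ⟨v, hv, rfl⟩
    have h2 : e.symm d ∈ D.comap e.toMonoidHom := by
      show e (e.symm d) ∈ D
      rw [MulEquiv.apply_symm_apply]; exact hd
    have h3 := Subgroup.mem_centralizer_iff.mp (h1 h2) v hv
    have h4 := congrArg e h3
    rw [map_mul, map_mul, MulEquiv.apply_symm_apply] at h4
    exact h4

theorem largest_map_equiv {G G' : Type*} [Group G] [Group G'] [Finite G] [Finite G'] {p : ℕ}
    [Fact p.Prime] (e : G ≃* G') :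
    (largestPReduced p G).map e.toMonoidHom = largestPReduced p G' :=
  Cfsg.Agent.Lib.Helper1.map_sSup_equiv e _ _ (fun _ hN => isPReduced_map_equiv e hN)
    (fun _ hN => isPReduced_map_equiv e.symm hN)

/-- ambient form of "`A` is a `p`-reduced normal subgroup of `K`" -/
def RedIn {H : Type*} [Group H] (p : ℕ) (K A : Subgroup H) : Prop :=
  A ≤ K ∧ K ≤ Subgroup.normalizer (A : Set H) ∧ (∀ a ∈ A, ∀ b ∈ A, a * b = b * a) ∧
    (∀ a ∈ A, a ^ p = 1) ∧
    ∀ D : Subgroup H, D ≤ K → K ≤ Subgroup.normalizer (D : Set H) →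
      (∀ d ∈ D, ∃ k : ℕ, d ^ (p ^ k) ∈ Subgroup.centralizer (A : Set H)) →
      D ≤ Subgroup.centralizer (A : Set H)

theorem redIn_of {H : Type*} [Group H] {p : ℕ} (K A : Subgroup H) (hAK : A ≤ K)
    (h : IsPReducedNormal p (A.subgroupOf K)) : RedIn p K A := by
  refine ⟨hAK, ?_, ?_, ?_, ?_⟩
  · exact (Subgroup.normal_subgroupOf_iff_le_normalizer hAK).mp h.1
  · intro a ha b hb
    have h1 := h.2.1.1.is_comm.comm ⟨⟨a, hAK ha⟩, Subgroup.mem_subgroupOf.mpr ha⟩
      ⟨⟨b, hAK hb⟩, Subgroup.mem_subgroupOf.mpr hb⟩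
    have h2 : (⟨a, hAK ha⟩ : ↥K) * ⟨b, hAK hb⟩ = ⟨b, hAK hb⟩ * ⟨a, hAK ha⟩ :=
      congrArg Subtype.val h1
    exact congrArg Subtype.val h2
  · intro a ha
    have h1 := h.2.1.2 ⟨a, hAK ha⟩ (Subgroup.mem_subgroupOf.mpr ha)
    have h2 := congrArg Subtype.val h1
    simpa using h2
  · intro D hDK hKD hp
    have hN : (D.subgroupOf K).Normal :=
      (Subgroup.normal_subgroupOf_iff_le_normalizer hDK).mpr hKD
    have h1 : D.subgroupOf K ≤
        Subgroup.centralizer ((A.subgroupOf K : Subgroup ↥K) : Set ↥K) := by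
      apply Cfsg.Agent.Lib.Helper6.pr_le_centralizer h (D.subgroupOf K) hN
      intro n hn
      obtain ⟨k, hk⟩ := hp (n : H) (Subgroup.mem_subgroupOf.mp hn)
      refine ⟨k, ?_⟩
      rw [Cfsg.Agent.Lib.Helper6.gl_centralizer_subgroupOf hAK, Subgroup.mem_subgroupOf]
      simpa using hk
    intro d hd
    have h2 := h1 (show (⟨d, hDK hd⟩ : ↥K) ∈ D.subgroupOf K from Subgroup.mem_subgroupOf.mpr hd)
    rw [Cfsg.Agent.Lib.Helper6.gl_centralizer_subgroupOf hAK, Subgroup.mem_subgroupOf] at h2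
    exact h2

theorem of_redIn {H : Type*} [Group H] [Finite H] {p : ℕ} [Fact p.Prime] (K A : Subgroup H)
    (h : RedIn p K A) : IsPReducedNormal p (A.subgroupOf K) := by
  obtain ⟨hAK, hKA, hcomm, hexp, hD⟩ := h
  apply crit
  · exact (Subgroup.normal_subgroupOf_iff_le_normalizer hAK).mpr hKA
  · refine ⟨?_, ?_⟩
    · rw [← Subgroup.le_centralizer_iff_isMulCommutative]
      intro a ha
      rw [Subgroup.mem_centralizer_iff]
      intro b hb
      apply Subtype.ext
      exact hcomm (b : H) (Subgroup.mem_subgroupOf.mp hb) (a : H) (Subgroup.mem_subgroupOf.mp ha)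
    · intro a ha
      apply Subtype.ext
      have h1 := hexp (a : H) (Subgroup.mem_subgroupOf.mp ha)
      simpa using h1
  · intro D hDn hp
    rw [Cfsg.Agent.Lib.Helper6.gl_centralizer_subgroupOf hAK] at hp ⊢
    have h1 : D.map K.subtype ≤ Subgroup.centralizer (A : Set H) := by
      apply hD
      · exact Subgroup.map_subtype_le _
      · exact Cfsg.Agent.Lib.Helper6.gl_le_normalizer_map_of_normal K D hDn
      · rintro _ ⟨d, hd, rfl⟩
        obtain ⟨k, hk⟩ := hp d hd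
        refine ⟨k, ?_⟩
        rw [Subgroup.mem_subgroupOf] at hk
        simpa using hk
    intro d hd
    rw [Subgroup.mem_subgroupOf]
    exact h1 ⟨d, hd, rfl⟩

theorem redIn_largestOf {H : Type*} [Group H] [Finite H] (p : ℕ) [Fact p.Prime]
    (K : Subgroup H) : RedIn p K (largestPReducedOf p K) := by
  apply redIn_of K _ (Subgroup.map_subtype_le _)
  have h1 : (Subgroup.map K.subtype (largestPReduced p ↥K)).subgroupOf K =
      largestPReduced p ↥K :=
    Subgroup.comap_map_eq_self_of_injective K.subtype_injective _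
  rw [h1]
  exact largest_isPReduced p ↥K

theorem le_largestOf {H : Type*} [Group H] [Finite H] {p : ℕ} [Fact p.Prime]
    {K A : Subgroup H} (h : RedIn p K A) : A ≤ largestPReducedOf p K := by
  have h1 := of_redIn K A h
  have h2 : A.subgroupOf K ≤ largestPReduced p ↥K := le_sSup h1
  have h3 := Subgroup.map_mono (f := K.subtype) h2
  rw [Subgroup.map_subgroupOf_eq_of_le h.1] at h3
  exact h3

theorem norm_inf_le {H : Type*} [Group H] (A B : Subgroup H) :
    Subgroup.normalizer (A : Set H) ⊓ Subgroup.normalizer (B : Set H) ≤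
      Subgroup.normalizer ((A ⊓ B : Subgroup H) : Set H) := by
  intro g hg
  obtain ⟨hA, hB⟩ := Subgroup.mem_inf.mp hg
  rw [Subgroup.mem_normalizer_iff]
  intro h
  rw [Subgroup.mem_inf, Subgroup.mem_inf, ← Subgroup.mem_normalizer_iff.mp hA h,
    ← Subgroup.mem_normalizer_iff.mp hB h]

/-- a group acting as a `p`-group on a nontrivial `p`-group has a nontrivial fixed point -/
theorem exists_fixed {H : Type*} [Group H] [Finite H] {p : ℕ} [Fact p.Prime] (B D : Subgroup H)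
    (hB : IsPGroup p ↥B) (hBne : B ≠ ⊥) (hDB : D ≤ Subgroup.normalizer (B : Set H))
    (hDp : ∀ d ∈ D, ∃ k : ℕ, ∀ b ∈ B, d ^ (p ^ k) * b = b * d ^ (p ^ k)) :
    ∃ b ∈ B, b ≠ 1 ∧ ∀ d ∈ D, d * b = b * d := by
  let ψ : ↥D →* MulAut ↥B := (B.normalizerMonoidHom).comp (Subgroup.inclusion hDB)
  have hψ : ∀ (d : ↥D) (b : ↥B), ((ψ d b : ↥B) : H) = (d : H) * b * (d : H)⁻¹ :=
    fun _ _ => rfl
  have hG : IsPGroup p ↥ψ.range := by
    rintro ⟨_, d, rfl⟩
    obtain ⟨k, hk⟩ := hDp d d.2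
    refine ⟨k, ?_⟩
    apply Subtype.ext
    show (ψ d) ^ (p ^ k) = 1
    rw [← map_pow]
    ext b
    rw [hψ]
    show ((d ^ (p ^ k) : ↥D) : H) * b * ((d ^ (p ^ k) : ↥D) : H)⁻¹ = b
    rw [Subgroup.coe_pow, hk b b.2]; group
  have hp : p ∣ Nat.card ↥B := by
    rcases hB.card_eq_or_dvd with h | h
    · exact absurd (Subgroup.eq_bot_of_card_eq _ h) hBne
    · exact h
  have hfix : (1 : ↥B) ∈ MulAction.fixedPoints ↥ψ.range ↥B := by
    intro g
    show (g : MulAut ↥B) 1 = 1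
    exact map_one _
  obtain ⟨b, hb, hb1⟩ := hG.exists_fixed_point_of_prime_dvd_card_of_fixed_point ↥B hp hfix
  refine ⟨b, b.2, ?_, ?_⟩
  · intro h
    apply hb1
    apply Subtype.ext
    exact h.symm
  · intro d hd
    have h1 : ψ ⟨d, hd⟩ b = b := hb ⟨ψ ⟨d, hd⟩, ⟨d, hd⟩, rfl⟩
    have h2 : ((ψ ⟨d, hd⟩ b : ↥B) : H) = b := congrArg Subtype.val h1
    rw [hψ] at h2
    calc d * b = d * b * d⁻¹ * d := by group
      _ = b * d := by rw [h2]

/-- Thompson's `P × Q` lemma for an abelian `p`-group `A`, with commutation modulo `C(A)` -/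
theorem pxq {H : Type*} [Group H] [Finite H] {p : ℕ} [Fact p.Prime] (A D : Subgroup H) (x : H)
    (hAp : IsPGroup p ↥A) (hAc : ∀ a ∈ A, ∀ b ∈ A, a * b = b * a)
    (hxA : x ∈ Subgroup.normalizer (A : Set H)) (hx : (orderOf x).Coprime p)
    (hDA : D ≤ Subgroup.normalizer (A : Set H))
    (hDp : ∀ d ∈ D, ∃ k : ℕ, d ^ (p ^ k) ∈ Subgroup.centralizer (A : Set H))
    (hxD : ∀ d ∈ D, x * d * x⁻¹ * d⁻¹ ∈ Subgroup.centralizer (A : Set H))
    (hfix : ∀ a ∈ A, (∀ d ∈ D, d * a = a * d) → x * a = a * x) :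
    ∀ a ∈ A, x * a = a * x := by
  have hconj : ∀ a ∈ A, x * a * x⁻¹ ∈ A := fun a ha =>
    (Subgroup.mem_normalizer_iff.mp hxA a).mp ha
  have hφm : ∀ a ∈ A, a * x * a⁻¹ * x⁻¹ ∈ A := by
    intro a ha
    have e : a * x * a⁻¹ * x⁻¹ = a * (x * a⁻¹ * x⁻¹) := by group
    rw [e]
    exact A.mul_mem ha (hconj _ (A.inv_mem ha))
  -- the image of `a ↦ [a, x]`
  obtain ⟨B, hB⟩ : ∃ B : Subgroup H, B = Subgroup.closure {b : H | ∃ a ∈ A, b = a * x * a⁻¹ * x⁻¹} :=
    ⟨_, rfl⟩
  have hφmul : ∀ a ∈ A, ∀ b ∈ A, (a * b) * x * (a * b)⁻¹ * x⁻¹ =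
      (a * x * a⁻¹ * x⁻¹) * (b * x * b⁻¹ * x⁻¹) := by
    intro a ha b hb
    have hu : x * a⁻¹ * x⁻¹ ∈ A := hconj _ (A.inv_mem ha)
    have hw : x * b⁻¹ * x⁻¹ ∈ A := hconj _ (A.inv_mem hb)
    have e1 : a * b * x * (a * b)⁻¹ * x⁻¹ = a * b * ((x * b⁻¹ * x⁻¹) * (x * a⁻¹ * x⁻¹)) := by
      group
    have e2 : a * x * a⁻¹ * x⁻¹ * (b * x * b⁻¹ * x⁻¹) =
        a * ((x * a⁻¹ * x⁻¹) * b) * (x * b⁻¹ * x⁻¹) := by group
    rw [e1, e2, hAc _ hu b hb, hAc _ hw _ hu]
    group
  have hBeq : ∀ b ∈ B, ∃ a ∈ A, b = a * x * a⁻¹ * x⁻¹ := by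
    intro b hb
    rw [hB] at hb
    induction hb using Subgroup.closure_induction with
    | mem y hy => exact hy
    | one => exact ⟨1, A.one_mem, by group⟩
    | mul y z _ _ ihy ihz =>
      obtain ⟨a, ha, rfl⟩ := ihy
      obtain ⟨b, hb, rfl⟩ := ihz
      exact ⟨a * b, A.mul_mem ha hb, (hφmul a ha b hb).symm⟩
    | inv y _ ihy =>
      obtain ⟨a, ha, rfl⟩ := ihy
      refine ⟨a⁻¹, A.inv_mem ha, ?_⟩
      have h1 := hφmul a ha a⁻¹ (A.inv_mem ha)
      have h2 : (a * a⁻¹) * x * (a * a⁻¹)⁻¹ * x⁻¹ = 1 := by group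
      rw [h2] at h1
      exact inv_eq_of_mul_eq_one_right h1.symm
  have hBA : B ≤ A := by
    intro b hb
    obtain ⟨a, ha, rfl⟩ := hBeq b hb
    exact hφm a ha
  have hmemB : ∀ a ∈ A, a * x * a⁻¹ * x⁻¹ ∈ B := by
    intro a ha
    rw [hB]
    exact Subgroup.subset_closure ⟨a, ha, rfl⟩
  by_contra hcon
  push_neg at hcon
  obtain ⟨a₀, ha₀, hne⟩ := hcon
  have hBne : B ≠ ⊥ := by
    intro h
    have h1 : a₀ * x * a₀⁻¹ * x⁻¹ ∈ (⊥ : Subgroup H) := by rw [← h]; exact hmemB a₀ ha₀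
    rw [Subgroup.mem_bot] at h1
    apply hne
    calc x * a₀ = (a₀ * x * a₀⁻¹ * x⁻¹)⁻¹ * (a₀ * x) := by group
      _ = a₀ * x := by rw [h1]; group
  have hDB : D ≤ Subgroup.normalizer (B : Set H) := by
    intro d hd
    apply Cfsg.Agent.S1900.mem_normalizer_of_conj_mem
    intro b hb
    obtain ⟨a, ha, rfl⟩ := hBeq b hb
    have ha' : d * a * d⁻¹ ∈ A := (Subgroup.mem_normalizer_iff.mp (hDA hd) a).mp ha
    have hc := Subgroup.mem_centralizer_iff.mp (hxD d hd)
    have hu' : x * (d * a * d⁻¹)⁻¹ * x⁻¹ ∈ A := hconj _ (A.inv_mem ha')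
    have e : d * (a * x * a⁻¹ * x⁻¹) * d⁻¹ =
        (d * a * d⁻¹) * x * (d * a * d⁻¹)⁻¹ * x⁻¹ := by
      calc d * (a * x * a⁻¹ * x⁻¹) * d⁻¹
          = (d * a * d⁻¹) * (x * d * x⁻¹ * d⁻¹)⁻¹ *
              ((x * (d * a * d⁻¹)⁻¹ * x⁻¹) * (x * d * x⁻¹ * d⁻¹)) := by group
        _ = (d * a * d⁻¹) * (x * d * x⁻¹ * d⁻¹)⁻¹ *
              ((x * d * x⁻¹ * d⁻¹) * (x * (d * a * d⁻¹)⁻¹ * x⁻¹)) := by rw [hc _ hu']
        _ = (d * a * d⁻¹) * x * (d * a * d⁻¹)⁻¹ * x⁻¹ := by group
    rw [e]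
    exact hmemB _ ha'
  have hDpB : ∀ d ∈ D, ∃ k : ℕ, ∀ b ∈ B, d ^ (p ^ k) * b = b * d ^ (p ^ k) := by
    intro d hd
    obtain ⟨k, hk⟩ := hDp d hd
    exact ⟨k, fun b hb => (Subgroup.mem_centralizer_iff.mp hk b (hBA hb)).symm⟩
  obtain ⟨b, hbB, hb1, hbD⟩ := exists_fixed B D (hAp.to_le hBA) hBne hDB hDpB
  have hxb : x * b = b * x := hfix b (hBA hbB) hbD
  obtain ⟨a, ha, rfl⟩ := hBeq b hbB
  have hcomm : Commute x (a * x * a⁻¹ * x⁻¹) := hxb
  have h1 : x * a = a * x := by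
    apply Cfsg.Agent.S2961.coprime_stab (Subgroup.zpowers (a * x * a⁻¹ * x⁻¹))
      (hAp.to_le (Subgroup.zpowers_le.mpr (hφm a ha))) x a hx
    · intro d hd
      obtain ⟨n, rfl⟩ := Subgroup.mem_zpowers_iff.mp hd
      exact (hcomm.zpow_right n).eq
    · have e : x * a * x⁻¹ * a⁻¹ = (a * x * a⁻¹ * x⁻¹)⁻¹ := by group
      rw [e]
      exact Subgroup.inv_mem _ (Subgroup.mem_zpowers _)
  apply hb1
  calc a * x * a⁻¹ * x⁻¹ = a * x * a⁻¹ * x⁻¹ := rfl
    _ = (x * a) * a⁻¹ * x⁻¹ := by rw [h1]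
    _ = 1 := by group

theorem isPGroup_of_exp {H : Type*} [Group H] {p : ℕ} (A : Subgroup H)
    (h : ∀ a ∈ A, a ^ p = 1) : IsPGroup p ↥A := by
  rintro ⟨w, hw⟩
  refine ⟨1, ?_⟩
  apply Subtype.ext
  simpa using h w hw

/-- a normal subgroup `N` of the subnormal subgroup `L` whose `p'`-elements centralize `Y ∩ L`
centralizes the `p`-reduced normal subgroup `Y` -/
theorem key1 {H : Type*} [Group H] [Finite H] {p : ℕ} [Fact p.Prime] (Y : Subgroup H)
    (hY : IsPReducedNormal p Y) (L : Subgroup H) (hL : L.IsSubnormal) (N : Subgroup H)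
    (hNL : N ≤ L) (hLN : L ≤ Subgroup.normalizer (N : Set H))
    (hN : ∀ x ∈ N, (orderOf x).Coprime p →
      x ∈ Subgroup.centralizer ((Y ⊓ L : Subgroup H) : Set H)) :
    N ≤ Subgroup.centralizer (Y : Set H) := by
  have hYn : Y.Normal := hY.1
  have hYp : IsPGroup p ↥Y := isPGroup_of_exp Y hY.2.1.2
  obtain ⟨R, hR⟩ : ∃ R : Subgroup H, R = (pResidual p ↥L).map L.subtype := ⟨_, rfl⟩
  have hRop : R = Cfsg.Agent.S2820.opIn p L := by rw [hR]; exact Cfsg.Agent.S2820.opIn_eq p L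
  have hRL : R ≤ L := by rw [hR]; exact Subgroup.map_subtype_le _
  have hRsn : R.IsSubnormal := by
    rw [hR]
    exact (Cfsg.Agent.Lib.Helper6.pres_normal p ↥L).isSubnormal.trans' hL
  have hRres : (pResidual p ↥R).map R.subtype = R := by
    rw [Cfsg.Agent.S2820.opIn_eq]
    apply le_antisymm (Cfsg.Agent.S2820.opIn_le p R)
    have h1 : Cfsg.Agent.S2820.opIn p L ≤ Cfsg.Agent.S2820.opIn p R := by
      show Subgroup.closure _ ≤ _
      rw [Subgroup.closure_le]
      intro x hx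
      apply Subgroup.subset_closure
      refine ⟨?_, hx.2⟩
      rw [hRop]; exact Subgroup.subset_closure hx
    exact (le_of_eq hRop).trans h1
  have hYR : Y ≤ Subgroup.normalizer (R : Set H) :=
    (Cfsg.Agent.S2820.result Y R hYn.isSubnormal hRsn hYp hRres).1
  have hW : ⁅R, Y⁆ ≤ Y ⊓ L := by
    refine le_inf ?_ ?_
    · rw [Subgroup.commutator_comm]
      refine Cfsg.Agent.Lib.Helper7.commutator_le_of_le_normalizer ?_
      rw [Subgroup.normalizer_eq_top_iff.mpr hYn]; exact le_top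
    · exact (Cfsg.Agent.Lib.Helper7.commutator_le_of_le_normalizer hYR).trans hRL
  have hop : Cfsg.Agent.S2820.opIn p N ≤ Subgroup.centralizer (Y : Set H) := by
    show Subgroup.closure _ ≤ _
    rw [Subgroup.closure_le]
    rintro x ⟨hxN, hxo⟩
    have hxR : x ∈ R := by
      rw [hRop]; exact Subgroup.subset_closure ⟨hNL hxN, hxo⟩
    have hxW := Subgroup.mem_centralizer_iff.mp (hN x hxN hxo)
    show x ∈ Subgroup.centralizer (Y : Set H)
    rw [Subgroup.mem_centralizer_iff]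
    intro y hy
    have hr : x * y * x⁻¹ * y⁻¹ ∈ (Y ⊓ L : Subgroup H) := by
      have h1 : ⁅x, y⁆ ∈ ⁅R, Y⁆ := Subgroup.commutator_mem_commutator hxR hy
      rw [commutatorElement_def] at h1
      exact hW h1
    exact (Cfsg.Agent.S2961.coprime_stab (Y ⊓ L) (hYp.to_le inf_le_left) x y hxo
      (fun w hw => (hxW w hw).symm) hr).symm
  have hNsn : N.IsSubnormal :=
    Subgroup.IsSubnormal.trans hNL
      ((Subgroup.normal_subgroupOf_iff_le_normalizer hNL).mpr hLN).isSubnormal hL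
  apply Cfsg.Agent.S2804.le_centralizer_of_subnormal hY N hNsn
  intro n hn
  obtain ⟨k, hk⟩ := Cfsg.Agent.S2820.pow_mem_opIn p N hn
  exact ⟨k, hop hk⟩

/-- the normal case: for `L ⊴ K`, `C_L(Y_K) ≤ C(Y_L)` -/
theorem normal_case {H : Type*} [Group H] [Finite H] {p : ℕ} [Fact p.Prime] (L K : Subgroup H)
    (hLK : L ≤ K) (hKL : K ≤ Subgroup.normalizer (L : Set H)) :
    L ⊓ Subgroup.centralizer (largestPReducedOf p K : Set H) ≤
      Subgroup.centralizer (largestPReducedOf p L : Set H) := by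
  obtain ⟨V, hVdef⟩ : ∃ V : Subgroup H, V = largestPReducedOf p L := ⟨_, rfl⟩
  rw [← hVdef]
  have hV : RedIn p L V := by rw [hVdef]; exact redIn_largestOf p L
  obtain ⟨hVL, hLV, hVc, hVe, hVD⟩ := hV
  have hKV : K ≤ Subgroup.normalizer (V : Set H) := by
    rw [hVdef]
    haveI : (largestPReduced p ↥L).Characteristic :=
      Subgroup.characteristic_iff_map_eq.mpr fun ϕ => largest_map_equiv ϕ
    exact Cfsg.Agent.Lib.Helper1.le_normalizer_map_subtype_of_characteristic hKL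
      (largestPReduced p ↥L)
  obtain ⟨A, hAmin⟩ := exists_minimal_of_wellFoundedLT
    (fun A : Subgroup H => A ≤ V ∧ K ≤ Subgroup.normalizer (A : Set H) ∧
      L ⊓ Subgroup.centralizer (A : Set H) ≤ Subgroup.centralizer (V : Set H))
    ⟨V, le_rfl, hKV, inf_le_right⟩
  obtain ⟨hAV, hKA, hAC⟩ := hAmin.prop
  have hAp : IsPGroup p ↥A := isPGroup_of_exp A (fun a ha => hVe a (hAV ha))
  have hAc : ∀ a ∈ A, ∀ b ∈ A, a * b = b * a := fun a ha b hb => hVc a (hAV ha) b (hAV hb)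
  have hCVA : Subgroup.centralizer (V : Set H) ≤ Subgroup.centralizer (A : Set H) :=
    Subgroup.centralizer_le (SetLike.coe_subset_coe.mpr hAV)
  have hAred : RedIn p K A := by
    refine ⟨hAV.trans (hVL.trans hLK), hKA, hAc, fun a ha => hVe a (hAV ha), ?_⟩
    intro D hDK hKD hDp
    rw [Subgroup.le_centralizer_iff]
    suffices hP : (A ⊓ Subgroup.centralizer (D : Set H) ≤ V ∧
        K ≤ Subgroup.normalizer ((A ⊓ Subgroup.centralizer (D : Set H) : Subgroup H) : Set H) ∧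
        L ⊓ Subgroup.centralizer ((A ⊓ Subgroup.centralizer (D : Set H) : Subgroup H) : Set H) ≤
          Subgroup.centralizer (V : Set H)) from
      (hAmin.le_of_le hP inf_le_left).trans inf_le_right
    have hKA' : K ≤ Subgroup.normalizer
        ((A ⊓ Subgroup.centralizer (D : Set H) : Subgroup H) : Set H) :=
      (le_inf hKA (hKD.trans
        (Cfsg.Agent.Lib.Helper6.gl_normalizer_le_normalizer_centralizer D))).trans
        (norm_inf_le _ _)
    refine ⟨inf_le_left.trans hAV, hKA', ?_⟩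
    -- `M = D ∩ L` centralizes `V`
    have hM : D ⊓ L ≤ Subgroup.centralizer (V : Set H) := by
      apply hVD _ inf_le_right
      · exact (le_inf (hLK.trans hKD) Subgroup.le_normalizer).trans (norm_inf_le _ _)
      · intro m hm
        obtain ⟨hmD, hmL⟩ := Subgroup.mem_inf.mp hm
        obtain ⟨k, hk⟩ := hDp m hmD
        exact ⟨k, hAC (Subgroup.mem_inf.mpr ⟨L.pow_mem hmL _, hk⟩)⟩
    apply hVD _ inf_le_left
    · refine (le_inf Subgroup.le_normalizer ?_).trans (norm_inf_le _ _)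
      exact (hLK.trans hKA').trans
        (Cfsg.Agent.Lib.Helper6.gl_normalizer_le_normalizer_centralizer _)
    · intro n hn
      obtain ⟨k, hk⟩ := Cfsg.Agent.S2820.pow_mem_opIn p _ hn
      refine ⟨k, ?_⟩
      revert hk
      generalize n ^ p ^ k = y
      intro hk
      revert y
      show Cfsg.Agent.S2820.opIn p _ ≤ Subgroup.centralizer (V : Set H)
      show Subgroup.closure _ ≤ _
      rw [Subgroup.closure_le]
      rintro x ⟨hxN, hxo⟩
      obtain ⟨hxL, hxC⟩ := Subgroup.mem_inf.mp hxN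
      apply hAC
      refine Subgroup.mem_inf.mpr ⟨hxL, ?_⟩
      rw [Subgroup.mem_centralizer_iff]
      intro a ha
      refine (pxq A D x hAp hAc (hKA (hLK hxL)) hxo (hDK.trans hKA) hDp ?_ ?_ a ha).symm
      · intro d hd
        apply hCVA
        apply hM
        refine Subgroup.mem_inf.mpr ⟨?_, ?_⟩
        · have h1 : x * d * x⁻¹ ∈ D :=
            (Subgroup.mem_normalizer_iff.mp (hKD (hLK hxL)) d).mp hd
          exact D.mul_mem h1 (D.inv_mem hd)
        · have h1 : d * x⁻¹ * d⁻¹ ∈ L :=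
            (Subgroup.mem_normalizer_iff.mp (hKL (hDK hd)) x⁻¹).mp (L.inv_mem hxL)
          have e : x * d * x⁻¹ * d⁻¹ = x * (d * x⁻¹ * d⁻¹) := by group
          rw [e]
          exact L.mul_mem hxL h1
      · intro a' ha' hfix
        have h1 : a' ∈ (A ⊓ Subgroup.centralizer (D : Set H) : Subgroup H) :=
          Subgroup.mem_inf.mpr ⟨ha', Subgroup.mem_centralizer_iff.mpr hfix⟩
        exact (Subgroup.mem_centralizer_iff.mp hxC a' h1).symm
  have hAY : A ≤ largestPReducedOf p K := le_largestOf hAred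
  exact (inf_le_inf_left L (Subgroup.centralizer_le (SetLike.coe_subset_coe.mpr hAY))).trans hAC

/-- the chain induction: `C_L(Y_H) ≤ C(Y_L)` for subnormal `L` -/
theorem chain {H : Type*} [Group H] [Finite H] {p : ℕ} [Fact p.Prime] (L : Subgroup H)
    (hL : L.IsSubnormal) :
    L ⊓ Subgroup.centralizer (largestPReduced p H : Set H) ≤
      Subgroup.centralizer (largestPReducedOf p L : Set H) := by
  induction hL with
  | top =>
    have h1 : largestPReducedOf p (⊤ : Subgroup H) = largestPReduced p H :=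
      largest_map_equiv (Subgroup.topEquiv : ↥(⊤ : Subgroup H) ≃* H)
    rw [h1]
    exact inf_le_right
  | step L K h_le hSubn hN ih =>
    have hKL : K ≤ Subgroup.normalizer (L : Set H) :=
      (Subgroup.normal_subgroupOf_iff_le_normalizer h_le).mp hN
    refine le_trans ?_ (normal_case L K h_le hKL)
    refine le_inf inf_le_left ?_
    exact (inf_le_inf_right _ h_le).trans ih

/-- Let L be a subnormal subgroup of the finite group H, p a prime, Y_H and Y_L the largest p-reduced normal subgroups. Then Y_H ∩ L = Y_H ∩ Y_L and this subgroup is a p-reduced normal subgroup of L; C_L(Y_L) = C_L(Y_H) = C_L(Y_H ∩ L); and if O^p(H) ≤ L, then [Y_L, L] = 1 if and only if [Y_H, H] = 1. -/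
theorem result {H : Type*} [Group H] [Finite H] {p : ℕ} [Fact p.Prime] (L : Subgroup H) (hL : L.IsSubnormal) : Cfsg.largestPReduced p H ⊓ L = Cfsg.largestPReduced p H ⊓ (Cfsg.largestPReducedOf p L) ∧ Cfsg.IsPReducedNormal p ((Cfsg.largestPReduced p H ⊓ L).subgroupOf L) ∧ L ⊓ Subgroup.centralizer ((Cfsg.largestPReducedOf p L : Subgroup H) : Set H) = L ⊓ Subgroup.centralizer (Cfsg.largestPReduced p H : Set H) ∧ L ⊓ Subgroup.centralizer (Cfsg.largestPReduced p H : Set H) = L ⊓ Subgroup.centralizer ((Cfsg.largestPReduced p H ⊓ L : Subgroup H) : Set H) ∧ (Cfsg.pResidual p H ≤ L → (⁅(Cfsg.largestPReducedOf p L), L⁆ = ⊥ ↔ ⁅Cfsg.largestPReduced p H, (⊤ : Subgroup H)⁆ = ⊥)) := by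
  obtain ⟨Y, hYdef⟩ : ∃ Y : Subgroup H, Y = largestPReduced p H := ⟨_, rfl⟩
  obtain ⟨YL, hYLdef⟩ : ∃ YL : Subgroup H, YL = largestPReducedOf p L := ⟨_, rfl⟩
  rw [← hYdef, ← hYLdef]
  have hYr : IsPReducedNormal p Y := by rw [hYdef]; exact largest_isPReduced p H
  have hYn : Y.Normal := hYr.1
  have hYtop : ∀ Z : Subgroup H, Z ≤ Subgroup.normalizer (Y : Set H) := by
    intro Z; rw [Subgroup.normalizer_eq_top_iff.mpr hYn]; exact le_top
  have hYLr : RedIn p L YL := by rw [hYLdef]; exact redIn_largestOf p L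
  have hYc : ∀ a ∈ Y, ∀ b ∈ Y, a * b = b * a := by
    intro a ha b hb
    exact congrArg Subtype.val (hYr.2.1.1.is_comm.comm ⟨a, ha⟩ ⟨b, hb⟩)
  have hb : RedIn p L (Y ⊓ L) := by
    refine ⟨inf_le_right, (le_inf (hYtop L) Subgroup.le_normalizer).trans (norm_inf_le _ _),
      fun a ha b hb => hYc a (Subgroup.mem_inf.mp ha).1 b (Subgroup.mem_inf.mp hb).1,
      fun a ha => hYr.2.1.2 a (Subgroup.mem_inf.mp ha).1, ?_⟩
    intro D hDL hLD hDp
    refine (key1 Y hYr L hL D hDL hLD ?_).trans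
      (Subgroup.centralizer_le (SetLike.coe_subset_coe.mpr inf_le_left))
    intro x hxD hxo
    obtain ⟨j, hj⟩ := hDp x hxD
    have hco : (p ^ j).Coprime (orderOf x) := Nat.Coprime.pow_left j hxo.symm
    obtain ⟨c, hc⟩ := exists_pow_eq_self_of_coprime hco
    rw [← hc]; exact Subgroup.pow_mem _ hj c
  have ha : Y ⊓ L = Y ⊓ YL := by
    apply le_antisymm
    · refine le_inf inf_le_left ?_
      rw [hYLdef]; exact le_largestOf hb
    · exact inf_le_inf_left _ hYLr.1
  have hd : L ⊓ Subgroup.centralizer (Y : Set H) =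
      L ⊓ Subgroup.centralizer ((Y ⊓ L : Subgroup H) : Set H) := by
    apply le_antisymm
    · exact inf_le_inf_left _ (Subgroup.centralizer_le (SetLike.coe_subset_coe.mpr inf_le_left))
    · refine le_inf inf_le_left ?_
      apply key1 Y hYr L hL _ inf_le_left
      · refine (le_inf Subgroup.le_normalizer ?_).trans (norm_inf_le _ _)
        exact hb.2.1.trans (Cfsg.Agent.Lib.Helper6.gl_normalizer_le_normalizer_centralizer _)
      · intro x hx _
        exact (Subgroup.mem_inf.mp hx).2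
  have hc : L ⊓ Subgroup.centralizer (YL : Set H) = L ⊓ Subgroup.centralizer (Y : Set H) := by
    apply le_antisymm
    · rw [hd]
      refine inf_le_inf_left _ (Subgroup.centralizer_le (SetLike.coe_subset_coe.mpr ?_))
      rw [ha]; exact inf_le_right
    · refine le_inf inf_le_left ?_
      rw [hYdef, hYLdef]; exact chain L hL
  refine ⟨ha, of_redIn L _ hb, hc, hd, ?_⟩
  intro hres
  constructor
  · intro h1
    have h2 : L ≤ Subgroup.centralizer (YL : Set H) := by
      rw [Subgroup.commutator_comm] at h1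
      exact Subgroup.commutator_eq_bot_iff_le_centralizer.mp h1
    have h3 : L ≤ Subgroup.centralizer (Y : Set H) := by
      have h5 : L ≤ L ⊓ Subgroup.centralizer (YL : Set H) := le_inf le_rfl h2
      rw [hc] at h5
      exact h5.trans inf_le_right
    have h4 : (⊤ : Subgroup H) ≤ Subgroup.centralizer (Y : Set H) := by
      apply Cfsg.Agent.Lib.Helper6.pr_le_centralizer hYr ⊤ inferInstance
      intro n _
      obtain ⟨k, hk⟩ := Cfsg.Agent.Lib.Helper6.pres_pow_mem (p := p) n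
      exact ⟨k, h3 (hres hk)⟩
    rw [Subgroup.commutator_comm, Subgroup.commutator_eq_bot_iff_le_centralizer]
    exact h4
  · intro h1
    have h2 : (⊤ : Subgroup H) ≤ Subgroup.centralizer (Y : Set H) := by
      rw [Subgroup.commutator_comm] at h1
      exact Subgroup.commutator_eq_bot_iff_le_centralizer.mp h1
    have h3 : L ≤ L ⊓ Subgroup.centralizer (Y : Set H) := le_inf le_rfl (le_top.trans h2)
    rw [← hc] at h3
    rw [Subgroup.commutator_comm, Subgroup.commutator_eq_bot_iff_le_centralizer]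
    exact h3.trans inf_le_right

end Cfsg.Agent.S2825
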