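import Mathlib
import Cfsg.Statements.S2805
import Cfsg.Agent.S0542
import Cfsg.Agent.S1900
import Cfsg.Agent.S2825
import Cfsg.Agent.Lib.Helper1.CharP
import Cfsg.Agent.Lib.Helper3.WCChar
import Cfsg.Agent.Lib.Helper6.PReduced5
import Cfsg.Agent.Lib.Helper6.PReduced7
import Cfsg.Agent.Lib.Helper6.TraceSplit
import Cfsg.Agent.Lib.Helper7.PCore

set_option autoImplicit false
open Cfsg

namespace Cfsg.Agent.S2805

universe u

/-- the module statement behind Kieler's lemma: if every `T`-fixed point of `M` is `C`-fixed,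
then every `T₀`-fixed point of `M` is `C`-fixed (`T₀` a Sylow `p`-subgroup of `C`) -/
theorem ms {H : Type*} [Group H] [Finite H] {p : ℕ} [Fact p.Prime] (C T₀ T M : Subgroup H)
    (hcop : (T₀.relIndex C).Coprime p) (hTp : IsPGroup p ↥T)
    (hTC : T ≤ Subgroup.normalizer (C : Set H)) (hTT₀ : T ≤ Subgroup.normalizer (T₀ : Set H))
    (hMab : ∀ a ∈ M, ∀ b ∈ M, a * b = b * a) (hMp : IsPGroup p ↥M)
    (hCM : C ≤ Subgroup.normalizer (M : Set H)) (hTM : T ≤ Subgroup.normalizer (M : Set H))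
    (hfix : ∀ m ∈ M, (∀ t ∈ T, t * m = m * t) → ∀ c ∈ C, c * m = m * c) :
    ∀ m ∈ M, (∀ s ∈ T₀, s * m = m * s) → ∀ c ∈ C, c * m = m * c := by
  classical
  letI : CommGroup ↥M := { (inferInstance : Group ↥M) with
    mul_comm := fun a b => Subtype.ext (hMab a.1 a.2 b.1 b.2) }
  letI hfin : Fintype (↥C ⧸ T₀.subgroupOf C) := Fintype.ofFinite _
  have hconj : ∀ g ∈ Subgroup.normalizer (M : Set H), ∀ v ∈ M, g * v * g⁻¹ ∈ M :=
    fun g hg v hv => (Subgroup.mem_normalizer_iff.mp hg v).mp hv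
  let cjC : ↥C → (↥M →* ↥M) := fun c =>
    { toFun := fun v => ⟨(c : H) * v * (c : H)⁻¹, hconj _ (hCM c.2) v v.2⟩
      map_one' := by ext; simp
      map_mul' := by intro a b; ext; simp [mul_assoc] }
  let cjT : ↥T → (↥M →* ↥M) := fun c =>
    { toFun := fun v => ⟨(c : H) * v * (c : H)⁻¹, hconj _ (hTM c.2) v v.2⟩
      map_one' := by ext; simp
      map_mul' := by intro a b; ext; simp [mul_assoc] }
  have hcjC : ∀ (c : ↥C) (v : ↥M), ((cjC c v : ↥M) : H) = (c : H) * v * (c : H)⁻¹ :=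
    fun _ _ => rfl
  have hcjT : ∀ (c : ↥T) (v : ↥M), ((cjT c v : ↥M) : H) = (c : H) * v * (c : H)⁻¹ :=
    fun _ _ => rfl
  let tr : ↥M →* ↥M := ∏ q : ↥C ⧸ T₀.subgroupOf C, cjC q.out
  have htr : ∀ v : ↥M, tr v = ∏ q : ↥C ⧸ T₀.subgroupOf C, cjC q.out v := by
    intro v
    simp only [tr, MonoidHom.finset_prod_apply]
  let Fx : ↥M → Prop := fun v => ∀ s ∈ T₀, s * (v : H) = v * s
  have ha' : ∀ v : ↥M, Fx v → ∀ c₁ c₂ : ↥C, c₁⁻¹ * c₂ ∈ T₀.subgroupOf C →
      cjC c₂ v = cjC c₁ v := by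
    intro v hv c₁ c₂ h
    have h1 := hv _ (Subgroup.mem_subgroupOf.mp h)
    have h2 : (c₁ : H)⁻¹ * (c₂ : H) * (v : H) = (v : H) * ((c₁ : H)⁻¹ * (c₂ : H)) := by
      simpa using h1
    apply Subtype.ext
    rw [hcjC, hcjC]
    calc (c₂ : H) * v * (c₂ : H)⁻¹
        = (c₁ : H) * ((c₁ : H)⁻¹ * (c₂ : H) * (v : H)) * (c₂ : H)⁻¹ := by group
      _ = (c₁ : H) * ((v : H) * ((c₁ : H)⁻¹ * (c₂ : H))) * (c₂ : H)⁻¹ := by rw [h2]
      _ = (c₁ : H) * v * (c₁ : H)⁻¹ := by group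
  have hb : ∀ v : ↥M, Fx v → ∀ l : ↥C, cjC l (tr v) = tr v := by
    intro v hv l
    rw [htr, map_prod]
    have h1 : ∀ q : ↥C ⧸ T₀.subgroupOf C, cjC l (cjC q.out v) = cjC (l • q).out v := by
      intro q
      have h2 : cjC l (cjC q.out v) = cjC (l * q.out) v := by
        apply Subtype.ext
        rw [hcjC, hcjC, hcjC]
        show (l : H) * ((q.out : H) * v * (q.out : H)⁻¹) * (l : H)⁻¹ =
          ((l : H) * (q.out : H)) * v * ((l : H) * (q.out : H))⁻¹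
        group
      rw [h2]
      apply ha' v hv
      rw [← QuotientGroup.eq, QuotientGroup.out_eq']
      conv_lhs => rw [← QuotientGroup.out_eq' q]
      rfl
    simp_rw [h1]
    exact Fintype.prod_equiv (MulAction.toPerm l) _ _ (fun q => rfl)
  have hc : ∀ v : ↥M, (∀ c : ↥C, cjC c v = v) → tr v = v ^ (T₀.relIndex C) := by
    intro v hv
    rw [htr]
    simp_rw [hv]
    rw [Finset.prod_const, Finset.card_univ]
    congr 1
    rw [Subgroup.relIndex, Subgroup.index_eq_card, Nat.card_eq_fintype_card]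
  have hFxT : ∀ v : ↥M, Fx v → ∀ t : ↥T, Fx (cjT t v) := by
    intro v hv t s hs
    rw [hcjT]
    have hs' : (t : H)⁻¹ * s * (t : H) ∈ T₀ := by
      have h1 := (Subgroup.mem_normalizer_iff.mp (Subgroup.inv_mem _ (hTT₀ t.2)) s).mp hs
      simpa using h1
    have h2 := hv _ hs'
    calc s * ((t : H) * v * (t : H)⁻¹)
        = t * ((t : H)⁻¹ * s * t * v) * (t : H)⁻¹ := by group
      _ = t * (v * ((t : H)⁻¹ * s * t)) * (t : H)⁻¹ := by rw [h2]
      _ = (t : H) * v * (t : H)⁻¹ * s := by group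
  have hd : ∀ v : ↥M, Fx v → ∀ t : ↥T, tr (cjT t v) = cjT t (tr v) := by
    intro v hv t
    have hconjC : ∀ c : ↥C, (t : H) * c * (t : H)⁻¹ ∈ C := fun c =>
      (Subgroup.mem_normalizer_iff.mp (hTC t.2) c).mp c.2
    let f : (↥C ⧸ T₀.subgroupOf C) → (↥C ⧸ T₀.subgroupOf C) := fun q =>
      QuotientGroup.mk (⟨(t : H) * q.out * (t : H)⁻¹, hconjC q.out⟩ : ↥C)
    have hf : Function.Bijective f := by
      rw [← Finite.injective_iff_bijective]
      intro q q' hqq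
      have h1 : (⟨(t : H) * q.out * (t : H)⁻¹, hconjC q.out⟩ : ↥C)⁻¹ *
          ⟨(t : H) * q'.out * (t : H)⁻¹, hconjC q'.out⟩ ∈ T₀.subgroupOf C :=
        QuotientGroup.eq.mp hqq
      rw [Subgroup.mem_subgroupOf] at h1
      have h2 : (t : H) * ((q.out : H)⁻¹ * (q'.out : H)) * (t : H)⁻¹ ∈ T₀ := by
        have e : (t : H) * ((q.out : H)⁻¹ * (q'.out : H)) * (t : H)⁻¹ =
            ((t : H) * q.out * (t : H)⁻¹)⁻¹ * ((t : H) * q'.out * (t : H)⁻¹) := by group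
        rw [e]; exact h1
      have h3 : (q.out : H)⁻¹ * (q'.out : H) ∈ T₀ :=
        (Subgroup.mem_normalizer_iff.mp (hTT₀ t.2) _).mpr h2
      have h4 : (QuotientGroup.mk q.out : ↥C ⧸ T₀.subgroupOf C) = QuotientGroup.mk q'.out :=
        QuotientGroup.eq.mpr (Subgroup.mem_subgroupOf.mpr h3)
      rw [QuotientGroup.out_eq', QuotientGroup.out_eq'] at h4
      exact h4
    rw [htr, htr, map_prod]
    symm
    refine Fintype.prod_bijective f hf _ _ (fun q => ?_)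
    have h1 : cjC (f q).out (cjT t v) =
        cjC ⟨(t : H) * q.out * (t : H)⁻¹, hconjC q.out⟩ (cjT t v) := by
      apply ha' _ (hFxT v hv t)
      rw [← QuotientGroup.eq, QuotientGroup.out_eq']
    rw [h1]
    apply Subtype.ext
    rw [hcjT, hcjC, hcjC, hcjT]
    show (t : H) * ((q.out : H) * v * (q.out : H)⁻¹) * (t : H)⁻¹ =
      ((t : H) * q.out * (t : H)⁻¹) * ((t : H) * v * (t : H)⁻¹) *
        ((t : H) * q.out * (t : H)⁻¹)⁻¹
    group
  obtain ⟨n, hn⟩ : ∃ n : ℕ, n = T₀.relIndex C := ⟨_, rfl⟩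
  let π : ↥M →* ↥M := powMonoidHom n * tr⁻¹
  have hπ : ∀ v : ↥M, π v = v ^ n * (tr v)⁻¹ := fun v => rfl
  let M₀ : Subgroup ↥M := (Subgroup.centralizer (T₀ : Set H)).subgroupOf M
  have hM₀ : ∀ v : ↥M, v ∈ M₀ ↔ Fx v := by
    intro v
    show (v : H) ∈ Subgroup.centralizer (T₀ : Set H) ↔ _
    rw [Subgroup.mem_centralizer_iff]
    exact Iff.rfl
  obtain ⟨B, hB⟩ : ∃ B : Subgroup H, B = (M₀.map π).map M.subtype := ⟨_, rfl⟩
  have hBM : B ≤ M := by rw [hB]; exact Subgroup.map_subtype_le _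
  have hBbot : B = ⊥ := by
    by_contra hBne
    have hTB : T ≤ Subgroup.normalizer (B : Set H) := by
      intro t ht
      apply Cfsg.Agent.S1900.mem_normalizer_of_conj_mem
      intro b hb
      rw [hB] at hb ⊢
      obtain ⟨_, ⟨v, hv, rfl⟩, rfl⟩ := hb
      have hv' := (hM₀ v).mp hv
      refine ⟨π (cjT ⟨t, ht⟩ v), ⟨cjT ⟨t, ht⟩ v, (hM₀ _).mpr (hFxT v hv' _), rfl⟩, ?_⟩
      have e : π (cjT ⟨t, ht⟩ v) = cjT ⟨t, ht⟩ (π v) := by
        rw [hπ, hπ, hd v hv', map_mul, map_pow, map_inv]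
      rw [e]
      rfl
    have hDp : ∀ d ∈ T, ∃ k : ℕ, ∀ b ∈ B, d ^ (p ^ k) * b = b * d ^ (p ^ k) := by
      intro d hd
      obtain ⟨k, hk⟩ := hTp ⟨d, hd⟩
      refine ⟨k, fun b _ => ?_⟩
      have h1 : d ^ (p ^ k) = 1 := by
        have h2 := congrArg Subtype.val hk
        simpa using h2
      rw [h1, one_mul, mul_one]
    obtain ⟨b, hbB, hb1, hbT⟩ :=
      Cfsg.Agent.S2825.exists_fixed B T (hMp.to_le hBM) hBne hTB hDp
    have hbC := hfix b (hBM hbB) hbT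
    rw [hB] at hbB
    obtain ⟨_, ⟨v, hv, rfl⟩, rfl⟩ := hbB
    have hv' := (hM₀ v).mp hv
    have h1 : tr (π v) = 1 := by
      have h2 : tr (tr v) = (tr v) ^ n := by
        rw [hn]; exact hc (tr v) (hb v hv')
      rw [hπ, map_mul, map_pow, map_inv, h2, mul_inv_cancel]
    have h3 : tr (π v) = (π v) ^ n := by
      rw [hn]
      apply hc
      intro c
      apply Subtype.ext
      rw [hcjC]
      have h4 : (c : H) * ((π v : ↥M) : H) = ((π v : ↥M) : H) * (c : H) := hbC (c : H) c.2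
      calc (c : H) * ((π v : ↥M) : H) * (c : H)⁻¹
          = ((π v : ↥M) : H) * (c : H) * (c : H)⁻¹ := by rw [h4]
        _ = ((π v : ↥M) : H) := by group
    have h4 : (π v) ^ n = 1 := by rw [← h3, h1]
    have h5 : π v = 1 := by
      obtain ⟨k, hk⟩ := hMp (π v)
      have h6 : orderOf (π v) ∣ p ^ k := orderOf_dvd_of_pow_eq_one hk
      have h7 : orderOf (π v) ∣ n := orderOf_dvd_of_pow_eq_one h4
      have hc' : (p ^ k).Coprime n := Nat.Coprime.pow_left k (by rw [hn]; exact hcop.symm)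
      exact orderOf_eq_one_iff.mp (Nat.eq_one_of_dvd_coprimes hc' h6 h7)
    apply hb1
    show ((π v : ↥M) : H) = 1
    rw [h5]; rfl
  intro m hm hmT₀ c hc'
  have hv' : Fx ⟨m, hm⟩ := hmT₀
  have h1 : π ⟨m, hm⟩ = 1 := by
    have h2 : ((π ⟨m, hm⟩ : ↥M) : H) ∈ B := by
      rw [hB]; exact ⟨π ⟨m, hm⟩, ⟨⟨m, hm⟩, (hM₀ _).mpr hv', rfl⟩, rfl⟩
    rw [hBbot, Subgroup.mem_bot] at h2
    exact Subtype.ext h2
  have h2 : (⟨m, hm⟩ : ↥M) ^ n = tr ⟨m, hm⟩ := by
    rw [hπ] at h1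
    exact mul_inv_eq_one.mp h1
  have h3 : cjC ⟨c, hc'⟩ ((⟨m, hm⟩ : ↥M) ^ n) = (⟨m, hm⟩ : ↥M) ^ n := by
    rw [h2]; exact hb _ hv' _
  obtain ⟨k, hk⟩ := hMp ⟨m, hm⟩
  have hco : n.Coprime (orderOf (⟨m, hm⟩ : ↥M)) := by
    have h6 : orderOf (⟨m, hm⟩ : ↥M) ∣ p ^ k := orderOf_dvd_of_pow_eq_one hk
    exact Nat.Coprime.coprime_dvd_right h6 (Nat.Coprime.pow_right k (by rw [hn]; exact hcop))
  obtain ⟨j, hj⟩ := exists_pow_eq_self_of_coprime hco
  have h4 : cjC ⟨c, hc'⟩ (⟨m, hm⟩ : ↥M) = ⟨m, hm⟩ := by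
    conv_lhs => rw [← hj]
    rw [map_pow, h3, hj]
  have h5 : c * m * c⁻¹ = m := congrArg Subtype.val h4
  calc c * m = c * m * c⁻¹ * c := by group
    _ = m * c := by rw [h5]

/-- Kieler's lemma for a normal subgroup -/
theorem normal_case {G : Type u} [Group G] [Finite G] {p : ℕ} [Fact p.Prime]
    (hG : Subgroup.centralizer (pCore p G : Set G) ≤ pCore p G) (T : Sylow p G)
    (L : Subgroup G) [hLn : L.Normal] :
    L ⊓ Subgroup.centralizer ((omegaOne p ((T : Subgroup G) ⊓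
      Subgroup.centralizer ((T : Subgroup G) : Set G)) : Subgroup G) : Set G) =
    L ⊓ Subgroup.centralizer ((omegaOne p (((T : Subgroup G) ⊓ L) ⊓
      Subgroup.centralizer ((((T : Subgroup G) ⊓ L) : Subgroup G) : Set G)) : Subgroup G) :
        Set G) := by
  have hpp : p.Prime := Fact.out
  obtain ⟨Z, hZdef⟩ : ∃ Z : Subgroup G, Z = omegaOne p ((T : Subgroup G) ⊓
      Subgroup.centralizer ((T : Subgroup G) : Set G)) := ⟨_, rfl⟩
  obtain ⟨T₀, hT₀def⟩ : ∃ T₀ : Subgroup G, T₀ = (T : Subgroup G) ⊓ L := ⟨_, rfl⟩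
  rw [← hT₀def]
  obtain ⟨Z₀, hZ₀def⟩ : ∃ Z₀ : Subgroup G, Z₀ = omegaOne p (T₀ ⊓
      Subgroup.centralizer (T₀ : Set G)) := ⟨_, rfl⟩
  rw [← hZdef, ← hZ₀def]
  have hZ : ∀ z ∈ Z, z ∈ (T : Subgroup G) ∧
      z ∈ Subgroup.centralizer ((T : Subgroup G) : Set G) ∧ z ^ p = 1 := by
    intro z hz
    rw [hZdef] at hz
    exact Cfsg.Agent.Lib.Helper6.fr_omegaOne_center_mem p _ hz
  have hZ₀ : ∀ z ∈ Z₀, z ∈ T₀ ∧ z ∈ Subgroup.centralizer (T₀ : Set G) ∧ z ^ p = 1 := by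
    intro z hz
    rw [hZ₀def] at hz
    exact Cfsg.Agent.Lib.Helper6.fr_omegaOne_center_mem p _ hz
  have hmemZ : ∀ z, z ∈ (T : Subgroup G) → z ∈ Subgroup.centralizer ((T : Subgroup G) : Set G) →
      z ^ p = 1 → z ∈ Z := by
    intro z h1 h2 h3
    rw [hZdef]
    exact Subgroup.subset_closure ⟨Subgroup.mem_inf.mpr ⟨h1, h2⟩, h3⟩
  have hmemZ₀ : ∀ z, z ∈ T₀ → z ∈ Subgroup.centralizer (T₀ : Set G) → z ^ p = 1 → z ∈ Z₀ := by
    intro z h1 h2 h3
    rw [hZ₀def]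
    exact Subgroup.subset_closure ⟨Subgroup.mem_inf.mpr ⟨h1, h2⟩, h3⟩
  haveI hQn : (pCore p G).Normal := Cfsg.Agent.Lib.Helper7.pCore_normal p G
  have hQT : pCore p G ≤ (T : Subgroup G) :=
    (Cfsg.Agent.Lib.Helper7.pCore_isPGroup p G).le_sylow_of_normal T
  obtain ⟨W, hWdef⟩ : ∃ W : Subgroup G, W = omegaOne p (pCore p G ⊓
      Subgroup.centralizer (pCore p G : Set G)) := ⟨_, rfl⟩
  have hW : ∀ w ∈ W, w ∈ pCore p G ∧ w ∈ Subgroup.centralizer (pCore p G : Set G) ∧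
      w ^ p = 1 := by
    intro w hw
    rw [hWdef] at hw
    exact Cfsg.Agent.Lib.Helper6.fr_omegaOne_center_mem p _ hw
  have hWn : W.Normal := by
    rw [hWdef]; exact Cfsg.Agent.Lib.Helper6.pr_zomega_pcore_normal p G
  have hWab : ∀ a ∈ W, ∀ b ∈ W, a * b = b * a := fun a ha b hb =>
    Subgroup.mem_centralizer_iff.mp (hW b hb).2.1 a (hW a ha).1
  have hZW : Z ≤ W := by
    intro z hz
    obtain ⟨h1, h2, h3⟩ := hZ z hz
    have h4 : z ∈ Subgroup.centralizer (pCore p G : Set G) :=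
      Subgroup.centralizer_le (SetLike.coe_subset_coe.mpr hQT) h2
    rw [hWdef]
    exact Subgroup.subset_closure ⟨Subgroup.mem_inf.mpr ⟨hG h4, h4⟩, h3⟩
  have hT₀L : T₀ ≤ L := by rw [hT₀def]; exact inf_le_right
  have hT₀T : T₀ ≤ (T : Subgroup G) := by rw [hT₀def]; exact inf_le_left
  obtain ⟨TL, hTL⟩ := Cfsg.Agent.S0542.result p L hLn.isSubnormal T
  have hcopL : (T₀.relIndex L).Coprime p := by
    have h1 : T₀.subgroupOf L = (TL : Subgroup ↥L) := by
      rw [hTL, hT₀def]; exact Subgroup.inf_subgroupOf_right _ _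
    have h2 := TL.not_dvd_index
    rw [← h1] at h2
    exact ((Nat.Prime.coprime_iff_not_dvd hpp).mpr h2).symm
  have hLtop : ∀ X : Subgroup G, X ≤ Subgroup.normalizer (L : Set G) := by
    intro X; rw [Subgroup.normalizer_eq_top_iff.mpr hLn]; exact le_top
  apply le_antisymm
  · -- `C_L(Z) ≤ C_L(Z₀)`
    refine le_inf inf_le_left ?_
    obtain ⟨Q₀, hQ₀def⟩ : ∃ Q₀ : Subgroup G, Q₀ = (pCore p ↥L).map L.subtype := ⟨_, rfl⟩
    obtain ⟨M, hMdef⟩ : ∃ M : Subgroup G, M = omegaOne p (Q₀ ⊓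
        Subgroup.centralizer (Q₀ : Set G)) := ⟨_, rfl⟩
    have hM : ∀ m ∈ M, m ∈ Q₀ ∧ m ∈ Subgroup.centralizer (Q₀ : Set G) ∧ m ^ p = 1 := by
      intro m hm
      rw [hMdef] at hm
      exact Cfsg.Agent.Lib.Helper6.fr_omegaOne_center_mem p _ hm
    have hQ₀T₀ : Q₀ ≤ T₀ := by
      haveI : (pCore p ↥L).Normal := Cfsg.Agent.Lib.Helper7.pCore_normal p ↥L
      have h1 : pCore p ↥L ≤ (TL : Subgroup ↥L) :=
        (Cfsg.Agent.Lib.Helper7.pCore_isPGroup p ↥L).le_sylow_of_normal TL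
      have h2 := Subgroup.map_mono (f := L.subtype) h1
      rw [hTL, Subgroup.subgroupOf_map_subtype] at h2
      rw [hQ₀def, hT₀def]; exact h2
    have hLchar : L ⊓ Subgroup.centralizer (Q₀ : Set G) ≤ Q₀ := by
      rw [hQ₀def]
      exact Cfsg.Agent.Lib.Helper1.inf_centralizer_map_pCore_le p
        (Cfsg.Agent.Lib.Helper1.genFitting_eq_pCore_of_subnormal p hLn.isSubnormal
          (Cfsg.Agent.Lib.Helper1.genFitting_eq_pCore_of_centralizer_le p G hG))
    have hNQ₀ : ∀ X : Subgroup G, X ≤ Subgroup.normalizer (Q₀ : Set G) := by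
      intro X
      rw [hQ₀def]
      exact Cfsg.Agent.Lib.Helper3.le_normalizer_pCoreOf_of_le_normalizer (hLtop X)
    have hNM : ∀ X : Subgroup G, X ≤ Subgroup.normalizer (M : Set G) := by
      intro X
      rw [hMdef]
      exact Cfsg.Agent.Lib.Helper6.gl_normalizer_omegaOne p
        (Cfsg.Agent.Lib.Helper6.gl_normalizer_center (hNQ₀ X))
    have hMT₀ : M ≤ T₀ := fun m hm => hQ₀T₀ (hM m hm).1
    have hMab : ∀ a ∈ M, ∀ b ∈ M, a * b = b * a := fun a ha b hb =>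
      Subgroup.mem_centralizer_iff.mp (hM b hb).2.1 a (hM a ha).1
    have hMp : IsPGroup p ↥M := Cfsg.Agent.S2825.isPGroup_of_exp M (fun a ha => (hM a ha).2.2)
    have hZ₀M : Z₀ ≤ M := by
      intro z hz
      obtain ⟨h1, h2, h3⟩ := hZ₀ z hz
      have h4 : z ∈ Subgroup.centralizer (Q₀ : Set G) :=
        Subgroup.centralizer_le (SetLike.coe_subset_coe.mpr hQ₀T₀) h2
      rw [hMdef]
      exact Subgroup.subset_closure
        ⟨Subgroup.mem_inf.mpr ⟨hLchar (Subgroup.mem_inf.mpr ⟨hT₀L h1, h4⟩), h4⟩, h3⟩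
    have hTZ : (T : Subgroup G) ≤ Subgroup.centralizer (Z : Set G) := by
      rw [Subgroup.le_centralizer_iff]
      exact fun z hz => (hZ z hz).2.1
    have hT₀C : T₀ ≤ L ⊓ Subgroup.centralizer (Z : Set G) := le_inf hT₀L (hT₀T.trans hTZ)
    have hcop : (T₀.relIndex (L ⊓ Subgroup.centralizer (Z : Set G))).Coprime p := by
      have h1 := Subgroup.relIndex_mul_relIndex T₀ (L ⊓ Subgroup.centralizer (Z : Set G)) L hT₀C
        (inf_le_left : L ⊓ Subgroup.centralizer (Z : Set G) ≤ L)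
      exact Nat.Coprime.coprime_dvd_left (Dvd.intro _ h1) hcopL
    have hTC : (T : Subgroup G) ≤ Subgroup.normalizer
        ((L ⊓ Subgroup.centralizer (Z : Set G) : Subgroup G) : Set G) :=
      (le_inf (hLtop _) (hTZ.trans Subgroup.le_normalizer)).trans
        (Cfsg.Agent.S2825.norm_inf_le _ _)
    have hTT₀ : (T : Subgroup G) ≤ Subgroup.normalizer (T₀ : Set G) := by
      rw [hT₀def]
      exact (le_inf Subgroup.le_normalizer (hLtop _)).trans (Cfsg.Agent.S2825.norm_inf_le _ _)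
    have key := ms (L ⊓ Subgroup.centralizer (Z : Set G)) T₀ (T : Subgroup G) M hcop
      T.isPGroup' hTC hTT₀ hMab hMp (hNM _) (hNM _) (by
        intro m hm hfixT c hc
        have hmZ : m ∈ Z := hmemZ m (hT₀T (hMT₀ hm)) (Subgroup.mem_centralizer_iff.mpr hfixT)
          (hM m hm).2.2
        exact (Subgroup.mem_centralizer_iff.mp (Subgroup.mem_inf.mp hc).2 m hmZ).symm)
    intro x hx
    rw [Subgroup.mem_centralizer_iff]
    intro z₀ hz₀
    exact (key z₀ (hZ₀M hz₀)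
      (fun s hs => Subgroup.mem_centralizer_iff.mp (hZ₀ z₀ hz₀).2.1 s hs) x hx).symm
  · -- `C_L(Z₀) ≤ C_L(Z)`
    refine le_inf inf_le_left ?_
    intro x hx
    obtain ⟨hxL, hxZ₀⟩ := Subgroup.mem_inf.mp hx
    rw [Subgroup.mem_centralizer_iff]
    intro z hz
    obtain ⟨hzT, hzC, hzp⟩ := hZ z hz
    have hzW : z ∈ W := hZW hz
    have hcomm : ∀ l ∈ L, l * z * l⁻¹ * z⁻¹ ∈ W ⊓ L := by
      intro l hl
      refine Subgroup.mem_inf.mpr ⟨W.mul_mem (hWn.conj_mem z hzW l) (W.inv_mem hzW), ?_⟩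
      have e : l * z * l⁻¹ * z⁻¹ = l * (z * l⁻¹ * z⁻¹) := by group
      rw [e]
      exact L.mul_mem hl (hLn.conj_mem l⁻¹ (L.inv_mem hl) z)
    obtain ⟨c, hcW, hcL, w, hw, e⟩ := Cfsg.Agent.Lib.Helper6.gl_trace_split W (W ⊓ L) T₀ L hWab
      (fun a ha => (hW a ha).2.2)
      (by rw [Subgroup.normalizer_eq_top_iff.mpr hWn]; exact le_top) inf_le_left hcopL hzW
      (fun s hs => Subgroup.mem_centralizer_iff.mp hzC s (hT₀T hs)) hcomm
    obtain ⟨hwW, hwL⟩ := Subgroup.mem_inf.mp hw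
    have hw' : w = c⁻¹ * z := by rw [e]; group
    have hwZ₀ : w ∈ Z₀ := by
      apply hmemZ₀ w
      · rw [hT₀def]; exact Subgroup.mem_inf.mpr ⟨hQT (hW w hwW).1, hwL⟩
      · rw [Subgroup.mem_centralizer_iff]
        intro s hs
        have h1 : s * c = c * s := hcL s (hT₀L hs)
        have h2 : s * z = z * s := Subgroup.mem_centralizer_iff.mp hzC s (hT₀T hs)
        calc s * w = s * (c⁻¹ * z) := by rw [hw']
          _ = c⁻¹ * (c * s) * c⁻¹ * z := by group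
          _ = c⁻¹ * (s * c) * c⁻¹ * z := by rw [h1]
          _ = c⁻¹ * (s * z) := by group
          _ = c⁻¹ * (z * s) := by rw [h2]
          _ = c⁻¹ * z * s := by group
          _ = w * s := by rw [hw']
      · exact (hW w hwW).2.2
    have h1 : w * x = x * w := Subgroup.mem_centralizer_iff.mp hxZ₀ w hwZ₀
    have h2 : x * c = c * x := hcL x hxL
    calc z * x = c * (w * x) := by rw [e]; group
      _ = c * (x * w) := by rw [h1]
      _ = (c * x) * w := by group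
      _ = (x * c) * w := by rw [h2]
      _ = x * z := by rw [e]; group

theorem transport {H : Type*} [Group H] (p : ℕ) (K A R : Subgroup H) (hAK : A ≤ K)
    (hRK : R ≤ K) :
    (A.subgroupOf K ⊓ Subgroup.centralizer ((omegaOne p (R.subgroupOf K ⊓
      Subgroup.centralizer ((R.subgroupOf K : Subgroup ↥K) : Set ↥K)) : Subgroup ↥K) :
        Set ↥K)).map K.subtype =
    A ⊓ Subgroup.centralizer ((omegaOne p (R ⊓ Subgroup.centralizer (R : Set H)) :
      Subgroup H) : Set H) := by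
  have h1 := Cfsg.Agent.Lib.Helper6.gl_map_zomega p K (R.subgroupOf K)
  rw [Subgroup.map_subgroupOf_eq_of_le hRK] at h1
  rw [← h1]
  ext x
  constructor
  · rintro ⟨y, hy, rfl⟩
    obtain ⟨hy1, hy2⟩ := Subgroup.mem_inf.mp hy
    refine Subgroup.mem_inf.mpr ⟨Subgroup.mem_subgroupOf.mp hy1, ?_⟩
    rw [Subgroup.mem_centralizer_iff]
    rintro _ ⟨h', hh', rfl⟩
    exact congrArg Subtype.val (Subgroup.mem_centralizer_iff.mp hy2 h' hh')
  · intro hx
    obtain ⟨hx1, hx2⟩ := Subgroup.mem_inf.mp hx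
    refine ⟨⟨x, hAK hx1⟩, Subgroup.mem_inf.mpr ⟨Subgroup.mem_subgroupOf.mpr hx1, ?_⟩, rfl⟩
    rw [Subgroup.mem_centralizer_iff]
    intro h' hh'
    apply Subtype.ext
    exact Subgroup.mem_centralizer_iff.mp hx2 (h' : H) ⟨h', hh', rfl⟩

/-- Kieler's Lemma: let H be a finite group of characteristic p (C_H(O_p(H)) ≤ O_p(H)), T a Sylow p-subgroup of H and L a subnormal subgroup of H. Then C_L(Ω₁(Z(T))) = C_L(Ω₁(Z(T ∩ L))), Ω₁(Z(·)) denoting the elements of order dividing p in the centre. -/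
theorem result {H : Type*} [Group H] [Finite H] {p : ℕ} [Fact p.Prime] (hH : Subgroup.centralizer (Cfsg.pCore p H : Set H) ≤ Cfsg.pCore p H) (T : Sylow p H) (L : Subgroup H) (hL : L.IsSubnormal) : L ⊓ Subgroup.centralizer ((Cfsg.omegaOne p ((T : Subgroup H) ⊓ Subgroup.centralizer ((T : Subgroup H) : Set H))) : Set H) = L ⊓ Subgroup.centralizer ((Cfsg.omegaOne p (((T : Subgroup H) ⊓ L) ⊓ Subgroup.centralizer ((((T : Subgroup H) ⊓ L) : Subgroup H) : Set H))) : Set H) := by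
  have hFH : generalizedFittingSubgroup H = pCore p H :=
    (Cfsg.Agent.Lib.Helper1.genFitting_eq_pCore_iff_centralizer_le p H).mpr hH
  induction hL with
  | top => simp only [inf_top_eq]
  | step L K h_le hSubn hN ih =>
    have hK : Subgroup.centralizer (pCore p ↥K : Set ↥K) ≤ pCore p ↥K :=
      (Cfsg.Agent.Lib.Helper1.genFitting_eq_pCore_iff_centralizer_le p ↥K).mp
        (Cfsg.Agent.Lib.Helper1.genFitting_eq_pCore_of_subnormal p hSubn hFH)
    obtain ⟨TK, hTK⟩ := Cfsg.Agent.S0542.result p K hSubn T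
    haveI : (L.subgroupOf K).Normal := hN
    have key := normal_case hK TK (L.subgroupOf K)
    have key2 := congrArg (Subgroup.map K.subtype) key
    rw [hTK] at key2
    have e1 : (T : Subgroup H).subgroupOf K = ((T : Subgroup H) ⊓ K).subgroupOf K :=
      (Subgroup.inf_subgroupOf_right _ _).symm
    have e2 : (T : Subgroup H).subgroupOf K ⊓ L.subgroupOf K =
        ((T : Subgroup H) ⊓ L).subgroupOf K := rfl
    rw [e2, e1, transport p K L ((T : Subgroup H) ⊓ K) h_le inf_le_right,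
      transport p K L ((T : Subgroup H) ⊓ L) h_le (inf_le_right.trans h_le)] at key2
    have h1 : L ⊓ Subgroup.centralizer ((omegaOne p ((T : Subgroup H) ⊓
        Subgroup.centralizer ((T : Subgroup H) : Set H)) : Subgroup H) : Set H) =
        L ⊓ (K ⊓ Subgroup.centralizer ((omegaOne p ((T : Subgroup H) ⊓
          Subgroup.centralizer ((T : Subgroup H) : Set H)) : Subgroup H) : Set H)) := by
      rw [← inf_assoc, inf_of_le_left h_le]
    rw [h1, ih, ← inf_assoc, inf_of_le_left h_le]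
    exact key2

end Cfsg.Agent.S2805
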