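import Mathlib
import Cfsg.Statements.S3028
import Cfsg.Agent.S2825
import Cfsg.Agent.Lib.Helper4.OpJoin
import Cfsg.Agent.Lib.Helper3.SubnSylow
import Cfsg.Agent.Lib.Helper3.EA
import Cfsg.Agent.Lib.Helper9.MinNormal

set_option autoImplicit false
open Cfsg

namespace Cfsg.Agent.S3028

open Cfsg.Agent.S2820 Cfsg.Agent.Lib.Helper4

universe u

theorem le_sup_of_index {G : Type*} [Group G] [Finite G] {p : ℕ} [Fact p.Prime]
    (Y N Q : Subgroup G) (hNY : N ≤ Y) (hYN : Y ≤ Subgroup.normalizer (N : Set G))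
    (hp : ∀ y ∈ Y, ∃ k : ℕ, y ^ p ^ k ∈ N) (hcop : (Q.relIndex Y).Coprime p) : Y ≤ N ⊔ Q := by
  haveI hNn : (N.subgroupOf Y).Normal :=
    (Subgroup.normal_subgroupOf_iff_le_normalizer hNY).mpr hYN
  have hQp : IsPGroup p (↥Y ⧸ N.subgroupOf Y) := by
    intro q
    obtain ⟨y, rfl⟩ := QuotientGroup.mk'_surjective _ q
    obtain ⟨k, hk⟩ := hp y y.2
    refine ⟨k, ?_⟩
    rw [← map_pow]
    exact (QuotientGroup.eq_one_iff _).mpr (Subgroup.mem_subgroupOf.mpr hk)
  obtain ⟨j, hj⟩ := IsPGroup.iff_card.mp hQp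
  have h1 : N.relIndex Y = p ^ j := by
    show (N.subgroupOf Y).index = p ^ j
    rw [Subgroup.index_eq_card]; exact hj
  have h2 : (N ⊔ Q).relIndex Y ∣ p ^ j := by
    rw [← h1]; exact Subgroup.relIndex_dvd_of_le_left Y le_sup_left
  have h3 : (N ⊔ Q).relIndex Y ∣ Q.relIndex Y := Subgroup.relIndex_dvd_of_le_left Y le_sup_right
  have hc : ((N ⊔ Q).relIndex Y).Coprime (p ^ j) :=
    Nat.Coprime.pow_right j (Nat.Coprime.coprime_dvd_left h3 hcop)
  exact Subgroup.relIndex_eq_one.mp (hc.eq_one_of_dvd h2)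

theorem coprime_relIndex {G : Type*} [Group G] [Finite G] {p : ℕ} [Fact p.Prime] (S : Sylow p G)
    {A : Subgroup G} (hA : A.IsSubnormal) : ((A ⊓ (S : Subgroup G)).relIndex A).Coprime p := by
  have hp : p.Prime := Fact.out
  rw [inf_comm]
  have h1 := Cfsg.Agent.Lib.Helper3.card_sylow_inf_subnormal S hA
  have h2 : Nat.card ↥((S : Subgroup G) ⊓ A) * ((S : Subgroup G) ⊓ A).relIndex A =
      Nat.card ↥A := by
    have := Subgroup.card_mul_index (((S : Subgroup G) ⊓ A).subgroupOf A)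
    rw [Cfsg.Agent.Lib.Helper3.card_subgroupOf_of_le inf_le_right] at this
    exact this
  rw [Nat.coprime_comm, hp.coprime_iff_not_dvd]
  intro hdvd
  obtain ⟨c, hc⟩ := hdvd
  apply Nat.pow_succ_factorization_not_dvd (Nat.card_pos (α := ↥A)).ne' hp
  refine ⟨c, ?_⟩
  calc Nat.card ↥A = Nat.card ↥((S : Subgroup G) ⊓ A) * ((S : Subgroup G) ⊓ A).relIndex A :=
        h2.symm
    _ = p ^ (Nat.card ↥A).factorization p * (p * c) := by rw [h1, hc]
    _ = p ^ ((Nat.card ↥A).factorization p + 1) * c := by rw [pow_succ, mul_assoc]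

theorem inf_sup_le {G : Type*} [Group G] [Finite G] {p : ℕ} [Fact p.Prime] (S : Sylow p G)
    {A : Subgroup G} (hA : A.IsSubnormal) (M : Subgroup G) (hM : M.Normal) :
    A ⊓ ((S : Subgroup G) ⊔ M) ≤ (A ⊓ M) ⊔ (A ⊓ S) := by
  haveI := hM
  apply le_sup_of_index (p := p)
  · exact inf_le_inf_left A le_sup_right
  · refine inf_le_left.trans ?_
    refine le_trans ?_ (Cfsg.Agent.S2825.norm_inf_le A M)
    rw [Subgroup.normalizer_eq_top_iff.mpr hM, inf_top_eq]
    exact Subgroup.le_normalizer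
  · intro y hy
    obtain ⟨hyA, hyS⟩ := Subgroup.mem_inf.mp hy
    rw [sup_comm] at hyS
    obtain ⟨m, hm, s, hs, rfl⟩ := Cfsg.Agent.Lib.Helper7.exists_mul_of_mem_sup (N := M)
      (A := (S : Subgroup G)) (by rw [Subgroup.normalizer_eq_top_iff.mpr hM]; exact le_top) hyS
    obtain ⟨k, hk⟩ := S.isPGroup' ⟨s, hs⟩
    have hk' : s ^ p ^ k = 1 := congrArg Subtype.val hk
    refine ⟨k, Subgroup.mem_inf.mpr ⟨A.pow_mem hyA _, ?_⟩⟩
    have h1 : ((m * s : G) : G ⧸ M) ^ p ^ k = 1 := by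
      rw [QuotientGroup.mk_mul, (QuotientGroup.eq_one_iff m).mpr hm, one_mul,
        ← QuotientGroup.mk_pow, hk', QuotientGroup.mk_one]
    rw [← QuotientGroup.mk_pow] at h1
    exact (QuotientGroup.eq_one_iff _).mp h1
  · have h1 := Subgroup.relIndex_mul_relIndex (A ⊓ (S : Subgroup G))
      (A ⊓ ((S : Subgroup G) ⊔ M)) A (inf_le_inf_left A le_sup_left) inf_le_left
    exact Nat.Coprime.coprime_dvd_left (Dvd.intro _ h1) (coprime_relIndex S hA)

theorem perm_sylow {G : Type*} [Group G] [Finite G] {p : ℕ} [Fact p.Prime] (S : Sylow p G)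
    {X Y : Subgroup G} (hX : X.IsSubnormal) (hY : Y.IsSubnormal)
    (hXY : X ≤ Subgroup.normalizer (Y : Set G)) :
    (X ⊔ Y) ⊓ (S : Subgroup G) ≤ (X ⊓ S) ⊔ (Y ⊓ S) := by
  have hp : p.Prime := Fact.out
  have ha := Cfsg.Agent.Lib.Helper3.card_sylow_inf_subnormal S hX
  have hb := Cfsg.Agent.Lib.Helper3.card_sylow_inf_subnormal S hY
  have hc := Cfsg.Agent.Lib.Helper3.card_sylow_inf_subnormal S (hX.inf hY)
  have hUV : (S : Subgroup G) ⊓ X ≤
      Subgroup.normalizer (((S : Subgroup G) ⊓ Y : Subgroup G) : Set G) :=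
    (le_inf (inf_le_left.trans Subgroup.le_normalizer) (inf_le_right.trans hXY)).trans
      (Cfsg.Agent.S2825.norm_inf_le _ _)
  have h1 := Cfsg.Agent.Lib.Helper3.card_sup_mul_card_inf ((S : Subgroup G) ⊓ X)
    ((S : Subgroup G) ⊓ Y) hUV
  have e : ((S : Subgroup G) ⊓ X) ⊓ ((S : Subgroup G) ⊓ Y) = (S : Subgroup G) ⊓ (X ⊓ Y) :=
    (inf_inf_distrib_left _ _ _).symm
  rw [e, ha, hb, hc] at h1
  have h2 := Cfsg.Agent.Lib.Helper3.card_sup_mul_card_inf X Y hXY
  have h3 : (Nat.card ↥(X ⊔ Y)).factorization p + (Nat.card ↥(X ⊓ Y)).factorization p =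
      (Nat.card X).factorization p + (Nat.card Y).factorization p := by
    have h : (Nat.card ↥(X ⊔ Y) * Nat.card ↥(X ⊓ Y)).factorization p =
        (Nat.card X * Nat.card Y).factorization p := by rw [h2]
    rw [Nat.factorization_mul Nat.card_pos.ne' Nat.card_pos.ne',
      Nat.factorization_mul Nat.card_pos.ne' Nat.card_pos.ne'] at h
    simpa using h
  have hWp : IsPGroup p ↥((X ⊔ Y) ⊓ (S : Subgroup G)) := S.isPGroup'.to_le inf_le_right
  obtain ⟨w, hw⟩ := IsPGroup.iff_card.mp hWp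
  have hwd : p ^ w ∣ Nat.card ↥(X ⊔ Y) := by
    rw [← hw]; exact Subgroup.card_dvd_of_le inf_le_left
  have hw' : w ≤ (Nat.card ↥(X ⊔ Y)).factorization p :=
    (hp.pow_dvd_iff_le_factorization Nat.card_pos.ne').mp hwd
  obtain ⟨u, hu⟩ := IsPGroup.iff_card.mp (S.isPGroup'.to_le
    (sup_le inf_le_left inf_le_left :
      ((S : Subgroup G) ⊓ X) ⊔ ((S : Subgroup G) ⊓ Y) ≤ (S : Subgroup G)))
  rw [hu, ← pow_add, ← pow_add] at h1
  have h5 : u + (Nat.card ↥(X ⊓ Y)).factorization p =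
      (Nat.card X).factorization p + (Nat.card Y).factorization p :=
    Nat.pow_right_injective hp.two_le h1
  have hwu : w ≤ u := by omega
  have hle : ((S : Subgroup G) ⊓ X) ⊔ ((S : Subgroup G) ⊓ Y) ≤ (X ⊔ Y) ⊓ (S : Subgroup G) :=
    sup_le (le_inf (inf_le_right.trans le_sup_left) inf_le_left)
      (le_inf (inf_le_right.trans le_sup_right) inf_le_left)
  have hcard : Nat.card ↥((X ⊔ Y) ⊓ (S : Subgroup G)) ≤
      Nat.card ↥(((S : Subgroup G) ⊓ X) ⊔ ((S : Subgroup G) ⊓ Y)) := by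
    rw [hw, hu]; exact Nat.pow_le_pow_right hp.pos hwu
  have h6 := Subgroup.eq_of_le_of_card_ge hle hcard
  rw [← h6, inf_comm (S : Subgroup G) X, inf_comm (S : Subgroup G) Y]

theorem le_normalizer_D {G : Type*} [Group G] [Finite G] (M A B : Subgroup G) (hM : M.Normal)
    (hMA : M ≤ Subgroup.normalizer (A : Set G)) :
    A ≤ Subgroup.normalizer (((M ⊓ A) ⊔ (M ⊓ B) : Subgroup G) : Set G) := by
  intro a ha
  apply Cfsg.Agent.S1900.mem_normalizer_of_conj_mem
  intro y hy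
  have hnorm : M ⊓ B ≤ Subgroup.normalizer ((M ⊓ A : Subgroup G) : Set G) := by
    refine inf_le_left.trans ?_
    refine le_trans ?_ (Cfsg.Agent.S2825.norm_inf_le M A)
    exact le_inf Subgroup.le_normalizer hMA
  obtain ⟨u, hu, v, hv, rfl⟩ := Cfsg.Agent.Lib.Helper7.exists_mul_of_mem_sup (N := M ⊓ A)
    (A := M ⊓ B) hnorm hy
  have h1 : a * u * a⁻¹ ∈ M ⊓ A :=
    ⟨hM.conj_mem u hu.1 a, A.mul_mem (A.mul_mem ha hu.2) (A.inv_mem ha)⟩
  have h2 : a * v * a⁻¹ * v⁻¹ ∈ M ⊓ A := by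
    refine ⟨M.mul_mem (hM.conj_mem v hv.1 a) (M.inv_mem hv.1), ?_⟩
    have h3 : v * a⁻¹ * v⁻¹ ∈ A :=
      (Subgroup.mem_normalizer_iff.mp (hMA hv.1) a⁻¹).mp (A.inv_mem ha)
    have : a * v * a⁻¹ * v⁻¹ = a * (v * a⁻¹ * v⁻¹) := by group
    rw [this]; exact A.mul_mem ha h3
  have e : a * (u * v) * a⁻¹ = (a * u * a⁻¹) * ((a * v * a⁻¹ * v⁻¹) * v) := by group
  rw [e]
  exact Subgroup.mul_mem _ (Subgroup.mem_sup_left h1)
    (Subgroup.mul_mem _ (Subgroup.mem_sup_left h2) (Subgroup.mem_sup_right hv))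

theorem opIn_top_le_pres {G : Type*} [Group G] (p : ℕ) :
    opIn p (⊤ : Subgroup G) ≤ pResidual p G := by
  show Subgroup.closure _ ≤ Subgroup.closure _
  exact Subgroup.closure_mono (fun x hx => hx.2)

theorem transfer_mem {G : Type*} [Group G] [Finite G] {p : ℕ} [Fact p.Prime] (S : Sylow p G)
    (S₀ : Subgroup G) (hres : opIn p (⊤ : Subgroup G) = ⊤)
    (hcomm : ∀ a ∈ (S : Subgroup G), ∀ b ∈ (S : Subgroup G), a * b * a⁻¹ * b⁻¹ ∈ S₀)
    (z : G) (hzS : z ∈ (S : Subgroup G)) (hzc : z ∈ Subgroup.center G) : z ∈ S₀ := by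
  have hp : p.Prime := Fact.out
  obtain ⟨f, hf⟩ : ∃ f : G →* Abelianization ↥(S : Subgroup G), f = MonoidHom.transfer
      (Abelianization.of : ↥(S : Subgroup G) →* Abelianization ↥(S : Subgroup G)) := ⟨_, rfl⟩
  have hQ : IsPGroup p (Abelianization ↥(S : Subgroup G)) := by
    intro q
    obtain ⟨s, hs⟩ := (QuotientGroup.mk_surjective :
      Function.Surjective (QuotientGroup.mk : ↥(S : Subgroup G) →
        ↥(S : Subgroup G) ⧸ commutator ↥(S : Subgroup G))) q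
    obtain ⟨k, hk⟩ := S.isPGroup' s
    refine ⟨k, ?_⟩
    have h1 : q = Abelianization.of s := hs.symm
    rw [h1, ← map_pow, hk, map_one]
  have hker : ∀ x : G, f x = 1 := by
    intro x
    have h1 : x ∈ pResidual p G := opIn_top_le_pres p (by rw [hres]; trivial)
    exact MonoidHom.mem_ker.mp (Cfsg.Agent.Lib.Helper2.pResidual_le_ker f hQ h1)
  have hz1 := hker z
  have key : ∀ (k : ℕ) (g₀ : G), g₀⁻¹ * z ^ k * g₀ ∈ (S : Subgroup G) →
      g₀⁻¹ * z ^ k * g₀ = z ^ k := by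
    intro k g₀ _
    have h1 : z ^ k ∈ Subgroup.center G := Subgroup.pow_mem _ hzc k
    have h2 := Subgroup.mem_center_iff.mp h1 g₀
    rw [mul_assoc, ← h2, inv_mul_cancel_left]
  rw [hf, MonoidHom.transfer_eq_pow _ z key] at hz1
  have h3 := MonoidHom.mem_ker.mpr hz1
  rw [Abelianization.ker_of] at h3
  have hcle : commutator ↥(S : Subgroup G) ≤ S₀.subgroupOf (S : Subgroup G) := by
    rw [_root_.commutator_def, Subgroup.commutator_le]
    intro a _ b _
    rw [Subgroup.mem_subgroupOf]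
    exact hcomm a a.2 b b.2
  have h4 : z ^ (S : Subgroup G).index ∈ S₀ := Subgroup.mem_subgroupOf.mp (hcle h3)
  obtain ⟨k, hk⟩ := S.isPGroup' ⟨z, hzS⟩
  have hk' : z ^ p ^ k = 1 := congrArg Subtype.val hk
  have hcop : ((S : Subgroup G).index).Coprime (orderOf z) := by
    have h5 : orderOf z ∣ p ^ k := orderOf_dvd_of_pow_eq_one hk'
    have h6 : ((S : Subgroup G).index).Coprime p := by
      rw [Nat.coprime_comm, hp.coprime_iff_not_dvd]; exact S.not_dvd_index
    exact Nat.Coprime.coprime_dvd_right h5 (Nat.Coprime.pow_right k h6)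
  obtain ⟨m, hm⟩ := exists_pow_eq_self_of_coprime hcop
  rw [← hm]; exact S₀.pow_mem h4 m

theorem core_step {p : ℕ} [Fact p.Prime] (n : ℕ)
    (ih : ∀ m < n, ∀ (G : Type u) [Group G] [Finite G], Nat.card G = m →
      ∀ (A B : Subgroup G), A.IsSubnormal → B.IsSubnormal → A ⊔ B = ⊤ → ∀ S : Sylow p G,
      (S : Subgroup G) ≤ (A ⊓ S) ⊔ (B ⊓ S))
    (G : Type u) [Group G] [Finite G] (hn : Nat.card G = n) (A B : Subgroup G)
    (hA : A.IsSubnormal) (hB : B.IsSubnormal) (hAB : A ⊔ B = ⊤) (S : Sylow p G)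
    (hres : opIn p (⊤ : Subgroup G) = ⊤) : (S : Subgroup G) ≤ (A ⊓ S) ⊔ (B ⊓ S) := by
  by_cases hG : Nontrivial G
  swap
  · rw [not_nontrivial_iff_subsingleton] at hG
    intro s _
    rw [Subsingleton.elim s 1]; exact Subgroup.one_mem _
  obtain ⟨M, hMn, hMne, hMmin⟩ := Cfsg.Agent.Lib.Helper9.exists_minimal_normal G
  haveI := hMn
  obtain ⟨S₀, hS₀⟩ : ∃ S₀ : Subgroup G, S₀ = (A ⊓ S) ⊔ (B ⊓ S) := ⟨_, rfl⟩
  rw [← hS₀]
  have hS₀S : S₀ ≤ S := by rw [hS₀]; exact sup_le inf_le_right inf_le_right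
  have key1 : (S : Subgroup G) ≤ S₀ ⊔ ((S : Subgroup G) ⊓ M) := by
    obtain ⟨f, hf⟩ : ∃ f : G →* G ⧸ M, f = QuotientGroup.mk' M := ⟨_, rfl⟩
    have hfs : Function.Surjective f := by rw [hf]; exact QuotientGroup.mk'_surjective M
    have hcard : Nat.card (G ⧸ M) < n := by
      have h1 := Subgroup.card_eq_card_quotient_mul_card_subgroup M
      have h2 : 1 < Nat.card M := (Subgroup.one_lt_card_iff_ne_bot M).mpr hMne
      have h3 : 0 < Nat.card (G ⧸ M) := Nat.card_pos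
      rw [← hn, h1]
      nlinarith
    have h := ih _ hcard (G ⧸ M) rfl (A.map f) (B.map f) (hA.map hfs) (hB.map hfs)
      (by rw [← Subgroup.map_sup, hAB, Subgroup.map_top_of_surjective f hfs])
      (S.mapSurjective hfs)
    rw [Sylow.coe_mapSurjective] at h
    have q1 : ∀ X : Subgroup G, X.IsSubnormal →
        X.map f ⊓ (S : Subgroup G).map f ≤ (X ⊓ S).map f := by
      intro X hX
      rintro _ ⟨⟨a, ha, rfl⟩, ⟨s, hs, hsa⟩⟩
      have hsm : s⁻¹ * a ∈ M := by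
        rw [hf] at hsa
        exact QuotientGroup.eq.mp hsa
      have haS : a ∈ (S : Subgroup G) ⊔ M := by
        have : a = s * (s⁻¹ * a) := by group
        rw [this]
        exact Subgroup.mul_mem _ (Subgroup.mem_sup_left hs) (Subgroup.mem_sup_right hsm)
      have h1 := inf_sup_le S hX M hMn (Subgroup.mem_inf.mpr ⟨ha, haS⟩)
      have hnorm : X ⊓ (S : Subgroup G) ≤
          Subgroup.normalizer ((X ⊓ M : Subgroup G) : Set G) := by
        refine inf_le_left.trans ?_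
        refine le_trans ?_ (Cfsg.Agent.S2825.norm_inf_le X M)
        rw [Subgroup.normalizer_eq_top_iff.mpr hMn, inf_top_eq]
        exact Subgroup.le_normalizer
      obtain ⟨m, hm, u, hu, rfl⟩ := Cfsg.Agent.Lib.Helper7.exists_mul_of_mem_sup (N := X ⊓ M)
        (A := X ⊓ (S : Subgroup G)) hnorm h1
      refine ⟨u, hu, ?_⟩
      rw [map_mul]
      have : f m = 1 := by rw [hf]; exact (QuotientGroup.eq_one_iff m).mpr hm.2
      rw [this, one_mul]
    have h2 : (S : Subgroup G).map f ≤ S₀.map f := by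
      refine h.trans ?_
      rw [hS₀, Subgroup.map_sup]
      exact sup_le_sup (q1 A hA) (q1 B hB)
    intro s hs
    obtain ⟨t, ht, hts⟩ := h2 ⟨s, hs, rfl⟩
    have htm : t⁻¹ * s ∈ M := by
      rw [hf] at hts
      exact QuotientGroup.eq.mp hts
    have : s = t * (t⁻¹ * s) := by group
    rw [this]
    exact Subgroup.mul_mem _ (Subgroup.mem_sup_left ht)
      (Subgroup.mem_sup_right ⟨Subgroup.mul_mem _ (Subgroup.inv_mem _ (hS₀S ht)) hs, htm⟩)
  have hMA : M ≤ Subgroup.normalizer (A : Set G) :=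
    Cfsg.Agent.Lib.Helper9.minimal_normal_le_normalizer A M hA hMn hMne hMmin
  have hMB : M ≤ Subgroup.normalizer (B : Set G) :=
    Cfsg.Agent.Lib.Helper9.minimal_normal_le_normalizer B M hB hMn hMne hMmin
  obtain ⟨D, hD⟩ : ∃ D : Subgroup G, D = (M ⊓ A) ⊔ (M ⊓ B) := ⟨_, rfl⟩
  have hDn : D.Normal := by
    rw [← Subgroup.normalizer_eq_top_iff, eq_top_iff, ← hAB, hD]
    apply sup_le (le_normalizer_D M A B hMn hMA)
    rw [sup_comm]
    exact le_normalizer_D M B A hMn hMB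
  have hDM : D ≤ M := by rw [hD]; exact sup_le inf_le_left inf_le_left
  rcases hMmin D hDn hDM with hbot | htop
  · have hAbot : M ⊓ A = ⊥ := by
      rw [hD] at hbot; exact (sup_eq_bot_iff.mp hbot).1
    have hBbot : M ⊓ B = ⊥ := by
      rw [hD] at hbot; exact (sup_eq_bot_iff.mp hbot).2
    have hcent : ∀ X : Subgroup G, M ≤ Subgroup.normalizer (X : Set G) → M ⊓ X = ⊥ →
        ∀ m ∈ M, ∀ x ∈ X, x * m = m * x := by
      intro X hMX hX m hm x hx
      have h1 : m * x * m⁻¹ * x⁻¹ ∈ M ⊓ X := by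
        refine ⟨?_, X.mul_mem ((Subgroup.mem_normalizer_iff.mp (hMX hm) x).mp hx)
          (X.inv_mem hx)⟩
        have : m * x * m⁻¹ * x⁻¹ = m * (x * m⁻¹ * x⁻¹) := by group
        rw [this]; exact M.mul_mem hm (hMn.conj_mem _ (M.inv_mem hm) x)
      rw [hX, Subgroup.mem_bot] at h1
      have h2 : m * x * m⁻¹ * x⁻¹ * (x * m) = x * m := by rw [h1, one_mul]
      rw [← h2]; group
    have hMc : ∀ m ∈ M, m ∈ Subgroup.center G := by
      intro m hm
      rw [Subgroup.mem_center_iff]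
      intro g
      have hle : A ⊔ B ≤ Subgroup.centralizer ({m} : Set G) := by
        apply sup_le
        · intro a ha
          rw [Subgroup.mem_centralizer_iff]
          intro y hy
          rw [Set.mem_singleton_iff] at hy
          rw [hy]; exact (hcent A hMA hAbot m hm a ha).symm
        · intro a ha
          rw [Subgroup.mem_centralizer_iff]
          intro y hy
          rw [Set.mem_singleton_iff] at hy
          rw [hy]; exact (hcent B hMB hBbot m hm a ha).symm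
      have hg : g ∈ Subgroup.centralizer ({m} : Set G) := hle (by rw [hAB]; trivial)
      exact (Subgroup.mem_centralizer_iff.mp hg m rfl).symm
    have hSM : (S : Subgroup G) ⊓ M ≤ S₀ := by
      intro z hz
      apply transfer_mem S S₀ hres ?_ z hz.1 (hMc z hz.2)
      intro a ha b hb
      have hnorm : (S : Subgroup G) ⊓ M ≤ Subgroup.normalizer (S₀ : Set G) := by
        intro c hc
        exact Subgroup.center_le_normalizer _ (hMc c hc.2)
      obtain ⟨t, ht, c, hc, rfl⟩ := Cfsg.Agent.Lib.Helper7.exists_mul_of_mem_sup (N := S₀)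
        (A := (S : Subgroup G) ⊓ M) hnorm (key1 ha)
      obtain ⟨t', ht', c', hc', rfl⟩ := Cfsg.Agent.Lib.Helper7.exists_mul_of_mem_sup (N := S₀)
        (A := (S : Subgroup G) ⊓ M) hnorm (key1 hb)
      have hcc := Subgroup.mem_center_iff.mp (hMc c hc.2)
      have hcc' := Subgroup.mem_center_iff.mp (hMc c' hc'.2)
      have e : t * c * (t' * c') * (t * c)⁻¹ * (t' * c')⁻¹ = t * t' * t⁻¹ * t'⁻¹ := by
        calc t * c * (t' * c') * (t * c)⁻¹ * (t' * c')⁻¹
            = t * (c * (t' * c') * c⁻¹) * t⁻¹ * (t' * c')⁻¹ := by group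
          _ = t * (t' * c') * t⁻¹ * (t' * c')⁻¹ := by
              rw [show c * (t' * c') * c⁻¹ = t' * c' from by
                rw [← hcc (t' * c'), mul_inv_cancel_right]]
          _ = t * t' * (c' * t⁻¹ * c'⁻¹) * t'⁻¹ := by group
          _ = t * t' * t⁻¹ * t'⁻¹ := by
              rw [show c' * t⁻¹ * c'⁻¹ = t⁻¹ from by
                rw [← hcc' t⁻¹, mul_inv_cancel_right]]
      rw [e]
      exact S₀.mul_mem (S₀.mul_mem (S₀.mul_mem ht ht') (S₀.inv_mem ht)) (S₀.inv_mem ht')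
    exact key1.trans (sup_le le_rfl hSM)
  · have hnorm : M ⊓ A ≤ Subgroup.normalizer ((M ⊓ B : Subgroup G) : Set G) := by
      refine inf_le_left.trans ?_
      refine le_trans ?_ (Cfsg.Agent.S2825.norm_inf_le M B)
      exact le_inf Subgroup.le_normalizer hMB
    have hSM : (S : Subgroup G) ⊓ M ≤ S₀ := by
      have h1 := perm_sylow S (hMn.isSubnormal.inf hA) (hMn.isSubnormal.inf hB) hnorm
      rw [← hD, htop] at h1
      rw [inf_comm]
      refine h1.trans ?_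
      rw [hS₀]
      exact sup_le_sup (inf_le_inf_right _ inf_le_right) (inf_le_inf_right _ inf_le_right)
    exact key1.trans (sup_le le_rfl hSM)

theorem sj_aux {p : ℕ} [Fact p.Prime] : ∀ n : ℕ, ∀ (G : Type u) [Group G] [Finite G],
    Nat.card G = n → ∀ (A B : Subgroup G), A.IsSubnormal → B.IsSubnormal → A ⊔ B = ⊤ →
    ∀ S : Sylow p G, (S : Subgroup G) ≤ (A ⊓ S) ⊔ (B ⊓ S) := by
  intro n
  induction n using Nat.strong_induction_on with
  | _ n ih =>
  intro G _ _ hn A B hA hB hAB S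
  by_cases hres : opIn p (⊤ : Subgroup G) = ⊤
  · exact core_step n ih G hn A B hA hB hAB S hres
  · obtain ⟨N, hN⟩ : ∃ N : Subgroup G, N = opIn p (⊤ : Subgroup G) := ⟨_, rfl⟩
    obtain ⟨S₀, hS₀⟩ : ∃ S₀ : Subgroup G, S₀ = (A ⊓ S) ⊔ (B ⊓ S) := ⟨_, rfl⟩
    rw [← hS₀]
    have hS₀S : S₀ ≤ S := by rw [hS₀]; exact sup_le inf_le_right inf_le_right
    have hNn : N.Normal := by
      rw [← Subgroup.normalizer_eq_top_iff, eq_top_iff, hN]
      refine le_trans ?_ (normalizer_le_normalizer_opIn p (⊤ : Subgroup G))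
      exact Subgroup.le_normalizer
    have hOJ : N ≤ opIn p A ⊔ opIn p B := by
      rw [hN]
      exact h4_oj_aux (p := p) (Nat.card (⊤ : Subgroup G)) ⊤ A B rfl hAB hA.subgroupOf
        hB.subgroupOf
    have hA1 : A ≤ opIn p A ⊔ (A ⊓ S) :=
      le_sup_of_index A (opIn p A) (A ⊓ S) (opIn_le p A)
        (Subgroup.le_normalizer.trans (normalizer_le_normalizer_opIn p A))
        (fun y hy => pow_mem_opIn p A hy) (coprime_relIndex S hA)
    have hB1 : B ≤ opIn p B ⊔ (B ⊓ S) :=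
      le_sup_of_index B (opIn p B) (B ⊓ S) (opIn_le p B)
        (Subgroup.le_normalizer.trans (normalizer_le_normalizer_opIn p B))
        (fun y hy => pow_mem_opIn p B hy) (coprime_relIndex S hB)
    have hA₀N : opIn p A ≤ N := by rw [hN]; exact opIn_mono p le_top
    have hB₀N : opIn p B ≤ N := by rw [hN]; exact opIn_mono p le_top
    have htop : (⊤ : Subgroup G) ≤ N ⊔ S₀ := by
      rw [← hAB]
      apply sup_le
      · exact hA1.trans (sup_le_sup hA₀N (by rw [hS₀]; exact le_sup_left))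
      · exact hB1.trans (sup_le_sup hB₀N (by rw [hS₀]; exact le_sup_right))
    have hSN : (S : Subgroup G) ⊓ N ≤ S₀ := by
      have hNlt : Nat.card N < n := by
        rw [← hn, ← Subgroup.card_top (G := G)]
        exact card_lt (lt_top_iff_ne_top.mpr (by rw [hN]; exact hres))
      obtain ⟨SN, hSN⟩ := Cfsg.Agent.Lib.Helper3.exists_sylow_subgroupOf_subnormal S
        hNn.isSubnormal
      have hA₀sn : (opIn p A).IsSubnormal := h4_opIn_subnormal p hA
      have hB₀sn : (opIn p B).IsSubnormal := h4_opIn_subnormal p hB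
      have hsup : (opIn p A).subgroupOf N ⊔ (opIn p B).subgroupOf N = ⊤ := by
        rw [← Subgroup.subgroupOf_sup hA₀N hB₀N, eq_top_iff]
        intro x _
        exact Subgroup.mem_subgroupOf.mpr (hOJ x.2)
      have h := ih (Nat.card N) hNlt ↥N rfl ((opIn p A).subgroupOf N)
        ((opIn p B).subgroupOf N) hA₀sn.subgroupOf hB₀sn.subgroupOf hsup SN
      rw [hSN] at h
      intro x hx
      have hx' : (⟨x, hx.2⟩ : ↥N) ∈ ((S : Subgroup G) ⊓ N).subgroupOf N :=
        Subgroup.mem_subgroupOf.mpr hx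
      have h2 := h hx'
      have h3 : ((opIn p A).subgroupOf N ⊓ ((S : Subgroup G) ⊓ N).subgroupOf N ⊔
          (opIn p B).subgroupOf N ⊓ ((S : Subgroup G) ⊓ N).subgroupOf N).map N.subtype ≤
          S₀ := by
        rw [Subgroup.map_sup]
        apply sup_le
        · rintro _ ⟨y, hy, rfl⟩
          rw [hS₀]
          exact Subgroup.mem_sup_left ⟨opIn_le p A (Subgroup.mem_subgroupOf.mp hy.1),
            (Subgroup.mem_subgroupOf.mp hy.2).1⟩
        · rintro _ ⟨y, hy, rfl⟩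
          rw [hS₀]
          exact Subgroup.mem_sup_right ⟨opIn_le p B (Subgroup.mem_subgroupOf.mp hy.1),
            (Subgroup.mem_subgroupOf.mp hy.2).1⟩
      exact h3 ⟨⟨x, hx.2⟩, h2, rfl⟩
    intro s hs
    have h1 : s ∈ N ⊔ S₀ := htop (Subgroup.mem_top s)
    obtain ⟨x, hx, t, ht, rfl⟩ := Cfsg.Agent.Lib.Helper7.exists_mul_of_mem_sup (N := N)
      (A := S₀) (by rw [Subgroup.normalizer_eq_top_iff.mpr hNn]; exact le_top) h1
    have hxS : x ∈ (S : Subgroup G) := by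
      have : x = x * t * t⁻¹ := by group
      rw [this]; exact Subgroup.mul_mem _ hs (Subgroup.inv_mem _ (hS₀S ht))
    exact S₀.mul_mem (hSN ⟨hxS, hx⟩) ht

theorem sylow_join {G : Type*} [Group G] [Finite G] {p : ℕ} [Fact p.Prime] (S : Sylow p G)
    (A₁ A₂ : Subgroup G) (h₁ : A₁.IsSubnormal) (h₂ : A₂.IsSubnormal) :
    (A₁ ⊔ A₂) ⊓ (S : Subgroup G) ≤ (A₁ ⊓ (S : Subgroup G)) ⊔ (A₂ ⊓ (S : Subgroup G)) := by
  obtain ⟨J, hJ⟩ : ∃ J : Subgroup G, J = A₁ ⊔ A₂ := ⟨_, rfl⟩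
  rw [← hJ]
  have hJsn : J.IsSubnormal := by
    rw [hJ]; exact Cfsg.Agent.Lib.Helper9.isSubnormal_sup A₁ A₂ h₁ h₂
  obtain ⟨SJ, hSJ⟩ := Cfsg.Agent.Lib.Helper3.exists_sylow_subgroupOf_subnormal S hJsn
  have hA₁J : A₁ ≤ J := by rw [hJ]; exact le_sup_left
  have hA₂J : A₂ ≤ J := by rw [hJ]; exact le_sup_right
  have hsup : A₁.subgroupOf J ⊔ A₂.subgroupOf J = ⊤ := by
    rw [← Subgroup.subgroupOf_sup hA₁J hA₂J, ← hJ, Subgroup.subgroupOf_self]
  have h := sj_aux (p := p) (Nat.card J) ↥J rfl (A₁.subgroupOf J) (A₂.subgroupOf J)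
    h₁.subgroupOf h₂.subgroupOf hsup SJ
  rw [hSJ] at h
  intro x hx
  have hx' : (⟨x, hx.1⟩ : ↥J) ∈ ((S : Subgroup G) ⊓ J).subgroupOf J :=
    Subgroup.mem_subgroupOf.mpr ⟨hx.2, hx.1⟩
  have h2 := h hx'
  have h3 : (A₁.subgroupOf J ⊓ ((S : Subgroup G) ⊓ J).subgroupOf J ⊔
      A₂.subgroupOf J ⊓ ((S : Subgroup G) ⊓ J).subgroupOf J).map J.subtype ≤
      (A₁ ⊓ (S : Subgroup G)) ⊔ (A₂ ⊓ (S : Subgroup G)) := by
    rw [Subgroup.map_sup]
    apply sup_le
    · rintro _ ⟨y, hy, rfl⟩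
      exact Subgroup.mem_sup_left ⟨Subgroup.mem_subgroupOf.mp hy.1,
        (Subgroup.mem_subgroupOf.mp hy.2).1⟩
    · rintro _ ⟨y, hy, rfl⟩
      exact Subgroup.mem_sup_right ⟨Subgroup.mem_subgroupOf.mp hy.1,
        (Subgroup.mem_subgroupOf.mp hy.2).1⟩
  exact h3 ⟨⟨x, hx.1⟩, h2, rfl⟩

/-- Let G be a finite group, p a prime, S a Sylow p-subgroup of G and A₁, A₂ subnormal subgroups of G. Then the join of S ∩ A₁ and S ∩ A₂ is a Sylow p-subgroup of the join of A₁ and A₂; equivalently ⟨A₁, A₂⟩ ∩ S = ⟨A₁ ∩ S, A₂ ∩ S⟩. -/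
theorem result {G : Type*} [Group G] [Finite G] {p : ℕ} [Fact p.Prime] (S : Sylow p G) (A₁ A₂ : Subgroup G)
    (h₁ : A₁.IsSubnormal) (h₂ : A₂.IsSubnormal) :
    (A₁ ⊔ A₂) ⊓ (S : Subgroup G) = (A₁ ⊓ (S : Subgroup G)) ⊔ (A₂ ⊓ (S : Subgroup G)) := by
  apply le_antisymm (sylow_join S A₁ A₂ h₁ h₂)
  exact sup_le (inf_le_inf_right _ le_sup_left) (inf_le_inf_right _ le_sup_right)

end Cfsg.Agent.S3028
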