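import Mathlib
import Cfsg.Statements.S2806
import Cfsg.Agent.S2805
import Cfsg.Agent.S3028
import Cfsg.Agent.Lib.Helper6.GenLemmas

set_option autoImplicit false
open Cfsg

namespace Cfsg.Agent.S2806

open Cfsg.Agent.Lib.Helper4

/-- `Ω₁(Z(R))` -/
abbrev zof {H : Type*} [Group H] (p : ℕ) (R : Subgroup H) : Subgroup H :=
  omegaOne p (R ⊓ Subgroup.centralizer (R : Set H))

theorem center_sub_ne_bot {G : Type*} [Group G] [Finite G] {p : ℕ} [Fact p.Prime]
    (S : Subgroup G) (hS : IsPGroup p S) (hS1 : S ≠ ⊥) :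
    S ⊓ Subgroup.centralizer (S : Set G) ≠ ⊥ := by
  have hnt : Nontrivial S := (Subgroup.nontrivial_iff_ne_bot S).2 hS1
  have hcn := IsPGroup.center_nontrivial hS
  obtain ⟨c, hc⟩ := exists_ne (1 : Subgroup.center S)
  intro hbot
  have h1 : (c.1.1 : G) ∈ S ⊓ Subgroup.centralizer (S : Set G) := by
    refine Subgroup.mem_inf.2 ⟨c.1.2, ?_⟩
    rw [Subgroup.mem_centralizer_iff]
    intro h hh
    have := Subgroup.mem_center_iff.1 c.2 ⟨h, hh⟩
    exact congrArg Subtype.val this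
  rw [hbot, Subgroup.mem_bot] at h1
  apply hc
  apply Subtype.ext
  apply Subtype.ext
  simpa using h1

theorem inf_trans_eq {α : Type*} [SemilatticeInf α] {l k c₁ c₂ c₃ : α} (hlk : l ≤ k)
    (h1 : k ⊓ c₁ = k ⊓ c₂) (h2 : l ⊓ c₁ = l ⊓ c₃) : l ⊓ c₂ = l ⊓ c₃ := by
  rw [← h2]
  calc l ⊓ c₂ = l ⊓ (k ⊓ c₂) := by rw [← inf_assoc, inf_eq_left.mpr hlk]
    _ = l ⊓ (k ⊓ c₁) := by rw [h1]
    _ = l ⊓ c₁ := by rw [← inf_assoc, inf_eq_left.mpr hlk]

theorem syl_max {H : Type*} [Group H] [Finite H] {p : ℕ} [Fact p.Prime] (T : Sylow p H)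
    {K : Subgroup H} (hK : K.IsSubnormal) (Q : Subgroup H) (hQK : Q ≤ K) (hQp : IsPGroup p Q)
    (hle : (T : Subgroup H) ⊓ K ≤ Q) : Q ≤ (T : Subgroup H) ⊓ K := by
  have hp : p.Prime := Fact.out
  have h1 := Cfsg.Agent.Lib.Helper3.card_sylow_inf_subnormal T hK
  obtain ⟨j, hj⟩ := IsPGroup.iff_card.mp hQp
  have hd : p ^ j ∣ Nat.card K := by rw [← hj]; exact Subgroup.card_dvd_of_le hQK
  have hj' : j ≤ (Nat.card K).factorization p :=
    (hp.pow_dvd_iff_le_factorization Nat.card_pos.ne').mp hd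
  have hcard : Nat.card Q ≤ Nat.card ↥((T : Subgroup H) ⊓ K) := by
    rw [hj, h1]; exact Nat.pow_le_pow_right hp.pos hj'
  exact le_of_eq (Subgroup.eq_of_le_of_card_ge hle hcard).symm

theorem loc {H : Type*} [Group H] [Finite H] {p : ℕ} [Fact p.Prime]
    (hH : Cfsg.IsOfLocalCharacteristic p H) (T : Sylow p H) (Z K L : Subgroup H)
    (hZp : IsPGroup p Z) (hZne : Z ≠ ⊥) (hK : K.IsSubnormal) (hL : L.IsSubnormal) (hLK : L ≤ K)
    (hTK : (T : Subgroup H) ⊓ K ≤ Subgroup.normalizer (Z : Set H)) :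
    (L ⊓ Subgroup.normalizer (Z : Set H)) ⊓
        Subgroup.centralizer (zof p ((T : Subgroup H) ⊓ K) : Set H) =
      (L ⊓ Subgroup.normalizer (Z : Set H)) ⊓
        Subgroup.centralizer (zof p ((T : Subgroup H) ⊓ L) : Set H) := by
  have hcharN : ∀ N : Subgroup H, N = Subgroup.normalizer (Z : Set H) →
      Subgroup.centralizer (pCore p ↥N : Set ↥N) ≤ pCore p ↥N := by
    intro N hN
    subst hN
    exact hH.2 Z hZp hZne
  obtain ⟨N, hN⟩ : ∃ N : Subgroup H, N = Subgroup.normalizer (Z : Set H) := ⟨_, rfl⟩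
  have hchar := hcharN N hN
  rw [← hN] at hTK ⊢
  obtain ⟨TN, hTN⟩ := IsPGroup.exists_le_sylow (p := p) (G := ↥N)
    (P := ((T : Subgroup H) ⊓ K).subgroupOf N) ((T.isPGroup'.to_le inf_le_left).comap_subtype)
  have hK' : (K.subgroupOf N).IsSubnormal := hK.subgroupOf
  have hL' : (L.subgroupOf N).IsSubnormal := hL.subgroupOf
  have kK := Cfsg.Agent.S2805.result hchar TN (K.subgroupOf N) hK'
  have kL := Cfsg.Agent.S2805.result hchar TN (L.subgroupOf N) hL'
  have e1 : (TN : Subgroup ↥N) ⊓ K.subgroupOf N = ((T : Subgroup H) ⊓ K).subgroupOf N := by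
    apply le_antisymm
    · intro x hx
      rw [Subgroup.mem_subgroupOf]
      have hQ := syl_max T hK (((TN : Subgroup ↥N) ⊓ K.subgroupOf N).map N.subtype)
        (by
          rintro _ ⟨y, hy, rfl⟩
          exact Subgroup.mem_subgroupOf.mp hy.2)
        ((TN.isPGroup'.to_le inf_le_left).map N.subtype)
        (by
          intro y hy
          exact ⟨⟨y, hTK hy⟩, ⟨hTN (Subgroup.mem_subgroupOf.mpr hy),
            Subgroup.mem_subgroupOf.mpr hy.2⟩, rfl⟩)
      exact hQ ⟨x, hx, rfl⟩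
    · exact le_inf hTN
        (fun x hx => Subgroup.mem_subgroupOf.mpr (Subgroup.mem_subgroupOf.mp hx).2)
  have hle : L.subgroupOf N ≤ K.subgroupOf N :=
    fun x hx => Subgroup.mem_subgroupOf.mpr (hLK (Subgroup.mem_subgroupOf.mp hx))
  have e2 : (TN : Subgroup ↥N) ⊓ L.subgroupOf N = ((T : Subgroup H) ⊓ L).subgroupOf N := by
    calc (TN : Subgroup ↥N) ⊓ L.subgroupOf N
        = ((TN : Subgroup ↥N) ⊓ K.subgroupOf N) ⊓ L.subgroupOf N := by
          rw [inf_assoc, inf_eq_right.mpr hle]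
      _ = ((T : Subgroup H) ⊓ L).subgroupOf N := by
          rw [e1]
          ext x
          simp only [Subgroup.mem_inf, Subgroup.mem_subgroupOf]
          constructor
          · rintro ⟨⟨h1, _⟩, h3⟩; exact ⟨h1, h3⟩
          · rintro ⟨h1, h3⟩; exact ⟨⟨h1, hLK h3⟩, h3⟩
  rw [e1] at kK
  rw [e2] at kL
  have key := inf_trans_eq hle kK kL
  have key2 := congrArg (Subgroup.map N.subtype) key
  have e3 : L.subgroupOf N = (L ⊓ N).subgroupOf N := (Subgroup.inf_subgroupOf_right L N).symm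
  rw [e3, Cfsg.Agent.S2805.transport p N (L ⊓ N) ((T : Subgroup H) ⊓ K) inf_le_right hTK,
    Cfsg.Agent.S2805.transport p N (L ⊓ N) ((T : Subgroup H) ⊓ L) inf_le_right
      ((inf_le_inf_left _ hLK).trans hTK)] at key2
  exact key2

theorem normal_step {H : Type*} [Group H] [Finite H] {p : ℕ} [Fact p.Prime]
    (hH : Cfsg.IsOfLocalCharacteristic p H) (T : Sylow p H) (K L : Subgroup H)
    (hK : K.IsSubnormal) (hL : L.IsSubnormal) (hLK : L ≤ K)
    (hKL : K ≤ Subgroup.normalizer (L : Set H)) (hne : (T : Subgroup H) ⊓ L ≠ ⊥) :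
    L ⊓ Subgroup.centralizer (zof p ((T : Subgroup H) ⊓ K) : Set H) =
      L ⊓ Subgroup.centralizer (zof p ((T : Subgroup H) ⊓ L) : Set H) := by
  have hRp : IsPGroup p ↥((T : Subgroup H) ⊓ L) := T.isPGroup'.to_le inf_le_left
  have hRKp : IsPGroup p ↥((T : Subgroup H) ⊓ K) := T.isPGroup'.to_le inf_le_left
  have hRKne : (T : Subgroup H) ⊓ K ≠ ⊥ :=
    fun h => hne (eq_bot_iff.mpr (by rw [← h]; exact inf_le_inf_left _ hLK))
  have hzne : ∀ R : Subgroup H, IsPGroup p R → R ≠ ⊥ → zof p R ≠ ⊥ :=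
    fun R hR hne h => center_sub_ne_bot R hR hne
      (Cfsg.Agent.Lib.Helper6.gl_eq_bot_of_omegaOne_eq_bot (hR.to_le inf_le_left) h)
  have hzp : ∀ R : Subgroup H, IsPGroup p R → IsPGroup p ↥(zof p R) :=
    fun R hR => hR.to_le ((Cfsg.Agent.Lib.Helper6.gl_omegaOne_le p _).trans inf_le_left)
  have hzn : ∀ X R : Subgroup H, X ≤ Subgroup.normalizer (R : Set H) →
      X ≤ Subgroup.normalizer (zof p R : Set H) :=
    fun X R h => Cfsg.Agent.Lib.Helper6.gl_normalizer_omegaOne p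
      (Cfsg.Agent.Lib.Helper6.gl_normalizer_center h)
  apply le_antisymm
  · have h1 := loc hH T (zof p ((T : Subgroup H) ⊓ K)) K L (hzp _ hRKp) (hzne _ hRKp hRKne)
      hK hL hLK (hzn _ _ Subgroup.le_normalizer)
    intro x hx
    have hxN : x ∈ Subgroup.normalizer (zof p ((T : Subgroup H) ⊓ K) : Set H) :=
      Subgroup.centralizer_le_normalizer _ hx.2
    have h2 : x ∈ (L ⊓ Subgroup.normalizer (zof p ((T : Subgroup H) ⊓ K) : Set H)) ⊓
        Subgroup.centralizer (zof p ((T : Subgroup H) ⊓ K) : Set H) := ⟨⟨hx.1, hxN⟩, hx.2⟩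
    rw [h1] at h2
    exact ⟨hx.1, h2.2⟩
  · have hRKR : (T : Subgroup H) ⊓ K ≤
        Subgroup.normalizer (((T : Subgroup H) ⊓ L : Subgroup H) : Set H) := by
      refine le_trans ?_ (Cfsg.Agent.S2825.norm_inf_le _ _)
      exact le_inf (inf_le_left.trans Subgroup.le_normalizer) (inf_le_right.trans hKL)
    have h1 := loc hH T (zof p ((T : Subgroup H) ⊓ L)) K L (hzp _ hRp) (hzne _ hRp hne)
      hK hL hLK (hzn _ _ hRKR)
    intro x hx
    have hxN : x ∈ Subgroup.normalizer (zof p ((T : Subgroup H) ⊓ L) : Set H) :=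
      Subgroup.centralizer_le_normalizer _ hx.2
    have h2 : x ∈ (L ⊓ Subgroup.normalizer (zof p ((T : Subgroup H) ⊓ L) : Set H)) ⊓
        Subgroup.centralizer (zof p ((T : Subgroup H) ⊓ L) : Set H) := ⟨⟨hx.1, hxN⟩, hx.2⟩
    rw [← h1] at h2
    exact ⟨hx.1, h2.2⟩

/-- Kieler's lemma for groups of local characteristic `p` -/
theorem local_kieler {H : Type*} [Group H] [Finite H] {p : ℕ} [Fact p.Prime]
    (hH : Cfsg.IsOfLocalCharacteristic p H) (T : Sylow p H) (L : Subgroup H)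
    (hL : L.IsSubnormal) (hne : (T : Subgroup H) ⊓ L ≠ ⊥) :
    L ⊓ Subgroup.centralizer (zof p (T : Subgroup H) : Set H) =
      L ⊓ Subgroup.centralizer (zof p ((T : Subgroup H) ⊓ L) : Set H) := by
  induction hL with
  | top => rw [inf_top_eq]
  | step L K h_le hSubn hN ih =>
    have hKne : (T : Subgroup H) ⊓ K ≠ ⊥ :=
      fun h => hne (eq_bot_iff.mpr (by rw [← h]; exact inf_le_inf_left _ h_le))
    have ih' := ih hKne
    have hLsn : L.IsSubnormal :=
      Subgroup.IsSubnormal.trans h_le (Subgroup.Normal.isSubnormal hN) hSubn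
    have hKL : K ≤ Subgroup.normalizer (L : Set H) :=
      (Subgroup.normal_subgroupOf_iff_le_normalizer h_le).mp hN
    have h1 := normal_step hH T K L hSubn hLsn h_le hKL hne
    exact inf_trans_eq h_le ih'.symm h1

theorem rel_subn_of_normal {H : Type*} [Group H] {P Y C : Subgroup H} (hPY : P ≤ Y)
    (hYP : Y ≤ Subgroup.normalizer (P : Set H)) (hY : (Y.subgroupOf C).IsSubnormal) :
    (P.subgroupOf C).IsSubnormal := by
  have hle : P.subgroupOf C ≤ Y.subgroupOf C := by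
    intro x hx
    exact Subgroup.mem_subgroupOf.mpr (hPY (Subgroup.mem_subgroupOf.mp hx))
  refine Subgroup.IsSubnormal.trans hle (Subgroup.Normal.isSubnormal ?_) hY
  constructor
  intro n hn g
  rw [Subgroup.mem_subgroupOf, Subgroup.mem_subgroupOf] at hn ⊢
  have hg : ((g : ↥C) : H) ∈ Y := Subgroup.mem_subgroupOf.mp g.2
  exact (Subgroup.mem_normalizer_iff.mp (hYP hg) _).mp hn

theorem mem_of_subnormal_sylow {H : Type*} [Group H] [Finite H] {p : ℕ} [Fact p.Prime]
    {C P₀ R : Subgroup H} (hP₀C : P₀ ≤ C) (hsn : (P₀.subgroupOf C).IsSubnormal)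
    (hRP₀ : R ≤ P₀) (hcop : (R.relIndex C).Coprime p) (y : H) (hyC : y ∈ C)
    (hyp : ∃ k : ℕ, orderOf y = p ^ k) : y ∈ P₀ := by
  have hp : p.Prime := Fact.out
  obtain ⟨k, hk⟩ := hyp
  have hyP : IsPGroup p ↥(Subgroup.zpowers (⟨y, hyC⟩ : ↥C)) := by
    apply IsPGroup.of_card (n := k)
    rw [Nat.card_zpowers, Subgroup.orderOf_mk, hk]
  obtain ⟨S', hS'⟩ := IsPGroup.exists_le_sylow hyP
  have h1 := Cfsg.Agent.Lib.Helper3.card_sylow_inf_subnormal S' hsn
  have h2 := S'.card_eq_multiplicity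
  have h3 : Nat.card ↥P₀ * P₀.relIndex C = Nat.card ↥C := by
    have := Subgroup.card_mul_index (P₀.subgroupOf C)
    rw [Cfsg.Agent.Lib.Helper3.card_subgroupOf_of_le hP₀C] at this
    exact this
  have h4 : ¬ p ∣ P₀.relIndex C := by
    intro hd
    have h5 : p ∣ R.relIndex C := hd.trans (Subgroup.relIndex_dvd_of_le_left C hRP₀)
    exact (hp.coprime_iff_not_dvd.mp hcop.symm) h5
  have h6 : (Nat.card ↥C).factorization p = (Nat.card ↥P₀).factorization p := by
    rw [← h3, Nat.factorization_mul Nat.card_pos.ne' (fun h0 => h4 (by rw [h0]; exact dvd_zero p))]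
    simp [Nat.factorization_eq_zero_of_not_dvd h4]
  rw [Cfsg.Agent.Lib.Helper3.card_subgroupOf_of_le hP₀C, ← h6, ← h2] at h1
  have h7 : (S' : Subgroup ↥C) ⊓ P₀.subgroupOf C = (S' : Subgroup ↥C) :=
    Subgroup.eq_of_le_of_card_ge inf_le_left h1.ge
  have h8 : (⟨y, hyC⟩ : ↥C) ∈ (S' : Subgroup ↥C) ⊓ P₀.subgroupOf C := by
    rw [h7]; exact hS' (Subgroup.mem_zpowers _)
  exact Subgroup.mem_subgroupOf.mp h8.2

/-- Let H be a finite group of local characteristic p, T a Sylow p-subgroup, and L₁, L₂ subnormal subgroups of H generating the subgroup L. Then the point stabilizer of L with respect to T ∩ L is generated by the point stabilizers of L₁ and L₂ with respect to T ∩ L₁ and T ∩ L₂ (point stabilizer of X w.r.t. R: the subgroup generated by the p-elements of X centralizing Ω₁(Z(R))). -/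
theorem result {H : Type*} [Group H] [Finite H] {p : ℕ} [Fact p.Prime] (hH : Cfsg.IsOfLocalCharacteristic p H) (T : Sylow p H) (L₁ L₂ : Subgroup H) (h₁ : L₁.IsSubnormal) (h₂ : L₂.IsSubnormal) : Cfsg.pointStabilizer p (L₁ ⊔ L₂) ((T : Subgroup H) ⊓ (L₁ ⊔ L₂)) = Cfsg.pointStabilizer p L₁ ((T : Subgroup H) ⊓ L₁) ⊔ Cfsg.pointStabilizer p L₂ ((T : Subgroup H) ⊓ L₂) := by
  have hp : p.Prime := Fact.out
  obtain ⟨L, hLdef⟩ : ∃ L : Subgroup H, L = L₁ ⊔ L₂ := ⟨_, rfl⟩
  rw [← hLdef]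
  have hL : L.IsSubnormal := by
    rw [hLdef]; exact Cfsg.Agent.Lib.Helper9.isSubnormal_sup L₁ L₂ h₁ h₂
  have hL₁L : L₁ ≤ L := by rw [hLdef]; exact le_sup_left
  have hL₂L : L₂ ≤ L := by rw [hLdef]; exact le_sup_right
  have triv : ∀ X : Subgroup H, X.IsSubnormal → (T : Subgroup H) ⊓ X = ⊥ → ∀ x ∈ X,
      (∃ k : ℕ, orderOf x = p ^ k) → x = 1 := by
    intro X hX hbot x hx hk
    obtain ⟨k, hk⟩ := hk
    have h1 := Cfsg.Agent.Lib.Helper3.card_sylow_inf_subnormal T hX
    rw [hbot, Subgroup.card_bot] at h1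
    have h2 : (Nat.card ↥X).factorization p = 0 := by
      rcases Nat.pow_eq_one.mp h1.symm with h | h
      · exact absurd h hp.ne_one
      · exact h
    have h3 : p ^ k ∣ Nat.card ↥X := by
      rw [← hk]; exact Subgroup.orderOf_dvd_natCard X hx
    have h4 : k ≤ (Nat.card ↥X).factorization p :=
      (hp.pow_dvd_iff_le_factorization Nat.card_pos.ne').mp h3
    have h5 : k = 0 := by omega
    rw [h5, pow_zero] at hk
    exact orderOf_eq_one_iff.mp hk
  have kie : ∀ X : Subgroup H, X.IsSubnormal → X ≤ L → (T : Subgroup H) ⊓ X ≠ ⊥ →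
      X ⊓ Subgroup.centralizer (zof p ((T : Subgroup H) ⊓ X) : Set H) =
        X ⊓ Subgroup.centralizer (zof p ((T : Subgroup H) ⊓ L) : Set H) := by
    intro X hX hXL hne
    have hLne : (T : Subgroup H) ⊓ L ≠ ⊥ :=
      fun h => hne (eq_bot_iff.mpr (by rw [← h]; exact inf_le_inf_left _ hXL))
    have k1 := local_kieler hH T X hX hne
    have k2 := local_kieler hH T L hL hLne
    exact (inf_trans_eq hXL k2 k1).symm
  have hpe : ∀ X R : Subgroup H, pointStabilizer p X R =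
      pElementClosure p (X ⊓ Subgroup.centralizer (zof p R : Set H)) := fun X R => rfl
  have ge : ∀ X : Subgroup H, X.IsSubnormal → X ≤ L →
      pointStabilizer p X ((T : Subgroup H) ⊓ X) ≤
        pointStabilizer p L ((T : Subgroup H) ⊓ L) := by
    intro X hX hXL
    rw [hpe, hpe]
    unfold pElementClosure
    rw [Subgroup.closure_le]
    rintro x ⟨hx, hk⟩
    by_cases hne : (T : Subgroup H) ⊓ X = ⊥
    · rw [triv X hX hne x hx.1 hk]; exact Subgroup.one_mem _
    · apply Subgroup.subset_closure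
      have h1 : x ∈ X ⊓ Subgroup.centralizer (zof p ((T : Subgroup H) ⊓ L) : Set H) := by
        rw [← kie X hX hXL hne]; exact hx
      exact ⟨⟨hXL h1.1, h1.2⟩, hk⟩
  apply le_antisymm
  · obtain ⟨P₁, hP₁⟩ : ∃ P₁ : Subgroup H,
        P₁ = pointStabilizer p L₁ ((T : Subgroup H) ⊓ L₁) := ⟨_, rfl⟩
    obtain ⟨P₂, hP₂⟩ : ∃ P₂ : Subgroup H,
        P₂ = pointStabilizer p L₂ ((T : Subgroup H) ⊓ L₂) := ⟨_, rfl⟩
    rw [← hP₁, ← hP₂, hpe]
    unfold pElementClosure
    rw [Subgroup.closure_le]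
    rintro y ⟨hy, hk⟩
    by_cases hRne : (T : Subgroup H) ⊓ L = ⊥
    · rw [triv L hL hRne y hy.1 hk]; exact Subgroup.one_mem _
    · obtain ⟨C, hC⟩ : ∃ C : Subgroup H,
          C = L ⊓ Subgroup.centralizer (zof p ((T : Subgroup H) ⊓ L) : Set H) := ⟨_, rfl⟩
      have hCL : C ≤ L := by rw [hC]; exact inf_le_left
      have hcz : ∀ R : Subgroup H, R ≤ Subgroup.centralizer (zof p R : Set H) := by
        intro R
        rw [Subgroup.le_centralizer_iff]
        exact (Cfsg.Agent.Lib.Helper6.gl_omegaOne_le p _).trans inf_le_right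
      have hRC : (T : Subgroup H) ⊓ L ≤ C := by
        rw [hC]; exact le_inf inf_le_right (hcz _)
      have psn : ∀ X : Subgroup H, X.IsSubnormal → X ≤ L →
          (pointStabilizer p X ((T : Subgroup H) ⊓ X) ≤ C ∧
            ((pointStabilizer p X ((T : Subgroup H) ⊓ X)).subgroupOf C).IsSubnormal ∧
            X ⊓ (T : Subgroup H) ≤ pointStabilizer p X ((T : Subgroup H) ⊓ X)) := by
        intro X hX hXL
        have h3 : X ⊓ (T : Subgroup H) ≤ pointStabilizer p X ((T : Subgroup H) ⊓ X) := by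
          rw [hpe, inf_comm X (T : Subgroup H)]
          exact Cfsg.Agent.Lib.Helper6.gl_le_pElementClosure (le_inf inf_le_right (hcz _))
            (T.isPGroup'.to_le inf_le_left)
        by_cases hne : (T : Subgroup H) ⊓ X = ⊥
        · have hbot : pointStabilizer p X ((T : Subgroup H) ⊓ X) = ⊥ := by
            rw [eq_bot_iff, hpe]
            unfold pElementClosure
            rw [Subgroup.closure_le]
            rintro x ⟨hx, hk⟩
            rw [triv X hX hne x hx.1 hk]; exact Subgroup.one_mem _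
          rw [hbot] at h3 ⊢
          refine ⟨bot_le, ?_, h3⟩
          rw [Subgroup.bot_subgroupOf]; exact Subgroup.IsSubnormal.bot
        · have e : X ⊓ Subgroup.centralizer (zof p ((T : Subgroup H) ⊓ X) : Set H) = X ⊓ C := by
            rw [kie X hX hXL hne, hC, ← inf_assoc, inf_eq_left.mpr hXL]
          rw [hpe, e] at h3 ⊢
          refine ⟨(Cfsg.Agent.Lib.Helper6.gl_pElementClosure_le p _).trans inf_le_right, ?_, h3⟩
          apply rel_subn_of_normal (Cfsg.Agent.Lib.Helper6.gl_pElementClosure_le p _)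
            (Cfsg.Agent.Lib.Helper6.gl_normalizer_pElementClosure p Subgroup.le_normalizer)
          rw [Subgroup.inf_subgroupOf_right]
          exact hX.subgroupOf
      obtain ⟨a1, a2, a3⟩ := psn L₁ h₁ hL₁L
      obtain ⟨b1, b2, b3⟩ := psn L₂ h₂ hL₂L
      rw [← hP₁] at a1 a2 a3
      rw [← hP₂] at b1 b2 b3
      have hR : (T : Subgroup H) ⊓ L ≤ P₁ ⊔ P₂ := by
        rw [inf_comm, hLdef]
        exact (Cfsg.Agent.S3028.sylow_join T L₁ L₂ h₁ h₂).trans (sup_le_sup a3 b3)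
      have hcop : (((T : Subgroup H) ⊓ L).relIndex C).Coprime p := by
        have h1 := Subgroup.relIndex_mul_relIndex ((T : Subgroup H) ⊓ L) C L hRC hCL
        have h2 := Cfsg.Agent.S3028.coprime_relIndex T hL
        rw [inf_comm] at h2
        exact Nat.Coprime.coprime_dvd_left (Dvd.intro _ h1) h2
      exact mem_of_subnormal_sylow (sup_le a1 b1) (h4_subn_sup a2 b2 a1 b1) hR hcop y
        (by rw [hC]; exact hy) hk
  · exact sup_le (ge L₁ h₁ hL₁L) (ge L₂ h₂ hL₂L)

end Cfsg.Agent.S2806
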