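import Mathlib
import Cfsg.Statements.S0615
import Cfsg.Agent.S0597
import Cfsg.Agent.S2806
import Cfsg.Agent.S2817
import Cfsg.Agent.S1900
import Cfsg.Agent.Lib.Helper4.OpJoin

set_option autoImplicit false
open Cfsg
open scoped commutatorElement

namespace Cfsg.Agent.S0615

open Cfsg.Agent.Lib.Helper4

variable {G : Type*} [Group G]

theorem rel_subn_trans {C A J : Subgroup G} (hCA : C ≤ A) (hAJ : A ≤ J)
    (h1 : (C.subgroupOf A).IsSubnormal) (h2 : (A.subgroupOf J).IsSubnormal) :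
    (C.subgroupOf J).IsSubnormal := by
  have h3 := (h1.comap (Subgroup.subgroupOfEquivOfLe hAJ).toMonoidHom).trans' h2
  have e : ((C.subgroupOf A).comap (Subgroup.subgroupOfEquivOfLe hAJ).toMonoidHom).map
      (A.subgroupOf J).subtype = C.subgroupOf J := by
    ext x
    constructor
    · rintro ⟨y, hy, rfl⟩
      rw [Subgroup.mem_subgroupOf]
      exact Subgroup.mem_subgroupOf.mp (Subgroup.mem_comap.mp hy)
    · intro hx
      have hxC : (x : G) ∈ C := Subgroup.mem_subgroupOf.mp hx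
      refine ⟨⟨x, Subgroup.mem_subgroupOf.mpr (hCA hxC)⟩, ?_, rfl⟩
      show _ ∈ Subgroup.comap (Subgroup.subgroupOfEquivOfLe hAJ).toMonoidHom (C.subgroupOf A)
      rw [Subgroup.mem_comap, Subgroup.mem_subgroupOf]
      exact hxC
  rw [e] at h3; exact h3

theorem mem_map_conj (A : Subgroup G) (g x : G) :
    x ∈ A.map (MulAut.conj g).toMonoidHom ↔ g⁻¹ * x * g ∈ A := by
  constructor
  · rintro ⟨a, ha, rfl⟩
    have e : g⁻¹ * ((MulAut.conj g).toMonoidHom a) * g = a := by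
      simp [MulAut.conj_apply, mul_assoc]
    rw [e]; exact ha
  · intro h
    refine ⟨g⁻¹ * x * g, h, ?_⟩
    simp [MulAut.conj_apply, mul_assoc]

theorem conj_mem_map_conj (A : Subgroup G) (g a : G) (ha : a ∈ A) :
    g * a * g⁻¹ ∈ A.map (MulAut.conj g).toMonoidHom := ⟨a, ha, rfl⟩

theorem map_conj_eq_self {V : Subgroup G} {g : G} (hg : g ∈ Subgroup.normalizer (V : Set G)) :
    V.map (MulAut.conj g).toMonoidHom = V := by
  ext x
  rw [mem_map_conj]
  have h := Subgroup.mem_normalizer_iff.mp hg (g⁻¹ * x * g)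
  have e : g * (g⁻¹ * x * g) * g⁻¹ = x := by group
  rw [e] at h
  exact h

theorem map_conj_comm {V : Subgroup G} {g : G} (hg : g ∈ Subgroup.normalizer (V : Set G))
    (A : Subgroup G) :
    (⁅V, A⁆ : Subgroup G).map (MulAut.conj g).toMonoidHom =
      ⁅V, A.map (MulAut.conj g).toMonoidHom⁆ := by
  rw [Subgroup.map_commutator, map_conj_eq_self hg]

theorem map_conj_inv_map (U : Subgroup G) (g : G) :
    (U.map (MulAut.conj g⁻¹).toMonoidHom).map (MulAut.conj g).toMonoidHom = U := by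
  ext x
  rw [mem_map_conj, mem_map_conj]
  have e : g⁻¹⁻¹ * (g⁻¹ * x * g) * g⁻¹ = x := by group
  rw [e]

theorem card_map_conj (U : Subgroup G) (g : G) :
    Nat.card ↥(U.map (MulAut.conj g).toMonoidHom) = Nat.card ↥U :=
  Subgroup.card_map_of_injective (MulAut.conj g).injective

theorem comm_le_left {V A : Subgroup G} (hA : A ≤ Subgroup.normalizer (V : Set G)) :
    (⁅V, A⁆ : Subgroup G) ≤ V := by
  rw [Subgroup.commutator_le]
  intro v hv e he
  have e1 : ⁅v, e⁆ = v * (e * v⁻¹ * e⁻¹) := by rw [commutatorElement_def]; group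
  rw [e1]
  exact V.mul_mem hv ((Subgroup.mem_normalizer_iff.mp (hA he) _).mp (V.inv_mem hv))

theorem le_normalizer_comm (V A : Subgroup G) :
    A ≤ Subgroup.normalizer ((⁅V, A⁆ : Subgroup G) : Set G) := by
  rw [Subgroup.commutator_comm]
  exact Cfsg.Agent.S0597.left_le_normalizer A V

/-- an element acting trivially on `V / W` and on `W` has `p`-th power centralizing `V`. -/
theorem pow_mem_centralizer {p : ℕ} {V W : Subgroup G} (hV : Cfsg.IsElementaryAbelian p V)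
    (hWV : W ≤ V) (d : G) (h1 : ∀ v ∈ V, ⁅v, d⁆ ∈ W)
    (h2 : d ∈ Subgroup.centralizer (W : Set G)) :
    d ^ p ∈ Subgroup.centralizer (V : Set G) := by
  rw [Subgroup.mem_centralizer_iff]
  intro v hv
  have hw : ⁅v⁻¹, d⁆ ∈ W := h1 _ (V.inv_mem hv)
  have hcomm : Commute d ⁅v⁻¹, d⁆ := by
    have := Subgroup.mem_centralizer_iff.mp h2 _ hw
    exact this.symm
  have e1 : d * v = v * ⁅v⁻¹, d⁆ * d := by rw [commutatorElement_def]; group
  have hk : ∀ k : ℕ, d ^ k * v = v * ⁅v⁻¹, d⁆ ^ k * d ^ k := by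
    intro k
    induction k with
    | zero => simp
    | succ k ih =>
      calc d ^ (k + 1) * v = d * (d ^ k * v) := by rw [pow_succ', mul_assoc]
        _ = d * (v * ⁅v⁻¹, d⁆ ^ k * d ^ k) := by rw [ih]
        _ = (d * v) * ⁅v⁻¹, d⁆ ^ k * d ^ k := by simp only [mul_assoc]
        _ = v * ⁅v⁻¹, d⁆ * (d * ⁅v⁻¹, d⁆ ^ k) * d ^ k := by rw [e1]; simp only [mul_assoc]
        _ = v * ⁅v⁻¹, d⁆ * (⁅v⁻¹, d⁆ ^ k * d) * d ^ k := by rw [(hcomm.pow_right k).eq]
        _ = v * ⁅v⁻¹, d⁆ ^ (k + 1) * d ^ (k + 1) := by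
          rw [pow_succ' _ k, pow_succ' d k]; simp only [mul_assoc]
  have hwp : ⁅v⁻¹, d⁆ ^ p = 1 := hV.2 _ (hWV hw)
  have h3 := hk p
  rw [hwp, mul_one] at h3
  exact h3.symm

/-- ambient data: `E` acts faithfully on the elementary abelian `V` and has no non-trivial
subnormal subgroup of exponent `p`. -/
def Amb (p : ℕ) (V E : Subgroup G) : Prop :=
  Cfsg.IsElementaryAbelian p V ∧ E ≤ Subgroup.normalizer (V : Set G) ∧
    E ⊓ Subgroup.centralizer (V : Set G) = ⊥ ∧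
    ∀ C : Subgroup G, C ≤ E → (C.subgroupOf E).IsSubnormal → (∀ d ∈ C, d ^ p = 1) → C = ⊥

/-- a subnormal subgroup acting irreducibly on its commutator module. -/
def Good (V E A : Subgroup G) : Prop :=
  A ≤ E ∧ (A.subgroupOf E).IsSubnormal ∧
    (∀ U : Subgroup G, U ≤ ⁅V, A⁆ → A ≤ Subgroup.normalizer (U : Set G) →
      U = ⊥ ∨ U = ⁅V, A⁆) ∧
    2 < Nat.card A

theorem Amb.restrict {p : ℕ} {V E E' : Subgroup G} (h : Amb p V E) (hle : E' ≤ E)
    (hsn : (E'.subgroupOf E).IsSubnormal) : Amb p V E' := by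
  obtain ⟨hV, hN, hf, hO⟩ := h
  refine ⟨hV, hle.trans hN, ?_, ?_⟩
  · rw [eq_bot_iff, ← hf]
    exact inf_le_inf_right _ hle
  · intro C hC hCsn hCp
    exact hO C (hC.trans hle) (rel_subn_trans hC hle hCsn hsn) hCp

theorem Good.restrict {V E E' A : Subgroup G} (h : Good V E A) (hle : E' ≤ E) (hA : A ≤ E') :
    Good V E' A :=
  ⟨hA, h4_subn_of_le h.2.1 hle, h.2.2.1, h.2.2.2⟩

/-- F2: `A` acts faithfully on `⁅V, A⁆`. -/
theorem Good.inf_centralizer {p : ℕ} {V E A : Subgroup G} (hAmb : Amb p V E) (h : Good V E A) :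
    A ⊓ Subgroup.centralizer ((⁅V, A⁆ : Subgroup G) : Set G) = ⊥ := by
  obtain ⟨hV, hN, hf, hO⟩ := hAmb
  obtain ⟨hAE, hsn, hirr, hcard⟩ := h
  have hWV : (⁅V, A⁆ : Subgroup G) ≤ V := comm_le_left (hAE.trans hN)
  apply hO
  · exact inf_le_left.trans hAE
  · refine Cfsg.Agent.S2806.rel_subn_of_normal inf_le_left ?_ hsn
    exact (le_inf Subgroup.le_normalizer
      ((le_normalizer_comm V A).trans
        (Cfsg.Agent.S2817.normalizer_le_normalizer_centralizer _))).trans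
      (Cfsg.Agent.S2817.norm_inf_le _ _)
  · intro d hd
    have h1 : d ^ p ∈ Subgroup.centralizer (V : Set G) :=
      pow_mem_centralizer hV hWV d (fun v hv => Subgroup.commutator_mem_commutator hv hd.1) hd.2
    have h2 : d ^ p ∈ E ⊓ Subgroup.centralizer (V : Set G) := ⟨E.pow_mem (hAE hd.1) p, h1⟩
    rw [hf] at h2
    exact Subgroup.mem_bot.mp h2

/-- F3: `A` has no non-trivial fixed points on `⁅V, A⁆`. -/
theorem Good.inf_centralizer' {p : ℕ} {V E A : Subgroup G} (hAmb : Amb p V E)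
    (h : Good V E A) :
    (⁅V, A⁆ : Subgroup G) ⊓ Subgroup.centralizer (A : Set G) = ⊥ := by
  have hF2 := h.inf_centralizer hAmb
  obtain ⟨hAE, hsn, hirr, hcard⟩ := h
  have hle : A ≤ Subgroup.centralizer
      (((⁅V, A⁆ : Subgroup G) ⊓ Subgroup.centralizer (A : Set G) : Subgroup G) : Set G) := by
    rw [Subgroup.le_centralizer_iff]
    exact inf_le_right
  rcases hirr _ inf_le_left (hle.trans (Subgroup.centralizer_le_normalizer _)) with h1 | h1
  · exact h1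
  · exfalso
    have h2 : (⁅V, A⁆ : Subgroup G) ≤ Subgroup.centralizer (A : Set G) :=
      h1.symm.le.trans inf_le_right
    have h3 : A ≤ Subgroup.centralizer ((⁅V, A⁆ : Subgroup G) : Set G) :=
      Subgroup.le_centralizer_iff.mp h2
    have h4 : A = ⊥ := by
      rw [eq_bot_iff, ← hF2]; exact le_inf le_rfl h3
    rw [h4, Subgroup.card_bot] at hcard
    omega

/-- F4: conjugates of good subgroups are good. -/
theorem Good.conj {p : ℕ} {V E A : Subgroup G} (hAmb : Amb p V E) (h : Good V E A) {g : G}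
    (hg : g ∈ E) : Good V E (A.map (MulAut.conj g).toMonoidHom) := by
  obtain ⟨hAE, hsn, hirr, hcard⟩ := h
  have hgV : g ∈ Subgroup.normalizer (V : Set G) := hAmb.2.1 hg
  refine ⟨?_, h4_subn_conj hsn hg, ?_, ?_⟩
  · rintro x ⟨a, ha, rfl⟩
    exact E.mul_mem (E.mul_mem hg (hAE ha)) (E.inv_mem hg)
  · intro U hU hUn
    rw [← map_conj_comm hgV] at hU ⊢
    have hU' : U.map (MulAut.conj g⁻¹).toMonoidHom ≤ ⁅V, A⁆ := by
      intro x hx
      rw [mem_map_conj] at hx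
      have h1 := hU hx
      rw [mem_map_conj] at h1
      have e : g⁻¹ * (g⁻¹⁻¹ * x * g⁻¹) * g = x := by group
      rw [e] at h1; exact h1
    have hn' : A ≤ Subgroup.normalizer
        ((U.map (MulAut.conj g⁻¹).toMonoidHom : Subgroup G) : Set G) := by
      have h1 : A.map (MulAut.conj g).toMonoidHom ≤
          (Subgroup.normalizer ((U.map (MulAut.conj g⁻¹).toMonoidHom : Subgroup G) : Set G)).map
            (MulAut.conj g).toMonoidHom := by
        rw [Subgroup.map_equiv_normalizer_eq, map_conj_inv_map]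
        exact hUn
      exact (Subgroup.map_le_map_iff_of_injective (MulAut.conj g).injective).mp h1
    rcases hirr _ hU' hn' with h1 | h1
    · left
      rw [← map_conj_inv_map U g, h1, Subgroup.map_bot]
    · right
      rw [← map_conj_inv_map U g, h1]
  · rw [card_map_conj]; exact hcard

/-- F7: commuting subgroups normalize each other's commutator modules. -/
theorem le_normalizer_comm_of_comm [Finite G] {V A B : Subgroup G}
    (hB : B ≤ Subgroup.normalizer (V : Set G)) (hAB : ⁅A, B⁆ = ⊥) :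
    B ≤ Subgroup.normalizer ((⁅V, A⁆ : Subgroup G) : Set G) := by
  intro b hb
  apply Cfsg.Agent.S1900.mem_normalizer_of_conj_mem
  have hcomm : ∀ a ∈ A, b * a * b⁻¹ = a := by
    intro a ha
    have h1 := Subgroup.commutator_eq_bot_iff_le_centralizer.mp hAB ha
    have h2 : b * a = a * b := Subgroup.mem_centralizer_iff.mp h1 b hb
    rw [h2]; group
  have key : (⁅V, A⁆ : Subgroup G) ≤
      (⁅V, A⁆ : Subgroup G).comap (MulAut.conj b).toMonoidHom := by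
    rw [Subgroup.commutator_le]
    intro v hv a ha
    rw [Subgroup.mem_comap]
    have e1 : (MulAut.conj b).toMonoidHom ⁅v, a⁆ = ⁅b * v * b⁻¹, b * a * b⁻¹⁆ := by
      simp only [MulEquiv.coe_toMonoidHom, MulAut.conj_apply, commutatorElement_def]
      group
    rw [e1, hcomm a ha]
    exact Subgroup.commutator_mem_commutator
      ((Subgroup.mem_normalizer_iff.mp (hB hb) v).mp hv) ha
  intro h hh
  have h2 := key hh
  simpa [Subgroup.mem_comap] using h2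

/-- F8: commuting subgroups with disjoint commutator modules centralize each other's module. -/
theorem le_centralizer_comm_of_comm [Finite G] {V A B : Subgroup G}
    (hA : A ≤ Subgroup.normalizer (V : Set G))
    (hB : B ≤ Subgroup.normalizer (V : Set G)) (hAB : ⁅A, B⁆ = ⊥)
    (hW : (⁅V, A⁆ : Subgroup G) ⊓ ⁅V, B⁆ = ⊥) :
    B ≤ Subgroup.centralizer ((⁅V, A⁆ : Subgroup G) : Set G) := by
  intro b hb
  rw [Subgroup.mem_centralizer_iff]
  intro w hw
  have hn := le_normalizer_comm_of_comm hB hAB hb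
  have h1 : b * w * b⁻¹ ∈ (⁅V, A⁆ : Subgroup G) :=
    (Subgroup.mem_normalizer_iff.mp hn w).mp hw
  have h2 : b * w * b⁻¹ * w⁻¹ ∈ (⁅V, A⁆ : Subgroup G) :=
    Subgroup.mul_mem _ h1 (Subgroup.inv_mem _ hw)
  have h3 : b * w * b⁻¹ * w⁻¹ ∈ (⁅V, B⁆ : Subgroup G) := by
    rw [Subgroup.commutator_comm]
    have h5 := Subgroup.commutator_mem_commutator hb (comm_le_left hA hw)
    rwa [commutatorElement_def] at h5
  have h4 : b * w * b⁻¹ * w⁻¹ ∈ (⁅V, A⁆ : Subgroup G) ⊓ ⁅V, B⁆ := ⟨h2, h3⟩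
  rw [hW, Subgroup.mem_bot] at h4
  have h6 : b * w = w * b := by
    calc b * w = (b * w * b⁻¹ * w⁻¹) * (w * b) := by group
      _ = w * b := by rw [h4, one_mul]
  exact h6.symm

theorem comm_normal_in_sup (A B : Subgroup G) :
    A ⊔ B ≤ Subgroup.normalizer ((⁅A, B⁆ : Subgroup G) : Set G) := by
  refine sup_le (Cfsg.Agent.S0597.left_le_normalizer _ _) ?_
  rw [Subgroup.commutator_comm]
  exact Cfsg.Agent.S0597.left_le_normalizer _ _

theorem caseA {p : ℕ} {V E E₁ E₂ : Subgroup G} (hAmb : Amb p V E)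
    (h₁ : E₁ ≤ E) (h₂ : E₂ ≤ E) (hgen : E ≤ E₁ ⊔ E₂)
    (hirr₂ : ∀ U : Subgroup G, U ≤ ⁅V, E₂⁆ → E₂ ≤ Subgroup.normalizer (U : Set G) →
      U = ⊥ ∨ U = ⁅V, E₂⁆)
    (h21 : ¬ (⁅V, E₂⁆ : Subgroup G) ≤ ⁅V, E₁⁆)
    (hA : E₂ ≤ Subgroup.normalizer ((⁅V, E₁⁆ : Subgroup G) : Set G)) :
    ⁅E₁, E₂⁆ = ⊥ ∧ (⁅V, E₁⁆ : Subgroup G) ⊓ ⁅V, E₂⁆ = ⊥ := by
  obtain ⟨hV, hN, hf, hO⟩ := hAmb
  have hW : (⁅V, E₁⁆ : Subgroup G) ⊓ ⁅V, E₂⁆ = ⊥ := by
    rcases hirr₂ _ inf_le_right ((le_inf hA (le_normalizer_comm V E₂)).trans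
        (Cfsg.Agent.S2817.norm_inf_le _ _)) with h | h
    · exact h
    · exact absurd (h.symm.le.trans inf_le_left) h21
  refine ⟨?_, hW⟩
  have hc : ⁅⁅V, E₁⁆, E₂⁆ = ⊥ := by
    rw [eq_bot_iff, ← hW]
    refine le_inf ?_ (Subgroup.commutator_mono (comm_le_left (h₁.trans hN)) le_rfl)
    rw [Subgroup.commutator_le]
    intro w hw e he
    have e1 : ⁅w, e⁆ = w * (e * w⁻¹ * e⁻¹) := by rw [commutatorElement_def]; group
    rw [e1]
    exact Subgroup.mul_mem _ hw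
      ((Subgroup.mem_normalizer_iff.mp (hA he) _).mp (Subgroup.inv_mem _ hw))
  have hpow := Cfsg.Agent.S0597.pow_eq_one_comm V E hV hN hf E₁ E₂ h₁ h₂ hc
  have hle : (⁅E₁, E₂⁆ : Subgroup G) ≤ E := by
    rw [Subgroup.commutator_le]
    intro a ha b hb
    rw [commutatorElement_def]
    exact E.mul_mem (E.mul_mem (E.mul_mem (h₁ ha) (h₂ hb)) (E.inv_mem (h₁ ha)))
      (E.inv_mem (h₂ hb))
  apply hO _ hle _ hpow
  haveI : ((⁅E₁, E₂⁆ : Subgroup G).subgroupOf E).Normal :=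
    (Subgroup.normal_subgroupOf_iff_le_normalizer hle).mpr
      (hgen.trans (comm_normal_in_sup E₁ E₂))
  exact Subgroup.Normal.isSubnormal inferInstance

theorem caseC [Finite G] (V E₁ E₂ W₁ W₂ : Subgroup G) (e f : G)
    (hVc : V ≤ Subgroup.centralizer (V : Set G))
    (hE₁V : E₁ ≤ Subgroup.normalizer (V : Set G)) (hE₂V : E₂ ≤ Subgroup.normalizer (V : Set G))
    (hW₁V : W₁ ≤ V)
    (hcomm₂ : ∀ g ∈ E₂, ∀ v ∈ V, g * v * g⁻¹ * v⁻¹ ∈ W₂)
    (hE₂W₂ : E₂ ≤ Subgroup.normalizer (W₂ : Set G))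
    (hirr₂ : ∀ U : Subgroup G, U ≤ W₂ → E₂ ≤ Subgroup.normalizer (U : Set G) →
      U = ⊥ ∨ U = W₂)
    (hfaith₂ : E₂ ⊓ Subgroup.centralizer (W₂ : Set G) = ⊥)
    (hW₁ne : W₁ ≠ ⊥) (he : e ∈ E₂) (heN : W₁.map (MulAut.conj e).toMonoidHom ≠ W₁)
    (hf : f ∈ E₁) (S2 : W₂ ⊓ W₂.map (MulAut.conj f).toMonoidHom = ⊥)
    (hK : ∀ g ∈ E₂, W₁.map (MulAut.conj g).toMonoidHom ≠ W₁ →
      W₁ ⊓ W₁.map (MulAut.conj g).toMonoidHom = ⊥ ∧
      E₁ ≤ Subgroup.centralizer ((W₁.map (MulAut.conj g).toMonoidHom : Subgroup G) : Set G))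
    (hc₂ : 2 < Nat.card E₂) : False := by
  have hV₁ : ∀ g ∈ E₁, ∀ v ∈ V, g * v * g⁻¹ ∈ V := fun g hg v hv =>
    (Subgroup.mem_normalizer_iff.mp (hE₁V hg) v).mp hv
  have hV₂ : ∀ g ∈ E₂, ∀ v ∈ V, g * v * g⁻¹ ∈ V := fun g hg v hv =>
    (Subgroup.mem_normalizer_iff.mp (hE₂V hg) v).mp hv
  -- S3: injectivity
  have S3 : ∀ x ∈ W₂, ∀ y ∈ W₂, f * x * f⁻¹ * x⁻¹ = f * y * f⁻¹ * y⁻¹ → x = y := by
    intro x hx y hy hxy
    have hz : y⁻¹ * x ∈ W₂ := W₂.mul_mem (W₂.inv_mem hy) hx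
    have hz2 : y⁻¹ * x ∈ W₂.map (MulAut.conj f).toMonoidHom := by
      have e1 : y⁻¹ * x = f * (y⁻¹ * x) * f⁻¹ := by
        have e2 : f * (y⁻¹ * x) * f⁻¹ = (f * y * f⁻¹)⁻¹ * (f * x * f⁻¹ * x⁻¹) * x := by group
        rw [e2, hxy]; group
      rw [e1]
      exact conj_mem_map_conj W₂ f _ hz
    have h3 : y⁻¹ * x ∈ W₂ ⊓ W₂.map (MulAut.conj f).toMonoidHom := ⟨hz, hz2⟩
    rw [S2, Subgroup.mem_bot] at h3
    calc x = y * (y⁻¹ * x) := by group
      _ = y := by rw [h3, mul_one]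
  have hKe := hK e he heN
  -- S4
  have S4 : W₂ ⊓ W₁.map (MulAut.conj e).toMonoidHom = ⊥ := by
    rw [eq_bot_iff]
    rintro x ⟨hx2, hx1⟩
    have hfx : x * f = f * x := Subgroup.mem_centralizer_iff.mp (hKe.2 hf) x hx1
    have hx3 : x ∈ W₂.map (MulAut.conj f).toMonoidHom := by
      have e1 : x = f * x * f⁻¹ := by rw [← hfx]; group
      rw [e1]; exact conj_mem_map_conj W₂ f _ hx2
    have h3 : x ∈ W₂ ⊓ W₂.map (MulAut.conj f).toMonoidHom := ⟨hx2, hx3⟩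
    rw [S2] at h3; exact h3
  -- S5
  have S5 : W₁ ⊓ W₂ = ⊥ := by
    rw [eq_bot_iff]
    rintro x ⟨hx1, hx2⟩
    have h1 : e * x * e⁻¹ ∈ W₂ := (Subgroup.mem_normalizer_iff.mp (hE₂W₂ he) x).mp hx2
    have h2 : e * x * e⁻¹ ∈ W₂ ⊓ W₁.map (MulAut.conj e).toMonoidHom :=
      ⟨h1, conj_mem_map_conj W₁ e _ hx1⟩
    rw [S4, Subgroup.mem_bot] at h2
    rw [Subgroup.mem_bot]
    calc x = e⁻¹ * (e * x * e⁻¹) * e := by group
      _ = 1 := by rw [h2]; group
  -- S6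
  have S6 : ∀ g ∈ E₂, W₁.map (MulAut.conj g).toMonoidHom ≠ W₁ →
      ∀ w ∈ W₁, g * w * g⁻¹ = e * w * e⁻¹ := by
    intro g hg hgN w hw
    have hKg := hK g hg hgN
    have comp : ∀ a : G, a ∈ V → a * f = f * a →
        f * (a * w⁻¹) * f⁻¹ * (a * w⁻¹)⁻¹ = f * w⁻¹ * f⁻¹ * w := by
      intro a haV haf
      have ht : f * w⁻¹ * f⁻¹ * w ∈ V :=
        V.mul_mem (hV₁ f hf _ (V.inv_mem (hW₁V hw))) (hW₁V hw)
      have hcomm : (f * w⁻¹ * f⁻¹ * w) * a = a * (f * w⁻¹ * f⁻¹ * w) :=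
        Subgroup.mem_centralizer_iff.mp (hVc haV) _ ht
      calc f * (a * w⁻¹) * f⁻¹ * (a * w⁻¹)⁻¹ = (f * a) * (w⁻¹ * f⁻¹ * w) * a⁻¹ := by group
        _ = (a * f) * (w⁻¹ * f⁻¹ * w) * a⁻¹ := by rw [haf]
        _ = a * (f * w⁻¹ * f⁻¹ * w) * a⁻¹ := by group
        _ = (f * w⁻¹ * f⁻¹ * w) * a * a⁻¹ := by rw [hcomm]
        _ = f * w⁻¹ * f⁻¹ * w := by group
    have hag : (g * w * g⁻¹) * f = f * (g * w * g⁻¹) :=
      Subgroup.mem_centralizer_iff.mp (hKg.2 hf) _ (conj_mem_map_conj W₁ g _ hw)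
    have hae : (e * w * e⁻¹) * f = f * (e * w * e⁻¹) :=
      Subgroup.mem_centralizer_iff.mp (hKe.2 hf) _ (conj_mem_map_conj W₁ e _ hw)
    have hxg : g * w * g⁻¹ * w⁻¹ ∈ W₂ := hcomm₂ g hg w (hW₁V hw)
    have hxe : e * w * e⁻¹ * w⁻¹ ∈ W₂ := hcomm₂ e he w (hW₁V hw)
    have h3 := S3 _ hxg _ hxe (by
      rw [comp _ (hV₂ g hg w (hW₁V hw)) hag, comp _ (hV₂ e he w (hW₁V hw)) hae])
    calc g * w * g⁻¹ = (g * w * g⁻¹ * w⁻¹) * w := by group
      _ = (e * w * e⁻¹ * w⁻¹) * w := by rw [h3]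
      _ = e * w * e⁻¹ := by group
  -- S7
  have S7 : ∀ g ∈ E₂, W₁.map (MulAut.conj g).toMonoidHom = W₁ →
      ∀ w ∈ W₁, g * w * g⁻¹ = w := by
    intro g hg hgN w hw
    have h1 : g * w * g⁻¹ ∈ W₁ := by
      have h0 := conj_mem_map_conj W₁ g w hw
      rwa [hgN] at h0
    have h2 : g * w * g⁻¹ * w⁻¹ ∈ W₁ ⊓ W₂ :=
      ⟨W₁.mul_mem h1 (W₁.inv_mem hw), hcomm₂ g hg w (hW₁V hw)⟩
    rw [S5, Subgroup.mem_bot] at h2
    calc g * w * g⁻¹ = (g * w * g⁻¹ * w⁻¹) * w := by group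
      _ = w := by rw [h2, one_mul]
  have D : ∀ g ∈ E₂, (∀ w ∈ W₁, g * w * g⁻¹ = w) ∨
      (∀ w ∈ W₁, g * w * g⁻¹ = e * w * e⁻¹) := by
    intro g hg
    by_cases h : W₁.map (MulAut.conj g).toMonoidHom = W₁
    · exact Or.inl (S7 g hg h)
    · exact Or.inr (S6 g hg h)
  have he_not : ¬ (∀ w ∈ W₁, e * w * e⁻¹ = w) := by
    intro h
    apply heN
    ext x
    rw [mem_map_conj]
    constructor
    · intro hx
      have h0 := h _ hx
      have e1 : e * (e⁻¹ * x * e) * e⁻¹ = x := by group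
      rw [e1] at h0
      rw [h0]; exact hx
    · intro hx
      have h0 := h x hx
      have e1 : e⁻¹ * x * e = x := by
        calc e⁻¹ * x * e = e⁻¹ * (e * x * e⁻¹) * e := by rw [h0]
          _ = x := by group
      rw [e1]; exact hx
  -- S9
  have S9 : ∀ t ∈ E₂, (∀ w ∈ W₁, t * w * t⁻¹ = w) →
      ∀ w ∈ W₁, t * (e * w * e⁻¹) * t⁻¹ = e * w * e⁻¹ := by
    intro t ht htc w hw
    rcases D (t * e) (E₂.mul_mem ht he) with h | h
    · exfalso
      apply he_not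
      intro w' hw'
      have h1 := h w' hw'
      have h2 := htc w' hw'
      calc e * w' * e⁻¹ = t⁻¹ * (t * e * w' * (t * e)⁻¹) * t := by group
        _ = t⁻¹ * w' * t := by rw [h1]
        _ = t⁻¹ * (t * w' * t⁻¹) * t := by rw [h2]
        _ = w' := by group
    · have h1 := h w hw
      calc t * (e * w * e⁻¹) * t⁻¹ = t * e * w * (t * e)⁻¹ := by group
        _ = e * w * e⁻¹ := h1
  -- S10
  have hX : ∀ g ∈ E₂, ∀ x ∈ W₁ ⊔ W₁.map (MulAut.conj e).toMonoidHom,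
      g * x * g⁻¹ ∈ W₁ ⊔ W₁.map (MulAut.conj e).toMonoidHom := by
    intro g hg
    have key : W₁ ⊔ W₁.map (MulAut.conj e).toMonoidHom ≤
        (W₁ ⊔ W₁.map (MulAut.conj e).toMonoidHom).comap (MulAut.conj g).toMonoidHom := by
      refine sup_le ?_ ?_
      · intro w hw
        rw [Subgroup.mem_comap]
        show g * w * g⁻¹ ∈ _
        rcases D g hg with h | h
        · rw [h w hw]; exact Subgroup.mem_sup_left hw
        · rw [h w hw]; exact Subgroup.mem_sup_right (conj_mem_map_conj W₁ e w hw)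
      · rintro _ ⟨w, hw, rfl⟩
        rw [Subgroup.mem_comap]
        show g * (e * w * e⁻¹) * g⁻¹ ∈ _
        have e1 : g * (e * w * e⁻¹) * g⁻¹ = g * e * w * (g * e)⁻¹ := by group
        rw [e1]
        rcases D (g * e) (E₂.mul_mem hg he) with h | h
        · rw [h w hw]; exact Subgroup.mem_sup_left hw
        · rw [h w hw]; exact Subgroup.mem_sup_right (conj_mem_map_conj W₁ e w hw)
    intro x hx
    exact key hx
  have hXn : E₂ ≤ Subgroup.normalizer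
      ((W₁ ⊔ W₁.map (MulAut.conj e).toMonoidHom : Subgroup G) : Set G) :=
    fun g hg => Cfsg.Agent.S1900.mem_normalizer_of_conj_mem _ g (hX g hg)
  -- S11
  have S11 : W₂ ≤ W₁ ⊔ W₁.map (MulAut.conj e).toMonoidHom := by
    rcases hirr₂ (W₂ ⊓ (W₁ ⊔ W₁.map (MulAut.conj e).toMonoidHom)) inf_le_left
      ((le_inf hE₂W₂ hXn).trans (Cfsg.Agent.S2817.norm_inf_le _ _)) with h | h
    · exfalso
      obtain ⟨w, hw, hw1⟩ : ∃ w ∈ W₁, w ≠ 1 := by
        by_contra hcon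
        push_neg at hcon
        exact hW₁ne ((Subgroup.eq_bot_iff_forall _).mpr hcon)
      have h1 : e * w * e⁻¹ * w⁻¹ ∈ W₂ ⊓ (W₁ ⊔ W₁.map (MulAut.conj e).toMonoidHom) :=
        ⟨hcomm₂ e he w (hW₁V hw), Subgroup.mul_mem _
          (Subgroup.mem_sup_right (conj_mem_map_conj W₁ e w hw))
          (Subgroup.mem_sup_left (W₁.inv_mem hw))⟩
      rw [h, Subgroup.mem_bot] at h1
      have h2 : e * w * e⁻¹ = w := by
        calc e * w * e⁻¹ = (e * w * e⁻¹ * w⁻¹) * w := by group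
          _ = w := by rw [h1, one_mul]
      have h3 : w ∈ W₁ ⊓ W₁.map (MulAut.conj e).toMonoidHom := by
        refine ⟨hw, ?_⟩
        have h4 := conj_mem_map_conj W₁ e w hw
        rwa [h2] at h4
      rw [hKe.1, Subgroup.mem_bot] at h3
      exact hw1 h3
    · exact h.symm.le.trans inf_le_right
  -- S12
  have S12 : ∀ t ∈ E₂, (∀ w ∈ W₁, t * w * t⁻¹ = w) → t = 1 := by
    intro t ht htc
    have h1 : W₁ ⊔ W₁.map (MulAut.conj e).toMonoidHom ≤
        Subgroup.centralizer ({t} : Set G) := by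
      refine sup_le ?_ ?_
      · intro w hw
        rw [Subgroup.mem_centralizer_iff]
        intro y hy
        have hy' : y = t := hy
        rw [hy']
        have h0 := htc w hw
        calc t * w = (t * w * t⁻¹) * t := by group
          _ = w * t := by rw [h0]
      · rintro _ ⟨w, hw, rfl⟩
        rw [Subgroup.mem_centralizer_iff]
        intro y hy
        have hy' : y = t := hy
        rw [hy']
        have h0 := S9 t ht htc w hw
        show t * (e * w * e⁻¹) = (e * w * e⁻¹) * t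
        calc t * (e * w * e⁻¹) = (t * (e * w * e⁻¹) * t⁻¹) * t := by group
          _ = (e * w * e⁻¹) * t := by rw [h0]
    have h2c : t ∈ Subgroup.centralizer (W₂ : Set G) := by
      rw [Subgroup.mem_centralizer_iff]
      intro x hx
      have h0 := Subgroup.mem_centralizer_iff.mp (h1 (S11 hx)) t rfl
      exact h0.symm
    have h2 : t ∈ E₂ ⊓ Subgroup.centralizer (W₂ : Set G) := ⟨ht, h2c⟩
    rw [hfaith₂] at h2
    exact Subgroup.mem_bot.mp h2
  -- S13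
  have S13 : ∀ g ∈ E₂, g = 1 ∨ g = e := by
    intro g hg
    rcases D g hg with h | h
    · exact Or.inl (S12 g hg h)
    · right
      have h1 : e⁻¹ * g = 1 := by
        apply S12 _ (E₂.mul_mem (E₂.inv_mem he) hg)
        intro w hw
        calc e⁻¹ * g * w * (e⁻¹ * g)⁻¹ = e⁻¹ * (g * w * g⁻¹) * e := by group
          _ = e⁻¹ * (e * w * e⁻¹) * e := by rw [h w hw]
          _ = w := by group
      calc g = e * (e⁻¹ * g) := by group
        _ = e := by rw [h1, mul_one]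
  have hsub : (E₂ : Set G) ⊆ {1, e} := by
    intro g hg
    rcases S13 g hg with h | h
    · left; exact h
    · right; exact h
  have hcard : Nat.card E₂ ≤ 2 := by
    have h1 : Nat.card E₂ = (E₂ : Set G).ncard := rfl
    rw [h1]
    calc (E₂ : Set G).ncard ≤ ({1, e} : Set G).ncard :=
          Set.ncard_le_ncard hsub (Set.toFinite _)
      _ ≤ ({e} : Set G).ncard + 1 := Set.ncard_insert_le 1 {e}
      _ = 2 := by rw [Set.ncard_singleton]
  omega

theorem main_aux [Finite G] {p : ℕ} (V : Subgroup G) : ∀ n : ℕ, ∀ E E₁ E₂ : Subgroup G,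
    Nat.card E = n → Amb p V E → E = E₁ ⊔ E₂ → Good V E E₁ → Good V E E₂ →
    ¬ (⁅V, E₁⁆ : Subgroup G) ≤ ⁅V, E₂⁆ → ¬ (⁅V, E₂⁆ : Subgroup G) ≤ ⁅V, E₁⁆ →
    ⁅E₁, E₂⁆ = ⊥ ∧ (⁅V, E₁⁆ : Subgroup G) ⊓ ⁅V, E₂⁆ = ⊥ := by
  intro n
  induction n using Nat.strong_induction_on with
  | _ n ih =>
  intro E E₁ E₂ hn hAmb hgen hG₁ hG₂ h12 h21
  have hN := hAmb.2.1
  have K : ∀ B₁ B₂ : Subgroup G, Good V E B₁ → Good V E B₂ → B₁ ⊔ B₂ ≠ E →
      (⁅V, B₁⁆ : Subgroup G) ≠ ⁅V, B₂⁆ →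
      Nat.card ↥(⁅V, B₁⁆ : Subgroup G) = Nat.card ↥(⁅V, B₂⁆ : Subgroup G) →
      ⁅B₁, B₂⁆ = ⊥ ∧ (⁅V, B₁⁆ : Subgroup G) ⊓ ⁅V, B₂⁆ = ⊥ := by
    intro B₁ B₂ hB₁ hB₂ hne hW hcard
    have hle : B₁ ⊔ B₂ ≤ E := sup_le hB₁.1 hB₂.1
    have hlt : Nat.card ↥(B₁ ⊔ B₂ : Subgroup G) < n := by
      rw [← hn]
      exact Cfsg.Agent.S2820.card_lt (lt_of_le_of_ne hle hne)
    have hsn : ((B₁ ⊔ B₂ : Subgroup G).subgroupOf E).IsSubnormal :=
      h4_subn_sup hB₁.2.1 hB₂.2.1 hB₁.1 hB₂.1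
    refine ih _ hlt (B₁ ⊔ B₂) B₁ B₂ rfl (hAmb.restrict hle hsn) rfl
      (hB₁.restrict hle le_sup_left) (hB₂.restrict hle le_sup_right) ?_ ?_
    · intro h
      exact hW (Subgroup.eq_of_le_of_card_ge h hcard.symm.le)
    · intro h
      exact hW (Subgroup.eq_of_le_of_card_ge h hcard.le).symm
  by_cases hA : E₂ ≤ Subgroup.normalizer ((⁅V, E₁⁆ : Subgroup G) : Set G)
  · exact caseA hAmb hG₁.1 hG₂.1 hgen.le hG₂.2.2.1 h21 hA
  by_cases hB : E₁ ≤ Subgroup.normalizer ((⁅V, E₂⁆ : Subgroup G) : Set G)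
  · have h0 := caseA hAmb hG₂.1 hG₁.1 (by rw [sup_comm]; exact hgen.le) hG₁.2.2.1 h12 hB
    rw [Subgroup.commutator_comm, inf_comm]
    exact h0
  exfalso
  obtain ⟨e, he, heN⟩ := SetLike.not_le_iff_exists.mp hA
  obtain ⟨f, hf, hfN⟩ := SetLike.not_le_iff_exists.mp hB
  have h₁ := hG₁.1
  have h₂ := hG₂.1
  have hV := hAmb.1
  have hne₁ : E₁ ≠ E := by
    intro h
    apply h21
    refine Subgroup.commutator_mono le_rfl ?_
    rw [h]; exact h₂
  have hne₂ : E₂ ≠ E := by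
    intro h
    apply h12
    refine Subgroup.commutator_mono le_rfl ?_
    rw [h]; exact h₁
  have hprop : ∀ A : Subgroup G, Good V E A → A ≠ E → ∀ g ∈ E,
      A ⊔ A.map (MulAut.conj g).toMonoidHom ≠ E := by
    intro A hGA hne g hg
    have hneT : A.subgroupOf E ≠ ⊤ := by
      intro h
      rw [Subgroup.subgroupOf_eq_top] at h
      exact hne (le_antisymm hGA.1 h)
    obtain ⟨K', hKn, hAK, hKlt⟩ := hGA.2.1.exists_normal_and_le_and_lt_top_of_ne hneT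
    intro hE
    apply ne_of_lt hKlt
    rw [eq_top_iff]
    intro x _
    have hx : (x : G) ∈ A ⊔ A.map (MulAut.conj g).toMonoidHom := by rw [hE]; exact x.2
    have hle : A ⊔ A.map (MulAut.conj g).toMonoidHom ≤ K'.map E.subtype := by
      refine sup_le ?_ ?_
      · intro a ha
        exact ⟨⟨a, hGA.1 ha⟩, hAK (Subgroup.mem_subgroupOf.mpr ha), rfl⟩
      · rintro _ ⟨a, ha, rfl⟩
        exact ⟨⟨g, hg⟩ * ⟨a, hGA.1 ha⟩ * ⟨g, hg⟩⁻¹,
          hKn.conj_mem _ (hAK (Subgroup.mem_subgroupOf.mpr ha)) _, rfl⟩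
    obtain ⟨y, hy, hyx⟩ := hle hx
    have hyx' : y = x := Subtype.ext hyx
    rw [← hyx']; exact hy
  have hmove : ∀ (W : Subgroup G) (g : G), g ∉ Subgroup.normalizer (W : Set G) →
      W.map (MulAut.conj g).toMonoidHom ≠ W := by
    intro W g hg h
    apply hg
    apply Cfsg.Agent.S1900.mem_normalizer_of_conj_mem
    intro x hx
    have h0 := conj_mem_map_conj W g x hx
    rwa [h] at h0
  have Kc : ∀ A : Subgroup G, Good V E A → A ≠ E → ∀ g ∈ E,
      (⁅V, A⁆ : Subgroup G).map (MulAut.conj g).toMonoidHom ≠ ⁅V, A⁆ →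
      ⁅A, A.map (MulAut.conj g).toMonoidHom⁆ = ⊥ ∧
        (⁅V, A⁆ : Subgroup G) ⊓ (⁅V, A⁆ : Subgroup G).map (MulAut.conj g).toMonoidHom = ⊥ := by
    intro A hGA hne g hg hgW
    have hgV : g ∈ Subgroup.normalizer (V : Set G) := hN hg
    have h0 := K A (A.map (MulAut.conj g).toMonoidHom) hGA (hGA.conj hAmb hg)
      (hprop A hGA hne g hg)
      (by rw [← map_conj_comm hgV]; exact fun h => hgW h.symm)
      (by rw [← map_conj_comm hgV, card_map_conj])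
    rw [← map_conj_comm hgV] at h0
    exact h0
  apply caseC V E₁ E₂ ⁅V, E₁⁆ ⁅V, E₂⁆ e f
    (Subgroup.le_centralizer_iff_isMulCommutative.mpr hV.1) (h₁.trans hN) (h₂.trans hN)
    (comm_le_left (h₁.trans hN)) ?_ (le_normalizer_comm V E₂)
    hG₂.2.2.1 (hG₂.inf_centralizer hAmb) ?_ he (hmove _ e heN) hf
    (Kc E₂ hG₂ hne₂ f (h₁ hf) (hmove _ f hfN)).2 ?_ hG₂.2.2.2
  · intro g hg v hv
    have h0 := Subgroup.commutator_mem_commutator hg hv
    rw [Subgroup.commutator_comm, commutatorElement_def] at h0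
    exact h0
  · intro h
    apply h12
    rw [h]; exact bot_le
  · intro g hg hgW
    have hk := Kc E₁ hG₁ hne₁ g (h₂ hg) hgW
    refine ⟨hk.2, ?_⟩
    have hgV : g ∈ Subgroup.normalizer (V : Set G) := hN (h₂ hg)
    rw [map_conj_comm hgV]
    apply le_centralizer_comm_of_comm (A := E₁.map (MulAut.conj g).toMonoidHom) (B := E₁)
      ((hG₁.conj hAmb (h₂ hg)).1.trans hN) (h₁.trans hN)
    · rw [Subgroup.commutator_comm]; exact hk.1
    · rw [← map_conj_comm hgV, inf_comm]; exact hk.2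

/-- Two subnormal subgroups acting irreducibly on their incomparable commutator modules, in a faithful group with trivial largest normal p-subgroup, generate their direct product, and the commutator module splits accordingly. -/
theorem result {G : Type*} [Group G] [Finite G] {p : ℕ} [Fact p.Prime] (V E E₁ E₂ : Subgroup G) (hV : Cfsg.IsElementaryAbelian p V) (hEV : E ≤ Subgroup.normalizer (V : Set G)) (hf : E ⊓ Subgroup.centralizer (V : Set G) = ⊥) (hgen : E = E₁ ⊔ E₂) (hs₁ : (E₁.subgroupOf E).IsSubnormal) (hs₂ : (E₂.subgroupOf E).IsSubnormal) (hOp : Cfsg.pCore p ↥E = ⊥) (hirr₁ : (∀ U : Subgroup G, U ≤ ⁅V, E₁⁆ → E₁ ≤ Subgroup.normalizer (U : Set G) → U = ⊥ ∨ U = ⁅V, E₁⁆)) (hirr₂ : (∀ U : Subgroup G, U ≤ ⁅V, E₂⁆ → E₂ ≤ Subgroup.normalizer (U : Set G) → U = ⊥ ∨ U = ⁅V, E₂⁆)) (h12 : ¬ ⁅V, E₁⁆ ≤ ⁅V, E₂⁆) (h21 : ¬ ⁅V, E₂⁆ ≤ ⁅V, E₁⁆) (hc₁ : 2 < Nat.card E₁) (hc₂ : 2 < Nat.card E₂) : ⁅E₁, E₂⁆ = ⊥ ∧ E₁ ⊓ E₂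 = ⊥ ∧ ⁅V, E₁⁆ ⊓ ⁅V, E₂⁆ = ⊥ ∧ ⁅V, E⁆ = ⁅V, E₁⁆ ⊔ ⁅V, E₂⁆ := by
  have h₁ : E₁ ≤ E := by rw [hgen]; exact le_sup_left
  have h₂ : E₂ ≤ E := by rw [hgen]; exact le_sup_right
  have hAmb : Amb p V E := by
    refine ⟨hV, hEV, hf, ?_⟩
    intro C hC hCsn hCp
    have hCpg : IsPGroup p ↥(C.subgroupOf E) := by
      intro d
      refine ⟨1, ?_⟩
      have h0 := hCp _ (Subgroup.mem_subgroupOf.mp d.2)
      apply Subtype.ext
      apply Subtype.ext
      simpa using h0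
    have hncl := Cfsg.Agent.S2820.normalClosure_isPGroup _ hCsn hCpg
    have hle2 : C.subgroupOf E ≤ Cfsg.pCore p ↥E :=
      (Subgroup.le_normalClosure (H := C.subgroupOf E)).trans
        (le_sSup (show Subgroup.normalClosure ((C.subgroupOf E : Subgroup ↥E) : Set ↥E) ∈
          {N : Subgroup ↥E | N.Normal ∧ IsPGroup p N} from
          ⟨Subgroup.normalClosure_normal, hncl⟩))
    rw [hOp, le_bot_iff, Subgroup.subgroupOf_eq_bot] at hle2
    rw [eq_bot_iff, ← hle2.eq_bot]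
    exact le_inf le_rfl hC
  have hG₁ : Good V E E₁ := ⟨h₁, hs₁, hirr₁, hc₁⟩
  have hG₂ : Good V E E₂ := ⟨h₂, hs₂, hirr₂, hc₂⟩
  obtain ⟨hcomm, hW⟩ := main_aux V _ E E₁ E₂ rfl hAmb hgen hG₁ hG₂ h12 h21
  refine ⟨hcomm, ?_, hW, ?_⟩
  · rw [eq_bot_iff, ← hf]
    rintro x ⟨hx1, hx2⟩
    have hxc : x ∈ Subgroup.centralizer (V : Set G) := by
      rw [Subgroup.mem_centralizer_iff]
      intro v hv
      have h3 : ⁅v, x⁆ ∈ (⁅V, E₁⁆ : Subgroup G) ⊓ ⁅V, E₂⁆ :=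
        ⟨Subgroup.commutator_mem_commutator hv hx1, Subgroup.commutator_mem_commutator hv hx2⟩
      rw [hW, Subgroup.mem_bot, commutatorElement_def] at h3
      calc v * x = (v * x * v⁻¹ * x⁻¹) * (x * v) := by group
        _ = x * v := by rw [h3, one_mul]
    exact ⟨h₁ hx1, hxc⟩
  · apply le_antisymm
    · have hE₁n : E₁ ≤ Subgroup.normalizer
          (((⁅V, E₁⁆ : Subgroup G) ⊔ ⁅V, E₂⁆ : Subgroup G) : Set G) :=
        (le_inf (le_normalizer_comm V E₁) (le_normalizer_comm_of_comm (h₁.trans hEV)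
          (by rw [Subgroup.commutator_comm]; exact hcomm))).trans
          (Cfsg.Agent.Lib.Helper9.normalizer_inf_le_normalizer_sup _ _)
      have hE₂n : E₂ ≤ Subgroup.normalizer
          (((⁅V, E₁⁆ : Subgroup G) ⊔ ⁅V, E₂⁆ : Subgroup G) : Set G) :=
        (le_inf (le_normalizer_comm_of_comm (h₂.trans hEV) hcomm)
          (le_normalizer_comm V E₂)).trans
          (Cfsg.Agent.Lib.Helper9.normalizer_inf_le_normalizer_sup _ _)
      have hle : E₁ ⊔ E₂ ≤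
          Cfsg.Agent.S0597.stabSub V ((⁅V, E₁⁆ : Subgroup G) ⊔ ⁅V, E₂⁆) := by
        refine sup_le ?_ ?_
        · intro x hx
          exact ⟨hE₁n hx, fun v hv =>
            Subgroup.mem_sup_left (Subgroup.commutator_mem_commutator hv hx)⟩
        · intro x hx
          exact ⟨hE₂n hx, fun v hv =>
            Subgroup.mem_sup_right (Subgroup.commutator_mem_commutator hv hx)⟩
      rw [Subgroup.commutator_le]
      intro v hv x hx
      have hx' : x ∈ E₁ ⊔ E₂ := by rw [← hgen]; exact hx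
      exact (hle hx').2 v hv
    · exact sup_le (Subgroup.commutator_mono le_rfl h₁) (Subgroup.commutator_mono le_rfl h₂)

end Cfsg.Agent.S0615
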