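import Cfsg.Statements.S0647

set_option autoImplicit false
open Cfsg

namespace Cfsg.Agent.S0647

/-- For a nonempty family of maximal abelian subgroups of a finite group, the intersection of the family is the centre of the subgroup it generates, which is also the full centralizer of that subgroup. -/
theorem result {S : Type*} [Group S] [Finite S] (𝒜 : Set (Subgroup S)) (hne : 𝒜.Nonempty) (hab : ∀ A ∈ 𝒜, IsMulCommutative A) (hmax : ∀ A ∈ 𝒜, ∀ B : Subgroup S, IsMulCommutative B → A ≤ B → B = A) : sInf 𝒜 = sSup 𝒜 ⊓ Subgroup.centralizer ((sSup 𝒜 : Subgroup S) : Set S) ∧ sInf 𝒜 = Subgroup.centralizer ((sSup 𝒜 : Subgroup S) : Set S) := by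
  have h1 : Subgroup.centralizer ((sSup 𝒜 : Subgroup S) : Set S) ≤ sInf 𝒜 := by
    intro x hx
    rw [Subgroup.mem_sInf]
    intro A hA
    have hAc : ∀ a ∈ A, ∀ b ∈ A, a * b = b * a := by
      haveI := hab A hA
      exact fun a ha b hb => setLike_mul_comm ha hb
    have hxA : ∀ a ∈ A, a * x = x * a := fun a ha =>
      (Subgroup.mem_centralizer_iff.mp hx) a ((le_sSup hA : A ≤ sSup 𝒜) ha)
    have hcomm : ∀ y ∈ ((A : Set S) ∪ {x}), ∀ z ∈ ((A : Set S) ∪ {x}), y * z = z * y := by
      intro y hy z hz
      rcases hy with hy | hy <;> rcases hz with hz | hz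
      · exact hAc y hy z hz
      · rw [Set.mem_singleton_iff] at hz; rw [hz]; exact hxA y hy
      · rw [Set.mem_singleton_iff] at hy; rw [hy]; exact (hxA z hz).symm
      · rw [Set.mem_singleton_iff] at hy hz; rw [hy, hz]
    have hB : IsMulCommutative (Subgroup.closure ((A : Set S) ∪ {x})) :=
      Subgroup.isMulCommutative_closure hcomm
    have hle : A ≤ Subgroup.closure ((A : Set S) ∪ {x}) := fun a ha =>
      Subgroup.subset_closure (Or.inl ha)
    have heq := hmax A hA _ hB hle
    rw [← heq]
    exact Subgroup.subset_closure (Or.inr rfl)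
  have h2 : sInf 𝒜 ≤ Subgroup.centralizer ((sSup 𝒜 : Subgroup S) : Set S) := by
    intro x hx
    rw [Subgroup.mem_sInf] at hx
    have h3 : sSup 𝒜 ≤ Subgroup.centralizer ({x} : Set S) := by
      apply sSup_le
      intro A hA a ha
      rw [Subgroup.mem_centralizer_iff]
      intro y hy
      rw [Set.mem_singleton_iff] at hy
      rw [hy]
      haveI := hab A hA
      exact setLike_mul_comm (hx A hA) ha
    rw [Subgroup.mem_centralizer_iff]
    intro g hg
    have := Subgroup.mem_centralizer_iff.mp (h3 hg) x rfl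
    exact this.symm
  have h3 : sInf 𝒜 ≤ sSup 𝒜 := by
    obtain ⟨A, hA⟩ := hne
    exact (sInf_le hA).trans (le_sSup hA)
  exact ⟨le_antisymm (le_inf h3 h2) (inf_le_right.trans h1), le_antisymm h2 h1⟩

end Cfsg.Agent.S0647
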