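import Cfsg.Statements.S0648
import Cfsg.Agent.Lib.Helper3.Comm2

set_option autoImplicit false
open Cfsg
open Cfsg.Agent.Lib.Helper3
open scoped commutatorElement

namespace Cfsg.Agent.S0648

/-- If A acts on B centralizing [B, B], then [B, A] has derived subgroup central in B, and for abelian A and b ∈ B with [[b, A], A, A] = 1 the derived subgroup of the subgroup [b, A] generated by the commutators of b with A has exponent dividing 2. -/
theorem result {G : Type*} [Group G] [Finite G] (A B : Subgroup G) (hAB : A ≤ Subgroup.normalizer (B : Set G)) (hc : ⁅⁅B, B⁆, A⁆ = ⊥) : ⁅⁅B, A⁆, ⁅B, A⁆⁆ ≤ B ⊓ Subgroup.centralizer (B : Set G) ∧ (IsMulCommutative A → ∀ b ∈ B, ⁅⁅(Subgroup.closure {g : G | ∃ a ∈ A, g = b⁻¹ * a * b * a⁻¹}), A⁆, A⁆ = ⊥ → ∀ w ∈ ⁅(Subgroup.closure {g : G | ∃ a ∈ A, g = b⁻¹ * a * b * a⁻¹}), (Subgroup.closure {g : G | ∃ a ∈ A, g = b⁻¹ * a * b * a⁻¹})⁆, w ^ 2 = 1) := by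
  refine ⟨cc_part1 hAB hc, ?_⟩
  intro hA b hb hq
  have hset : {g : G | ∃ a ∈ A, g = b⁻¹ * a * b * a⁻¹} = {g : G | ∃ a ∈ A, g = ⁅b⁻¹, a⁆} := by
    ext g; simp only [Set.mem_ofPred_eq, commutatorElement_def, inv_inv]
  rw [hset] at hq ⊢
  exact cc_part2 (fun x hx y hy => setLike_mul_comm hx hy) hAB hc (B.inv_mem hb) hq

end Cfsg.Agent.S0648
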