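import Cfsg.Statements.S0655
import Cfsg.Agent.Lib.Helper3.EA

set_option autoImplicit false
open Cfsg
open Cfsg.Agent.Lib.Helper3

namespace Cfsg.Agent.S0655

/-- In a p-group the intersection of all elementary abelian subgroups of largest order is the subgroup generated by the elements of order dividing p in the centre (equivalently the centralizer) of the elementary-version Thompson subgroup. -/
theorem result {S : Type*} [Group S] [Finite S] {p : ℕ} [Fact p.Prime] (hS : IsPGroup p S) : sInf (Cfsg.maxElementaryAbelianSubgroups p S) = Cfsg.omegaCenterThompson p S ∧ Cfsg.omegaCenterThompson p S = Cfsg.omegaOne p (Subgroup.centralizer (Cfsg.thompsonSubgroup p S : Set S)) := by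
  obtain ⟨A₀, hA₀⟩ := exists_maxEA (G := S) p
  have h1 : sInf (maxElementaryAbelianSubgroups p S) ≤ omegaCenterThompson p S := by
    intro x hx
    rw [Subgroup.mem_sInf] at hx
    unfold omegaCenterThompson omegaOne
    apply Subgroup.subset_closure
    refine ⟨⟨maxEA_le_thompson hA₀ (hx A₀ hA₀), ?_⟩, hA₀.1.2 x (hx A₀ hA₀)⟩
    have h3 : thompsonSubgroup p S ≤ Subgroup.centralizer ({x} : Set S) := by
      unfold thompsonSubgroup
      apply sSup_le
      intro A hA a ha
      rw [Subgroup.mem_centralizer_iff]
      intro y hy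
      rw [Set.mem_singleton_iff] at hy
      rw [hy]
      exact (isEA_iff.mp hA.1).1 x (hx A hA) a ha
    refine Subgroup.mem_centralizer_iff.mpr ?_
    intro g hg
    exact ((Subgroup.mem_centralizer_iff.mp (h3 hg)) x rfl).symm
  have h2 : omegaCenterThompson p S ≤ omegaOne p (Subgroup.centralizer (thompsonSubgroup p S : Set S)) := by
    unfold omegaCenterThompson omegaOne
    apply Subgroup.closure_mono
    rintro x ⟨hx, hxp⟩
    exact ⟨hx.2, hxp⟩
  have h3 : omegaOne p (Subgroup.centralizer (thompsonSubgroup p S : Set S)) ≤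
      sInf (maxElementaryAbelianSubgroups p S) := by
    unfold omegaOne
    rw [Subgroup.closure_le]
    rintro x ⟨hxC, hxp⟩
    rw [SetLike.mem_coe, Subgroup.mem_sInf]
    intro A hA
    have hcomm : ∀ a ∈ A, ∀ c ∈ Subgroup.zpowers x, a * c = c * a := by
      intro a ha c hc
      obtain ⟨k, rfl⟩ := Subgroup.mem_zpowers_iff.mp hc
      have h1 : a * x = x * a := (Subgroup.mem_centralizer_iff.mp hxC) a (maxEA_le_thompson hA ha)
      have h2 : Commute a x := h1
      exact (h2.zpow_right k).eq
    have hEA := isEA_sup hA.1 (isEA_zpowers hxp) hcomm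
    have heq := eq_of_le_of_maxEA hA hEA le_sup_left
    have : x ∈ A ⊔ Subgroup.zpowers x :=
      (le_sup_right : Subgroup.zpowers x ≤ _) (Subgroup.mem_zpowers x)
    rwa [heq] at this
  exact ⟨le_antisymm h1 (h2.trans h3), le_antisymm h2 (h3.trans h1)⟩

end Cfsg.Agent.S0655
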