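import Mathlib
import Cfsg.Statements.S0660
import Cfsg.Agent.S1900

set_option autoImplicit false
open Cfsg

namespace Cfsg.Agent.S0660

open scoped IsMulCommutative

/-- Maschke's theorem for a coprime group of automorphisms of a finite abelian group. -/
theorem maschke_ab {P : Type*} [Group P] [IsMulCommutative P] [Finite P]
    (A : Subgroup (MulAut P)) (hcop : (Nat.card P).Coprime (Nat.card A)) (U W : Subgroup P)
    (hU : ∀ α ∈ A, ∀ u ∈ U, α u ∈ U) (hUW : U ⊓ W = ⊥) (hUW' : U ⊔ W = ⊤) :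
    ∃ W' : Subgroup P, (∀ α ∈ A, ∀ w ∈ W', α w ∈ W') ∧ U ⊓ W' = ⊥ ∧ U ⊔ W' = ⊤ := by
  classical
  letI : Fintype A := Fintype.ofFinite _
  -- the projection onto `U` along `W`
  have hbij : Function.Bijective (MonoidHom.coprod U.subtype W.subtype) := by
    constructor
    · rw [injective_iff_map_eq_one]
      rintro ⟨u, w⟩ h
      have h1 : (u : P) * (w : P) = 1 := h
      have h2 : (u : P) ∈ U ⊓ W := by
        refine ⟨u.2, ?_⟩
        have : (u : P) = (w : P)⁻¹ := eq_inv_of_mul_eq_one_left h1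
        rw [this]; exact W.inv_mem w.2
      rw [hUW, Subgroup.mem_bot] at h2
      have h3 : (w : P) = 1 := by rw [h2, one_mul] at h1; exact h1
      exact Prod.ext (Subtype.ext h2) (Subtype.ext h3)
    · intro x
      have hx : x ∈ U ⊔ W := by rw [hUW']; trivial
      obtain ⟨u, hu, w, hw, rfl⟩ := Subgroup.mem_sup.mp hx
      exact ⟨(⟨u, hu⟩, ⟨w, hw⟩), rfl⟩
  obtain ⟨π, hπU, hπu⟩ : ∃ π : P →* P, (∀ x, π x ∈ U) ∧ ∀ u ∈ U, π u = u := by
    refine ⟨U.subtype.comp ((MonoidHom.fst U W).comp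
      (MulEquiv.ofBijective _ hbij).symm.toMonoidHom), fun x => Subtype.coe_prop _, ?_⟩
    intro u hu
    have h1 : (MulEquiv.ofBijective _ hbij).symm u = ((⟨u, hu⟩ : U), (1 : W)) := by
      rw [MulEquiv.symm_apply_eq]
      show u = (u : P) * ((1 : W) : P)
      simp
    show ((MonoidHom.fst U W) ((MulEquiv.ofBijective _ hbij).symm u) : P) = u
    rw [h1]; rfl
  -- the averaged projection
  let θ : P →* P := MonoidHom.mk'
    (fun x => ∏ α : A, (α : MulAut P) (π ((α : MulAut P)⁻¹ x))) (by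
      intro x y
      simp only [map_mul]
      exact Finset.prod_mul_distrib)
  have hθ : ∀ x, θ x = ∏ α : A, (α : MulAut P) (π ((α : MulAut P)⁻¹ x)) := fun x => rfl
  have hθU : ∀ x, θ x ∈ U := by
    intro x
    rw [hθ]
    exact Subgroup.prod_mem _ (fun α _ => hU α α.2 _ (hπU _))
  have hθu : ∀ u ∈ U, θ u = u ^ Nat.card A := by
    intro u hu
    rw [hθ]
    have h1 : ∀ α : A, (α : MulAut P) (π ((α : MulAut P)⁻¹ u)) = u := by
      intro α
      rw [hπu _ (hU _ (A.inv_mem α.2) u hu)]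
      exact MulAut.apply_inv_self P (α : MulAut P) u
    simp_rw [h1]
    rw [Finset.prod_const, Finset.card_univ, Nat.card_eq_fintype_card]
  have hθβ : ∀ β ∈ A, ∀ x, θ (β x) = β (θ x) := by
    intro β hβ x
    rw [hθ (β x), hθ x, map_prod β]
    symm
    refine Fintype.prod_equiv (Equiv.mulLeft (⟨β, hβ⟩ : A)) _ _ (fun α => ?_)
    show β ((α : MulAut P) (π ((α : MulAut P)⁻¹ x))) =
      (β * (α : MulAut P)) (π ((β * (α : MulAut P))⁻¹ (β x)))
    rw [mul_inv_rev, MulAut.mul_apply, MulAut.mul_apply, MulAut.inv_apply_self]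
  have hcopU : (Nat.card U).Coprime (Nat.card A) :=
    Nat.Coprime.coprime_dvd_left (Subgroup.card_subgroup_dvd_card U) hcop
  refine ⟨θ.ker, ?_, ?_, ?_⟩
  · intro α hα w hw
    rw [MonoidHom.mem_ker] at hw ⊢
    rw [hθβ α hα, hw, map_one]
  · rw [eq_bot_iff]
    rintro u ⟨hu, hu2⟩
    rw [Subgroup.mem_bot]
    have h1 : u ^ Nat.card A = 1 := by
      rw [← hθu u hu]; exact MonoidHom.mem_ker.mp hu2
    apply (powCoprime hcop).injective
    show u ^ Nat.card A = 1 ^ Nat.card A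
    rw [h1, one_pow]
  · rw [eq_top_iff]
    intro x _
    obtain ⟨u, hu⟩ : ∃ u : U, u ^ Nat.card A = ⟨θ x, hθU x⟩ :=
      ⟨(powCoprime hcopU).symm ⟨θ x, hθU x⟩, (powCoprime hcopU).apply_symm_apply _⟩
    have hu' : (u : P) ^ Nat.card A = θ x := by
      have := congrArg Subtype.val hu
      simpa using this
    have h2 : (u : P)⁻¹ * x ∈ θ.ker := by
      rw [MonoidHom.mem_ker, map_mul, map_inv, hθu _ u.2, hu', inv_mul_cancel]
    have e : x = (u : P) * ((u : P)⁻¹ * x) := by group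
    rw [e]
    exact Subgroup.mul_mem _ (Subgroup.mem_sup_left u.2) (Subgroup.mem_sup_right h2)

/-- Under a coprime action on an abelian group, an invariant subgroup that is complemented admits an invariant complement. -/
theorem result {G : Type*} [Group G] [Finite G] (V A U : Subgroup G) (hVab : IsMulCommutative V) (hAV : A ≤ Subgroup.normalizer (V : Set G)) (hcop : (Nat.card A).Coprime (Nat.card V)) (hUV : U ≤ V) (hAU : A ≤ Subgroup.normalizer (U : Set G)) (W : Subgroup G) (hWV : W ≤ V) (hUW : U ⊓ W = ⊥) (hUWV : U ⊔ W = V) : ∃ W' : Subgroup G, W' ≤ V ∧ A ≤ Subgroup.normalizer (W' : Set G) ∧ U ⊓ W' = ⊥ ∧ U ⊔ W' = V := by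
  haveI := hVab
  let f : ↥A →* MulAut ↥V := V.normalizerMonoidHom.comp (Subgroup.inclusion hAV)
  have hf : ∀ (a : ↥A) (v : ↥V), ((f a v : ↥V) : G) = (a : G) * (v : G) * (a : G)⁻¹ :=
    fun a v => rfl
  have hcop' : (Nat.card ↥V).Coprime (Nat.card ↥f.range) :=
    (Nat.Coprime.coprime_dvd_left (Subgroup.card_range_dvd f) hcop).symm
  have hU' : ∀ α ∈ f.range, ∀ u ∈ U.subgroupOf V, α u ∈ U.subgroupOf V := by
    rintro _ ⟨a, rfl⟩ u hu
    rw [Subgroup.mem_subgroupOf] at hu ⊢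
    rw [hf]
    exact (Subgroup.mem_normalizer_iff.mp (hAU a.2) _).mp hu
  have h1 : U.subgroupOf V ⊓ W.subgroupOf V = ⊥ := by
    rw [eq_bot_iff]
    rintro x ⟨hx1, hx2⟩
    have h2 : (x : G) ∈ U ⊓ W :=
      ⟨Subgroup.mem_subgroupOf.mp hx1, Subgroup.mem_subgroupOf.mp hx2⟩
    rw [hUW, Subgroup.mem_bot] at h2
    rw [Subgroup.mem_bot]
    exact Subtype.ext h2
  have h2 : U.subgroupOf V ⊔ W.subgroupOf V = ⊤ := by
    rw [← Subgroup.subgroupOf_sup hUV hWV, hUWV, Subgroup.subgroupOf_self]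
  obtain ⟨W'', hinv, hd, hs⟩ := maschke_ab f.range hcop' (U.subgroupOf V) (W.subgroupOf V)
    hU' h1 h2
  refine ⟨W''.map V.subtype, Subgroup.map_subtype_le _, ?_, ?_, ?_⟩
  · intro a ha
    apply Cfsg.Agent.S1900.mem_normalizer_of_conj_mem
    rintro _ ⟨w, hw, rfl⟩
    exact ⟨f ⟨a, ha⟩ w, hinv _ ⟨⟨a, ha⟩, rfl⟩ w hw, rfl⟩
  · rw [eq_bot_iff]
    rintro _ ⟨hx1, ⟨w, hw, rfl⟩⟩
    have h3 : w ∈ U.subgroupOf V ⊓ W'' := ⟨Subgroup.mem_subgroupOf.mpr hx1, hw⟩
    rw [hd, Subgroup.mem_bot] at h3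
    rw [h3]; exact Subgroup.one_mem _
  · have h3 : (U.subgroupOf V).map V.subtype = U := Subgroup.map_subgroupOf_eq_of_le hUV
    calc U ⊔ W''.map V.subtype = (U.subgroupOf V).map V.subtype ⊔ W''.map V.subtype := by
          rw [h3]
      _ = (U.subgroupOf V ⊔ W'').map V.subtype := (Subgroup.map_sup _ _ _).symm
      _ = V := by rw [hs, ← MonoidHom.range_eq_map, Subgroup.range_subtype]

end Cfsg.Agent.S0660
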