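import Cfsg.Statements.S0661
import Cfsg.Agent.Lib.Helper3.ZJ2
import Cfsg.Agent.Lib.Helper3.Stable
import Cfsg.Agent.Lib.Helper7.PQ

set_option autoImplicit false
open Cfsg
open Cfsg.Agent.Lib.Helper3

namespace Cfsg.Agent.S0661

/-- If, modulo the largest normal subgroup of order prime to p, the largest normal p-subgroup contains its centralizer, then for every p-subgroup P the p'-core of N_G(P) is just O_p'(G) ∩ N_G(P). -/
theorem result {G : Type*} [Group G] [Finite G] {p : ℕ} [Fact p.Prime] (hc : Subgroup.centralizer (Cfsg.pCore p (G ⧸ Cfsg.pPrimeCore p G) : Set (G ⧸ Cfsg.pPrimeCore p G)) ≤ Cfsg.pCore p (G ⧸ Cfsg.pPrimeCore p G)) (P : Subgroup G) (hP : IsPGroup p P) : (Cfsg.pPrimeCore p ↥(Subgroup.normalizer (P : Set G))).map (Subgroup.normalizer (P : Set G)).subtype = Cfsg.pPrimeCore p G ⊓ Subgroup.normalizer (P : Set G) := by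
  have hOc : (Nat.card (pPrimeCore p G)).Coprime p := pPrimeCore_coprime' p G
  apply le_antisymm
  · have hQ₀c : (Nat.card (pPrimeCore p ↥(Subgroup.normalizer (P : Set G)))).Coprime p :=
      pPrimeCore_coprime' p _
    generalize hQdef : (pPrimeCore p ↥(Subgroup.normalizer (P : Set G))).map
      (Subgroup.normalizer (P : Set G)).subtype = Q
    have hQc : (Nat.card Q).Coprime p := by
      rw [← hQdef, Subgroup.card_map_of_injective (Subgroup.subtype_injective _)]; exact hQ₀c
    have hQN : Q ≤ Subgroup.normalizer (P : Set G) := by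
      rw [← hQdef]; exact Subgroup.map_subtype_le _
    have hNQ : ∀ n ∈ Subgroup.normalizer (P : Set G), ∀ q ∈ Q, n * q * n⁻¹ ∈ Q := by
      intro n hn q hq
      rw [← hQdef] at hq ⊢
      obtain ⟨q₀, hq₀, rfl⟩ := hq
      exact ⟨⟨n, hn⟩ * q₀ * ⟨n, hn⟩⁻¹, (pPrimeCore_normal p _).conj_mem q₀ hq₀ ⟨n, hn⟩, rfl⟩
    have hPQinf : P ⊓ Q = ⊥ := inf_eq_bot_of_coprime' hP hQc
    have hPQ : ∀ y ∈ P, ∀ q ∈ Q, y * q = q * y := by
      intro y hy q hq
      have h1 : y * q * y⁻¹ * q⁻¹ ∈ P ⊓ Q := by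
        refine Subgroup.mem_inf.mpr ⟨?_, ?_⟩
        · have h2 : q * y⁻¹ * q⁻¹ ∈ P :=
            (Subgroup.mem_normalizer_iff.mp (hQN hq) y⁻¹).mp (P.inv_mem hy)
          have e : y * q * y⁻¹ * q⁻¹ = y * (q * y⁻¹ * q⁻¹) := by group
          rw [e]; exact P.mul_mem hy h2
        · exact Q.mul_mem (hNQ y (Subgroup.le_normalizer hy) q hq) (Q.inv_mem hq)
      rw [hPQinf, Subgroup.mem_bot] at h1
      calc y * q = (y * q * y⁻¹ * q⁻¹) * (q * y) := by group
        _ = q * y := by rw [h1, one_mul]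
    have hPb : IsPGroup p (P.map (QuotientGroup.mk' (pPrimeCore p G))) := hP.map _
    have hQb : (Nat.card (Q.map (QuotientGroup.mk' (pPrimeCore p G)))).Coprime p :=
      Nat.Coprime.coprime_dvd_left (Subgroup.card_map_dvd _ _) hQc
    have hHb : IsPGroup p (pCore p (G ⧸ pPrimeCore p G)) := pCore_isPGroup' p _
    have hinfb : pCore p (G ⧸ pPrimeCore p G) ⊓ Q.map (QuotientGroup.mk' (pPrimeCore p G)) = ⊥ :=
      inf_eq_bot_of_coprime' hHb hQb
    have hcent : Q.map (QuotientGroup.mk' (pPrimeCore p G)) ≤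
        Subgroup.centralizer (pCore p (G ⧸ pPrimeCore p G) : Set (G ⧸ pPrimeCore p G)) := by
      apply Cfsg.Agent.Lib.Helper7.pxq_lemma p (P.map (QuotientGroup.mk' (pPrimeCore p G)))
        (Q.map (QuotientGroup.mk' (pPrimeCore p G))) (pCore p (G ⧸ pPrimeCore p G)) hPb hQb hHb
      · rintro _ ⟨y, hy, rfl⟩
        refine Subgroup.mem_centralizer_iff.mpr ?_
        rintro _ ⟨q, hq, rfl⟩
        rw [← map_mul, ← map_mul, hPQ y hy q hq]
      · rw [Subgroup.normalizer_eq_top]; exact le_top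
      · rw [Subgroup.normalizer_eq_top]; exact le_top
      · rintro xb ⟨hxH, hxP⟩
        obtain ⟨x, rfl⟩ := QuotientGroup.mk'_surjective (pPrimeCore p G) xb
        have hg : ∀ y ∈ P, x * y * x⁻¹ ∈ P ⊔ pPrimeCore p G := by
          intro y hy
          have h1 := Subgroup.mem_centralizer_iff.mp hxP
            (QuotientGroup.mk' (pPrimeCore p G) y) (Subgroup.mem_map_of_mem _ hy)
          have h2 : x * y * x⁻¹ * y⁻¹ ∈ pPrimeCore p G := by
            rw [← QuotientGroup.eq_one_iff]
            have e : ((x * y * x⁻¹ * y⁻¹ : G) : G ⧸ pPrimeCore p G) =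
                QuotientGroup.mk' (pPrimeCore p G) x * QuotientGroup.mk' (pPrimeCore p G) y *
                (QuotientGroup.mk' (pPrimeCore p G) x)⁻¹ *
                (QuotientGroup.mk' (pPrimeCore p G) y)⁻¹ := rfl
            rw [e, ← h1]; group
          have e : x * y * x⁻¹ = (x * y * x⁻¹ * y⁻¹) * y := by group
          rw [e]
          exact Subgroup.mul_mem _ (Subgroup.mem_sup_right h2) (Subgroup.mem_sup_left hy)
        obtain ⟨n, hn, hnx⟩ := exists_mul_mem_normalizer (pPrimeCore p G) hOc P hP x hg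
        refine Subgroup.mem_centralizer_iff.mpr ?_
        rintro _ ⟨q, hq, rfl⟩
        have h3 : (n * x) * q * (n * x)⁻¹ * q⁻¹ ∈ Q :=
          Q.mul_mem (hNQ _ hnx q hq) (Q.inv_mem hq)
        have hn1 : QuotientGroup.mk' (pPrimeCore p G) n = 1 := (QuotientGroup.eq_one_iff n).mpr hn
        have e : QuotientGroup.mk' (pPrimeCore p G) ((n * x) * q * (n * x)⁻¹ * q⁻¹) =
            QuotientGroup.mk' (pPrimeCore p G) x * (QuotientGroup.mk' (pPrimeCore p G) q *
              (QuotientGroup.mk' (pPrimeCore p G) x)⁻¹ *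
              (QuotientGroup.mk' (pPrimeCore p G) q)⁻¹) := by
          simp only [map_mul, map_inv, hn1]; group
        have h4 : QuotientGroup.mk' (pPrimeCore p G) ((n * x) * q * (n * x)⁻¹ * q⁻¹) ∈
            pCore p (G ⧸ pPrimeCore p G) ⊓ Q.map (QuotientGroup.mk' (pPrimeCore p G)) := by
          refine Subgroup.mem_inf.mpr ⟨?_, Subgroup.mem_map_of_mem _ h3⟩
          rw [e]
          exact Subgroup.mul_mem _ hxH
            ((pCore_normal p _).conj_mem _ (Subgroup.inv_mem _ hxH) _)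
        rw [hinfb, Subgroup.mem_bot, e] at h4
        generalize QuotientGroup.mk' (pPrimeCore p G) x = a at h4 ⊢
        generalize QuotientGroup.mk' (pPrimeCore p G) q = b at h4 ⊢
        calc b * a = (a * (b * a⁻¹ * b⁻¹))⁻¹ * (a * b) := by group
          _ = a * b := by rw [h4, inv_one, one_mul]
    have hQO : Q ≤ pPrimeCore p G := by
      intro q hq
      have h1 : QuotientGroup.mk' (pPrimeCore p G) q ∈
          pCore p (G ⧸ pPrimeCore p G) ⊓ Q.map (QuotientGroup.mk' (pPrimeCore p G)) :=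
        Subgroup.mem_inf.mpr ⟨hc (hcent (Subgroup.mem_map_of_mem _ hq)), Subgroup.mem_map_of_mem _ hq⟩
      rw [hinfb, Subgroup.mem_bot] at h1
      exact (QuotientGroup.eq_one_iff q).mp h1
    exact le_inf hQO hQN
  · rintro x ⟨hxO, hxN⟩
    have h1 : (pPrimeCore p G).subgroupOf (Subgroup.normalizer (P : Set G)) ≤
        pPrimeCore p ↥(Subgroup.normalizer (P : Set G)) := by
      apply le_pPrimeCore' inferInstance
      have h2 : Nat.card ↥((pPrimeCore p G).subgroupOf (Subgroup.normalizer (P : Set G))) ∣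
          Nat.card (pPrimeCore p G) := by
        rw [← Subgroup.card_map_of_injective (Subgroup.subtype_injective
          (Subgroup.normalizer (P : Set G)))]
        apply Subgroup.card_dvd_of_le
        rintro _ ⟨y, hy, rfl⟩
        exact hy
      exact Nat.Coprime.coprime_dvd_left h2 hOc
    exact ⟨⟨x, hxN⟩, h1 (Subgroup.mem_subgroupOf.mpr hxO), rfl⟩

end Cfsg.Agent.S0661
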