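import Cfsg.Statements.S0666
import Mathlib
import Cfsg.Agent.Lib.Helper9.FrobThm

set_option autoImplicit false
open Cfsg

namespace Cfsg.Agent.S0666

open Cfsg.Agent.Lib.Helper7 (fc_mal fc_mem_kernel_iff fc_kernel_card)

theorem frob_action_key {F A : Type*} [Group F] [Finite F] [CommGroup A] (σ : F →* MulAut A)
    (H N : Subgroup F) (hH : IsFrobeniusComplement H)
    (hNK : (N : Set F) = frobeniusKernel H) (hNn : N.Normal) (hc : Subgroup.IsComplement' N H)
    (hfixN : ∀ a : A, (∀ k ∈ N, σ k a = a) → a = 1)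
    (hfixH : ∀ a : A, (∀ h ∈ H, σ h a = a) → a = 1) (a : A) : a ^ Nat.card N = 1 := by
  classical
  let _i1 : Fintype F := Fintype.ofFinite F
  let _i2 : Fintype H := Fintype.ofFinite H
  let _i3 : Fintype N := Fintype.ofFinite N
  have hTH : ∀ b : A, ∏ h : H, σ (h : F) b = 1 := by
    intro b
    apply hfixH
    intro h' hh'
    rw [map_prod]
    have e : ∀ h : H, σ h' (σ (h : F) b) = σ (((⟨h', hh'⟩ : H) * h : H) : F) b := by
      intro h
      rw [Subgroup.coe_mul, map_mul]; rfl
    rw [Finset.prod_congr rfl (fun h _ => e h)]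
    exact Fintype.prod_equiv (Equiv.mulLeft (⟨h', hh'⟩ : H)) _ _ (fun h => rfl)
  have hTN : ∀ b : A, ∏ k : N, σ (k : F) b = 1 := by
    intro b
    apply hfixN
    intro k' hk'
    rw [map_prod]
    have e : ∀ k : N, σ k' (σ (k : F) b) = σ (((⟨k', hk'⟩ : N) * k : N) : F) b := by
      intro k
      rw [Subgroup.coe_mul, map_mul]; rfl
    rw [Finset.prod_congr rfl (fun k _ => e k)]
    exact Fintype.prod_equiv (Equiv.mulLeft (⟨k', hk'⟩ : N)) _ _ (fun k => rfl)
  -- the product over all of F
  have hTF : ∏ f : F, σ f a = 1 := by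
    have hbij : Function.Bijective (fun x : N × H => (x.1 : F) * (x.2 : F)) := hc
    rw [← Fintype.prod_equiv (Equiv.ofBijective _ hbij) (fun x : N × H => σ ((x.1 : F) * (x.2 : F)) a)
      (fun f => σ f a) (fun x => rfl), Fintype.prod_prod_type]
    have e : ∀ k : N, ∏ h : H, σ ((k : F) * (h : F)) a = σ (k : F) (∏ h : H, σ (h : F) a) := by
      intro k
      rw [map_prod]
      apply Finset.prod_congr rfl
      intro h _
      rw [map_mul]; rfl
    rw [Finset.prod_congr rfl (fun k _ => e k)]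
    simp only [hTH a, map_one, Finset.prod_const_one]
  -- split by membership in N
  have hout : ∏ f ∈ Finset.univ.filter (fun f : F => f ∉ N), σ f a = 1 := by
    have h1 := Finset.prod_filter_mul_prod_filter_not Finset.univ (fun f : F => f ∈ N)
      (fun f => σ f a)
    rw [hTF] at h1
    have h2 : ∏ f ∈ Finset.univ.filter (fun f : F => f ∈ N), σ f a = ∏ k : N, σ (k : F) a := by
      rw [Finset.prod_subtype (Finset.univ.filter (fun f : F => f ∈ N)) (p := fun f => f ∈ N)
        (fun f => by simp) (fun f => σ f a)]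
    rw [h2, hTN a, one_mul] at h1
    exact h1
  -- the conjugates of H
  have hQ : ∏ k : N, ∏ h : H, σ ((k : F) * (h : F) * (k : F)⁻¹) a = 1 := by
    have e : ∀ k : N, ∏ h : H, σ ((k : F) * (h : F) * (k : F)⁻¹) a =
        σ (k : F) (∏ h : H, σ (h : F) (σ (k : F)⁻¹ a)) := by
      intro k
      rw [map_prod]
      apply Finset.prod_congr rfl
      intro h _
      rw [map_mul, map_mul]; rfl
    rw [Finset.prod_congr rfl (fun k _ => e k)]
    simp only [hTH, map_one, Finset.prod_const_one]
  have hsplit : ∀ k : N, ∏ h : H, σ ((k : F) * (h : F) * (k : F)⁻¹) a =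
      a * ∏ h ∈ Finset.univ.erase (1 : H), σ ((k : F) * (h : F) * (k : F)⁻¹) a := by
    intro k
    rw [← Finset.mul_prod_erase Finset.univ _ (Finset.mem_univ (1 : H))]
    congr 1
    rw [Subgroup.coe_one, mul_one, mul_inv_cancel, map_one]; rfl
  rw [Finset.prod_congr rfl (fun k _ => hsplit k), Finset.prod_mul_distrib, Finset.prod_const,
    Finset.card_univ, ← Nat.card_eq_fintype_card, ← Finset.prod_product'] at hQ
  have hbij : ∏ p ∈ (Finset.univ : Finset N) ×ˢ (Finset.univ.erase (1 : H)),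
      σ ((p.1 : F) * (p.2 : F) * (p.1 : F)⁻¹) a =
      ∏ f ∈ Finset.univ.filter (fun f : F => f ∉ N), σ f a := by
    apply Finset.prod_bij (fun p _ => (p.1 : F) * (p.2 : F) * (p.1 : F)⁻¹)
    · rintro ⟨k, h⟩ hp
      rw [Finset.mem_product, Finset.mem_erase] at hp
      rw [Finset.mem_filter]
      refine ⟨Finset.mem_univ _, ?_⟩
      intro hmem
      have h1 : (h : F) ∈ N := by
        have := hNn.conj_mem _ hmem (k : F)⁻¹
        have e : (k : F)⁻¹ * ((k : F) * (h : F) * (k : F)⁻¹) * (k : F)⁻¹⁻¹ = (h : F) := by group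
        rwa [e] at this
      have h2 : (h : F) ∈ N ⊓ H := ⟨h1, h.2⟩
      rw [hc.disjoint.eq_bot, Subgroup.mem_bot] at h2
      exact hp.2.1 (Subtype.ext h2)
    · rintro ⟨k, h⟩ hp ⟨k', h'⟩ hp' heq
      rw [Finset.mem_product, Finset.mem_erase] at hp hp'
      have heq' : (k : F) * (h : F) * (k : F)⁻¹ = (k' : F) * (h' : F) * (k' : F)⁻¹ := heq
      have h3 : ((k' : F)⁻¹ * (k : F))⁻¹⁻¹ * (h : F) * ((k' : F)⁻¹ * (k : F))⁻¹ ∈ H := by
        have e : ((k' : F)⁻¹ * (k : F))⁻¹⁻¹ * (h : F) * ((k' : F)⁻¹ * (k : F))⁻¹ = (h' : F) := by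
          have : (h' : F) = (k' : F)⁻¹ * ((k : F) * (h : F) * (k : F)⁻¹) * (k' : F) := by
            rw [heq']; group
          rw [this]; group
        rw [e]; exact h'.2
      have h4 : ((k' : F)⁻¹ * (k : F))⁻¹ ∈ H :=
        fc_mal H hH _ (h : F) h.2 (fun e => hp.2.1 (Subtype.ext e)) h3
      have h5 : ((k' : F)⁻¹ * (k : F))⁻¹ ∈ N ⊓ H :=
        ⟨N.inv_mem (N.mul_mem (N.inv_mem k'.2) k.2), h4⟩
      rw [hc.disjoint.eq_bot, Subgroup.mem_bot, inv_eq_one] at h5
      have hk : (k : F) = (k' : F) := by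
        have := inv_mul_eq_one.mp h5
        exact this.symm
      have hh : (h : F) = (h' : F) := by
        rw [hk] at heq'
        have := mul_right_cancel heq'
        exact mul_left_cancel this
      exact Prod.ext (Subtype.ext hk) (Subtype.ext hh)
    · intro f hf
      rw [Finset.mem_filter] at hf
      have hfK : f ∉ frobeniusKernel H := by rw [← hNK]; exact hf.2
      rw [fc_mem_kernel_iff] at hfK
      have hf1 : f ≠ 1 := fun h => hfK (Or.inl h)
      obtain ⟨x, hx⟩ : ∃ x : F, x⁻¹ * f * x ∈ H := by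
        by_contra hcon
        exact hfK (Or.inr (fun x hx => hcon ⟨x, hx⟩))
      obtain ⟨⟨k, h₀⟩, hkh⟩ := hc.2 x
      have hkh' : (k : F) * (h₀ : F) = x := hkh
      have hmem : (k : F)⁻¹ * f * (k : F) ∈ H := by
        have e : (k : F)⁻¹ * f * (k : F) = (h₀ : F) * (x⁻¹ * f * x) * (h₀ : F)⁻¹ := by
          rw [← hkh']; group
        rw [e]
        exact H.mul_mem (H.mul_mem h₀.2 hx) (H.inv_mem h₀.2)
      refine ⟨(k, ⟨(k : F)⁻¹ * f * (k : F), hmem⟩), ?_, ?_⟩
      · rw [Finset.mem_product, Finset.mem_erase]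
        refine ⟨Finset.mem_univ _, ?_, Finset.mem_univ _⟩
        intro h1
        have h2 : (k : F)⁻¹ * f * (k : F) = 1 := congrArg Subtype.val h1
        apply hf1
        have e : f = (k : F) * ((k : F)⁻¹ * f * (k : F)) * (k : F)⁻¹ := by group
        rw [e, h2]; group
      · show (k : F) * ((k : F)⁻¹ * f * (k : F)) * (k : F)⁻¹ = f
        group
    · intro p _
      rfl
  rw [hbij, hout, mul_one] at hQ
  exact hQ


/-- conjugation action of `F ≤ N_G(V)` on `V` -/
def conjOn {G : Type*} [Group G] (V F : Subgroup G)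
    (hFV : F ≤ Subgroup.normalizer (V : Set G)) : F →* MulAut V where
  toFun f :=
    { toFun := fun v => ⟨(f : G) * v * (f : G)⁻¹,
        (Subgroup.mem_normalizer_iff.mp (hFV f.2) v).mp v.2⟩
      invFun := fun v => ⟨(f : G)⁻¹ * v * (f : G), by
        apply (Subgroup.mem_normalizer_iff.mp (hFV f.2) ((f : G)⁻¹ * v * (f : G))).mpr
        have e : (f : G) * ((f : G)⁻¹ * v * (f : G)) * (f : G)⁻¹ = v := by group
        rw [e]; exact v.2⟩
      left_inv := fun v => by
        apply Subtype.ext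
        show (f : G)⁻¹ * ((f : G) * v * (f : G)⁻¹) * (f : G) = v
        group
      right_inv := fun v => by
        apply Subtype.ext
        show (f : G) * ((f : G)⁻¹ * v * (f : G)) * (f : G)⁻¹ = v
        group
      map_mul' := fun v w => by
        apply Subtype.ext
        show (f : G) * ((v : G) * (w : G)) * (f : G)⁻¹ =
          ((f : G) * v * (f : G)⁻¹) * ((f : G) * w * (f : G)⁻¹)
        group }
  map_one' := by
    ext v
    show ((1 : F) : G) * (v : G) * ((1 : F) : G)⁻¹ = v
    rw [Subgroup.coe_one]; group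
  map_mul' := fun f g => by
    ext v
    show ((f * g : F) : G) * (v : G) * ((f * g : F) : G)⁻¹ =
      (f : G) * ((g : G) * v * (g : G)⁻¹) * (f : G)⁻¹
    rw [Subgroup.coe_mul]; group

theorem conjOn_apply {G : Type*} [Group G] (V F : Subgroup G)
    (hFV : F ≤ Subgroup.normalizer (V : Set G)) (f : F) (v : V) :
    ((conjOn V F hFV f v : V) : G) = (f : G) * v * (f : G)⁻¹ := rfl


/-- A Frobenius group acting on a nontrivial abelian group of order prime to that of its kernel, with the kernel acting without nontrivial fixed points, has a complement with a nontrivial fixed point. -/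
theorem result {G : Type*} [Group G] [Finite G] (V F : Subgroup G) (hVab : IsMulCommutative V) (hV1 : V ≠ ⊥) (hFV : F ≤ Subgroup.normalizer (V : Set G)) (H : Subgroup ↥F) (hH : Cfsg.IsFrobeniusComplement H) (hcop : (Nat.card V).Coprime (Nat.card (Cfsg.frobeniusKernel H))) (hCK : V ⊓ Subgroup.centralizer (Subtype.val '' Cfsg.frobeniusKernel H : Set G) = ⊥) : V ⊓ Subgroup.centralizer ((H.map F.subtype : Subgroup G) : Set G) ≠ ⊥ := by
  classical
  intro hCH
  obtain ⟨N, hNK, hNn, hc⟩ := Cfsg.Agent.Lib.Helper9.frobenius_kernel_subgroup H hH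
  let _ : CommGroup V :=
    { (inferInstance : Group V) with mul_comm := fun a b => hVab.is_comm.comm a b }
  have key := frob_action_key (conjOn V F hFV) H N hH hNK hNn hc ?_ ?_
  · apply hV1
    rw [Subgroup.eq_bot_iff_forall]
    intro v hv
    have h1 := key ⟨v, hv⟩
    have hcardN : Nat.card N = Nat.card (Cfsg.frobeniusKernel H) := by rw [← hNK]; rfl
    have h2 : orderOf (⟨v, hv⟩ : V) ∣ Nat.card N := orderOf_dvd_of_pow_eq_one h1
    have h3 : orderOf (⟨v, hv⟩ : V) ∣ Nat.card V := orderOf_dvd_natCard _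
    rw [hcardN] at h2
    have h4 : orderOf (⟨v, hv⟩ : V) = 1 := Nat.eq_one_of_dvd_coprimes hcop h3 h2
    have h5 := orderOf_eq_one_iff.mp h4
    exact congrArg Subtype.val h5
  · intro a ha
    have hmem : (a : G) ∈ V ⊓ Subgroup.centralizer
        (Subtype.val '' Cfsg.frobeniusKernel H : Set G) := by
      refine Subgroup.mem_inf.mpr ⟨a.2, ?_⟩
      rw [Subgroup.mem_centralizer_iff]
      rintro _ ⟨k, hk, rfl⟩
      have hkN : k ∈ N := by rw [← SetLike.mem_coe, hNK]; exact hk
      have h1 := ha k hkN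
      have h2 : (k : G) * (a : G) * (k : G)⁻¹ = (a : G) := congrArg Subtype.val h1
      calc (k : G) * (a : G) = ((k : G) * (a : G) * (k : G)⁻¹) * (k : G) := by group
        _ = (a : G) * (k : G) := by rw [h2]
    rw [hCK, Subgroup.mem_bot] at hmem
    exact Subtype.ext hmem
  · intro a ha
    have hmem : (a : G) ∈ V ⊓ Subgroup.centralizer
        ((H.map F.subtype : Subgroup G) : Set G) := by
      refine Subgroup.mem_inf.mpr ⟨a.2, ?_⟩
      rw [Subgroup.mem_centralizer_iff]
      rintro _ ⟨h, hh, rfl⟩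
      have h1 := ha h hh
      have h2 : (h : G) * (a : G) * (h : G)⁻¹ = (a : G) := congrArg Subtype.val h1
      show (h : G) * (a : G) = (a : G) * (h : G)
      calc (h : G) * (a : G) = ((h : G) * (a : G) * (h : G)⁻¹) * (h : G) := by group
        _ = (a : G) * (h : G) := by rw [h2]
    rw [hCH, Subgroup.mem_bot] at hmem
    exact Subtype.ext hmem

end Cfsg.Agent.S0666
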