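import Mathlib
import Cfsg.Statements.S5754

set_option autoImplicit false
open Cfsg

namespace Cfsg.Agent.S5754

section aux

variable {F V : Type*} [Field F] [AddCommGroup V] [Module F V]

theorem Q_sub (Q : QuadraticForm F V) (x y : V) :
    Q (x - y) = Q x + Q y - QuadraticMap.polar Q x y := by
  have h : QuadraticMap.polar Q x (-y) = Q (x + -y) - Q x - Q (-y) := rfl
  rw [QuadraticMap.polar_neg_right, QuadraticMap.map_neg] at h
  rw [sub_eq_add_neg]; linear_combination -h

/-- The reflection along `d` as a linear map. -/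
noncomputable def rfl0 (Q : QuadraticForm F V) (d : V) : V →ₗ[F] V :=
  LinearMap.id - ((Q d)⁻¹ • QuadraticMap.polarBilin Q d).smulRight d

theorem rfl0_apply (Q : QuadraticForm F V) (d x : V) :
    rfl0 Q d x = x - ((Q d)⁻¹ * QuadraticMap.polar Q d x) • d := by
  simp [rfl0]

theorem rfl0_self (Q : QuadraticForm F V) (d : V) (hd : Q d ≠ 0) : rfl0 Q d d = -d := by
  rw [rfl0_apply, QuadraticMap.polar_self]
  have : (Q d)⁻¹ * (2 • Q d) = 2 := by
    rw [nsmul_eq_mul]; field_simp
    norm_num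
  rw [this, two_smul]; abel

theorem rfl0_invol (Q : QuadraticForm F V) (d : V) (hd : Q d ≠ 0) :
    Function.Involutive (rfl0 Q d) := by
  intro x
  have h1 : rfl0 Q d x = x - ((Q d)⁻¹ * QuadraticMap.polar Q d x) • d := rfl0_apply Q d x
  rw [h1, map_sub, map_smul, rfl0_self Q d hd, h1]
  simp

theorem rfl0_iso (Q : QuadraticForm F V) (d : V) (hd : Q d ≠ 0) (x : V) :
    Q (rfl0 Q d x) = Q x := by
  rw [rfl0_apply, Q_sub, QuadraticMap.map_smul, QuadraticMap.polar_smul_right,
    QuadraticMap.polar_comm (⇑Q) x d]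
  simp only [smul_eq_mul]
  field_simp
  ring

/-- The reflection along `d` as an isometry. -/
noncomputable def reflE (Q : QuadraticForm F V) (d : V) (hd : Q d ≠ 0) : Q.IsometryEquiv Q :=
  { LinearEquiv.ofInvolutive (rfl0 Q d) (rfl0_invol Q d hd) with
    map_app' := fun x => rfl0_iso Q d hd x }

theorem reflE_apply (Q : QuadraticForm F V) (d : V) (hd : Q d ≠ 0) (x : V) :
    reflE Q d hd x = x - ((Q d)⁻¹ * QuadraticMap.polar Q d x) • d := rfl0_apply Q d x

theorem polar_iso (Q : QuadraticForm F V) (φ : Q.IsometryEquiv Q) (x y : V) :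
    QuadraticMap.polar Q (φ x) (φ y) = QuadraticMap.polar Q x y := by
  unfold QuadraticMap.polar
  rw [← map_add, φ.map_app, φ.map_app, φ.map_app]

theorem extend (Q : QuadraticForm F V) (hQ : Q.Anisotropic) (n : ℕ) (v v' : Fin n → V)
    (hq : ∀ i, Q (v i) = Q (v' i))
    (hB : ∀ i j, QuadraticMap.polar Q (v i) (v j) = QuadraticMap.polar Q (v' i) (v' j)) :
    ∀ k : ℕ, ∃ φ : Q.IsometryEquiv Q, ∀ i : Fin n, i.val < k → φ (v i) = v' i := by
  intro k
  induction k with
  | zero => exact ⟨QuadraticMap.IsometryEquiv.refl Q, fun i hi => absurd hi (Nat.not_lt_zero _)⟩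
  | succ k ih =>
    obtain ⟨φ, hφ⟩ := ih
    by_cases hk : k < n
    · by_cases hw : φ (v ⟨k, hk⟩) = v' ⟨k, hk⟩
      · refine ⟨φ, fun i hi => ?_⟩
        rcases Nat.lt_succ_iff_lt_or_eq.1 hi with h | h
        · exact hφ i h
        · have : i = ⟨k, hk⟩ := Fin.ext h
          rw [this]; exact hw
      · obtain ⟨d, hd⟩ : ∃ d : V, d = φ (v ⟨k, hk⟩) - v' ⟨k, hk⟩ := ⟨_, rfl⟩
        have hd0 : d ≠ 0 := by rw [hd]; exact sub_ne_zero.2 hw
        have hQd : Q d ≠ 0 := fun h => hd0 (hQ d h)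
        refine ⟨φ.trans (reflE Q d hQd), fun i hi => ?_⟩
        show reflE Q d hQd (φ (v i)) = v' i
        rw [reflE_apply]
        rcases Nat.lt_succ_iff_lt_or_eq.1 hi with h | h
        · have e : QuadraticMap.polar Q d (φ (v i)) = 0 := by
            rw [hd, QuadraticMap.polar_sub_left, polar_iso, hφ i h, hB]
            exact sub_self _
          rw [e, hφ i h]; simp
        · have hi' : i = ⟨k, hk⟩ := Fin.ext h
          subst hi'
          have e1 : QuadraticMap.polar Q d (φ (v ⟨k, hk⟩)) = Q d := by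
            have e2 : Q d = Q (φ (v ⟨k, hk⟩)) + Q (v' ⟨k, hk⟩) -
                QuadraticMap.polar Q (φ (v ⟨k, hk⟩)) (v' ⟨k, hk⟩) := by
              rw [hd]; exact Q_sub Q _ _
            rw [e2, hd, QuadraticMap.polar_sub_left, QuadraticMap.polar_self, φ.map_app,
              ← hq, QuadraticMap.polar_comm (⇑Q) (v' ⟨k, hk⟩) (φ (v ⟨k, hk⟩)), two_smul]
          rw [e1, inv_mul_cancel₀ hQd, one_smul, hd]
          abel
    · refine ⟨φ, fun i hi => hφ i ?_⟩
      have := i.2
      omega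

end aux

/-- Let V be a finite-dimensional vector space over a finite field F carrying an anisotropic quadratic form Q (Q(v) = 0 only for v = 0). Then the group of all maps v ↦ φ(v) + c, with φ an isometry of Q and c ∈ V, acts on V as a binary permutation group: given n ≥ 2 and two n-tuples u, u' of vectors such that every pair of corresponding entries of u is carried to that of u' by such a map, one such map carries u to u'. -/
theorem result {F V : Type*} [Field F] [Finite F] [AddCommGroup V] [Module F V] [Module.Finite F V]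
    (Q : QuadraticForm F V) (hQ : Q.Anisotropic) (n : ℕ) (hn : 2 ≤ n) (u u' : Fin n → V)
    (h2 : ∀ i j : Fin n, i ≠ j → ∃ (φ : Q.IsometryEquiv Q) (c : V), φ (u i) + c = u' i ∧ φ (u j) + c = u' j) :
    ∃ (φ : Q.IsometryEquiv Q) (c : V), ∀ i, φ (u i) + c = u' i := by
  have hn0 : 0 < n := by omega
  have hdiff : ∀ i j : Fin n, Q (u i - u j) = Q (u' i - u' j) := by
    intro i j
    by_cases hij : i = j
    · subst hij; simp
    · obtain ⟨φ, c, h1, h2'⟩ := h2 i j hij
      rw [← h1, ← h2']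
      have : φ (u i) + c - (φ (u j) + c) = φ (u i - u j) := by rw [map_sub]; abel
      rw [this, φ.map_app]
  obtain ⟨v, hv⟩ : ∃ v : Fin n → V, ∀ i, v i = u i - u ⟨0, hn0⟩ := ⟨fun i => u i - u ⟨0, hn0⟩, fun i => rfl⟩
  obtain ⟨v', hv'⟩ : ∃ v' : Fin n → V, ∀ i, v' i = u' i - u' ⟨0, hn0⟩ :=
    ⟨fun i => u' i - u' ⟨0, hn0⟩, fun i => rfl⟩
  have hq : ∀ i, Q (v i) = Q (v' i) := fun i => by rw [hv, hv']; exact hdiff i _
  have hB : ∀ i j, QuadraticMap.polar Q (v i) (v j) = QuadraticMap.polar Q (v' i) (v' j) := by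
    intro i j
    have e1 := Q_sub Q (v i) (v j)
    have e2 := Q_sub Q (v' i) (v' j)
    have e3 : v i - v j = u i - u j := by rw [hv, hv]; abel
    have e4 : v' i - v' j = u' i - u' j := by rw [hv', hv']; abel
    rw [e3] at e1; rw [e4] at e2
    have := hdiff i j
    linear_combination e1 - e2 - this + hq i + hq j
  obtain ⟨φ, hφ⟩ := extend Q hQ n v v' hq hB n
  refine ⟨φ, u' ⟨0, hn0⟩ - φ (u ⟨0, hn0⟩), fun i => ?_⟩
  have := hφ i i.2
  rw [hv, hv', map_sub] at this
  calc φ (u i) + (u' ⟨0, hn0⟩ - φ (u ⟨0, hn0⟩)) = (φ (u i) - φ (u ⟨0, hn0⟩)) + u' ⟨0, hn0⟩ := by abel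
    _ = u' i := by rw [this]; abel

end Cfsg.Agent.S5754
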