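import Mathlib
import Cfsg.Statements.S0750
import Cfsg.Agent.S5754

set_option autoImplicit false
open Cfsg

namespace Cfsg.Agent.S0750

section
variable {F V : Type*} [Field F] [AddCommGroup V] [Module F V]

theorem Q_add (Q : QuadraticForm F V) (x y : V) :
    Q (x + y) = Q x + Q y + QuadraticMap.polar Q x y := by
  unfold QuadraticMap.polar; ring

theorem polar_of_pres (Q : QuadraticForm F V) (X : Submodule F V) (f : V →ₗ[F] V)
    (hiso : ∀ x ∈ X, Q (f x) = Q x) :
    ∀ x ∈ X, ∀ y ∈ X, QuadraticMap.polar Q (f x) (f y) = QuadraticMap.polar Q x y := by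
  intro x hx y hy
  unfold QuadraticMap.polar
  rw [← map_add, hiso _ (X.add_mem hx hy), hiso x hx, hiso y hy]

theorem step (Q : QuadraticForm F V) [FiniteDimensional F V] (X : Submodule F V) (f : V →ₗ[F] V)
    (hinj : ∀ x ∈ X, f x = 0 → x = 0)
    (hiso : ∀ x ∈ X, Q (f x) = Q x) (v w : V) (hv : v ∉ X)
    (hw : w ∉ X.map f)
    (h1 : ∀ x ∈ X, QuadraticMap.polar Q (f x) w = QuadraticMap.polar Q x v) (h2 : Q w = Q v) :
    ∃ (f' : V →ₗ[F] V), (∀ x ∈ X, f' x = f x) ∧ f' v = w ∧
      (∀ x ∈ X ⊔ F ∙ v, f' x = 0 → x = 0) ∧ (∀ x ∈ X ⊔ F ∙ v, Q (f' x) = Q x) := by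
  classical
  obtain ⟨l, hl1, hl2⟩ := Submodule.exists_dual_map_eq_bot_of_notMem hv inferInstance
  have hlX : ∀ x ∈ X, l x = 0 := by
    intro x hx
    have : l x ∈ X.map l := Submodule.mem_map_of_mem hx
    rw [hl2] at this
    exact (Submodule.mem_bot F).1 this
  obtain ⟨f', hf'⟩ : ∃ f' : V →ₗ[F] V, f' = f + LinearMap.smulRight ((l v)⁻¹ • l) (w - f v) :=
    ⟨_, rfl⟩
  have hf'X : ∀ x ∈ X, f' x = f x := by
    intro x hx
    rw [hf']
    simp [hlX x hx]
  have hf'v : f' v = w := by
    rw [hf']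
    simp [inv_mul_cancel₀ hl1]
  have hf'z : ∀ x ∈ X, ∀ a : F, f' (x + a • v) = f x + a • w := by
    intro x hx a
    rw [map_add, map_smul, hf'X x hx, hf'v]
  refine ⟨f', hf'X, hf'v, ?_, ?_⟩
  · intro z hz h0
    obtain ⟨x, hx, y, hy, rfl⟩ := Submodule.mem_sup.1 hz
    obtain ⟨a, rfl⟩ := Submodule.mem_span_singleton.1 hy
    rw [hf'z x hx a] at h0
    have ha : a = 0 := by
      by_contra ha
      apply hw
      refine ⟨-(a⁻¹ • x), X.neg_mem (X.smul_mem _ hx), ?_⟩
      have h3 : a • w = - f x := by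
        rw [eq_neg_iff_add_eq_zero, add_comm]; exact h0
      rw [map_neg, map_smul, ← smul_neg, ← h3, smul_smul, inv_mul_cancel₀ ha, one_smul]
    rw [ha, zero_smul, add_zero] at h0 ⊢
    exact hinj x hx h0
  · intro z hz
    obtain ⟨x, hx, y, hy, rfl⟩ := Submodule.mem_sup.1 hz
    obtain ⟨a, rfl⟩ := Submodule.mem_span_singleton.1 hy
    rw [hf'z x hx a, Q_add, Q_add, QuadraticMap.map_smul, QuadraticMap.map_smul,
      QuadraticMap.polar_smul_right, QuadraticMap.polar_smul_right, hiso x hx, h1 x hx, h2]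

theorem top_case (Q : QuadraticForm F V) [FiniteDimensional F V] (f : V →ₗ[F] V)
    (hinj : ∀ x : V, f x = 0 → x = 0) (hiso : ∀ x : V, Q (f x) = Q x) :
    ∃ g : V ≃ₗ[F] V, (∀ v : V, Q (g v) = Q v) ∧ ∀ x, g x = f x := by
  have hfi : Function.Injective f := by
    rw [← LinearMap.ker_eq_bot, LinearMap.ker_eq_bot']
    exact hinj
  refine ⟨LinearEquiv.ofInjectiveEndo f hfi, fun v => ?_, fun x => ?_⟩
  · simp [hiso v]
  · simp

theorem hyper (Q : QuadraticForm F V) [FiniteDimensional F V]
    (hQ : (QuadraticMap.polarBilin Q).Nondegenerate)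
    (p : V) (hp : p ≠ 0) (hQp : Q p = 0) :
    ∀ (d : ℕ) (X : Submodule F V) (f : V →ₗ[F] V),
    Module.finrank F V - Module.finrank F X ≤ d →
    (∀ x ∈ X, QuadraticMap.polar Q p x = 0) →
    (∀ x ∈ X, f x = 0 → x = 0) → (∀ x ∈ X, Q (f x) = Q x) →
    (∀ x ∈ X, ∃ c : F, f x = x + c • p) →
    ∃ g : V ≃ₗ[F] V, (∀ v : V, Q (g v) = Q v) ∧ ∀ x ∈ X, g x = f x := by
  have hpp : QuadraticMap.polar Q p p = 0 := by
    rw [QuadraticMap.polar_self, hQp, smul_zero]
  intro d
  induction d with
  | zero =>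
    intro X f hd hM hinj hiso hc
    exfalso
    have hX : X = ⊤ := Submodule.eq_top_of_finrank_eq (by have := Submodule.finrank_le X; omega)
    subst hX
    exact hp (hQ.1 p (fun y => hM y trivial))
  | succ d ih =>
    intro X f hd hM hinj hiso hc
    have ext1 : ∀ z, QuadraticMap.polar Q p z = 0 → z ∉ X → z ∉ X.map f →
        ∃ g : V ≃ₗ[F] V, (∀ v : V, Q (g v) = Q v) ∧ ∀ x ∈ X, g x = f x := by
      intro z hz0 hzX hzf
      have hz0' : QuadraticMap.polar Q z p = 0 := by
        rw [QuadraticMap.polar_comm (⇑Q) z p]; exact hz0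
      have hfp : ∀ x ∈ X, QuadraticMap.polar Q (f x) z = QuadraticMap.polar Q x z := by
        intro x hx
        obtain ⟨c, hcx⟩ := hc x hx
        rw [hcx, QuadraticMap.polar_add_left, QuadraticMap.polar_smul_left, hz0, smul_zero,
          add_zero]
      obtain ⟨f', hf1, hf2, hf3, hf4⟩ := step Q X f hinj hiso z z hzX hzf hfp rfl
      have hlt : X < X ⊔ F ∙ z := SetLike.lt_iff_le_and_exists.2 ⟨le_sup_left, z,
        Submodule.mem_sup_right (Submodule.mem_span_singleton_self z), hzX⟩
      have e1 := Submodule.finrank_lt_finrank_of_lt hlt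
      have hM' : ∀ x ∈ X ⊔ F ∙ z, QuadraticMap.polar Q p x = 0 := by
        intro x hx
        obtain ⟨x1, hx1, y, hy, rfl⟩ := Submodule.mem_sup.1 hx
        obtain ⟨a, rfl⟩ := Submodule.mem_span_singleton.1 hy
        rw [QuadraticMap.polar_add_right, QuadraticMap.polar_smul_right, hM x1 hx1, hz0,
          smul_zero, add_zero]
      have hc' : ∀ x ∈ X ⊔ F ∙ z, ∃ c : F, f' x = x + c • p := by
        intro x hx
        obtain ⟨x1, hx1, y, hy, rfl⟩ := Submodule.mem_sup.1 hx
        obtain ⟨a, rfl⟩ := Submodule.mem_span_singleton.1 hy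
        obtain ⟨c, hcx⟩ := hc x1 hx1
        refine ⟨c, ?_⟩
        rw [map_add, map_smul, hf1 x1 hx1, hf2, hcx]; abel
      obtain ⟨g, hg1, hg2⟩ := ih (X ⊔ F ∙ z) f' (by omega) hM' hf3 hf4 hc'
      exact ⟨g, hg1, fun x hx => by rw [hg2 x (Submodule.mem_sup_left hx), hf1 x hx]⟩
    by_cases hpX : p ∈ X
    · by_cases hXM : ∃ z, QuadraticMap.polar Q p z = 0 ∧ z ∉ X
      · obtain ⟨z, hz0, hzX⟩ := hXM
        refine ext1 z hz0 hzX ?_
        rintro ⟨x, hx, hxz⟩
        obtain ⟨c, hcx⟩ := hc x hx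
        apply hzX
        rw [← hxz, hcx]
        exact X.add_mem hx (X.smul_mem _ hpX)
      · push Not at hXM
        obtain ⟨u₁, hu₁⟩ : ∃ u₁, QuadraticMap.polar Q p u₁ ≠ 0 := by
          by_contra hcon
          push Not at hcon
          exact hp (hQ.1 p hcon)
        have hu₁X : u₁ ∉ X := fun h => hu₁ (hM u₁ h)
        obtain ⟨c₀, hc₀⟩ := hc p hpX
        have hfp : f p = (1 + c₀) • p := by rw [hc₀, add_smul, one_smul]
        have hc1 : 1 + c₀ ≠ 0 := by
          intro h
          rw [h, zero_smul] at hfp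
          exact hp (hinj p hpX hfp)
        have hker : LinearMap.ker (f.domRestrict X) = ⊥ := by
          rw [LinearMap.ker_eq_bot']
          intro m hm
          exact Subtype.ext (hinj m m.2 hm)
        obtain ⟨r, hr⟩ := LinearMap.exists_leftInverse_of_injective (f.domRestrict X) hker
        have hrf : ∀ x (hx : x ∈ X), ((r (f x) : X) : V) = x := by
          intro x hx
          have := LinearMap.congr_fun hr ⟨x, hx⟩
          exact congrArg Subtype.val this
        obtain ⟨lam, hlam⟩ : ∃ lam : Module.Dual F V,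
            ∀ y, lam y = QuadraticMap.polar Q (r y : V) u₁ :=
          ⟨((QuadraticMap.polarBilin Q).flip u₁) ∘ₗ X.subtype ∘ₗ r, fun y => rfl⟩
        obtain ⟨w0, hw0⟩ : ∃ w0, ∀ y, QuadraticMap.polar Q w0 y = lam y := by
          have hinjB : Function.Injective (QuadraticMap.polarBilin Q) := by
            rw [← LinearMap.ker_eq_bot, LinearMap.ker_eq_bot']
            intro m hm
            exact hQ.1 m (fun y => by rw [hm]; rfl)
          have hsurj := (LinearMap.injective_iff_surjective_of_finrank_eq_finrank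
            (Subspace.dual_finrank_eq (K := F) (V := V)).symm).1 hinjB
          obtain ⟨w0, hw0⟩ := hsurj lam
          exact ⟨w0, fun y => by rw [← hw0]; rfl⟩
        have hw0f : ∀ x ∈ X, QuadraticMap.polar Q w0 (f x) = QuadraticMap.polar Q x u₁ := by
          intro x hx
          rw [hw0, hlam, hrf x hx]
        have hw0p : QuadraticMap.polar Q w0 p ≠ 0 := by
          have h1 := hw0f p hpX
          rw [hfp, QuadraticMap.polar_smul_right, smul_eq_mul] at h1
          intro h0
          rw [h0, mul_zero] at h1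
          exact hu₁ h1.symm
        obtain ⟨t, ht⟩ : ∃ t, t = (Q u₁ - Q w0) / QuadraticMap.polar Q w0 p := ⟨_, rfl⟩
        obtain ⟨w₁, hw₁⟩ : ∃ w₁, w₁ = w0 + t • p := ⟨_, rfl⟩
        have hQw₁ : Q w₁ = Q u₁ := by
          rw [hw₁, Q_add, QuadraticMap.map_smul, QuadraticMap.polar_smul_right, hQp, ht,
            smul_eq_mul, smul_eq_mul]
          field_simp
          ring
        have hfxp : ∀ x ∈ X, QuadraticMap.polar Q (f x) p = 0 := by
          intro x hx
          obtain ⟨c, hcx⟩ := hc x hx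
          rw [hcx, QuadraticMap.polar_add_left, QuadraticMap.polar_smul_left, hpp, smul_zero,
            add_zero, QuadraticMap.polar_comm (⇑Q) x p, hM x hx]
        have h1 : ∀ x ∈ X, QuadraticMap.polar Q (f x) w₁ = QuadraticMap.polar Q x u₁ := by
          intro x hx
          rw [hw₁, QuadraticMap.polar_add_right, QuadraticMap.polar_smul_right, hfxp x hx,
            smul_zero, add_zero, QuadraticMap.polar_comm (⇑Q) (f x) w0, hw0f x hx]
        have hw₁f : w₁ ∉ X.map f := by
          rintro ⟨x, hx, hxw⟩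
          have h2 : QuadraticMap.polar Q w₁ p = 0 := by rw [← hxw]; exact hfxp x hx
          rw [hw₁, QuadraticMap.polar_add_left, QuadraticMap.polar_smul_left, hpp, smul_zero,
            add_zero] at h2
          exact hw0p h2
        obtain ⟨f', hf1, hf2, hf3, hf4⟩ := step Q X f hinj hiso u₁ w₁ hu₁X hw₁f h1 hQw₁
        have htop : X ⊔ F ∙ u₁ = ⊤ := by
          rw [eq_top_iff]
          intro v _
          obtain ⟨a, ha⟩ : ∃ a, a = QuadraticMap.polar Q p v / QuadraticMap.polar Q p u₁ :=
            ⟨_, rfl⟩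
          have hv : v - a • u₁ ∈ X := by
            apply hXM
            rw [QuadraticMap.polar_sub_right, QuadraticMap.polar_smul_right, ha, smul_eq_mul]
            field_simp
            ring
          have : v = (v - a • u₁) + a • u₁ := by abel
          rw [this]
          exact Submodule.add_mem _ (Submodule.mem_sup_left hv)
            (Submodule.mem_sup_right (Submodule.smul_mem _ _ (Submodule.mem_span_singleton_self u₁)))
        rw [htop] at hf3 hf4
        obtain ⟨g, hg1, hg2⟩ := top_case Q f' (fun x => hf3 x trivial) (fun x => hf4 x trivial)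
        exact ⟨g, hg1, fun x hx => by rw [hg2, hf1 x hx]⟩
    · refine ext1 p hpp hpX ?_
      rintro ⟨x, hx, hxp⟩
      obtain ⟨c, hcx⟩ := hc x hx
      have h0 : x + c • p = p := by rw [← hcx]; exact hxp
      have h1 : x = (1 - c) • p := by
        rw [sub_smul, one_smul]; exact eq_sub_of_add_eq h0
      by_cases hc1 : 1 - c = 0
      · rw [hc1, zero_smul] at h1
        rw [h1, map_zero] at hxp
        exact hp hxp.symm
      · apply hpX
        have : p = (1 - c)⁻¹ • x := by rw [h1, smul_smul, inv_mul_cancel₀ hc1, one_smul]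
        rw [this]; exact X.smul_mem _ hx

theorem main (Q : QuadraticForm F V) [FiniteDimensional F V]
    (hQ : (QuadraticMap.polarBilin Q).Nondegenerate) :
    ∀ (n : ℕ) (X : Submodule F V) (f : V →ₗ[F] V),
    Module.finrank F X ≤ n → (∀ x ∈ X, f x = 0 → x = 0) → (∀ x ∈ X, Q (f x) = Q x) →
    ∃ g : V ≃ₗ[F] V, (∀ v : V, Q (g v) = Q v) ∧ ∀ x ∈ X, g x = f x := by
  have hbot : ∀ (X : Submodule F V) (f : V →ₗ[F] V), X = ⊥ →
      ∃ g : V ≃ₗ[F] V, (∀ v : V, Q (g v) = Q v) ∧ ∀ x ∈ X, g x = f x := by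
    intro X f hX
    refine ⟨LinearEquiv.refl F V, fun v => rfl, fun x hx => ?_⟩
    rw [hX, Submodule.mem_bot] at hx
    rw [hx]; simp
  intro n
  induction n with
  | zero =>
    intro X f hn hinj hiso
    exact hbot X f (Submodule.finrank_eq_zero.1 (by omega))
  | succ n ih =>
    intro X f hn hinj hiso
    by_cases hX : X = ⊥
    · exact hbot X f hX
    · obtain ⟨u, huX, hu0⟩ := (Submodule.ne_bot_iff X).1 hX
      obtain ⟨y, hy⟩ : ∃ y, QuadraticMap.polar Q u y ≠ 0 := by
        by_contra hcon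
        push Not at hcon
        exact hu0 (hQ.1 u hcon)
      obtain ⟨H, hH⟩ : ∃ H : Submodule F V,
          H = X ⊓ LinearMap.ker ((QuadraticMap.polarBilin Q).flip y) := ⟨_, rfl⟩
      have hHmem : ∀ x, x ∈ H ↔ x ∈ X ∧ QuadraticMap.polar Q x y = 0 := by
        intro x; rw [hH, Submodule.mem_inf, LinearMap.mem_ker]; rfl
      have hHlt : H < X := SetLike.lt_iff_le_and_exists.2
        ⟨fun x hx => ((hHmem x).1 hx).1, u, huX, fun h => hy ((hHmem u).1 h).2⟩
      have e1 := Submodule.finrank_lt_finrank_of_lt hHlt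
      obtain ⟨τ, hτ1, hτ2⟩ := ih H f (by omega) (fun x hx => hinj x (hHlt.le hx))
        (fun x hx => hiso x (hHlt.le hx))
      have hτs : ∀ v, Q (τ.symm v) = Q v := fun v => by
        have := hτ1 (τ.symm v); rw [τ.apply_symm_apply] at this; exact this.symm
      obtain ⟨f₁, hf₁⟩ : ∃ f₁ : V →ₗ[F] V, f₁ = τ.symm.toLinearMap ∘ₗ f := ⟨_, rfl⟩
      have hf₁a : ∀ x, f₁ x = τ.symm (f x) := fun x => by rw [hf₁]; rfl
      have hfix : ∀ h ∈ H, f₁ h = h := fun h hh => by
        rw [hf₁a, ← hτ2 h hh, τ.symm_apply_apply]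
      have hinj₁ : ∀ x ∈ X, f₁ x = 0 → x = 0 := fun x hx h0 => hinj x hx (by
        rw [hf₁a] at h0; exact τ.symm.map_eq_zero_iff.1 h0)
      have hiso₁ : ∀ x ∈ X, Q (f₁ x) = Q x := fun x hx => by rw [hf₁a, hτs, hiso x hx]
      suffices hs : ∃ g₁ : V ≃ₗ[F] V, (∀ v : V, Q (g₁ v) = Q v) ∧ ∀ x ∈ X, g₁ x = f₁ x by
        obtain ⟨g₁, hg1, hg2⟩ := hs
        refine ⟨g₁.trans τ, fun v => ?_, fun x hx => ?_⟩
        · show Q (τ (g₁ v)) = Q v
          rw [hτ1, hg1]
        · show τ (g₁ x) = f x
          rw [hg2 x hx, hf₁a, τ.apply_symm_apply]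
      obtain ⟨p, hp⟩ : ∃ p, p = f₁ u - u := ⟨_, rfl⟩
      have hHc : ∀ x ∈ X, x - (QuadraticMap.polar Q x y / QuadraticMap.polar Q u y) • u ∈ H := by
        intro x hx
        rw [hHmem]
        refine ⟨X.sub_mem hx (X.smul_mem _ huX), ?_⟩
        rw [QuadraticMap.polar_sub_left, QuadraticMap.polar_smul_left, smul_eq_mul]
        field_simp
        ring
      have hdec : ∀ x ∈ X,
          f₁ x = x + (QuadraticMap.polar Q x y / QuadraticMap.polar Q u y) • p := by
        intro x hx
        have h3 := hfix _ (hHc x hx)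
        rw [map_sub, map_smul] at h3
        rw [hp, smul_sub]
        rw [sub_eq_iff_eq_add] at h3; rw [h3]; abel
      have hpolar₁ := polar_of_pres Q X f₁ hiso₁
      have hHp : ∀ h ∈ H, QuadraticMap.polar Q p h = 0 := by
        intro h hh
        have hhX := hHlt.le hh
        have := hpolar₁ u huX h hhX
        rw [hfix h hh] at this
        rw [hp, QuadraticMap.polar_sub_left, this, sub_self]
      have hup : QuadraticMap.polar Q p u = - Q p := by
        have e2 : Q p = Q (f₁ u) + Q u - QuadraticMap.polar Q (f₁ u) u := by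
          rw [hp]; exact Cfsg.Agent.S5754.Q_sub Q _ _
        rw [hiso₁ u huX] at e2
        have e3 : QuadraticMap.polar Q p u = QuadraticMap.polar Q (f₁ u) u - 2 • Q u := by
          rw [hp, QuadraticMap.polar_sub_left, QuadraticMap.polar_self]
        rw [e3, e2, two_smul]; ring
      have hpx : ∀ x ∈ X, QuadraticMap.polar Q p x =
          -(QuadraticMap.polar Q x y / QuadraticMap.polar Q u y) * Q p := by
        intro x hx
        have := hHp _ (hHc x hx)
        rw [QuadraticMap.polar_sub_right, QuadraticMap.polar_smul_right, hup, smul_eq_mul] at this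
        linear_combination this
      by_cases hp0 : p = 0
      · refine ⟨LinearEquiv.refl F V, fun v => rfl, fun x hx => ?_⟩
        rw [hdec x hx, hp0, smul_zero, add_zero]; rfl
      by_cases hQp : Q p = 0
      · have hXM : ∀ x ∈ X, QuadraticMap.polar Q p x = 0 := by
          intro x hx
          rw [hpx x hx, hQp, mul_zero]
        exact hyper Q hQ p hp0 hQp _ X f₁ le_rfl hXM hinj₁ hiso₁ (fun x hx => ⟨_, hdec x hx⟩)
      · refine ⟨(Cfsg.Agent.S5754.reflE Q p hQp).toLinearEquiv,
          fun v => (Cfsg.Agent.S5754.reflE Q p hQp).map_app v, fun x hx => ?_⟩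
        show Cfsg.Agent.S5754.reflE Q p hQp x = f₁ x
        rw [Cfsg.Agent.S5754.reflE_apply, hdec x hx, hpx x hx]
        have : (Q p)⁻¹ * (-(QuadraticMap.polar Q x y / QuadraticMap.polar Q u y) * Q p) =
            -(QuadraticMap.polar Q x y / QuadraticMap.polar Q u y) := by
          field_simp
        rw [this, neg_smul, sub_neg_eq_add]

end

/-- Witt's Lemma for quadratic forms over a finite field, in any characteristic: if Q is a quadratic form on a finite-dimensional space V whose polar bilinear form is non-degenerate, then every linear equivalence between subspaces X, Y of V that preserves Q extends to a Q-preserving linear automorphism of V. (In odd characteristic this is the symmetric-bilinear case; in characteristic two it is the statement for non-degenerate quadratic forms.) -/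
theorem result {F V : Type*} [Field F] [Finite F] [AddCommGroup V] [Module F V] [FiniteDimensional F V] (Q : QuadraticForm F V) (hQ : (QuadraticMap.polarBilin Q).Nondegenerate) (X Y : Submodule F V) (φ : X ≃ₗ[F] Y) (hφ : ∀ x : X, Q (φ x : V) = Q (x : V)) : ∃ g : V ≃ₗ[F] V, (∀ v : V, Q (g v) = Q v) ∧ ∀ x : X, g (x : V) = (φ x : V) := by
  obtain ⟨f, hf⟩ := LinearMap.exists_extend (Y.subtype ∘ₗ φ.toLinearMap)
  have hfx : ∀ x : X, f x = φ x := fun x => by
    have := LinearMap.congr_fun hf x
    simpa using this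
  have hinj : ∀ x ∈ X, f x = 0 → x = 0 := by
    intro x hx h0
    have := hfx ⟨x, hx⟩
    rw [h0] at this
    have h1 : φ ⟨x, hx⟩ = 0 := Subtype.ext this.symm
    have h2 := φ.map_eq_zero_iff.1 h1
    exact congrArg Subtype.val h2
  have hiso : ∀ x ∈ X, Q (f x) = Q x := by
    intro x hx
    rw [hfx ⟨x, hx⟩]; exact hφ _
  obtain ⟨g, hg1, hg2⟩ := main Q hQ _ X f le_rfl hinj hiso
  exact ⟨g, hg1, fun x => by rw [hg2 x x.2, hfx]⟩

end Cfsg.Agent.S0750
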