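import Mathlib
import Cfsg.Statements.S0792
import Cfsg.Agent.S5754
import Cfsg.Agent.S0785

set_option autoImplicit false
open Cfsg

namespace Cfsg.Agent.S0792

open Cfsg.Agent.S5754 (rfl0 rfl0_apply rfl0_invol rfl0_iso rfl0_self Q_sub)

section abs
universe u
variable {F : Type*} [Field F]

/-- apply a list of reflections -/
noncomputable def app {V : Type*} [AddCommGroup V] [Module F V] (Q : QuadraticForm F V)
    (l : List V) (x : V) : V :=
  l.foldr (fun d y => rfl0 Q d y) x

theorem app_cons {V : Type*} [AddCommGroup V] [Module F V] (Q : QuadraticForm F V)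
    (d : V) (l : List V) (x : V) : app Q (d :: l) x = rfl0 Q d (app Q l x) := rfl

theorem Q_add' {V : Type*} [AddCommGroup V] [Module F V] (Q : QuadraticForm F V) (x y : V) :
    Q (x + y) = Q x + Q y + QuadraticMap.polar Q x y := by
  unfold QuadraticMap.polar; ring

theorem fixv {V : Type u} [AddCommGroup V] [Module F V] [FiniteDimensional F V]
    (h2 : (2 : F) ≠ 0) (n : ℕ)
    (ih : ∀ (V : Type u) [AddCommGroup V] [Module F V] [FiniteDimensional F V]
      (Q : QuadraticForm F V), (QuadraticMap.polarBilin Q).Nondegenerate →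
      Module.finrank F V = n → ∀ g : V →ₗ[F] V, (∀ v, Q (g v) = Q v) →
      ∃ l : List V, (∀ d ∈ l, Q d ≠ 0) ∧ ∀ x, g x = app Q l x)
    (Q : QuadraticForm F V) (hQ : (QuadraticMap.polarBilin Q).Nondegenerate)
    (hn : Module.finrank F V = n + 1) (v : V) (hv : Q v ≠ 0)
    (h : V →ₗ[F] V) (hiso : ∀ x, Q (h x) = Q x) (hfix : h v = v) :
    ∃ l : List V, (∀ d ∈ l, Q d ≠ 0) ∧ ∀ x, h x = app Q l x := by
  have hvv : QuadraticMap.polar Q v v = 2 * Q v := by
    rw [QuadraticMap.polar_self]; simp [two_mul]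
  have hvv0 : QuadraticMap.polar Q v v ≠ 0 := by rw [hvv]; exact mul_ne_zero h2 hv
  obtain ⟨W, hW⟩ : ∃ W : Submodule F V, W = LinearMap.ker (QuadraticMap.polarBilin Q v) :=
    ⟨_, rfl⟩
  have hWmem : ∀ x, x ∈ W ↔ QuadraticMap.polar Q v x = 0 := by
    intro x; rw [hW, LinearMap.mem_ker]; rfl
  have hne : QuadraticMap.polarBilin Q v ≠ 0 := by
    intro h0
    apply hvv0
    have := LinearMap.congr_fun h0 v
    exact this
  have hfr : Module.finrank F W = n := by
    have := Module.Dual.finrank_ker_add_one_of_ne_zero hne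
    rw [← hW] at this
    omega
  have hdec : ∀ x, x - (QuadraticMap.polar Q v x / QuadraticMap.polar Q v v) • v ∈ W := by
    intro x
    rw [hWmem, QuadraticMap.polar_sub_right, QuadraticMap.polar_smul_right, smul_eq_mul]
    field_simp
    ring
  obtain ⟨QW, hQW⟩ : ∃ QW : QuadraticForm F W, ∀ w : W, QW w = Q (w : V) :=
    ⟨Q.comp W.subtype, fun w => rfl⟩
  have hpolW : ∀ w w' : W, QuadraticMap.polar QW w w' = QuadraticMap.polar Q (w : V) (w' : V) := by
    intro w w'
    unfold QuadraticMap.polar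
    rw [hQW, hQW, hQW]; rfl
  have hsep : ∀ w : W, (∀ w' : W, QuadraticMap.polar Q (w : V) (w' : V) = 0) → w = 0 := by
    intro w hw
    apply Subtype.ext
    apply hQ.1 (w : V)
    intro x
    show QuadraticMap.polar Q (w : V) x = 0
    have e : x = (x - (QuadraticMap.polar Q v x / QuadraticMap.polar Q v v) • v) +
        (QuadraticMap.polar Q v x / QuadraticMap.polar Q v v) • v := by abel
    rw [e, QuadraticMap.polar_add_right, QuadraticMap.polar_smul_right]
    have e1 := hw ⟨_, hdec x⟩
    have e2 : QuadraticMap.polar Q (w : V) v = 0 := by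
      rw [QuadraticMap.polar_comm (⇑Q) (w : V) v]; exact (hWmem _).1 w.2
    rw [e1, e2, smul_zero, add_zero]
  have hQWnd : (QuadraticMap.polarBilin QW).Nondegenerate := by
    refine ⟨fun w hw => hsep w (fun w' => ?_), fun w hw => hsep w (fun w' => ?_)⟩
    · rw [← hpolW]; exact hw w'
    · rw [QuadraticMap.polar_comm (⇑Q) (w : V) (w' : V), ← hpolW]; exact hw w'
  have hpol : ∀ a b, QuadraticMap.polar Q (h a) (h b) = QuadraticMap.polar Q a b := by
    intro a b
    unfold QuadraticMap.polar
    rw [← map_add, hiso, hiso, hiso]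
  have hWW : ∀ x ∈ W, h x ∈ W := by
    intro x hx
    rw [hWmem] at hx ⊢
    have := hpol v x
    rw [hfix] at this
    rw [this, hx]
  obtain ⟨l', hl1, hl2⟩ := ih W QW hQWnd hfr (h.restrict hWW) (fun w => by
    rw [hQW, hQW]; exact hiso (w : V))
  have claim : ∀ (l : List W) (w : W) (a : F),
      app Q (l.map Subtype.val) ((w : V) + a • v) = ((app QW l w : W) : V) + a • v := by
    intro l
    induction l with
    | nil => intro w a; rfl
    | cons d l ihl =>
      intro w a
      have e0 : QuadraticMap.polar Q (d : V) v = 0 := by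
        rw [QuadraticMap.polar_comm (⇑Q) (d : V) v]; exact (hWmem _).1 d.2
      rw [List.map_cons, app_cons, app_cons, ihl w a, rfl0_apply, rfl0_apply,
        QuadraticMap.polar_add_right, QuadraticMap.polar_smul_right, e0, smul_zero, add_zero,
        hQW, hpolW, Submodule.coe_sub, Submodule.coe_smul]
      abel
  refine ⟨l'.map Subtype.val, ?_, fun x => ?_⟩
  · intro d hd
    obtain ⟨d', hd', rfl⟩ := List.mem_map.1 hd
    rw [← hQW]; exact hl1 d' hd'
  · obtain ⟨a, ha⟩ : ∃ a, a = QuadraticMap.polar Q v x / QuadraticMap.polar Q v v := ⟨_, rfl⟩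
    obtain ⟨w, hw⟩ : ∃ w : W, (w : V) = x - a • v := ⟨⟨_, by rw [ha]; exact hdec x⟩, rfl⟩
    have e : x = (w : V) + a • v := by rw [hw]; abel
    calc h x = h ((w : V) + a • v) := by rw [← e]
      _ = ((h.restrict hWW w : W) : V) + a • v := by rw [map_add, map_smul, hfix]; rfl
      _ = ((app QW l' w : W) : V) + a • v := by rw [hl2]
      _ = app Q (l'.map Subtype.val) ((w : V) + a • v) := (claim l' w a).symm
      _ = app Q (l'.map Subtype.val) x := by rw [← e]

theorem cd (h2 : (2 : F) ≠ 0) : ∀ (n : ℕ) (V : Type u) [AddCommGroup V] [Module F V]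
    [FiniteDimensional F V] (Q : QuadraticForm F V), (QuadraticMap.polarBilin Q).Nondegenerate →
    Module.finrank F V = n → ∀ g : V →ₗ[F] V, (∀ v, Q (g v) = Q v) →
    ∃ l : List V, (∀ d ∈ l, Q d ≠ 0) ∧ ∀ x, g x = app Q l x := by
  intro n
  induction n with
  | zero =>
    intro V _ _ _ Q hQ hn g hg
    have : Subsingleton V := Module.finrank_zero_iff.1 hn
    exact ⟨[], by simp, fun x => Subsingleton.elim _ _⟩
  | succ n ih =>
    intro V _ _ _ Q hQ hn g hg
    obtain ⟨v, hv⟩ : ∃ v, Q v ≠ 0 := by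
      by_contra hcon
      push Not at hcon
      have : Nontrivial V := Module.nontrivial_of_finrank_pos (R := F) (by omega)
      obtain ⟨x, hx⟩ := exists_ne (0 : V)
      apply hx
      apply hQ.1 x
      intro y
      show QuadraticMap.polar Q x y = 0
      unfold QuadraticMap.polar
      rw [hcon, hcon, hcon]; simp
    have key := fixv h2 n ih Q hQ hn v hv
    obtain ⟨u, hu⟩ : ∃ u, u = g v := ⟨_, rfl⟩
    have hQu : Q u = Q v := by rw [hu, hg]
    by_cases h1 : Q (u - v) = 0
    · have h3 : Q (u + v) ≠ 0 := by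
        intro h0
        have e1 := Q_sub Q u v
        have e2 := Q_add' Q u v
        rw [h1, hQu] at e1
        rw [h0, hQu] at e2
        have e3 : (2 * 2) * Q v = 0 := by linear_combination -e1 - e2
        rcases mul_eq_zero.1 e3 with h | h
        · exact mul_ne_zero h2 h2 h
        · exact hv h
      obtain ⟨d, hd⟩ : ∃ d, d = u + v := ⟨_, rfl⟩
      have hQd : Q d ≠ 0 := by rw [hd]; exact h3
      have hdu : rfl0 Q d u = -v := by
        rw [rfl0_apply]
        have e1 : QuadraticMap.polar Q d u = Q d := by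
          have e2 : Q d = Q u + Q v + QuadraticMap.polar Q u v := by rw [hd]; exact Q_add' Q _ _
          rw [e2, hd, QuadraticMap.polar_add_left, QuadraticMap.polar_self, hQu,
            QuadraticMap.polar_comm (⇑Q) v u, two_smul]
        rw [e1, inv_mul_cancel₀ hQd, one_smul, hd]; abel
      obtain ⟨l, hl1, hl2⟩ := key ((rfl0 Q v) ∘ₗ (rfl0 Q d) ∘ₗ g) (fun x => by
        show Q (rfl0 Q v (rfl0 Q d (g x))) = Q x
        rw [rfl0_iso Q v hv, rfl0_iso Q d hQd, hg]) (by
        show rfl0 Q v (rfl0 Q d (g v)) = v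
        rw [← hu, hdu, map_neg, rfl0_self Q v hv, neg_neg])
      refine ⟨d :: v :: l, ?_, fun x => ?_⟩
      · intro d' hd'
        rcases List.mem_cons.1 hd' with h | h
        · rw [h]; exact hQd
        · rcases List.mem_cons.1 h with h | h
          · rw [h]; exact hv
          · exact hl1 d' h
      · show g x = rfl0 Q d (rfl0 Q v (app Q l x))
        rw [← hl2 x]
        show g x = rfl0 Q d (rfl0 Q v (rfl0 Q v (rfl0 Q d (g x))))
        rw [rfl0_invol Q v hv, rfl0_invol Q d hQd]
    · obtain ⟨d, hd⟩ : ∃ d, d = u - v := ⟨_, rfl⟩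
      have hQd : Q d ≠ 0 := by rw [hd]; exact h1
      have hdu : rfl0 Q d u = v := by
        rw [rfl0_apply]
        have e1 : QuadraticMap.polar Q d u = Q d := by
          have e2 : Q d = Q u + Q v - QuadraticMap.polar Q u v := by rw [hd]; exact Q_sub Q _ _
          rw [e2, hd, QuadraticMap.polar_sub_left, QuadraticMap.polar_self, hQu,
            QuadraticMap.polar_comm (⇑Q) v u, two_smul]
        rw [e1, inv_mul_cancel₀ hQd, one_smul, hd]; abel
      obtain ⟨l, hl1, hl2⟩ := key ((rfl0 Q d) ∘ₗ g) (fun x => by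
        show Q (rfl0 Q d (g x)) = Q x
        rw [rfl0_iso Q d hQd, hg]) (by
        show rfl0 Q d (g v) = v
        rw [← hu]; exact hdu)
      refine ⟨d :: l, ?_, fun x => ?_⟩
      · intro d' hd'
        rcases List.mem_cons.1 hd' with h | h
        · rw [h]; exact hQd
        · exact hl1 d' h
      · show g x = rfl0 Q d (app Q l x)
        rw [← hl2 x]
        show g x = rfl0 Q d (rfl0 Q d (g x))
        rw [rfl0_invol Q d hQd]

end abs

section mat
open Matrix Cfsg.Agent.Lib.Helper5
variable {F : Type*} [Field F] {n : ℕ} (Q : QuadraticForm F (Fin n → F))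

theorem refl_mulVec (d x : Fin n → F) : Cfsg.reflectionMatrix ⇑Q d *ᵥ x = rfl0 Q d x := by
  rw [reflectionMatrix_mulVec, rfl0_apply]

theorem prod_mulVec (l : List (Fin n → F)) (x : Fin n → F) :
    (l.map (Cfsg.reflectionMatrix ⇑Q)).prod *ᵥ x = app Q l x := by
  induction l with
  | nil => simp [app]
  | cons d l ih =>
    rw [List.map_cons, List.prod_cons, ← Matrix.mulVec_mulVec, ih, refl_mulVec]; rfl

theorem det_prod (l : List (Fin n → F)) (hl : ∀ d ∈ l, Q d ≠ 0) :
    ((l.map (Cfsg.reflectionMatrix ⇑Q)).prod).det = (-1) ^ l.length := by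
  induction l with
  | nil => simp
  | cons d l ih =>
    rw [List.map_cons, List.prod_cons, Matrix.det_mul, ih (fun d' hd' => hl d' (List.mem_cons_of_mem _ hd')),
      (Cfsg.Agent.S0784.result Q d (hl d List.mem_cons_self)).2.2.2, List.length_cons, pow_succ]
    ring

/-- reflection as an element of the isometry group (`1` when `Q d = 0`). -/
noncomputable def Rf (d : Fin n → F) : ↥(Cfsg.isometryGroup F ⇑Q) := by
  classical
  exact if h : Q d ≠ 0 then
    ⟨Matrix.GeneralLinearGroup.mkOfDetNeZero (Cfsg.reflectionMatrix ⇑Q d)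
      (by rw [(Cfsg.Agent.S0784.result Q d h).2.2.2]; simp),
      (Cfsg.Agent.S0785.mem_isometryGroup_iff ⇑Q _).2 (fun u => (Cfsg.Agent.S0784.result Q d h).1 u)⟩
  else 1

theorem Rf_val (d : Fin n → F) (h : Q d ≠ 0) :
    ((Rf Q d : Matrix.GeneralLinearGroup (Fin n) F) : Matrix (Fin n) (Fin n) F) =
      Cfsg.reflectionMatrix ⇑Q d := by
  rw [Rf, dif_pos h]; rfl

theorem prod_Rf (l : List (Fin n → F)) (hl : ∀ d ∈ l, Q d ≠ 0) :
    (((l.map (Rf Q)).prod : ↥(Cfsg.isometryGroup F ⇑Q)) : Matrix.GeneralLinearGroup (Fin n) F).val =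
      (l.map (Cfsg.reflectionMatrix ⇑Q)).prod := by
  induction l with
  | nil => simp
  | cons d l ih =>
    rw [List.map_cons, List.prod_cons, List.map_cons, List.prod_cons, Subgroup.coe_mul, Units.val_mul,
      ih (fun d' hd' => hl d' (List.mem_cons_of_mem _ hd')), Rf_val Q d (hl d List.mem_cons_self)]

theorem pairs : ∀ (k : ℕ) (l : List (Fin n → F)), l.length = 2 * k → (∀ d ∈ l, Q d ≠ 0) →
    (l.map (Rf Q)).prod ∈ Subgroup.closure {g : ↥(Cfsg.isometryGroup F ⇑Q) | ∃ u v : Fin n → F, Q u ≠ 0 ∧ Q v ≠ 0 ∧ ((g : Matrix.GeneralLinearGroup (Fin n) F) : Matrix (Fin n) (Fin n) F) = Cfsg.reflectionMatrix ⇑Q u * Cfsg.reflectionMatrix ⇑Q v} := by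
  intro k
  induction k with
  | zero =>
    intro l hl _
    have : l = [] := List.length_eq_zero_iff.1 (by omega)
    rw [this]; simp
  | succ k ih =>
    intro l hl hQl
    match l, hl, hQl with
    | [], hl, _ => simp at hl
    | [a], hl, _ => simp at hl; omega
    | a :: b :: l', hl, hQl =>
      have ha := hQl a List.mem_cons_self
      have hb := hQl b (List.mem_cons_of_mem _ List.mem_cons_self)
      rw [List.map_cons, List.prod_cons, List.map_cons, List.prod_cons, ← mul_assoc]
      refine Subgroup.mul_mem _ (Subgroup.subset_closure ⟨a, b, ha, hb, ?_⟩) (ih l' ?_ ?_)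
      · rw [Subgroup.coe_mul, Units.val_mul, Rf_val Q a ha, Rf_val Q b hb]
      · simp at hl; omega
      · intro d hd
        exact hQl d (List.mem_cons_of_mem _ (List.mem_cons_of_mem _ hd))

end mat

/-- For q odd and Q with non-degenerate polar form on F^n, the determinant-one isometries form the subgroup generated by all products r_u r_v of two reflections (Q(u), Q(v) ≠ 0). -/
theorem result {F : Type*} [Field F] [Fintype F] (h2 : (2 : F) ≠ 0) {n : ℕ} (Q : QuadraticForm F (Fin n → F)) (hQ : (QuadraticMap.polarBilin Q).Nondegenerate) : Cfsg.specialIsometryGroup F ⇑Q = Subgroup.closure {g : ↥(Cfsg.isometryGroup F ⇑Q) | ∃ u v : Fin n → F, Q u ≠ 0 ∧ Q v ≠ 0 ∧ ((g : Matrix.GeneralLinearGroup (Fin n) F) : Matrix (Fin n) (Fin n) F) = Cfsg.reflectionMatrix ⇑Q u * Cfsg.reflectionMatrix ⇑Q v} := by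
  apply le_antisymm
  · intro g hg
    have hdet : ((g : Matrix.GeneralLinearGroup (Fin n) F) : Matrix (Fin n) (Fin n) F).det = 1 := by
      have h3 := congrArg Units.val (MonoidHom.mem_ker.1 hg)
      simpa using h3
    have hiso := (Cfsg.Agent.S0785.mem_isometryGroup_iff ⇑Q g.1).1 g.2
    obtain ⟨l, hl1, hl2⟩ := cd h2 n (Fin n → F) Q hQ (by simp)
      (Matrix.toLin' ((g : Matrix.GeneralLinearGroup (Fin n) F) : Matrix (Fin n) (Fin n) F))
      (fun v => by rw [Matrix.toLin'_apply]; exact hiso v)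
    have hmat : ((g : Matrix.GeneralLinearGroup (Fin n) F) : Matrix (Fin n) (Fin n) F) =
        (l.map (Cfsg.reflectionMatrix ⇑Q)).prod :=
      Cfsg.Agent.Lib.Helper5.matrix_ext_mulVec (fun x => by
        rw [prod_mulVec, ← hl2 x, Matrix.toLin'_apply])
    have hlen : Even l.length := by
      rw [hmat, det_prod Q l hl1] at hdet
      by_contra hodd
      rw [Nat.not_even_iff_odd] at hodd
      rw [hodd.neg_one_pow] at hdet
      apply h2
      linear_combination -hdet
    obtain ⟨k, hk⟩ := hlen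
    have hmem := pairs Q k l (by omega) hl1
    have hg_eq : g = (l.map (Rf Q)).prod := by
      apply Subtype.ext
      apply Units.ext
      rw [prod_Rf Q l hl1, hmat]
    rw [hg_eq]; exact hmem
  · rw [Subgroup.closure_le]
    rintro g ⟨u, v, hu, hv, hguv⟩
    show g ∈ Cfsg.specialIsometryGroup F ⇑Q
    unfold Cfsg.specialIsometryGroup
    rw [MonoidHom.mem_ker]
    apply Units.ext
    simp only [MonoidHom.comp_apply, Subgroup.coe_subtype, Matrix.GeneralLinearGroup.val_det_apply, Units.val_one]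
    rw [hguv, Matrix.det_mul, (Cfsg.Agent.S0784.result Q u hu).2.2.2,
      (Cfsg.Agent.S0784.result Q v hv).2.2.2]
    norm_num

end Cfsg.Agent.S0792
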