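import Mathlib
import Cfsg.Statements.S0786
import Cfsg.Agent.S0792
import Cfsg.Agent.S0751

set_option autoImplicit false
open Cfsg

namespace Cfsg.Agent.S0786

open Cfsg.Agent.S5754 (rfl0 rfl0_apply rfl0_invol rfl0_iso Q_sub)
open Cfsg.Agent.S0792 (app app_cons Q_add')

section abs
variable {F V : Type*} [Field F] [AddCommGroup V] [Module F V] (Q : QuadraticForm F V)

local notation "𝔹" => QuadraticMap.polar Q

theorem polar_self2 (h2 : (2 : F) = 0) (v : V) : 𝔹 v v = 0 := by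
  have : 𝔹 v v = 2 * Q v := by rw [QuadraticMap.polar_self]; simp [two_mul]
  rw [this, h2, zero_mul]

theorem swap2 (h2 : (2 : F) = 0) (a b : V) (hab : Q a = Q b) (hp : 𝔹 a b ≠ 0) :
    Q (a - b) ≠ 0 ∧ rfl0 Q (a - b) a = b := by
  have e1 : Q (a - b) = - 𝔹 a b := by
    rw [Q_sub, hab]; linear_combination (Q b) * h2
  have hd : Q (a - b) ≠ 0 := by rw [e1]; exact neg_ne_zero.2 hp
  refine ⟨hd, ?_⟩
  have e2 : 𝔹 (a - b) a = Q (a - b) := by
    rw [e1, QuadraticMap.polar_sub_left, polar_self2 Q h2, QuadraticMap.polar_comm (⇑Q) b a]; ring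
  rw [rfl0_apply, e2, inv_mul_cancel₀ hd, one_smul]; abel

theorem rfl_fix (d y : V) (h : 𝔹 d y = 0) : rfl0 Q d y = y := by
  rw [rfl0_apply, h, mul_zero, zero_smul, sub_zero]

theorem app_append (l l' : List V) (x : V) : app Q (l ++ l') x = app Q l (app Q l' x) := by
  unfold app; rw [List.foldr_append]

theorem app_Q (l : List V) (hl : ∀ d ∈ l, Q d ≠ 0) (x : V) : Q (app Q l x) = Q x := by
  induction l with
  | nil => rfl
  | cons d l ih =>
    rw [app_cons, rfl0_iso Q d (hl d List.mem_cons_self),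
      ih (fun d' hd' => hl d' (List.mem_cons_of_mem _ hd'))]

theorem app_rev (l : List V) (hl : ∀ d ∈ l, Q d ≠ 0) (x : V) :
    app Q l.reverse (app Q l x) = x := by
  induction l generalizing x with
  | nil => rfl
  | cons d l ih =>
    rw [List.reverse_cons, app_append]
    show app Q l.reverse (rfl0 Q d (rfl0 Q d (app Q l x))) = x
    rw [rfl0_invol Q d (hl d List.mem_cons_self),
      ih (fun d' hd' => hl d' (List.mem_cons_of_mem _ hd'))]

/-- linear version of `app` -/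
noncomputable def appL (l : List V) : V →ₗ[F] V :=
  l.foldr (fun d f => (rfl0 Q d).comp f) LinearMap.id

theorem appL_apply (l : List V) (x : V) : appL Q l x = app Q l x := by
  induction l with
  | nil => rfl
  | cons d l ih =>
    show rfl0 Q d (appL Q l x) = rfl0 Q d (app Q l x)
    rw [ih]

theorem s2r (h2 : (2 : F) = 0) (h : V →ₗ[F] V) (hiso : ∀ x, Q (h x) = Q x) (u u' : V)
    (hu : h u = u) (hQu : Q u ≠ 0) (huu' : 𝔹 u u' = 1) :
    ∃ l : List V, (∀ d ∈ l, Q d ≠ 0) ∧ app Q l (h u') = u' ∧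
      ∀ y, h y = y → 𝔹 u y = 0 → app Q l y = y := by
  have hpol : ∀ a b, 𝔹 (h a) (h b) = 𝔹 a b := by
    intro a b
    unfold QuadraticMap.polar
    rw [← map_add, hiso, hiso, hiso]
  obtain ⟨u'', hu''⟩ : ∃ u'', u'' = h u' := ⟨_, rfl⟩
  have hQu'' : Q u'' = Q u' := by rw [hu'', hiso]
  have e1 : 𝔹 u u'' = 1 := by
    have := hpol u u'
    rw [hu] at this
    rw [hu'', this, huu']
  have hfixy : ∀ y, h y = y → 𝔹 u'' y = 𝔹 u' y := by
    intro y hy
    have := hpol u' y
    rw [hy] at this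
    rw [hu'', this]
  rw [← hu'']
  by_cases hc : 𝔹 u'' u' = 0
  · obtain ⟨a, ha⟩ : ∃ a, a = rfl0 Q u u'' := ⟨_, rfl⟩
    have hQa : Q a = Q u' := by rw [ha, rfl0_iso Q u hQu, hQu'']
    have ha' : a = u'' - (Q u)⁻¹ • u := by
      rw [ha, rfl0_apply, e1, mul_one]
    have hpa : 𝔹 a u' ≠ 0 := by
      rw [ha', QuadraticMap.polar_sub_left, QuadraticMap.polar_smul_left, hc, huu', zero_sub,
        smul_eq_mul, mul_one]
      exact neg_ne_zero.2 (inv_ne_zero hQu)
    obtain ⟨hd, hsw⟩ := swap2 Q h2 a u' hQa hpa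
    refine ⟨[a - u', u], ?_, ?_, ?_⟩
    · intro d hd'
      simp only [List.mem_cons, List.mem_nil_iff, or_false] at hd'
      rcases hd' with rfl | rfl
      · exact hd
      · exact hQu
    · show rfl0 Q (a - u') (rfl0 Q u u'') = u'
      rw [← ha]; exact hsw
    · intro y hy huy
      show rfl0 Q (a - u') (rfl0 Q u y) = y
      rw [rfl_fix Q u y huy]
      apply rfl_fix
      rw [ha', QuadraticMap.polar_sub_left, QuadraticMap.polar_sub_left,
        QuadraticMap.polar_smul_left, huy, hfixy y hy]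
      simp
  · obtain ⟨hd, hsw⟩ := swap2 Q h2 u'' u' hQu'' hc
    refine ⟨[u'' - u'], ?_, hsw, ?_⟩
    · intro d hd'
      simp only [List.mem_cons, List.mem_nil_iff, or_false] at hd'
      rw [hd']; exact hd
    · intro y hy _
      show rfl0 Q (u'' - u') y = y
      apply rfl_fix
      rw [QuadraticMap.polar_sub_left, hfixy y hy, sub_self]

theorem two_hyp (W : Submodule F V)
    (hND : ∀ w ∈ W, (∀ w' ∈ W, 𝔹 w w' = 0) → w = 0) (a b : V) (ha : a ∈ W) (hb : b ∈ W)
    (ha0 : a ≠ 0) (hb0 : b ≠ 0) : ∃ z ∈ W, 𝔹 a z ≠ 0 ∧ 𝔹 b z ≠ 0 := by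
  obtain ⟨z₁, hz₁, h1⟩ : ∃ z ∈ W, 𝔹 a z ≠ 0 := by
    by_contra hcon
    push Not at hcon
    exact ha0 (hND a ha hcon)
  obtain ⟨z₂, hz₂, h2'⟩ : ∃ z ∈ W, 𝔹 b z ≠ 0 := by
    by_contra hcon
    push Not at hcon
    exact hb0 (hND b hb hcon)
  by_cases c1 : 𝔹 b z₁ = 0
  · by_cases c2 : 𝔹 a z₂ = 0
    · refine ⟨z₁ + z₂, W.add_mem hz₁ hz₂, ?_, ?_⟩
      · rw [QuadraticMap.polar_add_right, c2, add_zero]; exact h1
      · rw [QuadraticMap.polar_add_right, c1, zero_add]; exact h2'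
    · exact ⟨z₂, hz₂, c2, h2'⟩
  · exact ⟨z₁, hz₁, h1, c1⟩

theorem t1abs [FiniteDimensional F V] (h2 : (2 : F) = 0)
    (hQ : (QuadraticMap.polarBilin Q).Nondegenerate)
    (hc : (∃ s : F, s ≠ 0 ∧ s ≠ 1) ∨ Module.finrank F V ≠ 4) (u v : V) (hQu : Q u ≠ 0)
    (hQuv : Q u = Q v) (huv : 𝔹 u v = 0) (hne : u ≠ v) :
    ∃ x, Q x ≠ 0 ∧ 𝔹 u x ≠ 0 ∧ 𝔹 v x ≠ 0 := by
  have hu0 : u ≠ 0 := by
    rintro rfl
    exact hQu (QuadraticMap.map_zero Q)
  have hv0 : v ≠ 0 := by
    rintro rfl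
    rw [QuadraticMap.map_zero] at hQuv
    exact hQu hQuv
  have hND : ∀ w ∈ (⊤ : Submodule F V), (∀ w' ∈ (⊤ : Submodule F V), 𝔹 w w' = 0) → w = 0 :=
    fun w _ hw => hQ.1 w (fun y => hw y Submodule.mem_top)
  obtain ⟨x₀, -, hx1, hx2⟩ := two_hyp Q ⊤ hND u v Submodule.mem_top Submodule.mem_top hu0 hv0
  by_cases hx0 : Q x₀ = 0
  swap
  · exact ⟨x₀, hx0, hx1, hx2⟩
  rcases hc with ⟨s₀, hs0, hs1⟩ | hn4
  · obtain ⟨s, hs⟩ : ∃ s, s = - (𝔹 x₀ u / Q u) * s₀ := ⟨_, rfl⟩
    have hpx : 𝔹 x₀ u ≠ 0 := by rw [QuadraticMap.polar_comm (⇑Q) x₀ u]; exact hx1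
    refine ⟨x₀ + s • u, ?_, ?_, ?_⟩
    · rw [Q_add', hx0, QuadraticMap.map_smul, QuadraticMap.polar_smul_right, smul_eq_mul,
        smul_eq_mul, zero_add]
      have : s * s * Q u + s * 𝔹 x₀ u = s * (s * Q u + 𝔹 x₀ u) := by ring
      rw [this]
      apply mul_ne_zero
      · rw [hs]; exact mul_ne_zero (neg_ne_zero.2 (div_ne_zero hpx hQu)) hs0
      · rw [hs]
        intro h0
        apply hs1
        have e : -(𝔹 x₀ u / Q u) * s₀ * Q u = -(𝔹 x₀ u * s₀) := by field_simp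
        have : 𝔹 x₀ u * (1 - s₀) = 0 := by linear_combination h0 - e
        rcases mul_eq_zero.1 this with h | h
        · exact absurd h hpx
        · linear_combination -h
    · rw [QuadraticMap.polar_add_right, QuadraticMap.polar_smul_right, polar_self2 Q h2,
        smul_zero, add_zero]
      exact hx1
    · rw [QuadraticMap.polar_add_right, QuadraticMap.polar_smul_right,
        QuadraticMap.polar_comm (⇑Q) v u, huv, smul_zero, add_zero]
      exact hx2
  · by_contra hcon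
    have hneg : ∀ x : V, -x = x := fun x => by
      rw [neg_eq_iff_add_eq_zero, ← two_smul F x, h2, zero_smul]
    have hK : ∀ y, 𝔹 u y = 0 → 𝔹 v y = 0 → Q y = 𝔹 x₀ y := by
      intro y hy1 hy2
      by_contra hne'
      apply hcon
      refine ⟨x₀ + y, ?_, ?_, ?_⟩
      · rw [Q_add', hx0, zero_add]
        intro h0
        apply hne'
        linear_combination h0 - (𝔹 x₀ y) * h2
      · rw [QuadraticMap.polar_add_right, hy1, add_zero]; exact hx1
      · rw [QuadraticMap.polar_add_right, hy2, add_zero]; exact hx2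
    have hli : LinearIndependent F ![u, v] := by
      rw [LinearIndependent.pair_iff]
      intro s t hst
      have e1 : Q (s • u + t • v) = 0 := by rw [hst, QuadraticMap.map_zero]
      rw [Q_add', QuadraticMap.map_smul, QuadraticMap.map_smul, QuadraticMap.polar_smul_left,
        QuadraticMap.polar_smul_right, huv, ← hQuv] at e1
      simp only [smul_eq_mul, mul_zero, add_zero] at e1
      have e2 : (s - t) * (s - t) * Q u = 0 := by linear_combination e1 - (s * t * Q u) * h2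
      have e3 : s = t := by
        rcases mul_eq_zero.1 e2 with h | h
        · rcases mul_eq_zero.1 h with h | h <;> exact sub_eq_zero.1 h
        · exact absurd h hQu
      rw [e3] at hst ⊢
      by_cases ht : t = 0
      · exact ⟨ht, ht⟩
      · exfalso
        apply hne
        have e4 : t • (u + v) = 0 := by rw [smul_add]; exact hst
        have e5 : u + v = 0 := (smul_eq_zero.1 e4).resolve_left ht
        rw [← hneg v]; exact eq_neg_of_add_eq_zero_left e5
    obtain ⟨X, hX⟩ : ∃ X : Submodule F V, X = Submodule.span F (Set.range ![u, v]) := ⟨_, rfl⟩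
    have hXfr : Module.finrank F X = 2 := by
      rw [hX, finrank_span_eq_card hli]; simp
    obtain ⟨K, hKdef⟩ : ∃ K : Submodule F V,
        K = Cfsg.Agent.S0751.perp (RingHom.id F) (QuadraticMap.polarBilin Q) X := ⟨_, rfl⟩
    have hKmem : ∀ y, y ∈ K ↔ 𝔹 u y = 0 ∧ 𝔹 v y = 0 := by
      intro y
      rw [hKdef, Cfsg.Agent.S0751.mem_perp]
      constructor
      · intro hy
        exact ⟨hy u (by rw [hX]; exact Submodule.subset_span ⟨0, rfl⟩),
          hy v (by rw [hX]; exact Submodule.subset_span ⟨1, rfl⟩)⟩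
      · rintro ⟨hy1, hy2⟩ x hx
        have hle : X ≤ LinearMap.ker ((QuadraticMap.polarBilin Q).flip y) := by
          rw [hX, Submodule.span_le]
          rintro _ ⟨i, rfl⟩
          fin_cases i
          · exact hy1
          · exact hy2
        exact hle hx
    have hfr1 := Cfsg.Agent.S0751.finrank_perp (RingHom.id F) (QuadraticMap.polarBilin Q)
      (fun a => rfl) hQ X
    rw [← hKdef, hXfr] at hfr1
    have hfr2 := Cfsg.Agent.S0751.finrank_perp (RingHom.id F) (QuadraticMap.polarBilin Q)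
      (fun a => rfl) hQ K
    have hXK : X ≤ K := by
      rw [hX, Submodule.span_le]
      rintro _ ⟨i, rfl⟩
      fin_cases i
      · exact (hKmem u).2 ⟨polar_self2 Q h2 u, by
          rw [QuadraticMap.polar_comm (⇑Q) v u]; exact huv⟩
      · exact (hKmem v).2 ⟨huv, polar_self2 Q h2 v⟩
    have hKK : K ≤ Cfsg.Agent.S0751.perp (RingHom.id F) (QuadraticMap.polarBilin Q) K := by
      intro y hy
      rw [Cfsg.Agent.S0751.mem_perp]
      intro y' hy'
      show 𝔹 y' y = 0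
      have a1 := hK y ((hKmem y).1 hy).1 ((hKmem y).1 hy).2
      have a2 := hK y' ((hKmem y').1 hy').1 ((hKmem y').1 hy').2
      have hyy : y' + y ∈ K := K.add_mem hy' hy
      have a3 := hK (y' + y) ((hKmem _).1 hyy).1 ((hKmem _).1 hyy).2
      rw [Q_add', QuadraticMap.polar_add_right, a1, a2] at a3
      linear_combination a3
    have h3 := Submodule.finrank_mono hXK
    have h4 := Submodule.finrank_mono hKK
    rw [hXfr] at h3
    omega

theorem ind_triv (X W : Submodule F V) (g : V →ₗ[F] V) (hfix : ∀ x ∈ X, g x = x)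
    (hdec : ∀ v, ∃ x ∈ X, ∃ w ∈ W, v = x + w) (hW0 : ∀ w ∈ W, w = 0) :
    ∃ l : List V, (∀ d ∈ l, Q d ≠ 0) ∧ ∀ x, app Q l (g x) = x := by
  refine ⟨[], by simp, fun x => ?_⟩
  obtain ⟨x', hx', w, hw, rfl⟩ := hdec x
  rw [hW0 w hw, add_zero]
  exact hfix x' hx'

theorem ind [FiniteDimensional F V] (h2 : (2 : F) = 0)
    (hQ : (QuadraticMap.polarBilin Q).Nondegenerate)
    (hc : (∃ s : F, s ≠ 0 ∧ s ≠ 1) ∨ Module.finrank F V ≠ 4) :
    ∀ (n : ℕ) (X W : Submodule F V) (g : V →ₗ[F] V), Module.finrank F W ≤ n →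
      (∀ w, w ∈ W ↔ ∀ x ∈ X, 𝔹 x w = 0) →
      (∀ x, Q (g x) = Q x) → (∀ x ∈ X, g x = x) →
      (∀ v, ∃ x ∈ X, ∃ w ∈ W, v = x + w) →
      (∀ w ∈ W, (∀ w' ∈ W, 𝔹 w w' = 0) → w = 0) →
      (X = ⊥ ∨ ∃ u ∈ X, ∃ u' ∈ X, Q u ≠ 0 ∧ 𝔹 u u' = 1) →
      ∃ l : List V, (∀ d ∈ l, Q d ≠ 0) ∧ ∀ x, app Q l (g x) = x := by
  intro n
  induction n with
  | zero =>
    intro X W g hfr hW hiso hfix hdec hND hX
    have hfr0 : Module.finrank F W = 0 := by omega
    have hs : Subsingleton W := Module.finrank_zero_iff.1 hfr0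
    exact ind_triv Q X W g hfix hdec (fun w hw =>
      congrArg Subtype.val (Subsingleton.elim (⟨w, hw⟩ : W) 0))
  | succ n ih =>
    intro X W g hfr hW hiso hfix hdec hND hX
    by_cases hW0 : ∀ w ∈ W, w = 0
    · exact ind_triv Q X W g hfix hdec hW0
    push Not at hW0
    obtain ⟨w₀, hw₀, hw₀ne⟩ := hW0
    have hpol : ∀ a b, 𝔹 (g a) (g b) = 𝔹 a b := by
      intro a b
      unfold QuadraticMap.polar
      rw [← map_add, hiso, hiso, hiso]
    obtain ⟨w, hw, hQw⟩ : ∃ w ∈ W, Q w ≠ 0 := by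
      by_contra hcon
      push Not at hcon
      apply hw₀ne
      apply hND w₀ hw₀
      intro w' hw'
      unfold QuadraticMap.polar
      rw [hcon _ (W.add_mem hw₀ hw'), hcon _ hw₀, hcon _ hw']
      simp
    have hw0 : w ≠ 0 := by
      rintro rfl
      exact hQw (QuadraticMap.map_zero Q)
    have hgW : ∀ t ∈ W, g t ∈ W := by
      intro t ht
      rw [hW] at ht ⊢
      intro x hx
      have := hpol x t
      rw [hfix x hx] at this
      rw [this]; exact ht x hx
    obtain ⟨w₂, hw₂⟩ : ∃ w₂, w₂ = g w := ⟨_, rfl⟩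
    have hw₂W : w₂ ∈ W := by rw [hw₂]; exact hgW w hw
    have hQw₂ : Q w₂ = Q w := by rw [hw₂, hiso]
    have hXW : ∀ x ∈ X, ∀ t ∈ W, 𝔹 x t = 0 := fun x hx t ht => (hW t).1 ht x hx
    have hWX : ∀ t ∈ W, ∀ x ∈ X, 𝔹 t x = 0 := fun t ht x hx => by
      rw [QuadraticMap.polar_comm (⇑Q) t x]; exact hXW x hx t ht
    have step1 : ∃ l₁ : List V, (∀ d ∈ l₁, Q d ≠ 0) ∧ app Q l₁ w₂ = w ∧
        ∀ x ∈ X, app Q l₁ x = x := by
      by_cases hA : w₂ = w
      · exact ⟨[], by simp, hA, fun x _ => rfl⟩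
      by_cases hB : 𝔹 w₂ w = 0
      swap
      · obtain ⟨hd, hsw⟩ := swap2 Q h2 w₂ w hQw₂ hB
        refine ⟨[w₂ - w], ?_, hsw, ?_⟩
        · intro d hd'
          simp only [List.mem_cons, List.mem_nil_iff, or_false] at hd'
          rw [hd']; exact hd
        · intro x hx
          show rfl0 Q (w₂ - w) x = x
          apply rfl_fix
          rw [QuadraticMap.polar_sub_left, hWX w₂ hw₂W x hx, hWX w hw x hx, sub_zero]
      have hw₂0 : w₂ ≠ 0 := by
        intro h0
        rw [h0, QuadraticMap.map_zero] at hQw₂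
        exact hQw hQw₂.symm
      have fixC : ∀ x, Q x ≠ 0 → 𝔹 w x ≠ 0 → 𝔹 w₂ x ≠ 0 →
          ∃ d, Q d ≠ 0 ∧ rfl0 Q d (rfl0 Q x w₂) = w ∧
            ∀ y, 𝔹 x y = 0 → 𝔹 w y = 0 → 𝔹 w₂ y = 0 → rfl0 Q d (rfl0 Q x y) = y := by
        intro x hQx h1 h2'
        obtain ⟨w₃, hw₃⟩ : ∃ w₃, w₃ = rfl0 Q x w₂ := ⟨_, rfl⟩
        have hw₃' : w₃ = w₂ - ((Q x)⁻¹ * 𝔹 x w₂) • x := by rw [hw₃, rfl0_apply]
        have hQw₃ : Q w₃ = Q w := by rw [hw₃, rfl0_iso Q x hQx, hQw₂]
        have hp : 𝔹 w₃ w ≠ 0 := by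
          rw [hw₃', QuadraticMap.polar_sub_left, QuadraticMap.polar_smul_left, hB, zero_sub,
            smul_eq_mul]
          apply neg_ne_zero.2
          apply mul_ne_zero
          · apply mul_ne_zero (inv_ne_zero hQx)
            rw [QuadraticMap.polar_comm (⇑Q) x w₂]; exact h2'
          · rw [QuadraticMap.polar_comm (⇑Q) x w]; exact h1
        obtain ⟨hd, hsw⟩ := swap2 Q h2 w₃ w hQw₃ hp
        refine ⟨w₃ - w, hd, ?_, ?_⟩
        · rw [← hw₃]; exact hsw
        · intro y hy1 hy2 hy3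
          rw [rfl_fix Q x y hy1]
          apply rfl_fix
          rw [hw₃', QuadraticMap.polar_sub_left, QuadraticMap.polar_sub_left,
            QuadraticMap.polar_smul_left, hy1, hy2, hy3]
          simp
      obtain ⟨x₀, hx₀W, hx1, hx2⟩ := two_hyp Q W hND w w₂ hw hw₂W hw0 hw₂0
      have C1 : ∀ x ∈ W, Q x ≠ 0 → 𝔹 w x ≠ 0 → 𝔹 w₂ x ≠ 0 →
          ∃ l₁ : List V, (∀ d ∈ l₁, Q d ≠ 0) ∧ app Q l₁ w₂ = w ∧ ∀ x ∈ X, app Q l₁ x = x := by
        intro x hxW hQx h1 h2'
        obtain ⟨d, hd, hdw, hdfix⟩ := fixC x hQx h1 h2'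
        refine ⟨[d, x], ?_, hdw, ?_⟩
        · intro d' hd'
          simp only [List.mem_cons, List.mem_nil_iff, or_false] at hd'
          rcases hd' with rfl | rfl
          · exact hd
          · exact hQx
        · intro y hy
          exact hdfix y (hWX x hxW y hy) (hWX w hw y hy) (hWX w₂ hw₂W y hy)
      by_cases hQx₀ : Q x₀ = 0
      swap
      · exact C1 x₀ hx₀W hQx₀ hx1 hx2
      rcases hX with hXbot | ⟨u, huX, u', hu'X, hQu, huu'⟩
      · have hWtop : ∀ t, t ∈ W := by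
          intro t
          rw [hW]
          intro x hx
          rw [hXbot, Submodule.mem_bot] at hx
          rw [hx, QuadraticMap.polar_zero_left]
        obtain ⟨x, hQx, h1, h2'⟩ := t1abs Q h2 hQ hc w w₂ hQw hQw₂.symm (by
          rw [QuadraticMap.polar_comm (⇑Q) w w₂]; exact hB) (fun h => hA h.symm)
        exact C1 x (hWtop x) hQx h1 h2'
      · obtain ⟨x, hx⟩ : ∃ x, x = x₀ + u := ⟨_, rfl⟩
        have hQx : Q x ≠ 0 := by
          rw [hx, Q_add', hQx₀, hWX x₀ hx₀W u huX, zero_add, add_zero]; exact hQu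
        have h1 : 𝔹 w x ≠ 0 := by
          rw [hx, QuadraticMap.polar_add_right, hWX w hw u huX, add_zero]; exact hx1
        have h2' : 𝔹 w₂ x ≠ 0 := by
          rw [hx, QuadraticMap.polar_add_right, hWX w₂ hw₂W u huX, add_zero]; exact hx2
        obtain ⟨d, hd, hdw, hdfix⟩ := fixC x hQx h1 h2'
        obtain ⟨hh, hhdef⟩ : ∃ hh : V →ₗ[F] V, ∀ y, hh y = rfl0 Q d (rfl0 Q x (g y)) :=
          ⟨(rfl0 Q d).comp ((rfl0 Q x).comp g), fun y => rfl⟩
        have hhiso : ∀ y, Q (hh y) = Q y := by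
          intro y
          rw [hhdef, rfl0_iso Q d hd, rfl0_iso Q x hQx, hiso]
        have hfixX : ∀ y ∈ X, 𝔹 u y = 0 → hh y = y := by
          intro y hy huy
          rw [hhdef, hfix y hy]
          apply hdfix y _ (hWX w hw y hy) (hWX w₂ hw₂W y hy)
          rw [hx, QuadraticMap.polar_add_left, hWX x₀ hx₀W y hy, huy, add_zero]
        have hhu : hh u = u := hfixX u huX (polar_self2 Q h2 u)
        have hhw : hh w = w := by rw [hhdef, ← hw₂]; exact hdw
        obtain ⟨l, hl, hla, hlb⟩ := s2r Q h2 hh hhiso u u' hhu hQu huu'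
        refine ⟨l ++ [d, x], ?_, ?_, ?_⟩
        · intro d' hd'
          rcases List.mem_append.1 hd' with h | h
          · exact hl d' h
          · simp only [List.mem_cons, List.mem_nil_iff, or_false] at h
            rcases h with rfl | rfl
            · exact hd
            · exact hQx
        · rw [app_append]
          show app Q l (rfl0 Q d (rfl0 Q x w₂)) = w
          rw [hdw]
          exact hlb w hhw (hXW u huX w hw)
        · intro y hy
          rw [app_append]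
          show app Q l (rfl0 Q d (rfl0 Q x y)) = y
          obtain ⟨c, hc'⟩ : ∃ c, c = 𝔹 u y := ⟨_, rfl⟩
          obtain ⟨y₀, hy₀⟩ : ∃ y₀, y₀ = y - c • u' := ⟨_, rfl⟩
          have hy₀X : y₀ ∈ X := by rw [hy₀]; exact X.sub_mem hy (X.smul_mem _ hu'X)
          have hy₀u : 𝔹 u y₀ = 0 := by
            rw [hy₀, QuadraticMap.polar_sub_right, QuadraticMap.polar_smul_right, huu', hc']
            simp
          have e1 : hh y₀ = y₀ := hfixX y₀ hy₀X hy₀u
          have e2 : app Q l y₀ = y₀ := hlb y₀ e1 hy₀u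
          have e3 : rfl0 Q d (rfl0 Q x y) = hh y := by rw [hhdef, hfix y hy]
          have e4 : y = y₀ + c • u' := by rw [hy₀]; abel
          rw [e3]
          have e5 : hh y = y₀ + c • hh u' := by
            conv_lhs => rw [e4]
            rw [map_add, map_smul, e1]
          rw [e5, ← appL_apply, map_add, map_smul, appL_apply, appL_apply, e2, hla, ← e4]
    obtain ⟨l₁, hl₁, hl₁a, hl₁b⟩ := step1
    obtain ⟨g₁, hg₁⟩ : ∃ g₁ : V →ₗ[F] V, ∀ y, g₁ y = app Q l₁ (g y) :=
      ⟨(appL Q l₁).comp g, fun y => by rw [LinearMap.comp_apply, appL_apply]⟩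
    have hg₁iso : ∀ y, Q (g₁ y) = Q y := fun y => by rw [hg₁, app_Q Q l₁ hl₁, hiso]
    have hg₁w : g₁ w = w := by rw [hg₁, ← hw₂, hl₁a]
    have hg₁X : ∀ a ∈ X, g₁ a = a := fun a ha => by rw [hg₁, hfix a ha, hl₁b a ha]
    obtain ⟨w', hw', hww'⟩ : ∃ w' ∈ W, 𝔹 w w' = 1 := by
      have hex : ∃ z ∈ W, 𝔹 w z ≠ 0 := by
        by_contra hcon
        push Not at hcon
        exact hw0 (hND w hw hcon)
      obtain ⟨z, hz, hz0⟩ := hex
      refine ⟨(𝔹 w z)⁻¹ • z, W.smul_mem _ hz, ?_⟩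
      rw [QuadraticMap.polar_smul_right, smul_eq_mul, inv_mul_cancel₀ hz0]
    obtain ⟨l₂, hl₂, hl₂a, hl₂b⟩ := s2r Q h2 g₁ hg₁iso w w' hg₁w hQw hww'
    obtain ⟨g₂, hg₂⟩ : ∃ g₂ : V →ₗ[F] V, ∀ y, g₂ y = app Q l₂ (g₁ y) :=
      ⟨(appL Q l₂).comp g₁, fun y => by rw [LinearMap.comp_apply, appL_apply]⟩
    have hg₂iso : ∀ y, Q (g₂ y) = Q y := fun y => by rw [hg₂, app_Q Q l₂ hl₂, hg₁iso]
    have hg₂w : g₂ w = w := by
      rw [hg₂, hg₁w]; exact hl₂b w hg₁w (polar_self2 Q h2 w)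
    have hg₂w' : g₂ w' = w' := by rw [hg₂]; exact hl₂a
    have hg₂X : ∀ a ∈ X, g₂ a = a := fun a ha => by
      rw [hg₂, hg₁X a ha]; exact hl₂b a (hg₁X a ha) (hWX w hw a ha)
    have hw'w : 𝔹 w' w = 1 := by rw [QuadraticMap.polar_comm (⇑Q) w' w]; exact hww'
    obtain ⟨X', hX'mem, hX'of⟩ : ∃ X' : Submodule F V,
        (∀ y ∈ X', ∃ a ∈ X, ∃ c c' : F, y = a + c • w + c' • w') ∧
        (∀ a ∈ X, ∀ c c' : F, a + c • w + c' • w' ∈ X') := by
      refine ⟨X ⊔ Submodule.span F {w, w'}, ?_, ?_⟩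
      · intro y hy
        obtain ⟨a, ha, b, hb, rfl⟩ := Submodule.mem_sup.1 hy
        obtain ⟨c, c', rfl⟩ := Submodule.mem_span_pair.1 hb
        exact ⟨a, ha, c, c', by rw [add_assoc]⟩
      · intro a ha c c'
        rw [add_assoc]
        exact Submodule.add_mem_sup ha (Submodule.mem_span_pair.2 ⟨c, c', rfl⟩)
    obtain ⟨W', hW'mem⟩ : ∃ W' : Submodule F V,
        ∀ t, t ∈ W' ↔ t ∈ W ∧ 𝔹 w t = 0 ∧ 𝔹 w' t = 0 :=
      ⟨W ⊓ (LinearMap.ker (QuadraticMap.polarBilin Q w) ⊓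
        LinearMap.ker (QuadraticMap.polarBilin Q w')), fun t => Iff.rfl⟩
    have hwX' : w ∈ X' := by
      have := hX'of 0 X.zero_mem 1 0
      simpa using this
    have hw'X' : w' ∈ X' := by
      have := hX'of 0 X.zero_mem 0 1
      simpa using this
    have hXX' : ∀ a ∈ X, a ∈ X' := by
      intro a ha
      have := hX'of a ha 0 0
      simpa using this
    have hW'char : ∀ t, t ∈ W' ↔ ∀ x ∈ X', 𝔹 x t = 0 := by
      intro t
      rw [hW'mem]
      constructor
      · rintro ⟨ht, ht1, ht2⟩ y hy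
        obtain ⟨a, ha, c, c', rfl⟩ := hX'mem y hy
        rw [QuadraticMap.polar_add_left, QuadraticMap.polar_add_left,
          QuadraticMap.polar_smul_left, QuadraticMap.polar_smul_left, hXW a ha t ht, ht1, ht2]
        simp
      · intro ht
        exact ⟨(hW t).2 (fun x hx => ht x (hXX' x hx)), ht w hwX', ht w' hw'X'⟩
    have hfrW' : Module.finrank F W' ≤ n := by
      have hlt : W' < W := by
        refine lt_of_le_of_ne (fun t ht => ((hW'mem t).1 ht).1) ?_
        intro heq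
        have hwW' : w ∈ W' := by rw [heq]; exact hw
        have h1 := ((hW'mem w).1 hwW').2.2
        rw [hw'w] at h1
        exact one_ne_zero h1
      have := Submodule.finrank_lt_finrank_of_lt hlt
      omega
    have hproj : ∀ t ∈ W, t - 𝔹 w' t • w - 𝔹 w t • w' ∈ W' := by
      intro t ht
      rw [hW'mem]
      refine ⟨W.sub_mem (W.sub_mem ht (W.smul_mem _ hw)) (W.smul_mem _ hw'), ?_, ?_⟩
      · rw [QuadraticMap.polar_sub_right, QuadraticMap.polar_sub_right,
          QuadraticMap.polar_smul_right, QuadraticMap.polar_smul_right, polar_self2 Q h2 w, hww']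
        simp
      · rw [QuadraticMap.polar_sub_right, QuadraticMap.polar_sub_right,
          QuadraticMap.polar_smul_right, QuadraticMap.polar_smul_right, polar_self2 Q h2 w', hw'w]
        simp
    have hdec' : ∀ v, ∃ x ∈ X', ∃ t ∈ W', v = x + t := by
      intro v
      obtain ⟨x, hx, t, ht, rfl⟩ := hdec v
      refine ⟨x + 𝔹 w' t • w + 𝔹 w t • w', hX'of x hx _ _, _, hproj t ht, ?_⟩
      abel
    have hND' : ∀ t ∈ W', (∀ t' ∈ W', 𝔹 t t' = 0) → t = 0 := by
      intro t ht htt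
      obtain ⟨htW, ht1, ht2⟩ := (hW'mem t).1 ht
      apply hND t htW
      intro s hs
      have h3 := htt _ (hproj s hs)
      rw [QuadraticMap.polar_sub_right, QuadraticMap.polar_sub_right,
        QuadraticMap.polar_smul_right, QuadraticMap.polar_smul_right,
        QuadraticMap.polar_comm (⇑Q) t w, QuadraticMap.polar_comm (⇑Q) t w', ht1, ht2] at h3
      simpa using h3
    have hfix₂ : ∀ y ∈ X', g₂ y = y := by
      intro y hy
      obtain ⟨a, ha, c, c', rfl⟩ := hX'mem y hy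
      rw [map_add, map_add, map_smul, map_smul, hg₂X a ha, hg₂w, hg₂w']
    obtain ⟨l₃, hl₃, hl₃a⟩ := ih X' W' g₂ hfrW' hW'char hg₂iso hfix₂ hdec' hND'
      (Or.inr ⟨w, hwX', w', hw'X', hQw, hww'⟩)
    refine ⟨l₃ ++ (l₂ ++ l₁), ?_, fun x => ?_⟩
    · intro d hd
      rcases List.mem_append.1 hd with h | h
      · exact hl₃ d h
      · rcases List.mem_append.1 h with h | h
        · exact hl₂ d h
        · exact hl₁ d h
    · rw [app_append, app_append, ← hg₁, ← hg₂]; exact hl₃a x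

theorem cd2 [FiniteDimensional F V] (h2 : (2 : F) = 0)
    (hQ : (QuadraticMap.polarBilin Q).Nondegenerate)
    (hc : (∃ s : F, s ≠ 0 ∧ s ≠ 1) ∨ Module.finrank F V ≠ 4) (g : V →ₗ[F] V)
    (hg : ∀ v, Q (g v) = Q v) : ∃ l : List V, (∀ d ∈ l, Q d ≠ 0) ∧ ∀ x, g x = app Q l x := by
  obtain ⟨l, hl, hla⟩ := ind Q h2 hQ hc (Module.finrank F V) ⊥ ⊤ g (Submodule.finrank_le _)
    (fun w => ⟨fun _ x hx => by
      rw [(Submodule.mem_bot F).1 hx, QuadraticMap.polar_zero_left], fun _ => Submodule.mem_top⟩)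
    hg (fun x hx => by rw [(Submodule.mem_bot F).1 hx, map_zero])
    (fun v => ⟨0, Submodule.zero_mem _, v, Submodule.mem_top, (zero_add v).symm⟩)
    (fun w _ hw => hQ.1 w (fun y => hw y Submodule.mem_top)) (Or.inl rfl)
  refine ⟨l.reverse, fun d hd => hl d (List.mem_reverse.1 hd), fun x => ?_⟩
  have h3 := app_rev Q l hl (g x)
  rw [hla x] at h3
  exact h3.symm

end abs

/-- Generation by reflections: if F is finite, Q is a quadratic form on F^n with non-degenerate polar form, and (|F|, n) ≠ (2, 4), then the isometry group of Q is generated by the reflections r_v, Q(v) ≠ 0. -/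
theorem result {F : Type*} [Field F] [Fintype F] {n : ℕ} (Q : QuadraticForm F (Fin n → F)) (hQ : (QuadraticMap.polarBilin Q).Nondegenerate) (h : Fintype.card F ≠ 2 ∨ n ≠ 4) : Subgroup.closure {g : ↥(Cfsg.isometryGroup F ⇑Q) | ∃ v : Fin n → F, Q v ≠ 0 ∧ ((g : Matrix.GeneralLinearGroup (Fin n) F) : Matrix (Fin n) (Fin n) F) = Cfsg.reflectionMatrix ⇑Q v} = ⊤ := by
  classical
  rw [eq_top_iff]
  intro g _
  have hiso := (Cfsg.Agent.S0785.mem_isometryGroup_iff ⇑Q g.1).1 g.2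
  have hex : ∃ l : List (Fin n → F), (∀ d ∈ l, Q d ≠ 0) ∧ ∀ x,
      (Matrix.toLin' ((g : Matrix.GeneralLinearGroup (Fin n) F) : Matrix (Fin n) (Fin n) F)) x
        = app Q l x := by
    by_cases h2 : (2 : F) = 0
    · apply cd2 Q h2 hQ ?_ _ (fun v => by rw [Matrix.toLin'_apply]; exact hiso v)
      rcases h with h | h
      · left
        by_contra hcon
        push Not at hcon
        apply h
        have huniv : (Finset.univ : Finset F) = {0, 1} := by
          ext s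
          simp only [Finset.mem_univ, Finset.mem_insert, Finset.mem_singleton, true_iff]
          by_cases hs : s = 0
          · exact Or.inl hs
          · exact Or.inr (hcon s hs)
        rw [← Finset.card_univ, huniv, Finset.card_pair zero_ne_one]
      · right
        simpa using h
    · exact Cfsg.Agent.S0792.cd h2 n (Fin n → F) Q hQ (by simp) _ (fun v => by
        rw [Matrix.toLin'_apply]; exact hiso v)
  obtain ⟨l, hl1, hl2⟩ := hex
  have hmat : ((g : Matrix.GeneralLinearGroup (Fin n) F) : Matrix (Fin n) (Fin n) F) =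
      (l.map (Cfsg.reflectionMatrix ⇑Q)).prod :=
    Cfsg.Agent.Lib.Helper5.matrix_ext_mulVec (fun x => by
      rw [Cfsg.Agent.S0792.prod_mulVec, ← hl2 x, Matrix.toLin'_apply])
  have hg_eq : g = (l.map (Cfsg.Agent.S0792.Rf Q)).prod := by
    apply Subtype.ext
    apply Units.ext
    rw [Cfsg.Agent.S0792.prod_Rf Q l hl1, hmat]
  rw [hg_eq]
  apply Subgroup.list_prod_mem
  intro x hx
  obtain ⟨d, hd, rfl⟩ := List.mem_map.1 hx
  exact Subgroup.subset_closure ⟨d, hl1 d hd, Cfsg.Agent.S0792.Rf_val Q d (hl1 d hd)⟩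

end Cfsg.Agent.S0786
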