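import Mathlib
import Cfsg.Statements.S0794
import Cfsg.Agent.S0750
import Cfsg.Agent.S0793
import Cfsg.Agent.S0785

set_option autoImplicit false
open Cfsg

namespace Cfsg.Agent.S0794

open Matrix Cfsg.Agent.Lib.Helper5

/-- the isometry-group element of a `Q`-preserving linear equivalence -/
theorem exists_iso {F : Type*} [Field F] {n : ℕ} (Q : QuadraticForm F (Fin n → F))
    (e : (Fin n → F) ≃ₗ[F] (Fin n → F)) (he : ∀ x, Q (e x) = Q x) :
    ∃ h : ↥(Cfsg.isometryGroup F ⇑Q),
      ∀ x, ((h : Matrix.GeneralLinearGroup (Fin n) F) : Matrix (Fin n) (Fin n) F) *ᵥ x = e x := by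
  have h1 : LinearMap.toMatrix' e.toLinearMap * LinearMap.toMatrix' e.symm.toLinearMap = 1 := by
    rw [← LinearMap.toMatrix'_comp]; simp
  have h2 : LinearMap.toMatrix' e.symm.toLinearMap * LinearMap.toMatrix' e.toLinearMap = 1 := by
    rw [← LinearMap.toMatrix'_comp]; simp
  refine ⟨⟨⟨LinearMap.toMatrix' e.toLinearMap, LinearMap.toMatrix' e.symm.toLinearMap, h1, h2⟩,
    ?_⟩, ?_⟩
  · rw [Cfsg.Agent.S0785.mem_isometryGroup_iff]
    intro u
    show Q (LinearMap.toMatrix' e.toLinearMap *ᵥ u) = Q u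
    rw [LinearMap.toMatrix'_mulVec]; exact he u
  · intro x
    show LinearMap.toMatrix' e.toLinearMap *ᵥ x = e x
    rw [LinearMap.toMatrix'_mulVec]; rfl

/-- For q odd, n ≥ 5 and Q with non-degenerate polar form: an isometry whose matrix is a Siegel transformation T_(u,v)(c) (u, v singular and orthogonal) is a commutator in the isometry group, so lies in Ω. -/
theorem result {F : Type*} [Field F] [Fintype F] (h2 : (2 : F) ≠ 0) {n : ℕ} (hn : 5 ≤ n) (Q : QuadraticForm F (Fin n → F)) (hQ : (QuadraticMap.polarBilin Q).Nondegenerate) (u v : Fin n → F) (hu : Q u = 0) (hv : Q v = 0) (huv : QuadraticMap.polar ⇑Q u v = 0) (c : F) (g : ↥(Cfsg.isometryGroup F ⇑Q)) (hg : ((g : Matrix.GeneralLinearGroup (Fin n) F) : Matrix (Fin n) (Fin n) F) = Cfsg.siegelMatrix ⇑Q u v c) : g ∈ commutatorSet ↥(Cfsg.isometryGroup F ⇑Q) ∧ g ∈ Cfsg.Omega F ⇑Q := by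
  suffices hs : g ∈ commutatorSet ↥(Cfsg.isometryGroup F ⇑Q) by
    refine ⟨hs, ?_⟩
    show g ∈ commutator ↥(Cfsg.isometryGroup F ⇑Q)
    rw [commutator_eq_closure]; exact Subgroup.subset_closure hs
  by_cases hdep : u ∈ Submodule.span F {v}
  · obtain ⟨a, rfl⟩ := Submodule.mem_span_singleton.1 hdep
    have hg1 : g = 1 := by
      apply Subtype.ext; apply Units.ext
      rw [hg]
      simp only [Subgroup.coe_one, Units.val_one]
      apply matrix_ext_mulVec
      intro x
      rw [siegelMatrix_mulVec, QuadraticMap.polar_smul_left, smul_eq_mul, smul_smul,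
        Matrix.one_mulVec]
      have : c * (a * QuadraticMap.polar ⇑Q v x) = c * QuadraticMap.polar ⇑Q v x * a := by ring
      rw [this]; abel
    rw [hg1]; exact ⟨1, 1, by simp⟩
  · obtain ⟨l0, hl1, hl2⟩ := Submodule.exists_dual_map_eq_bot_of_notMem hdep inferInstance
    have hl0v : l0 v = 0 := by
      have : l0 v ∈ (Submodule.span F {v}).map l0 :=
        Submodule.mem_map_of_mem (Submodule.mem_span_singleton_self v)
      rw [hl2] at this; exact (Submodule.mem_bot F).1 this
    obtain ⟨l, hl⟩ : ∃ l : Module.Dual F (Fin n → F), l = (l0 u)⁻¹ • l0 := ⟨_, rfl⟩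
    have hlu : l u = 1 := by rw [hl]; simp [inv_mul_cancel₀ hl1]
    have hlv : l v = 0 := by rw [hl]; simp [hl0v]
    obtain ⟨f, hf⟩ : ∃ f : (Fin n → F) →ₗ[F] (Fin n → F), ∀ x, f x = x + l x • u :=
      ⟨LinearMap.id + l.smulRight u, fun x => by simp⟩
    obtain ⟨X, hX⟩ : ∃ X : Submodule F (Fin n → F), X = Submodule.span F {u, v} := ⟨_, rfl⟩
    have hXmem : ∀ x, x ∈ X ↔ ∃ a b : F, a • u + b • v = x := fun x => by
      rw [hX]; exact Submodule.mem_span_pair
    have huX : u ∈ X := (hXmem u).2 ⟨1, 0, by simp⟩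
    have hvX : v ∈ X := (hXmem v).2 ⟨0, 1, by simp⟩
    have hQX : ∀ x ∈ X, Q x = 0 := by
      intro x hx
      obtain ⟨a, b, rfl⟩ := (hXmem x).1 hx
      rw [Cfsg.Agent.S0750.Q_add, QuadraticMap.map_smul, QuadraticMap.map_smul,
        QuadraticMap.polar_smul_left, QuadraticMap.polar_smul_right, hu, hv, huv]
      simp
    have hfX : ∀ x ∈ X, f x ∈ X := by
      intro x hx
      rw [hf]
      exact X.add_mem hx (X.smul_mem _ huX)
    have hinj : ∀ x ∈ X, f x = 0 → x = 0 := by
      intro x hx h0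
      have h3 : l (f x) = 0 := by rw [h0, map_zero]
      rw [hf, map_add, map_smul, hlu, smul_eq_mul, mul_one] at h3
      have h4 : l x = 0 := by
        have : (2 : F) * l x = 0 := by linear_combination h3
        rcases mul_eq_zero.1 this with h | h
        · exact absurd h h2
        · exact h
      rw [hf, h4, zero_smul, add_zero] at h0
      exact h0
    have hiso : ∀ x ∈ X, Q (f x) = Q x := fun x hx => by rw [hQX x hx, hQX _ (hfX x hx)]
    obtain ⟨e, he1, he2⟩ := Cfsg.Agent.S0750.main Q hQ _ X f le_rfl hinj hiso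
    obtain ⟨h, hh⟩ := exists_iso Q e he1
    have heu : e u = (2 : F) • u := by
      rw [he2 u huX, hf, hlu, one_smul, two_smul]
    have hev : e v = v := by
      rw [he2 v hvX, hf, hlv, zero_smul, add_zero]
    have hpol : ∀ a b, QuadraticMap.polar ⇑Q (e a) (e b) = QuadraticMap.polar ⇑Q a b := by
      intro a b; unfold QuadraticMap.polar; rw [← map_add, he1, he1, he1]
    have hpu : ∀ x, (2 : F) * QuadraticMap.polar ⇑Q u (e x) = QuadraticMap.polar ⇑Q u x := by
      intro x
      rw [← hpol u x, heu, QuadraticMap.polar_smul_left, smul_eq_mul]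
    have hpv : ∀ x, QuadraticMap.polar ⇑Q v (e x) = QuadraticMap.polar ⇑Q v x := by
      intro x
      have := hpol v x; rw [hev] at this; exact this
    have hT2 := (Cfsg.Agent.S0793.result Q u v hu hv huv).2.2 c c
    have hcomm : h * g = g * g * h := by
      apply Subtype.ext; apply Units.ext
      simp only [Subgroup.coe_mul, Units.val_mul]
      rw [hg, hT2]
      apply matrix_ext_mulVec
      intro x
      rw [← Matrix.mulVec_mulVec, ← Matrix.mulVec_mulVec, hh, siegelMatrix_mulVec,
        siegelMatrix_mulVec, hh, map_sub, map_add, map_smul, map_smul, heu, hev, hpv]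
      have e1 : (c + c) * QuadraticMap.polar ⇑Q u (e x) = c * QuadraticMap.polar ⇑Q u x := by
        rw [← hpu x]; ring
      have e2 : c * QuadraticMap.polar ⇑Q v x * 2 = (c + c) * QuadraticMap.polar ⇑Q v x := by ring
      rw [e1, smul_smul, e2]
    refine ⟨h, g, ?_⟩
    rw [commutatorElement_def, hcomm]; group

end Cfsg.Agent.S0794
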