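import Mathlib
import Cfsg.Statements.S2635
import Cfsg.Agent.S0786
import Cfsg.Agent.S0794

set_option autoImplicit false
open Cfsg

namespace Cfsg.Agent.S2635

open Matrix
open scoped commutatorElement
open Cfsg.Agent.S5754 (rfl0 rfl0_apply rfl0_invol rfl0_iso)
open Cfsg.Agent.S0792 (app Rf Rf_val prod_Rf pairs refl_mulVec prod_mulVec)

theorem comm_of_conj {G : Type*} [Group G] (a b h : G) (ha : a * a = 1) (hc : h * a = b * h) :
    a * b = ⁅a, h⁆ := by
  rw [commutatorElement_def, inv_eq_of_mul_eq_one_right ha, mul_assoc a h a, hc, ← mul_assoc,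
    mul_inv_cancel_right]

section
variable {F : Type*} [Field F] {n : ℕ} (Q : QuadraticForm F (Fin n → F))

theorem Rf_mul_self (d : Fin n → F) : Rf Q d * Rf Q d = 1 := by
  by_cases h : Q d ≠ 0
  · apply Subtype.ext
    apply Units.ext
    rw [Subgroup.coe_mul, Units.val_mul, Rf_val Q d h]
    show _ = (1 : Matrix (Fin n) (Fin n) F)
    apply Cfsg.Agent.Lib.Helper5.matrix_ext_mulVec
    intro x
    rw [← Matrix.mulVec_mulVec, refl_mulVec, refl_mulVec, rfl0_invol Q d h, Matrix.one_mulVec]
  · have h1 : Rf Q d = 1 := by rw [Rf, dif_neg h]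
    rw [h1, mul_one]

theorem Rf_inv (d : Fin n → F) : (Rf Q d)⁻¹ = Rf Q d :=
  inv_eq_of_mul_eq_one_right (Rf_mul_self Q d)

theorem prod_inv (l : List (Fin n → F)) :
    ((l.map (Rf Q)).prod)⁻¹ = (l.reverse.map (Rf Q)).prod := by
  induction l with
  | nil => simp
  | cons d l ih =>
    rw [List.map_cons, List.prod_cons, _root_.mul_inv_rev, ih, Rf_inv, List.reverse_cons, List.map_append,
      List.prod_append, List.map_singleton, List.prod_singleton]

theorem exists_list [Fintype F] (h2 : (2 : F) = 0)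
    (hQ : (QuadraticMap.polarBilin Q).Nondegenerate) (h : Fintype.card F ≠ 2 ∨ n ≠ 4)
    (g : ↥(Cfsg.isometryGroup F ⇑Q)) :
    ∃ l : List (Fin n → F), (∀ d ∈ l, Q d ≠ 0) ∧ g = (l.map (Rf Q)).prod := by
  classical
  have hiso := (Cfsg.Agent.S0785.mem_isometryGroup_iff ⇑Q g.1).1 g.2
  have hc : (∃ s : F, s ≠ 0 ∧ s ≠ 1) ∨ Module.finrank F (Fin n → F) ≠ 4 := by
    rcases h with h | h
    · left
      by_contra hcon
      push Not at hcon
      apply h
      have huniv : (Finset.univ : Finset F) = {0, 1} := by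
        ext s
        simp only [Finset.mem_univ, Finset.mem_insert, Finset.mem_singleton, true_iff]
        by_cases hs : s = 0
        · exact Or.inl hs
        · exact Or.inr (hcon s hs)
      rw [← Finset.card_univ, huniv, Finset.card_pair zero_ne_one]
    · right
      simpa using h
  obtain ⟨l, hl1, hl2⟩ := Cfsg.Agent.S0786.cd2 Q h2 hQ hc
    (Matrix.toLin' ((g : Matrix.GeneralLinearGroup (Fin n) F) : Matrix (Fin n) (Fin n) F))
    (fun v => by rw [Matrix.toLin'_apply]; exact hiso v)
  have hmat : ((g : Matrix.GeneralLinearGroup (Fin n) F) : Matrix (Fin n) (Fin n) F) =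
      (l.map (Cfsg.reflectionMatrix ⇑Q)).prod :=
    Cfsg.Agent.Lib.Helper5.matrix_ext_mulVec (fun x => by
      rw [prod_mulVec, ← hl2 x, Matrix.toLin'_apply])
  refine ⟨l, hl1, ?_⟩
  apply Subtype.ext
  apply Units.ext
  rw [prod_Rf Q l hl1, hmat]

theorem witt_line [Fintype F] [CharP F 2] (hQ : (QuadraticMap.polarBilin Q).Nondegenerate)
    (u v : Fin n → F) (hu : Q u ≠ 0) (hv : Q v ≠ 0) :
    ∃ h : ↥(Cfsg.isometryGroup F ⇑Q), ∃ c : F, c ≠ 0 ∧
      ((h : Matrix.GeneralLinearGroup (Fin n) F) : Matrix (Fin n) (Fin n) F) *ᵥ u = c • v ∧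
      h * Rf Q u = Rf Q v * h := by
  obtain ⟨c, hc⟩ := FiniteField.isSquare_of_char_two (ringChar.eq F 2) (Q u / Q v)
  have hc0 : c ≠ 0 := by
    rintro rfl
    rw [mul_zero] at hc
    exact div_ne_zero hu hv hc
  have hQc : Q (c • v) = Q u := by
    rw [QuadraticMap.map_smul, smul_eq_mul, ← hc]; field_simp
  have hu0 : u ≠ 0 := by
    rintro rfl
    exact hu (QuadraticMap.map_zero Q)
  have hv0 : v ≠ 0 := by
    rintro rfl
    exact hv (QuadraticMap.map_zero Q)
  obtain ⟨i, hi⟩ : ∃ i, u i ≠ 0 := by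
    by_contra hcon
    push Not at hcon
    exact hu0 (funext hcon)
  obtain ⟨f, hf⟩ : ∃ f : (Fin n → F) →ₗ[F] (Fin n → F), ∀ x, f x = ((u i)⁻¹ * x i) • (c • v) :=
    ⟨((u i)⁻¹ • LinearMap.proj i).smulRight (c • v), fun x => by simp⟩
  have hfa : ∀ a : F, f (a • u) = a • (c • v) := by
    intro a
    rw [hf, Pi.smul_apply, smul_eq_mul]
    congr 1
    field_simp
  obtain ⟨g, hg1, hg2⟩ := Cfsg.Agent.S0750.main Q hQ (Module.finrank F (Submodule.span F {u}))
    (Submodule.span F {u}) f le_rfl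
    (fun x hx hfx => by
      obtain ⟨a, rfl⟩ := Submodule.mem_span_singleton.1 hx
      rw [hfa] at hfx
      have ha : a = 0 := by
        rcases smul_eq_zero.1 hfx with h | h
        · exact h
        · exact absurd h (smul_ne_zero hc0 hv0)
      rw [ha, zero_smul])
    (fun x hx => by
      obtain ⟨a, rfl⟩ := Submodule.mem_span_singleton.1 hx
      rw [hfa, QuadraticMap.map_smul Q a (c • v), QuadraticMap.map_smul Q a u, hQc])
  have hgu : g u = c • v := by
    have h1 := hg2 u (Submodule.mem_span_singleton_self u)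
    rw [h1]
    have h3 := hfa 1
    rwa [one_smul, one_smul] at h3
  obtain ⟨h, hh⟩ := Cfsg.Agent.S0794.exists_iso Q g hg1
  refine ⟨h, c, hc0, ?_, ?_⟩
  · rw [hh, hgu]
  · apply Subtype.ext
    apply Units.ext
    rw [Subgroup.coe_mul, Units.val_mul, Subgroup.coe_mul, Units.val_mul, Rf_val Q u hu,
      Rf_val Q v hv]
    apply Cfsg.Agent.Lib.Helper5.matrix_ext_mulVec
    intro x
    rw [← Matrix.mulVec_mulVec, ← Matrix.mulVec_mulVec, refl_mulVec, refl_mulVec, hh, hh,
      rfl0_apply, rfl0_apply, map_sub, map_smul, hgu]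
    have hpol : QuadraticMap.polar Q (g u) (g x) = QuadraticMap.polar Q u x := by
      unfold QuadraticMap.polar
      rw [← map_add, hg1, hg1, hg1]
    rw [hgu, QuadraticMap.polar_smul_left, smul_eq_mul] at hpol
    rw [smul_smul]
    congr 2
    rw [← hpol, ← hQc, QuadraticMap.map_smul, smul_eq_mul]
    field_simp

theorem pair_mem [Fintype F] [CharP F 2] (hQ : (QuadraticMap.polarBilin Q).Nondegenerate)
    (u v : Fin n → F) (hu : Q u ≠ 0) (hv : Q v ≠ 0) :
    Rf Q u * Rf Q v ∈ Cfsg.Omega F ⇑Q := by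
  obtain ⟨h, c, -, -, hconj⟩ := witt_line Q hQ u v hu hv
  rw [comm_of_conj (Rf Q u) (Rf Q v) h (Rf_mul_self Q u) hconj]
  exact Subgroup.commutator_mem_commutator (Subgroup.mem_top (Rf Q u)) (Subgroup.mem_top h)

theorem even_mem [Fintype F] [CharP F 2] (hQ : (QuadraticMap.polarBilin Q).Nondegenerate)
    (l : List (Fin n → F)) (hl : ∀ d ∈ l, Q d ≠ 0) (k : ℕ) (hk : l.length = 2 * k) :
    (l.map (Rf Q)).prod ∈ Cfsg.Omega F ⇑Q := by
  have h1 := pairs Q k l hk hl
  refine (Subgroup.closure_le _).2 ?_ h1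
  rintro x ⟨u, v, hu, hv, hx⟩
  have e : x = Rf Q u * Rf Q v := by
    apply Subtype.ext
    apply Units.ext
    rw [Subgroup.coe_mul, Units.val_mul, Rf_val Q u hu, Rf_val Q v hv]; exact hx
  rw [e]
  exact pair_mem Q hQ u v hu hv

end

/-- Over a finite field of characteristic two, for a quadratic form Q on F^n with non-degenerate polar form, n ≥ 2, other than dimension 4 over the field of two elements, Ω (the commutator subgroup of the orthogonal group) is exactly the subgroup generated by the products of two reflections (orthogonal transvections) x ↦ x − Q(v)⁻¹ f(x, v) v, Q(v) ≠ 0: the products of an even number of reflections. -/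
theorem result {F : Type*} [Field F] [Fintype F] [CharP F 2] {n : ℕ} (hn : 2 ≤ n) (h : Fintype.card F ≠ 2 ∨ n ≠ 4) (Q : QuadraticForm F (Fin n → F)) (hQ : (QuadraticMap.polarBilin Q).Nondegenerate) : Cfsg.Omega F ⇑Q = Subgroup.closure {g : ↥(Cfsg.isometryGroup F ⇑Q) | ∃ u v : Fin n → F, Q u ≠ 0 ∧ Q v ≠ 0 ∧ ((g : Matrix.GeneralLinearGroup (Fin n) F) : Matrix (Fin n) (Fin n) F) = Cfsg.reflectionMatrix ⇑Q u * Cfsg.reflectionMatrix ⇑Q v} := by
  have h2 : (2 : F) = 0 := by
    have h3 := CharP.cast_eq_zero F 2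
    exact_mod_cast h3
  apply le_antisymm
  · show commutator _ ≤ _
    rw [commutator_def, Subgroup.commutator_le]
    intro g₁ _ g₂ _
    obtain ⟨l₁, hl₁, rfl⟩ := exists_list Q h2 hQ h g₁
    obtain ⟨l₂, hl₂, rfl⟩ := exists_list Q h2 hQ h g₂
    rw [commutatorElement_def, prod_inv, prod_inv, ← List.prod_append, ← List.prod_append,
      ← List.prod_append, ← List.map_append, ← List.map_append, ← List.map_append]
    apply pairs Q (l₁.length + l₂.length)
    · simp only [List.length_append, List.length_reverse]; omega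
    · intro d hd
      simp only [List.mem_append, List.mem_reverse] at hd
      rcases hd with ((h | h) | h) | h
      · exact hl₁ d h
      · exact hl₂ d h
      · exact hl₁ d h
      · exact hl₂ d h
  · rw [Subgroup.closure_le]
    rintro x ⟨u, v, hu, hv, hx⟩
    have e : x = Rf Q u * Rf Q v := by
      apply Subtype.ext
      apply Units.ext
      rw [Subgroup.coe_mul, Units.val_mul, Rf_val Q u hu, Rf_val Q v hv]; exact hx
    rw [e]
    exact pair_mem Q hQ u v hu hv

end Cfsg.Agent.S2635
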