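import Mathlib
import Cfsg.Statements.S0789
import Cfsg.Agent.S2635

set_option autoImplicit false
open Cfsg

namespace Cfsg.Agent.S0789

open Matrix
open Cfsg.Agent.S5754 (rfl0 rfl0_apply rfl0_invol rfl0_iso Q_sub)
open Cfsg.Agent.S0792 (app app_cons Rf Rf_val prod_Rf pairs refl_mulVec prod_mulVec)
open Cfsg.Agent.S0786 (appL appL_apply app_Q)

section abs
variable {F V : Type*} [Field F] [AddCommGroup V] [Module F V]

theorem finrank_add_one [FiniteDimensional F V] (U U' : Submodule F V) (x₁ : V) (hle : U ≤ U')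
    (hx₁ : x₁ ∈ U') (hx₁' : x₁ ∉ U) (h : ∀ x ∈ U', ∃ c : F, x - c • x₁ ∈ U) :
    Module.finrank F U' = Module.finrank F U + 1 := by
  have hx0 : x₁ ≠ 0 := by
    rintro rfl
    exact hx₁' U.zero_mem
  have e1 : U' = U ⊔ Submodule.span F {x₁} := by
    apply le_antisymm
    · intro x hx
      obtain ⟨c, hc⟩ := h x hx
      have e : x = (x - c • x₁) + c • x₁ := by abel
      rw [e]
      exact Submodule.add_mem_sup hc
        (Submodule.smul_mem _ _ (Submodule.mem_span_singleton_self x₁))
    · apply sup_le hle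
      rw [Submodule.span_singleton_le_iff_mem]
      exact hx₁
  have e2 : U ⊓ Submodule.span F {x₁} = ⊥ := by
    rw [eq_bot_iff]
    intro x hx
    obtain ⟨hxU, hxS⟩ := Submodule.mem_inf.1 hx
    obtain ⟨c, rfl⟩ := Submodule.mem_span_singleton.1 hxS
    by_cases hc : c = 0
    · rw [hc, zero_smul]; exact Submodule.zero_mem _
    · exfalso
      apply hx₁'
      have h3 := U.smul_mem c⁻¹ hxU
      rwa [smul_smul, inv_mul_cancel₀ hc, one_smul] at h3
  have e3 := Submodule.finrank_sup_add_finrank_inf_eq U (Submodule.span F {x₁})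
  rw [← e1, e2, finrank_bot, finrank_span_singleton hx0] at e3
  omega

/-- fixed space of a linear map -/
def fixS (g : V →ₗ[F] V) : Submodule F V := LinearMap.ker (g - LinearMap.id)

theorem mem_fixS (g : V →ₗ[F] V) (x : V) : x ∈ fixS g ↔ g x = x := by
  rw [fixS, LinearMap.mem_ker, LinearMap.sub_apply, LinearMap.id_apply, sub_eq_zero]

theorem mem_range_of_perp [FiniteDimensional F V] (Q : QuadraticForm F V)
    (hQ : (QuadraticMap.polarBilin Q).Nondegenerate) (g : V →ₗ[F] V) (hg : ∀ x, Q (g x) = Q x)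
    (d : V) (hd : ∀ x, g x = x → QuadraticMap.polar Q x d = 0) : ∃ y₀, g y₀ - y₀ = d := by
  have hpol : ∀ a b, QuadraticMap.polar Q (g a) (g b) = QuadraticMap.polar Q a b := by
    intro a b
    unfold QuadraticMap.polar
    rw [← map_add, hg, hg, hg]
  have hle : LinearMap.range (g - LinearMap.id) ≤
      Cfsg.Agent.S0751.perp (RingHom.id F) (QuadraticMap.polarBilin Q) (fixS g) := by
    rintro _ ⟨y, rfl⟩
    rw [Cfsg.Agent.S0751.mem_perp]
    intro x hx
    rw [mem_fixS] at hx
    show QuadraticMap.polar Q x (g y - y) = 0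
    rw [QuadraticMap.polar_sub_right]
    have h3 := hpol x y
    rw [hx] at h3
    rw [h3, sub_self]
  have h1 := LinearMap.finrank_range_add_finrank_ker (g - LinearMap.id)
  have h2 := Cfsg.Agent.S0751.finrank_perp (RingHom.id F) (QuadraticMap.polarBilin Q)
    (fun a => rfl) hQ (fixS g)
  have h2' : Module.finrank F (fixS g) = Module.finrank F (LinearMap.ker (g - LinearMap.id)) := rfl
  have heq := Submodule.eq_of_le_of_finrank_eq hle (by omega)
  have hmem : d ∈ LinearMap.range (g - LinearMap.id) := by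
    rw [heq, Cfsg.Agent.S0751.mem_perp]
    intro x hx
    exact hd x ((mem_fixS g x).1 hx)
  obtain ⟨y₀, hy₀⟩ := hmem
  exact ⟨y₀, hy₀⟩

theorem flip [FiniteDimensional F V] (Q : QuadraticForm F V)
    (hQ : (QuadraticMap.polarBilin Q).Nondegenerate) (g : V →ₗ[F] V) (hg : ∀ x, Q (g x) = Q x)
    (d : V) (hd : Q d ≠ 0) :
    Module.finrank F (fixS ((rfl0 Q d).comp g)) = Module.finrank F (fixS g) + 1 ∨
    Module.finrank F (fixS g) = Module.finrank F (fixS ((rfl0 Q d).comp g)) + 1 := by
  have hpol : ∀ a b, QuadraticMap.polar Q (g a) (g b) = QuadraticMap.polar Q a b := by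
    intro a b
    unfold QuadraticMap.polar
    rw [← map_add, hg, hg, hg]
  have hd0 : d ≠ 0 := by
    rintro rfl
    exact hd (QuadraticMap.map_zero Q)
  have hg' : ∀ x, (rfl0 Q d).comp g x =
      g x - ((Q d)⁻¹ * QuadraticMap.polar Q d (g x)) • d := fun x => by
    rw [LinearMap.comp_apply, rfl0_apply]
  by_cases hcase : ∃ y₀, g y₀ - y₀ = d
  · left
    obtain ⟨y₀, hy₀⟩ := hcase
    have hgy : g y₀ = y₀ + d := by rw [← hy₀]; abel
    have hφ : QuadraticMap.polar Q d (g y₀) = Q d := by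
      have e1 : Q d = Q (g y₀) + Q y₀ - QuadraticMap.polar Q (g y₀) y₀ := by
        rw [← hy₀]; exact Q_sub Q _ _
      have e2 : QuadraticMap.polar Q d (g y₀) =
          QuadraticMap.polar Q (g y₀) (g y₀) - QuadraticMap.polar Q y₀ (g y₀) := by
        rw [← hy₀, QuadraticMap.polar_sub_left]
      have e3 : QuadraticMap.polar Q (g y₀) (g y₀) = 2 * Q y₀ := by
        rw [QuadraticMap.polar_self, hg, two_nsmul, two_mul]
      rw [e2, e3, e1, hg, QuadraticMap.polar_comm (⇑Q) y₀ (g y₀)]; ring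
    refine finrank_add_one (fixS g) (fixS ((rfl0 Q d).comp g)) y₀ ?_ ?_ ?_ ?_
    · intro x hx
      rw [mem_fixS] at hx ⊢
      rw [hg', hx]
      have h0 : QuadraticMap.polar Q d x = 0 := by
        rw [← hy₀, QuadraticMap.polar_sub_left]
        have h3 := hpol y₀ x
        rw [hx] at h3
        rw [h3, sub_self]
      rw [h0, mul_zero, zero_smul, sub_zero]
    · rw [mem_fixS, hg', hφ, inv_mul_cancel₀ hd, one_smul, hgy]; abel
    · intro h
      rw [mem_fixS] at h
      apply hd0
      rw [← hy₀, h, sub_self]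
    · intro x hx
      rw [mem_fixS, hg'] at hx
      obtain ⟨c, hc⟩ : ∃ c, c = (Q d)⁻¹ * QuadraticMap.polar Q d (g x) := ⟨_, rfl⟩
      rw [← hc] at hx
      refine ⟨c, ?_⟩
      rw [mem_fixS, map_sub, map_smul, hgy, eq_add_of_sub_eq hx, smul_add]
      abel
  · right
    obtain ⟨x₁, hx₁, hx₁p⟩ : ∃ x₁, g x₁ = x₁ ∧ QuadraticMap.polar Q d x₁ ≠ 0 := by
      by_contra hcon
      push Not at hcon
      apply hcase
      exact mem_range_of_perp Q hQ g hg d (fun x hx => by
        rw [QuadraticMap.polar_comm (⇑Q) x d]; exact hcon x hx)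
    refine finrank_add_one (fixS ((rfl0 Q d).comp g)) (fixS g) x₁ ?_ ?_ ?_ ?_
    · intro x hx
      rw [mem_fixS] at hx ⊢
      rw [hg'] at hx
      obtain ⟨c, hc⟩ : ∃ c, c = (Q d)⁻¹ * QuadraticMap.polar Q d (g x) := ⟨_, rfl⟩
      rw [← hc] at hx
      by_cases hc0 : c = 0
      · rw [hc0, zero_smul, sub_zero] at hx; exact hx
      · exfalso
        apply hcase
        refine ⟨c⁻¹ • x, ?_⟩
        rw [map_smul, ← smul_sub, eq_add_of_sub_eq hx, add_sub_cancel_left, smul_smul,
          inv_mul_cancel₀ hc0, one_smul]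
    · rw [mem_fixS]; exact hx₁
    · intro h
      rw [mem_fixS, hg', hx₁, sub_eq_self] at h
      rcases smul_eq_zero.1 h with h' | h'
      · exact mul_ne_zero (inv_ne_zero hd) hx₁p h'
      · exact hd0 h'
    · intro x hx
      rw [mem_fixS] at hx
      refine ⟨QuadraticMap.polar Q d x / QuadraticMap.polar Q d x₁, ?_⟩
      rw [mem_fixS, hg', map_sub, map_smul, hx, hx₁]
      have h0 : QuadraticMap.polar Q d
          (x - (QuadraticMap.polar Q d x / QuadraticMap.polar Q d x₁) • x₁) = 0 := by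
        rw [QuadraticMap.polar_sub_right, QuadraticMap.polar_smul_right, smul_eq_mul]
        field_simp
        ring
      rw [h0, mul_zero, zero_smul, sub_zero]

theorem parity [FiniteDimensional F V] (Q : QuadraticForm F V)
    (hQ : (QuadraticMap.polarBilin Q).Nondegenerate) (l : List V) (hl : ∀ d ∈ l, Q d ≠ 0) :
    (Module.finrank F (fixS (appL Q l)) + l.length) % 2 = Module.finrank F V % 2 := by
  induction l with
  | nil =>
    have h1 : fixS (appL Q ([] : List V)) = ⊤ := by
      rw [eq_top_iff]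
      intro x _
      rw [mem_fixS]; rfl
    rw [h1, finrank_top]; rfl
  | cons d l ih =>
    have hd := hl d List.mem_cons_self
    have ih' := ih (fun d' hd' => hl d' (List.mem_cons_of_mem _ hd'))
    have hiso : ∀ x, Q (appL Q l x) = Q x := fun x => by
      rw [appL_apply, app_Q Q l (fun d' hd' => hl d' (List.mem_cons_of_mem _ hd'))]
    have hfl := flip Q hQ (appL Q l) hiso d hd
    have e : appL Q (d :: l) = (rfl0 Q d).comp (appL Q l) := rfl
    rw [e, List.length_cons]
    omega

end abs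

section mat
variable {F : Type*} [Field F] {n : ℕ} (Q : QuadraticForm F (Fin n → F))

theorem parity_eq (hQ : (QuadraticMap.polarBilin Q).Nondegenerate) (l₁ l₂ : List (Fin n → F))
    (h₁ : ∀ d ∈ l₁, Q d ≠ 0) (h₂ : ∀ d ∈ l₂, Q d ≠ 0)
    (heq : (l₁.map (Rf Q)).prod = (l₂.map (Rf Q)).prod) : l₁.length % 2 = l₂.length % 2 := by
  have e : appL Q l₁ = appL Q l₂ := by
    apply LinearMap.ext
    intro x
    rw [appL_apply, appL_apply, ← prod_mulVec, ← prod_mulVec, ← prod_Rf Q l₁ h₁,
      ← prod_Rf Q l₂ h₂, heq]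
  have p1 := parity Q hQ l₁ h₁
  have p2 := parity Q hQ l₂ h₂
  rw [e] at p1
  omega

theorem even_of_mem (g : ↥(Cfsg.isometryGroup F ⇑Q))
    (hg : g ∈ Subgroup.closure {g : ↥(Cfsg.isometryGroup F ⇑Q) | ∃ u v : Fin n → F, Q u ≠ 0 ∧ Q v ≠ 0 ∧ ((g : Matrix.GeneralLinearGroup (Fin n) F) : Matrix (Fin n) (Fin n) F) = Cfsg.reflectionMatrix ⇑Q u * Cfsg.reflectionMatrix ⇑Q v}) :
    ∃ l : List (Fin n → F), (∀ d ∈ l, Q d ≠ 0) ∧ l.length % 2 = 0 ∧ g = (l.map (Rf Q)).prod := by
  induction hg using Subgroup.closure_induction with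
  | mem x hx =>
    obtain ⟨u, v, hu, hv, hx⟩ := hx
    refine ⟨[u, v], ?_, by simp, ?_⟩
    · intro d hd
      simp only [List.mem_cons, List.mem_nil_iff, or_false] at hd
      rcases hd with rfl | rfl
      · exact hu
      · exact hv
    · apply Subtype.ext
      apply Units.ext
      rw [List.map_cons, List.map_cons, List.map_nil, List.prod_cons, List.prod_cons,
        List.prod_nil, mul_one, Subgroup.coe_mul, Units.val_mul, Rf_val Q u hu, Rf_val Q v hv]
      exact hx
  | one => exact ⟨[], by simp, rfl, by simp⟩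
  | mul x y _ _ ihx ihy =>
    obtain ⟨l₁, h₁, p₁, rfl⟩ := ihx
    obtain ⟨l₂, h₂, p₂, rfl⟩ := ihy
    refine ⟨l₁ ++ l₂, ?_, ?_, ?_⟩
    · intro d hd
      rcases List.mem_append.1 hd with h | h
      · exact h₁ d h
      · exact h₂ d h
    · rw [List.length_append]; omega
    · rw [List.map_append, List.prod_append]
  | inv x _ ihx =>
    obtain ⟨l₁, h₁, p₁, rfl⟩ := ihx
    exact ⟨l₁.reverse, fun d hd => h₁ d (List.mem_reverse.1 hd), by
      rw [List.length_reverse]; exact p₁, Cfsg.Agent.S2635.prod_inv Q l₁⟩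

end mat

/-- Ω has index 2 in O for q even: if F is finite of characteristic two, n ≥ 2, Q is a quadratic form on F^n with non-degenerate polar form, and (|F|, n) ≠ (2, 4), then the commutator subgroup of the isometry group of Q has index 2 in it. -/
theorem result {F : Type*} [Field F] [Fintype F] [CharP F 2] {n : ℕ} (hn : 2 ≤ n) (Q : QuadraticForm F (Fin n → F)) (hQ : (QuadraticMap.polarBilin Q).Nondegenerate) (h : Fintype.card F ≠ 2 ∨ n ≠ 4) : (Cfsg.Omega F ⇑Q).index = 2 := by
  have h2 : (2 : F) = 0 := by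
    have h3 := CharP.cast_eq_zero F 2
    exact_mod_cast h3
  have hΩ := Cfsg.Agent.S2635.result hn h Q hQ
  obtain ⟨u, hu⟩ : ∃ u, Q u ≠ 0 := by
    by_contra hcon
    push Not at hcon
    obtain ⟨x, hx⟩ : ∃ x : Fin n → F, x ≠ 0 := ⟨Pi.single ⟨0, by omega⟩ 1, by
      intro h0
      have h3 := congrFun h0 ⟨0, by omega⟩
      simp at h3⟩
    apply hx
    apply hQ.1 x
    intro y
    show QuadraticMap.polar Q x y = 0
    unfold QuadraticMap.polar
    rw [hcon, hcon, hcon]; simp
  have hnot : Rf Q u ∉ Cfsg.Omega F ⇑Q := by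
    intro hmem
    rw [hΩ] at hmem
    obtain ⟨l, hl, hp, heq⟩ := even_of_mem Q _ hmem
    have h3 := parity_eq Q hQ [u] l (by
      intro d hd
      rw [List.mem_singleton.1 hd]; exact hu) hl (by rw [← heq]; simp)
    have h1 : [u].length = 1 := rfl
    rw [h1] at h3
    omega
  rw [Subgroup.index_eq_two_iff]
  refine ⟨Rf Q u, fun b => ?_⟩
  obtain ⟨l, hl, rfl⟩ := Cfsg.Agent.S2635.exists_list Q h2 hQ h b
  obtain ⟨k, hk | hk⟩ := Nat.even_or_odd' l.length
  · right
    have hb := Cfsg.Agent.S2635.even_mem Q hQ l hl k hk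
    refine ⟨hb, fun hba => hnot ?_⟩
    have h3 := Subgroup.mul_mem _ (Subgroup.inv_mem _ hb) hba
    rwa [inv_mul_cancel_left] at h3
  · left
    have e : (l.map (Rf Q)).prod * Rf Q u = ((l ++ [u]).map (Rf Q)).prod := by
      rw [List.map_append, List.prod_append, List.map_singleton, List.prod_singleton]
    have hba : (l.map (Rf Q)).prod * Rf Q u ∈ Cfsg.Omega F ⇑Q := by
      rw [e]
      refine Cfsg.Agent.S2635.even_mem Q hQ (l ++ [u]) ?_ (k + 1) ?_
      · intro d hd
        rcases List.mem_append.1 hd with h | h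
        · exact hl d h
        · rw [List.mem_singleton.1 h]; exact hu
      · simp only [List.length_append, List.length_singleton, hk]; omega
    refine ⟨hba, fun hb => hnot ?_⟩
    have h3 := Subgroup.mul_mem _ (Subgroup.inv_mem _ hb) hba
    rwa [inv_mul_cancel_left] at h3

end Cfsg.Agent.S0789
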