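import Mathlib
import Cfsg.Statements.S2628
import Cfsg.Agent.S0786

set_option autoImplicit false
open Cfsg

namespace Cfsg.Agent.S2628

open Matrix
open scoped commutatorElement
open Cfsg.Agent.S5754 (rfl0 rfl0_apply rfl0_invol rfl0_iso)
open Cfsg.Agent.S0792 (app app_cons)

theorem sq_step {G : Type*} [Group G] (t z : G) (ht : t * t = 1) (hz : z * z ∈ commutator G) :
    (t * z) * (t * z) ∈ commutator G := by
  have e : (t * z) * (t * z) = ⁅t, z⁆ * (z * z) := by
    rw [commutatorElement_def, inv_eq_of_mul_eq_one_right ht]; group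
  rw [e]
  exact Subgroup.mul_mem _
    (Subgroup.commutator_mem_commutator (Subgroup.mem_top t) (Subgroup.mem_top z)) hz

section gen
variable {F : Type*} [Field F] {ι : Type} [Fintype ι] [DecidableEq ι]

theorem mem_iso_iff (Q : (ι → F) → F) (g : Matrix.GeneralLinearGroup ι F) :
    g ∈ Cfsg.isometryGroup F Q ↔ ∀ u, Q ((g : Matrix ι ι F) *ᵥ u) = Q u := by
  constructor
  · intro h u
    exact h u u
  · intro h u _
    exact h u

/-- group element from an involutive `Q`-preserving linear map -/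
theorem exists_invol (Q : (ι → F) → F) (e : (ι → F) →ₗ[F] (ι → F)) (he2 : ∀ x, e (e x) = x)
    (he : ∀ x, Q (e x) = Q x) :
    ∃ h : ↥(Cfsg.isometryGroup F Q), h * h = 1 ∧
      ∀ x, ((h : Matrix.GeneralLinearGroup ι F) : Matrix ι ι F) *ᵥ x = e x := by
  have h1 : LinearMap.toMatrix' e * LinearMap.toMatrix' e = 1 := by
    rw [← LinearMap.toMatrix'_comp]
    have h3 : e.comp e = LinearMap.id := LinearMap.ext he2
    rw [h3, LinearMap.toMatrix'_id]
  refine ⟨⟨⟨LinearMap.toMatrix' e, LinearMap.toMatrix' e, h1, h1⟩, ?_⟩, ?_, ?_⟩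
  · rw [mem_iso_iff]
    intro u
    show Q (LinearMap.toMatrix' e *ᵥ u) = Q u
    rw [LinearMap.toMatrix'_mulVec]; exact he u
  · apply Subtype.ext
    apply Units.ext
    exact h1
  · intro x
    show LinearMap.toMatrix' e *ᵥ x = e x
    rw [LinearMap.toMatrix'_mulVec]

theorem sq_mem (Q : QuadraticForm F (ι → F)) (l : List (ι → F)) (hl : ∀ d ∈ l, Q d ≠ 0) :
    ∀ y : ↥(Cfsg.isometryGroup F ⇑Q),
      (∀ x, ((y : Matrix.GeneralLinearGroup ι F) : Matrix ι ι F) *ᵥ x = app Q l x) →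
      y * y ∈ commutator ↥(Cfsg.isometryGroup F ⇑Q) := by
  induction l with
  | nil =>
    intro y hy
    have h1 : y = 1 := by
      apply Subtype.ext
      apply Units.ext
      show ((y : Matrix.GeneralLinearGroup ι F) : Matrix ι ι F) = 1
      apply Cfsg.Agent.Lib.Helper5.matrix_ext_mulVec
      intro x
      rw [hy, Matrix.one_mulVec]; rfl
    rw [h1, mul_one]; exact Subgroup.one_mem _
  | cons d l ih =>
    intro y hy
    have hd : Q d ≠ 0 := hl d List.mem_cons_self
    obtain ⟨t, ht, htx⟩ := exists_invol ⇑Q (rfl0 Q d) (rfl0_invol Q d hd) (rfl0_iso Q d hd)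
    have hz := ih (fun d' hd' => hl d' (List.mem_cons_of_mem _ hd')) (t * y) (fun x => by
      rw [Subgroup.coe_mul, Units.val_mul, ← Matrix.mulVec_mulVec, hy, htx, app_cons,
        rfl0_invol Q d hd])
    have e : y = t * (t * y) := by rw [← mul_assoc, ht, one_mul]
    rw [e]
    exact sq_step t (t * y) ht hz

end gen

theorem blockA {F : Type*} [Field F] {k : ℕ} (M N : Matrix (Fin k) (Fin k) F) (h1 : M * N = 1) :
    Matrix.fromBlocks M 0 0 (1 : Matrix (Fin k) (Fin k) F) * Matrix.fromBlocks N 0 0 1 = 1 := by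
  rw [Matrix.fromBlocks_multiply]
  simp [h1, Matrix.fromBlocks_one]

/-- For the orthogonal direct sum Q ⊕ Q of two copies of a quadratic form Q with non-degenerate polar form on F^k (F finite), every isometry g of Q acting diagonally, diag(g, g), lies in Ω(Q ⊕ Q), the commutator subgroup of the orthogonal group of Q ⊕ Q. (Excluded: k = 2 over the field of two elements, where Q ⊕ Q is the hyperbolic 4-space whose orthogonal group's commutator subgroup is smaller than the group usually called Ω.) -/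
theorem result {F : Type*} [Field F] [Fintype F] {k : ℕ} (h : Fintype.card F ≠ 2 ∨ k ≠ 2) (Q : QuadraticForm F (Fin k → F)) (hQ : (QuadraticMap.polarBilin Q).Nondegenerate) (g : ↥(Cfsg.isometryGroup F ⇑Q)) : ∃ x : ↥(Cfsg.isometryGroup F (fun v : Fin k ⊕ Fin k → F => Q (v ∘ Sum.inl) + Q (v ∘ Sum.inr))), x ∈ Cfsg.Omega F (fun v : Fin k ⊕ Fin k → F => Q (v ∘ Sum.inl) + Q (v ∘ Sum.inr)) ∧ ((x : Matrix.GeneralLinearGroup (Fin k ⊕ Fin k) F) : Matrix (Fin k ⊕ Fin k) (Fin k ⊕ Fin k) F) = Matrix.fromBlocks ((g : Matrix.GeneralLinearGroup (Fin k) F) : Matrix (Fin k) (Fin k) F) 0 0 ((g : Matrix.GeneralLinearGroup (Fin k) F) : Matrix (Fin k) (Fin k) F) := by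
  classical
  obtain ⟨Q₂, hQ₂⟩ : ∃ Q₂ : QuadraticForm F (Fin k ⊕ Fin k → F),
      ∀ v, Q₂ v = Q (v ∘ Sum.inl) + Q (v ∘ Sum.inr) :=
    ⟨Q.comp (LinearMap.funLeft F F Sum.inl) + Q.comp (LinearMap.funLeft F F Sum.inr),
      fun v => rfl⟩
  have hfun : (fun v : Fin k ⊕ Fin k → F => Q (v ∘ Sum.inl) + Q (v ∘ Sum.inr)) = ⇑Q₂ := by
    funext v
    exact (hQ₂ v).symm
  rw [hfun]
  have hg := (Cfsg.Agent.S0785.mem_isometryGroup_iff ⇑Q g.1).1 g.2
  have sep : ∀ x : Fin k ⊕ Fin k → F, (∀ y, QuadraticMap.polar Q₂ x y = 0) → x = 0 := by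
    intro x hx
    have hl : x ∘ Sum.inl = 0 := by
      apply hQ.1
      intro y₁
      show QuadraticMap.polar Q (x ∘ Sum.inl) y₁ = 0
      have h3 := hx (Sum.elim y₁ 0)
      unfold QuadraticMap.polar at h3 ⊢
      rw [hQ₂, hQ₂, hQ₂] at h3
      have e1 : (x + Sum.elim y₁ 0) ∘ Sum.inl = x ∘ Sum.inl + y₁ := by
        funext i; rfl
      have e2 : (x + Sum.elim y₁ (0 : Fin k → F)) ∘ Sum.inr = x ∘ Sum.inr := by
        funext i; simp
      rw [e1, e2, Sum.elim_comp_inl, Sum.elim_comp_inr, QuadraticMap.map_zero] at h3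
      linear_combination h3
    have hr : x ∘ Sum.inr = 0 := by
      apply hQ.1
      intro y₁
      show QuadraticMap.polar Q (x ∘ Sum.inr) y₁ = 0
      have h3 := hx (Sum.elim 0 y₁)
      unfold QuadraticMap.polar at h3 ⊢
      rw [hQ₂, hQ₂, hQ₂] at h3
      have e1 : (x + Sum.elim (0 : Fin k → F) y₁) ∘ Sum.inl = x ∘ Sum.inl := by
        funext i; simp
      have e2 : (x + Sum.elim (0 : Fin k → F) y₁) ∘ Sum.inr = x ∘ Sum.inr + y₁ := by
        funext i; rfl
      rw [e1, e2, Sum.elim_comp_inl, Sum.elim_comp_inr, QuadraticMap.map_zero] at h3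
      linear_combination h3
    funext i
    rcases i with i | i
    · exact congrFun hl i
    · exact congrFun hr i
  have hQ₂nd : (QuadraticMap.polarBilin Q₂).Nondegenerate :=
    ⟨fun x hx => sep x (fun y => hx y), fun y hy => sep y (fun x => by
      rw [QuadraticMap.polar_comm (⇑Q₂) y x]; exact hy x)⟩
  obtain ⟨A, hAval⟩ : ∃ A : ↥(Cfsg.isometryGroup F ⇑Q₂),
      ((A : Matrix.GeneralLinearGroup (Fin k ⊕ Fin k) F) : Matrix (Fin k ⊕ Fin k) (Fin k ⊕ Fin k) F)
        = Matrix.fromBlocks g.1.val 0 0 1 := by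
    refine ⟨⟨⟨Matrix.fromBlocks g.1.val 0 0 1, Matrix.fromBlocks g.1.inv 0 0 1,
      blockA _ _ g.1.val_inv, blockA _ _ g.1.inv_val⟩, ?_⟩, rfl⟩
    rw [mem_iso_iff]
    intro u
    show Q₂ (Matrix.fromBlocks g.1.val 0 0 1 *ᵥ u) = Q₂ u
    rw [hQ₂, hQ₂, Matrix.fromBlocks_mulVec, Sum.elim_comp_inl, Sum.elim_comp_inr,
      Matrix.zero_mulVec, Matrix.zero_mulVec, Matrix.one_mulVec, add_zero, zero_add, hg]
  obtain ⟨S, hSval, hSS⟩ : ∃ S : ↥(Cfsg.isometryGroup F ⇑Q₂),
      ((S : Matrix.GeneralLinearGroup (Fin k ⊕ Fin k) F) : Matrix (Fin k ⊕ Fin k) (Fin k ⊕ Fin k) F)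
        = Matrix.fromBlocks 0 1 1 0 ∧ S * S = 1 := by
    have hS : Matrix.fromBlocks (0 : Matrix (Fin k) (Fin k) F) (1 : Matrix (Fin k) (Fin k) F)
        (1 : Matrix (Fin k) (Fin k) F) (0 : Matrix (Fin k) (Fin k) F) * Matrix.fromBlocks 0 1 1 0
        = (1 : Matrix (Fin k ⊕ Fin k) (Fin k ⊕ Fin k) F) := by
      rw [Matrix.fromBlocks_multiply]; simp [Matrix.fromBlocks_one]
    refine ⟨⟨⟨Matrix.fromBlocks 0 1 1 0, Matrix.fromBlocks 0 1 1 0, hS, hS⟩, ?_⟩, rfl, ?_⟩
    · rw [mem_iso_iff]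
      intro u
      show Q₂ (Matrix.fromBlocks 0 1 1 0 *ᵥ u) = Q₂ u
      rw [hQ₂, hQ₂, Matrix.fromBlocks_mulVec, Sum.elim_comp_inl, Sum.elim_comp_inr,
        Matrix.zero_mulVec, Matrix.zero_mulVec, Matrix.one_mulVec, Matrix.one_mulVec, add_zero,
        zero_add, add_comm]
    · apply Subtype.ext
      apply Units.ext
      exact hS
  have hSinv : S⁻¹ = S := inv_eq_of_mul_eq_one_right hSS
  have hAiso := (mem_iso_iff ⇑Q₂ A.1).1 A.2
  refine ⟨A * S * A * S, ?_, ?_⟩
  · have e : A * S * A * S = A * A * ⁅A⁻¹, S⁆ := by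
      rw [commutatorElement_def, inv_inv, hSinv]; group
    rw [e]
    refine Subgroup.mul_mem _ ?_
      (Subgroup.commutator_mem_commutator (Subgroup.mem_top A⁻¹) (Subgroup.mem_top S))
    obtain ⟨l, hl1, hl2⟩ : ∃ l : List (Fin k ⊕ Fin k → F), (∀ d ∈ l, Q₂ d ≠ 0) ∧
        ∀ x, (Matrix.toLin' ((A : Matrix.GeneralLinearGroup (Fin k ⊕ Fin k) F) :
          Matrix (Fin k ⊕ Fin k) (Fin k ⊕ Fin k) F)) x = app Q₂ l x := by
      by_cases h2 : (2 : F) = 0
      · apply Cfsg.Agent.S0786.cd2 Q₂ h2 hQ₂nd ?_ _ (fun v => by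
          rw [Matrix.toLin'_apply]; exact hAiso v)
        rcases h with h | h
        · left
          by_contra hcon
          push Not at hcon
          apply h
          have huniv : (Finset.univ : Finset F) = {0, 1} := by
            ext s
            simp only [Finset.mem_univ, Finset.mem_insert, Finset.mem_singleton, true_iff]
            by_cases hs : s = 0
            · exact Or.inl hs
            · exact Or.inr (hcon s hs)
          rw [← Finset.card_univ, huniv, Finset.card_pair zero_ne_one]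
        · right
          rw [Module.finrank_fintype_fun_eq_card, Fintype.card_sum, Fintype.card_fin]
          omega
      · exact Cfsg.Agent.S0792.cd h2 _ (Fin k ⊕ Fin k → F) Q₂ hQ₂nd rfl _ (fun v => by
          rw [Matrix.toLin'_apply]; exact hAiso v)
    exact sq_mem Q₂ l hl1 A (fun x => by rw [← hl2 x, Matrix.toLin'_apply])
  · rw [Subgroup.coe_mul, Subgroup.coe_mul, Subgroup.coe_mul, Units.val_mul, Units.val_mul,
      Units.val_mul, hAval, hSval]
    simp [Matrix.fromBlocks_multiply]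

end Cfsg.Agent.S2628
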