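import Mathlib
import Cfsg.Statements.S2630
import Cfsg.Agent.S0789
import Cfsg.Agent.S0831
import Cfsg.Agent.S2628

set_option autoImplicit false
open Cfsg

namespace Cfsg.Agent.S2630

open Matrix
open scoped commutatorElement
open Cfsg.Agent.S5754 (rfl0 rfl0_apply rfl0_invol rfl0_iso)
open Cfsg.Agent.S0792 (app app_cons Q_add')
open Cfsg.Agent.S0786 (appL appL_apply app_Q app_append app_rev)
open Cfsg.Agent.S2628 (mem_iso_iff exists_invol)

section gen
variable {F : Type*} [Field F] {ι : Type} [Fintype ι] [DecidableEq ι]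
  (Q : QuadraticForm F (ι → F))

/-- `g` acts as the product of the reflections in the list `l` -/
def Act (g : ↥(Cfsg.isometryGroup F ⇑Q)) (l : List (ι → F)) : Prop :=
  ∀ x, ((g : Matrix.GeneralLinearGroup ι F) : Matrix ι ι F) *ᵥ x = app Q l x

theorem act_one : Act Q 1 [] := fun x => by
  show (1 : Matrix ι ι F) *ᵥ x = x
  rw [Matrix.one_mulVec]

theorem act_mul (g h : ↥(Cfsg.isometryGroup F ⇑Q)) (l₁ l₂ : List (ι → F)) (hg : Act Q g l₁)
    (hh : Act Q h l₂) : Act Q (g * h) (l₁ ++ l₂) := fun x => by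
  rw [Subgroup.coe_mul, Units.val_mul, ← Matrix.mulVec_mulVec, hh x, hg (app Q l₂ x), app_append]

theorem act_inv (g : ↥(Cfsg.isometryGroup F ⇑Q)) (l : List (ι → F)) (hl : ∀ d ∈ l, Q d ≠ 0)
    (hg : Act Q g l) : Act Q g⁻¹ l.reverse := fun x => by
  have h1 : app Q l (app Q l.reverse x) = x := by
    have h3 := app_rev Q l.reverse (fun d hd => hl d (List.mem_reverse.1 hd)) x
    rwa [List.reverse_reverse] at h3
  have h2 : (((g⁻¹ : ↥(Cfsg.isometryGroup F ⇑Q)) : Matrix.GeneralLinearGroup ι F) : Matrix ι ι F) *ᵥ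
      (((g : Matrix.GeneralLinearGroup ι F) : Matrix ι ι F) *ᵥ (app Q l.reverse x)) =
      app Q l.reverse x := by
    rw [Matrix.mulVec_mulVec, ← Units.val_mul, ← Subgroup.coe_mul, inv_mul_cancel]
    show (1 : Matrix ι ι F) *ᵥ _ = _
    rw [Matrix.one_mulVec]
  rw [hg (app Q l.reverse x), h1] at h2
  exact h2

theorem act_list (h2 : (2 : F) = 0) (hQ : (QuadraticMap.polarBilin Q).Nondegenerate)
    (hc : (∃ s : F, s ≠ 0 ∧ s ≠ 1) ∨ Module.finrank F (ι → F) ≠ 4)
    (g : ↥(Cfsg.isometryGroup F ⇑Q)) : ∃ l : List (ι → F), (∀ d ∈ l, Q d ≠ 0) ∧ Act Q g l := by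
  have hiso := (mem_iso_iff ⇑Q g.1).1 g.2
  obtain ⟨l, hl1, hl2⟩ := Cfsg.Agent.S0786.cd2 Q h2 hQ hc
    (Matrix.toLin' ((g : Matrix.GeneralLinearGroup ι F) : Matrix ι ι F))
    (fun v => by rw [Matrix.toLin'_apply]; exact hiso v)
  exact ⟨l, hl1, fun x => by rw [← hl2 x, Matrix.toLin'_apply]⟩

theorem exists_iso_gen (e : (ι → F) ≃ₗ[F] (ι → F)) (he : ∀ x, Q (e x) = Q x) :
    ∃ h : ↥(Cfsg.isometryGroup F ⇑Q),
      ∀ x, ((h : Matrix.GeneralLinearGroup ι F) : Matrix ι ι F) *ᵥ x = e x := by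
  have h1 : LinearMap.toMatrix' e.toLinearMap * LinearMap.toMatrix' e.symm.toLinearMap = 1 := by
    rw [← LinearMap.toMatrix'_comp]; simp
  have h2 : LinearMap.toMatrix' e.symm.toLinearMap * LinearMap.toMatrix' e.toLinearMap = 1 := by
    rw [← LinearMap.toMatrix'_comp]; simp
  refine ⟨⟨⟨LinearMap.toMatrix' e.toLinearMap, LinearMap.toMatrix' e.symm.toLinearMap, h1, h2⟩,
    ?_⟩, ?_⟩
  · rw [mem_iso_iff]
    intro u
    show Q (LinearMap.toMatrix' e.toLinearMap *ᵥ u) = Q u
    rw [LinearMap.toMatrix'_mulVec]; exact he u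
  · intro x
    show LinearMap.toMatrix' e.toLinearMap *ᵥ x = e x
    rw [LinearMap.toMatrix'_mulVec]; rfl

theorem pair_gen [Finite F] [CharP F 2] (hQ : (QuadraticMap.polarBilin Q).Nondegenerate)
    (a b : ι → F) (ha : Q a ≠ 0) (hb : Q b ≠ 0) (ta tb : ↥(Cfsg.isometryGroup F ⇑Q))
    (hta : Act Q ta [a]) (htb : Act Q tb [b]) (hta2 : ta * ta = 1) :
    ta * tb ∈ commutator ↥(Cfsg.isometryGroup F ⇑Q) := by
  obtain ⟨c, hc⟩ := FiniteField.isSquare_of_char_two (ringChar.eq F 2) (Q a / Q b)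
  have hc0 : c ≠ 0 := by
    rintro rfl
    rw [mul_zero] at hc
    exact div_ne_zero ha hb hc
  have hQc : Q (c • b) = Q a := by
    rw [QuadraticMap.map_smul, smul_eq_mul, ← hc]; field_simp
  have ha0 : a ≠ 0 := by
    rintro rfl
    exact ha (QuadraticMap.map_zero Q)
  have hb0 : b ≠ 0 := by
    rintro rfl
    exact hb (QuadraticMap.map_zero Q)
  obtain ⟨i, hi⟩ : ∃ i, a i ≠ 0 := by
    by_contra hcon
    push Not at hcon
    exact ha0 (funext hcon)
  obtain ⟨f, hf⟩ : ∃ f : (ι → F) →ₗ[F] (ι → F), ∀ x, f x = ((a i)⁻¹ * x i) • (c • b) :=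
    ⟨((a i)⁻¹ • LinearMap.proj i).smulRight (c • b), fun x => by simp⟩
  have hfa : ∀ s : F, f (s • a) = s • (c • b) := by
    intro s
    rw [hf, Pi.smul_apply, smul_eq_mul]
    congr 1
    field_simp
  obtain ⟨g, hg1, hg2⟩ := Cfsg.Agent.S0750.main Q hQ (Module.finrank F (Submodule.span F {a}))
    (Submodule.span F {a}) f le_rfl
    (fun x hx hfx => by
      obtain ⟨s, rfl⟩ := Submodule.mem_span_singleton.1 hx
      rw [hfa] at hfx
      have hs : s = 0 := by
        rcases smul_eq_zero.1 hfx with h | h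
        · exact h
        · exact absurd h (smul_ne_zero hc0 hb0)
      rw [hs, zero_smul])
    (fun x hx => by
      obtain ⟨s, rfl⟩ := Submodule.mem_span_singleton.1 hx
      rw [hfa, QuadraticMap.map_smul Q s (c • b), QuadraticMap.map_smul Q s a, hQc])
  have hga : g a = c • b := by
    have h1 := hg2 a (Submodule.mem_span_singleton_self a)
    rw [h1]
    have h3 := hfa 1
    rwa [one_smul, one_smul] at h3
  obtain ⟨h, hh⟩ := exists_iso_gen Q g hg1
  have hconj : h * ta = tb * h := by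
    apply Subtype.ext
    apply Units.ext
    rw [Subgroup.coe_mul, Units.val_mul, Subgroup.coe_mul, Units.val_mul]
    apply Cfsg.Agent.Lib.Helper5.matrix_ext_mulVec
    intro x
    rw [← Matrix.mulVec_mulVec, ← Matrix.mulVec_mulVec, hta x,
      htb (((h : Matrix.GeneralLinearGroup ι F) : Matrix ι ι F) *ᵥ x), hh, hh]
    show g (rfl0 Q a x) = rfl0 Q b (g x)
    rw [rfl0_apply, rfl0_apply, map_sub, map_smul, hga]
    have hpol : QuadraticMap.polar Q (g a) (g x) = QuadraticMap.polar Q a x := by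
      unfold QuadraticMap.polar
      rw [← map_add, hg1, hg1, hg1]
    rw [hga, QuadraticMap.polar_smul_left, smul_eq_mul] at hpol
    rw [smul_smul]
    congr 2
    rw [← hpol, ← hQc, QuadraticMap.map_smul, smul_eq_mul]
    field_simp
  rw [Cfsg.Agent.S2635.comm_of_conj ta tb h hta2 hconj]
  exact Subgroup.commutator_mem_commutator (Subgroup.mem_top ta) (Subgroup.mem_top h)

theorem even_mem_gen [Finite F] [CharP F 2] (hQ : (QuadraticMap.polarBilin Q).Nondegenerate) :
    ∀ (k : ℕ) (l : List (ι → F)), l.length = 2 * k → (∀ d ∈ l, Q d ≠ 0) →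
    ∀ g : ↥(Cfsg.isometryGroup F ⇑Q), Act Q g l → g ∈ commutator ↥(Cfsg.isometryGroup F ⇑Q) := by
  intro k
  induction k with
  | zero =>
    intro l hl _ g hg
    have hnil : l = [] := List.length_eq_zero_iff.1 (by omega)
    subst hnil
    have h1 : g = 1 := by
      apply Subtype.ext
      apply Units.ext
      show ((g : Matrix.GeneralLinearGroup ι F) : Matrix ι ι F) = 1
      apply Cfsg.Agent.Lib.Helper5.matrix_ext_mulVec
      intro x
      rw [hg x, Matrix.one_mulVec]; rfl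
    rw [h1]; exact Subgroup.one_mem _
  | succ k ih =>
    intro l hl hQl g hg
    match l, hl, hQl, hg with
    | [], hl, _, _ => simp at hl
    | [a], hl, _, _ => simp at hl; omega
    | a :: b :: l', hl, hQl, hg =>
      have ha := hQl a List.mem_cons_self
      have hb := hQl b (List.mem_cons_of_mem _ List.mem_cons_self)
      obtain ⟨ta, hta2, hta⟩ := exists_invol ⇑Q (rfl0 Q a) (rfl0_invol Q a ha) (rfl0_iso Q a ha)
      obtain ⟨tb, htb2, htb⟩ := exists_invol ⇑Q (rfl0 Q b) (rfl0_invol Q b hb) (rfl0_iso Q b hb)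
      have hg' : Act Q (tb * ta * g) l' := fun x => by
        rw [Subgroup.coe_mul, Units.val_mul, Subgroup.coe_mul, Units.val_mul,
          ← Matrix.mulVec_mulVec, ← Matrix.mulVec_mulVec, hg x, hta, htb]
        show rfl0 Q b (rfl0 Q a (rfl0 Q a (rfl0 Q b (app Q l' x)))) = app Q l' x
        rw [rfl0_invol Q a ha, rfl0_invol Q b hb]
      have h1 := ih l' (by simp at hl; omega)
        (fun d hd => hQl d (List.mem_cons_of_mem _ (List.mem_cons_of_mem _ hd))) _ hg'
      have h2 := pair_gen Q hQ a b ha hb ta tb (fun x => hta x) (fun x => htb x) hta2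
      have e : g = ta * tb * (tb * ta * g) := by
        rw [← mul_assoc, ← mul_assoc, mul_assoc ta tb tb, htb2, mul_one, hta2, one_mul]
      rw [e]
      exact Subgroup.mul_mem _ h2 h1

theorem comm_even (h2 : (2 : F) = 0) (hQ : (QuadraticMap.polarBilin Q).Nondegenerate)
    (hc : (∃ s : F, s ≠ 0 ∧ s ≠ 1) ∨ Module.finrank F (ι → F) ≠ 4)
    (g : ↥(Cfsg.isometryGroup F ⇑Q)) (hg : g ∈ commutator ↥(Cfsg.isometryGroup F ⇑Q)) :
    ∃ l : List (ι → F), (∀ d ∈ l, Q d ≠ 0) ∧ l.length % 2 = 0 ∧ Act Q g l := by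
  rw [commutator_eq_closure] at hg
  induction hg using Subgroup.closure_induction with
  | mem x hx =>
    obtain ⟨a, b, rfl⟩ := hx
    obtain ⟨l₁, h₁, ha⟩ := act_list Q h2 hQ hc a
    obtain ⟨l₂, h₂, hb⟩ := act_list Q h2 hQ hc b
    refine ⟨l₁ ++ l₂ ++ l₁.reverse ++ l₂.reverse, ?_, ?_, ?_⟩
    · intro d hd
      simp only [List.mem_append, List.mem_reverse] at hd
      rcases hd with ((h | h) | h) | h
      · exact h₁ d h
      · exact h₂ d h
      · exact h₁ d h
      · exact h₂ d h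
    · simp only [List.length_append, List.length_reverse]; omega
    · rw [commutatorElement_def]
      exact act_mul Q _ _ _ _ (act_mul Q _ _ _ _ (act_mul Q _ _ _ _ ha hb)
        (act_inv Q a l₁ h₁ ha)) (act_inv Q b l₂ h₂ hb)
  | one => exact ⟨[], by simp, by simp, act_one Q⟩
  | mul x y _ _ ihx ihy =>
    obtain ⟨l₁, h₁, p₁, a₁⟩ := ihx
    obtain ⟨l₂, h₂, p₂, a₂⟩ := ihy
    refine ⟨l₁ ++ l₂, ?_, ?_, act_mul Q _ _ _ _ a₁ a₂⟩
    · intro d hd
      rcases List.mem_append.1 hd with h | h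
      · exact h₁ d h
      · exact h₂ d h
    · rw [List.length_append]; omega
  | inv x _ ihx =>
    obtain ⟨l₁, h₁, p₁, a₁⟩ := ihx
    exact ⟨l₁.reverse, fun d hd => h₁ d (List.mem_reverse.1 hd), by
      rw [List.length_reverse]; exact p₁, act_inv Q x l₁ h₁ a₁⟩

theorem odd_not_mem (h2 : (2 : F) = 0) (hQ : (QuadraticMap.polarBilin Q).Nondegenerate)
    (hc : (∃ s : F, s ≠ 0 ∧ s ≠ 1) ∨ Module.finrank F (ι → F) ≠ 4)
    (g : ↥(Cfsg.isometryGroup F ⇑Q)) (l : List (ι → F)) (hl : ∀ d ∈ l, Q d ≠ 0)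
    (hodd : l.length % 2 = 1) (hg : Act Q g l) :
    g ∉ commutator ↥(Cfsg.isometryGroup F ⇑Q) := by
  intro hmem
  obtain ⟨l', hl', hp, hg'⟩ := comm_even Q h2 hQ hc g hmem
  have e : appL Q l = appL Q l' := by
    apply LinearMap.ext
    intro x
    rw [appL_apply, appL_apply, ← hg x, ← hg' x]
  have p1 := Cfsg.Agent.S0789.parity Q hQ l hl
  have p2 := Cfsg.Agent.S0789.parity Q hQ l' hl'
  rw [e] at p1
  omega

end gen

section abs
variable {F V : Type*} [Field F] [AddCommGroup V] [Module F V] [FiniteDimensional F V]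
  (Q : QuadraticForm F V)

theorem setup_of (hQ : (QuadraticMap.polarBilin Q).Nondegenerate) (m : ℕ)
    (hV : Module.finrank F V = 2 * m) :
    Cfsg.Agent.S0831.Setup (⇑Q) (QuadraticMap.polarBilin Q) m :=
  ⟨fun u v => Q_add' Q u v, fun a v => by rw [QuadraticMap.map_smul, smul_eq_mul], hQ,
    ⟨fun u v => QuadraticMap.polar_comm (⇑Q) u v⟩, hV⟩

theorem refl_adj (hQ : (QuadraticMap.polarBilin Q).Nondegenerate) (m : ℕ)
    (hV : Module.finrank F V = 2 * m) (W : Submodule F V) (hWf : Module.finrank F W = m)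
    (hW : ∀ x ∈ W, Q x = 0) (d : V) (hd : Q d ≠ 0) :
    Module.finrank F ↥(W ⊓ W.map (rfl0 Q d)) + 1 = m := by
  have hset := setup_of Q hQ m hV
  obtain ⟨x₁, hx₁W, hx₁⟩ : ∃ x₁ ∈ W, QuadraticMap.polar Q d x₁ ≠ 0 := by
    by_contra hcon
    push Not at hcon
    have hdW : d ∈ W := by
      rw [← Cfsg.Agent.S0831.mts_perp hset hWf hW]
      intro x hx
      show QuadraticMap.polar Q x d = 0
      rw [QuadraticMap.polar_comm (⇑Q) x d]; exact hcon x hx
    exact hd (hW d hdW)
  obtain ⟨H, hH⟩ : ∃ H : Submodule F V, ∀ x, x ∈ H ↔ x ∈ W ∧ QuadraticMap.polar Q d x = 0 :=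
    ⟨W ⊓ LinearMap.ker (QuadraticMap.polarBilin Q d), fun x => Iff.rfl⟩
  have h1 : Module.finrank F W = Module.finrank F H + 1 := by
    refine Cfsg.Agent.S0789.finrank_add_one H W x₁ (fun x hx => ((hH x).1 hx).1) hx₁W
      (fun h => hx₁ ((hH x₁).1 h).2) ?_
    intro x hx
    refine ⟨QuadraticMap.polar Q d x / QuadraticMap.polar Q d x₁, ?_⟩
    rw [hH]
    refine ⟨W.sub_mem hx (W.smul_mem _ hx₁W), ?_⟩
    rw [QuadraticMap.polar_sub_right, QuadraticMap.polar_smul_right, smul_eq_mul]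
    field_simp
    ring
  have h2 : H ≤ W ⊓ W.map (rfl0 Q d) := by
    intro x hx
    obtain ⟨hxW, hx0⟩ := (hH x).1 hx
    refine Submodule.mem_inf.2 ⟨hxW, Submodule.mem_map.2 ⟨x, hxW, ?_⟩⟩
    rw [rfl0_apply, hx0, mul_zero, zero_smul, sub_zero]
  have h3 : W ⊓ W.map (rfl0 Q d) < W := by
    refine lt_of_le_of_ne inf_le_left ?_
    intro heq
    have hx₁' : x₁ ∈ W.map (rfl0 Q d) := by
      have h4 : x₁ ∈ W ⊓ W.map (rfl0 Q d) := by rw [heq]; exact hx₁W
      exact (Submodule.mem_inf.1 h4).2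
    obtain ⟨w, hw, hwx⟩ := Submodule.mem_map.1 hx₁'
    rw [rfl0_apply] at hwx
    by_cases hc : (Q d)⁻¹ * QuadraticMap.polar Q d w = 0
    · rw [hc, zero_smul, sub_zero] at hwx
      rw [hwx] at hc
      exact mul_ne_zero (inv_ne_zero hd) hx₁ hc
    · apply hd
      apply hW
      have h4 : ((Q d)⁻¹ * QuadraticMap.polar Q d w) • d ∈ W := by
        have h5 : ((Q d)⁻¹ * QuadraticMap.polar Q d w) • d = w - x₁ := by rw [← hwx]; abel
        rw [h5]; exact W.sub_mem hw hx₁W
      have h5 := W.smul_mem ((Q d)⁻¹ * QuadraticMap.polar Q d w)⁻¹ h4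
      rwa [smul_smul, inv_mul_cancel₀ hc, one_smul] at h5
  have h4 := Submodule.finrank_mono h2
  have h5 := Submodule.finrank_lt_finrank_of_lt h3
  omega

theorem class_parity (hQ : (QuadraticMap.polarBilin Q).Nondegenerate) (m : ℕ)
    (hV : Module.finrank F V = 2 * m) (U : Submodule F V) (hUf : Module.finrank F U = m)
    (hU : ∀ x ∈ U, Q x = 0) (l : List V) (hl : ∀ d ∈ l, Q d ≠ 0) :
    (Module.finrank F ↥(U ⊓ U.map (appL Q l)) + l.length) % 2 = m % 2 ∧
    Module.finrank F ↥(U.map (appL Q l)) = m ∧ (∀ x ∈ U.map (appL Q l), Q x = 0) := by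
  induction l with
  | nil =>
    have e : U.map (appL Q ([] : List V)) = U := by
      show U.map LinearMap.id = U
      exact Submodule.map_id U
    rw [e, inf_idem, hUf]
    exact ⟨rfl, rfl, hU⟩
  | cons d l ih =>
    have hd := hl d List.mem_cons_self
    obtain ⟨ih1, ih2, ih3⟩ := ih (fun d' hd' => hl d' (List.mem_cons_of_mem _ hd'))
    have e : U.map (appL Q (d :: l)) = (U.map (appL Q l)).map (rfl0 Q d) := by
      show U.map ((rfl0 Q d).comp (appL Q l)) = _
      rw [Submodule.map_comp]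
    obtain ⟨W, hWdef⟩ : ∃ W, W = U.map (appL Q l) := ⟨_, rfl⟩
    rw [e, ← hWdef]
    rw [← hWdef] at ih1 ih2 ih3
    have hinj : Function.Injective (rfl0 Q d) := (rfl0_invol Q d hd).injective
    have hf : Module.finrank F ↥(W.map (rfl0 Q d)) = m := by
      rw [← ih2]; exact (Submodule.equivMapOfInjective (rfl0 Q d) hinj W).finrank_eq.symm
    have hts : ∀ x ∈ W.map (rfl0 Q d), Q x = 0 := by
      intro x hx
      obtain ⟨w, hw, rfl⟩ := Submodule.mem_map.1 hx
      rw [rfl0_iso Q d hd]; exact ih3 w hw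
    refine ⟨?_, hf, hts⟩
    have hadj := refl_adj Q hQ m hV W ih2 ih3 d hd
    have hset := setup_of Q hQ m hV
    have h3 := Cfsg.Agent.S0831.adj hset ih2 ih3 hf hts hUf hU hadj
    rw [inf_comm W U, inf_comm (W.map (rfl0 Q d)) U] at h3
    rw [List.length_cons]
    omega

end abs

/-- For the hyperbolic form Σ x_i y_i on F^(2m) over a finite field of characteristic two (m ≥ 1, excluding m = 2 over the field of two elements), an isometry g preserves the class of the maximal totally singular subspace U₀ = {y = 0} (m − dim(U₀ ∩ gU₀) even) if and only if g lies in Ω (the commutator subgroup of the orthogonal group): the stabiliser of each class is Ω. -/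
theorem result {F : Type*} [Field F] [Fintype F] [CharP F 2] {m : ℕ} (hm : 1 ≤ m) (h : Fintype.card F ≠ 2 ∨ m ≠ 2) (g : ↥(Cfsg.isometryGroup F (Cfsg.quadFormPlus m F))) : Even (m - Module.finrank F ↥(LinearMap.ker (LinearMap.funLeft F F (Sum.inr : Fin m → Fin m ⊕ Fin m)) ⊓ (LinearMap.ker (LinearMap.funLeft F F (Sum.inr : Fin m → Fin m ⊕ Fin m))).map (Matrix.mulVecLin ((g : Matrix.GeneralLinearGroup (Fin m ⊕ Fin m) F) : Matrix (Fin m ⊕ Fin m) (Fin m ⊕ Fin m) F)))) ↔ g ∈ Cfsg.Omega F (Cfsg.quadFormPlus m F) := by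
  classical
  have h2 : (2 : F) = 0 := by
    have h3 := CharP.cast_eq_zero F 2
    exact_mod_cast h3
  have hV : Module.finrank F (Fin m ⊕ Fin m → F) = 2 * m := by
    rw [Module.finrank_fintype_fun_eq_card, Fintype.card_sum, Fintype.card_fin]; ring
  have hset : Cfsg.Agent.S0831.Setup (Cfsg.quadFormPlus m F) (Cfsg.Agent.S0832.Bp m F) m := by
    refine ⟨?_, ?_, Cfsg.Agent.S0832.Bp_nondeg m, Cfsg.Agent.S0832.Bp_symm m, hV⟩
    · intro u v
      rw [Cfsg.Agent.S0832.Bp_apply]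
      simp only [Cfsg.quadFormPlus, ← Finset.sum_add_distrib]
      exact Finset.sum_congr rfl (fun i _ => by simp only [Pi.add_apply]; ring)
    · intro a v
      simp only [Cfsg.quadFormPlus, Finset.mul_sum]
      exact Finset.sum_congr rfl (fun i _ => by simp only [Pi.smul_apply, smul_eq_mul]; ring)
  have hpol : ∀ x y, QuadraticMap.polar (Cfsg.quadFormPlus m F) x y =
      Cfsg.Agent.S0832.Bp m F x y := fun x y => by
    unfold QuadraticMap.polar
    rw [hset.hQB]; ring
  obtain ⟨Qp, hQp⟩ : ∃ Qp : QuadraticForm F (Fin m ⊕ Fin m → F),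
      ⇑Qp = Cfsg.quadFormPlus m F :=
    ⟨QuadraticMap.ofPolar (Cfsg.quadFormPlus m F)
      (fun a x => by rw [hset.hQs, smul_eq_mul])
      (fun x x' y => by rw [hpol, hpol, hpol, map_add, LinearMap.add_apply])
      (fun a x y => by rw [hpol, hpol, map_smul, LinearMap.smul_apply]), rfl⟩
  have hQpnd : (QuadraticMap.polarBilin Qp).Nondegenerate := by
    have e : QuadraticMap.polarBilin Qp = Cfsg.Agent.S0832.Bp m F := LinearMap.ext₂ (fun x y => by
      show QuadraticMap.polar (⇑Qp) x y = _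
      rw [hQp]; exact hpol x y)
    rw [e]; exact Cfsg.Agent.S0832.Bp_nondeg m
  obtain ⟨U₀, hU₀def⟩ : ∃ U₀ : Submodule F (Fin m ⊕ Fin m → F),
      U₀ = LinearMap.ker (LinearMap.funLeft F F (Sum.inr : Fin m → Fin m ⊕ Fin m)) := ⟨_, rfl⟩
  have hπa : ∀ (v : Fin m ⊕ Fin m → F) (i : Fin m),
      (LinearMap.funLeft F F (Sum.inr : Fin m → Fin m ⊕ Fin m)) v i = v (Sum.inr i) :=
    fun v i => rfl
  have hsurj : LinearMap.range (LinearMap.funLeft F F (Sum.inr : Fin m → Fin m ⊕ Fin m)) = ⊤ := by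
    rw [LinearMap.range_eq_top]
    intro x
    exact ⟨Sum.elim 0 x, by funext i; rfl⟩
  have hU₀f : Module.finrank F U₀ = m := by
    have h3 := LinearMap.finrank_range_add_finrank_ker
      (LinearMap.funLeft F F (Sum.inr : Fin m → Fin m ⊕ Fin m))
    rw [hsurj, finrank_top, Module.finrank_fintype_fun_eq_card, Fintype.card_fin, hV,
      ← hU₀def] at h3
    omega
  have hU₀ : ∀ x ∈ U₀, Qp x = 0 := by
    intro w hw
    rw [hU₀def, LinearMap.mem_ker] at hw
    rw [hQp]
    simp only [Cfsg.quadFormPlus]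
    apply Finset.sum_eq_zero
    intro i _
    have h3 := congrFun hw i
    rw [hπa] at h3
    rw [h3]; simp
  rw [← hU₀def]
  revert g
  rw [← hQp]
  intro g
  have hc : (∃ s : F, s ≠ 0 ∧ s ≠ 1) ∨ Module.finrank F (Fin m ⊕ Fin m → F) ≠ 4 := by
    rcases h with h | h
    · left
      by_contra hcon
      push Not at hcon
      apply h
      have huniv : (Finset.univ : Finset F) = {0, 1} := by
        ext s
        simp only [Finset.mem_univ, Finset.mem_insert, Finset.mem_singleton, true_iff]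
        by_cases hs : s = 0
        · exact Or.inl hs
        · exact Or.inr (hcon s hs)
      rw [← Finset.card_univ, huniv, Finset.card_pair zero_ne_one]
    · right
      rw [hV]; omega
  obtain ⟨l, hl, hact⟩ := act_list Qp h2 hQpnd hc g
  have hmap : Matrix.mulVecLin ((g : Matrix.GeneralLinearGroup (Fin m ⊕ Fin m) F) :
      Matrix (Fin m ⊕ Fin m) (Fin m ⊕ Fin m) F) = appL Qp l := by
    apply LinearMap.ext
    intro x
    rw [Matrix.mulVecLin_apply, hact x, appL_apply]
  rw [hmap]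
  obtain ⟨hp, -, -⟩ := class_parity Qp hQpnd m hV U₀ hU₀f hU₀ l hl
  have hle : Module.finrank F ↥(U₀ ⊓ U₀.map (appL Qp l)) ≤ m := by
    have h3 := Submodule.finrank_mono (inf_le_left : U₀ ⊓ U₀.map (appL Qp l) ≤ U₀)
    omega
  obtain ⟨k, hk | hk⟩ := Nat.even_or_odd' l.length
  · constructor
    · intro _
      exact even_mem_gen Qp hQpnd k l hk hl g hact
    · intro _
      rw [Nat.even_iff]; omega
  · constructor
    · intro he
      exfalso
      rw [Nat.even_iff] at he
      omega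
    · intro hmem
      exact absurd hmem (odd_not_mem Qp h2 hQpnd hc g l hl (by omega) hact)

end Cfsg.Agent.S2630
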