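import Mathlib
import Cfsg.Statements.S2169
import Cfsg.Agent.S2630

set_option autoImplicit false
open Cfsg

namespace Cfsg.Agent.S2169

open Matrix
open Cfsg.Agent.S0792 (app)
open Cfsg.Agent.S0786 (appL appL_apply)
open Cfsg.Agent.S2630 (Act act_list even_mem_gen odd_not_mem)

theorem exists_Qp {F : Type*} [Field F] (m : ℕ) :
    ∃ Qp : QuadraticForm F (Fin m ⊕ Fin m → F),
      ⇑Qp = Cfsg.quadFormPlus m F ∧ (QuadraticMap.polarBilin Qp).Nondegenerate := by
  classical
  have hV : Module.finrank F (Fin m ⊕ Fin m → F) = 2 * m := by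
    rw [Module.finrank_fintype_fun_eq_card, Fintype.card_sum, Fintype.card_fin]; ring
  have hset : Cfsg.Agent.S0831.Setup (Cfsg.quadFormPlus m F) (Cfsg.Agent.S0832.Bp m F) m := by
    refine ⟨?_, ?_, Cfsg.Agent.S0832.Bp_nondeg m, Cfsg.Agent.S0832.Bp_symm m, hV⟩
    · intro u v
      rw [Cfsg.Agent.S0832.Bp_apply]
      simp only [Cfsg.quadFormPlus, ← Finset.sum_add_distrib]
      exact Finset.sum_congr rfl (fun i _ => by simp only [Pi.add_apply]; ring)
    · intro a v
      simp only [Cfsg.quadFormPlus, Finset.mul_sum]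
      exact Finset.sum_congr rfl (fun i _ => by simp only [Pi.smul_apply, smul_eq_mul]; ring)
  have hpol : ∀ x y, QuadraticMap.polar (Cfsg.quadFormPlus m F) x y =
      Cfsg.Agent.S0832.Bp m F x y := fun x y => by
    unfold QuadraticMap.polar
    rw [hset.hQB]; ring
  obtain ⟨Qp, hQp⟩ : ∃ Qp : QuadraticForm F (Fin m ⊕ Fin m → F),
      ⇑Qp = Cfsg.quadFormPlus m F :=
    ⟨QuadraticMap.ofPolar (Cfsg.quadFormPlus m F)
      (fun a x => by rw [hset.hQs, smul_eq_mul])
      (fun x x' y => by rw [hpol, hpol, hpol, map_add, LinearMap.add_apply])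
      (fun a x y => by rw [hpol, hpol, map_smul, LinearMap.smul_apply]), rfl⟩
  have hQpnd : (QuadraticMap.polarBilin Qp).Nondegenerate := by
    have e : QuadraticMap.polarBilin Qp = Cfsg.Agent.S0832.Bp m F := LinearMap.ext₂ (fun x y => by
      show QuadraticMap.polar (⇑Qp) x y = _
      rw [hQp]; exact hpol x y)
    rw [e]; exact Cfsg.Agent.S0832.Bp_nondeg m
  exact ⟨Qp, hQp, hQpnd⟩

/-- characteristic 2, even dimension: `g ∈ Ω` iff `g - 1` has even rank -/
theorem omega_iff_rank {F : Type*} [Field F] [Finite F] [CharP F 2] {ι : Type} [Fintype ι]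
    [DecidableEq ι] (Q : QuadraticForm F (ι → F)) (hQ : (QuadraticMap.polarBilin Q).Nondegenerate)
    (hc : (∃ s : F, s ≠ 0 ∧ s ≠ 1) ∨ Module.finrank F (ι → F) ≠ 4)
    (hev : Module.finrank F (ι → F) % 2 = 0) (g : ↥(Cfsg.isometryGroup F ⇑Q)) :
    g ∈ Cfsg.Omega F ⇑Q ↔
      Even ((((g : Matrix.GeneralLinearGroup ι F) : Matrix ι ι F) - 1).rank) := by
  have h2 : (2 : F) = 0 := by
    have h3 := CharP.cast_eq_zero F 2
    exact_mod_cast h3
  obtain ⟨l, hl, hact⟩ := act_list Q h2 hQ hc g
  have hp := Cfsg.Agent.S0789.parity Q hQ l hl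
  have hlin : (((g : Matrix.GeneralLinearGroup ι F) : Matrix ι ι F) - 1).mulVecLin =
      appL Q l - LinearMap.id := by
    apply LinearMap.ext
    intro x
    rw [Matrix.mulVecLin_apply, Matrix.sub_mulVec, Matrix.one_mulVec, hact x, LinearMap.sub_apply,
      LinearMap.id_apply, appL_apply]
  have h3 := LinearMap.finrank_range_add_finrank_ker (appL Q l - LinearMap.id)
  have e1 : (((g : Matrix.GeneralLinearGroup ι F) : Matrix ι ι F) - 1).rank =
      Module.finrank F (LinearMap.range (appL Q l - LinearMap.id)) := by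
    rw [← hlin]; rfl
  have e2 : Module.finrank F (Cfsg.Agent.S0789.fixS (appL Q l)) =
      Module.finrank F (LinearMap.ker (appL Q l - LinearMap.id)) := rfl
  obtain ⟨k, hk | hk⟩ := Nat.even_or_odd' l.length
  · constructor
    · intro _
      rw [Nat.even_iff]; omega
    · intro _
      exact even_mem_gen Q hQ k l hk hl g hact
  · constructor
    · intro hmem
      exact absurd hmem (odd_not_mem Q h2 hQ hc g l hl (by omega) hact)
    · intro he
      exfalso
      rw [Nat.even_iff] at he
      omega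

/-- For the hyperbolic quadratic form Σ x_i y_i in dimension 2m over a finite field F of characteristic two, m ≥ 4 (plus type): an element of order 2 of the full isometry group O lies in the commutator subgroup Ω of O exactly when t − 1 has even rank. -/
theorem result {F : Type*} [Field F] [Fintype F] [CharP F 2] {m : ℕ} (hm : 4 ≤ m) (t : ↥(Cfsg.isometryGroup F (Cfsg.quadFormPlus m F))) (ht : orderOf t = 2) :
    t ∈ Cfsg.Omega F (Cfsg.quadFormPlus m F) ↔ Even ((((t : ↥(Cfsg.isometryGroup F (Cfsg.quadFormPlus m F))) : GL (Fin m ⊕ Fin m) F) : Matrix (Fin m ⊕ Fin m) (Fin m ⊕ Fin m) F) - 1).rank := by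
  classical
  obtain ⟨Qp, hQp, hQpnd⟩ := exists_Qp (F := F) m
  have hV : Module.finrank F (Fin m ⊕ Fin m → F) = 2 * m := by
    rw [Module.finrank_fintype_fun_eq_card, Fintype.card_sum, Fintype.card_fin]; ring
  revert t
  rw [← hQp]
  intro t _
  exact omega_iff_rank Qp hQpnd (Or.inr (by rw [hV]; omega)) (by rw [hV]; omega) t

end Cfsg.Agent.S2169
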