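import Mathlib
import Cfsg.Statements.S2631
import Cfsg.Agent.S2630
import Cfsg.Agent.S2169
import Cfsg.Agent.Lib.Helper5.QSpace

set_option autoImplicit false
open Cfsg

namespace Cfsg.Agent.S2631

open Matrix
open scoped commutatorElement
open Cfsg.Agent.S5754 (rfl0 rfl0_apply rfl0_invol rfl0_iso)
open Cfsg.Agent.S0792 (app app_cons Q_add')
open Cfsg.Agent.S0786 (appL appL_apply)
open Cfsg.Agent.S2628 (mem_iso_iff exists_invol)
open Cfsg.Agent.S2630 (Act act_one act_mul act_list exists_iso_gen even_mem_gen class_parity)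

theorem cg {A : Type*} [CommGroup A] (p q x y z : A) (hp : p * p = 1) (hq : q * q = 1)
    (hx : x = p ∨ x = q) (hy : y = p ∨ y = q) (hz : z = 1 ∨ z = p * q) :
    x * y * z = 1 ∨ x * y * z = p * q := by
  rcases hx with rfl | rfl <;> rcases hy with rfl | rfl <;> rcases hz with rfl | rfl
  · left; rw [mul_one, hp]
  · right; rw [hp, one_mul]
  · right; rw [mul_one]
  · left; rw [mul_mul_mul_comm, hp, hq, one_mul]
  · right; rw [mul_one, mul_comm]
  · left; rw [mul_comm y x, mul_mul_mul_comm, hp, hq, one_mul]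
  · left; rw [mul_one, hq]
  · right; rw [hq, one_mul]

theorem sq_dich {F : Type*} [Field F] [Fintype F] (ν : F) (hν : ¬ IsSquare ν) (x : F)
    (hx : x ≠ 0) : IsSquare x ∨ IsSquare (x * ν) := by
  classical
  by_cases h : IsSquare x
  · exact Or.inl h
  · right
    have hν0 : ν ≠ 0 := by
      rintro rfl
      exact hν ⟨0, by simp⟩
    rw [← quadraticChar_one_iff_isSquare (mul_ne_zero hx hν0), map_mul,
      quadraticChar_neg_one_iff_not_isSquare.2 h, quadraticChar_neg_one_iff_not_isSquare.2 hν]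
    norm_num

section gen
variable {F : Type*} [Field F] [Fintype F] {ι : Type} [Fintype ι] [DecidableEq ι]
  (Q : QuadraticForm F (ι → F))

theorem witt_sub (hQ : (QuadraticMap.polarBilin Q).Nondegenerate) (m : ℕ)
    (U W : Submodule F (ι → F)) (hU : Module.finrank F U = m) (hW : Module.finrank F W = m)
    (hU0 : ∀ u ∈ U, Q u = 0) (hW0 : ∀ w ∈ W, Q w = 0) :
    ∃ g : ↥(Cfsg.isometryGroup F ⇑Q),
      U.map (Matrix.mulVecLin ((g : Matrix.GeneralLinearGroup ι F) : Matrix ι ι F)) = W := by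
  obtain ⟨U', hU'⟩ := Submodule.exists_isCompl U
  obtain ⟨φ⟩ : Nonempty (U ≃ₗ[F] W) := ⟨LinearEquiv.ofFinrankEq U W (hU.trans hW.symm)⟩
  obtain ⟨f, hfdef⟩ : ∃ f : (ι → F) →ₗ[F] (ι → F),
      f = W.subtype.comp (φ.toLinearMap.comp (Submodule.linearProjOfIsCompl U U' hU')) := ⟨_, rfl⟩
  have hf : ∀ x (hx : x ∈ U), f x = (φ ⟨x, hx⟩ : ι → F) := by
    intro x hx
    have h1 : Submodule.linearProjOfIsCompl U U' hU' x = ⟨x, hx⟩ :=
      Submodule.linearProjOfIsCompl_apply_left hU' ⟨x, hx⟩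
    rw [hfdef]
    show ((φ (Submodule.linearProjOfIsCompl U U' hU' x) : W) : ι → F) = _
    rw [h1]
  obtain ⟨g, hg1, hg2⟩ := Cfsg.Agent.S0750.main Q hQ (Module.finrank F U) U f le_rfl
    (fun x hx hfx => by
      rw [hf x hx] at hfx
      have h1 : φ ⟨x, hx⟩ = 0 := Subtype.ext hfx
      have h2 : (⟨x, hx⟩ : U) = 0 := by simpa using h1
      exact congrArg Subtype.val h2)
    (fun x hx => by
      rw [hf x hx, hU0 x hx]
      exact hW0 _ (φ ⟨x, hx⟩).2)
  obtain ⟨h, hh⟩ := exists_iso_gen Q g hg1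
  refine ⟨h, ?_⟩
  apply le_antisymm
  · rintro _ ⟨x, hx, rfl⟩
    rw [Matrix.mulVecLin_apply, hh, hg2 x hx, hf x hx]
    exact (φ ⟨x, hx⟩).2
  · intro w hw
    refine ⟨(φ.symm ⟨w, hw⟩ : ι → F), (φ.symm ⟨w, hw⟩).2, ?_⟩
    rw [Matrix.mulVecLin_apply, hh, hg2 _ (φ.symm ⟨w, hw⟩).2, hf _ (φ.symm ⟨w, hw⟩).2]
    simp

theorem pair_sq (hQ : (QuadraticMap.polarBilin Q).Nondegenerate)
    (a b : ι → F) (ha : Q a ≠ 0) (hb : Q b ≠ 0) (c : F) (hc : Q a / Q b = c * c)
    (ta tb : ↥(Cfsg.isometryGroup F ⇑Q))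
    (hta : Act Q ta [a]) (htb : Act Q tb [b]) (hta2 : ta * ta = 1) :
    ta * tb ∈ commutator ↥(Cfsg.isometryGroup F ⇑Q) := by
  have hc0 : c ≠ 0 := by
    rintro rfl
    rw [mul_zero] at hc
    exact div_ne_zero ha hb hc
  have hQc : Q (c • b) = Q a := by
    rw [QuadraticMap.map_smul, smul_eq_mul, ← hc]; field_simp
  have ha0 : a ≠ 0 := by
    rintro rfl
    exact ha (QuadraticMap.map_zero Q)
  have hb0 : b ≠ 0 := by
    rintro rfl
    exact hb (QuadraticMap.map_zero Q)
  obtain ⟨i, hi⟩ : ∃ i, a i ≠ 0 := by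
    by_contra hcon
    push Not at hcon
    exact ha0 (funext hcon)
  obtain ⟨f, hf⟩ : ∃ f : (ι → F) →ₗ[F] (ι → F), ∀ x, f x = ((a i)⁻¹ * x i) • (c • b) :=
    ⟨((a i)⁻¹ • LinearMap.proj i).smulRight (c • b), fun x => by simp⟩
  have hfa : ∀ s : F, f (s • a) = s • (c • b) := by
    intro s
    rw [hf, Pi.smul_apply, smul_eq_mul]
    congr 1
    field_simp
  obtain ⟨g, hg1, hg2⟩ := Cfsg.Agent.S0750.main Q hQ (Module.finrank F (Submodule.span F {a}))
    (Submodule.span F {a}) f le_rfl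
    (fun x hx hfx => by
      obtain ⟨s, rfl⟩ := Submodule.mem_span_singleton.1 hx
      rw [hfa] at hfx
      have hs : s = 0 := by
        rcases smul_eq_zero.1 hfx with h | h
        · exact h
        · exact absurd h (smul_ne_zero hc0 hb0)
      rw [hs, zero_smul])
    (fun x hx => by
      obtain ⟨s, rfl⟩ := Submodule.mem_span_singleton.1 hx
      rw [hfa, QuadraticMap.map_smul Q s (c • b), QuadraticMap.map_smul Q s a, hQc])
  have hga : g a = c • b := by
    have h1 := hg2 a (Submodule.mem_span_singleton_self a)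
    rw [h1]
    have h3 := hfa 1
    rwa [one_smul, one_smul] at h3
  obtain ⟨h, hh⟩ := exists_iso_gen Q g hg1
  have hconj : h * ta = tb * h := by
    apply Subtype.ext
    apply Units.ext
    rw [Subgroup.coe_mul, Units.val_mul, Subgroup.coe_mul, Units.val_mul]
    apply Cfsg.Agent.Lib.Helper5.matrix_ext_mulVec
    intro x
    rw [← Matrix.mulVec_mulVec, ← Matrix.mulVec_mulVec, hta x,
      htb (((h : Matrix.GeneralLinearGroup ι F) : Matrix ι ι F) *ᵥ x), hh, hh]
    show g (rfl0 Q a x) = rfl0 Q b (g x)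
    rw [rfl0_apply, rfl0_apply, map_sub, map_smul, hga]
    have hpol : QuadraticMap.polar Q (g a) (g x) = QuadraticMap.polar Q a x := by
      unfold QuadraticMap.polar
      rw [← map_add, hg1, hg1, hg1]
    rw [hga, QuadraticMap.polar_smul_left, smul_eq_mul] at hpol
    rw [smul_smul]
    congr 2
    rw [← hpol, ← hQc, QuadraticMap.map_smul, smul_eq_mul]
    field_simp
  rw [Cfsg.Agent.S2635.comm_of_conj ta tb h hta2 hconj]
  exact Subgroup.commutator_mem_commutator (Subgroup.mem_top ta) (Subgroup.mem_top h)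

theorem pi_eq (hQ : (QuadraticMap.polarBilin Q).Nondegenerate)
    (a b : ι → F) (ha : Q a ≠ 0) (hb : Q b ≠ 0) (c : F) (hc : Q a / Q b = c * c)
    (ta tb : ↥(Cfsg.isometryGroup F ⇑Q))
    (hta : Act Q ta [a]) (htb : Act Q tb [b]) (hta2 : ta * ta = 1) (htb2 : tb * tb = 1) :
    (Abelianization.of ta : Abelianization ↥(Cfsg.isometryGroup F ⇑Q)) = Abelianization.of tb := by
  have h1 := pair_sq Q hQ a b ha hb c hc ta tb hta htb hta2
  have h1' : ta * tb ∈ (Abelianization.of :
      ↥(Cfsg.isometryGroup F ⇑Q) →* Abelianization ↥(Cfsg.isometryGroup F ⇑Q)).ker := by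
    rw [Abelianization.ker_of]; exact h1
  rw [MonoidHom.mem_ker, map_mul] at h1'
  have h2 : (Abelianization.of tb : Abelianization ↥(Cfsg.isometryGroup F ⇑Q)) *
      Abelianization.of tb = 1 := by rw [← map_mul, htb2, map_one]
  exact mul_right_cancel (h1'.trans h2.symm)

theorem odd_case (h2 : (2 : F) ≠ 0) (hQ : (QuadraticMap.polarBilin Q).Nondegenerate) (m : ℕ)
    (hm : 1 ≤ m) (W : Submodule F (ι → F)) (hW : Module.finrank F W = m)
    (hW0 : ∀ w ∈ W, Q w = 0) :
    ∃ (σ : Abelianization ↥(Cfsg.isometryGroup F ⇑Q)) (h : ↥(Cfsg.isometryGroup F ⇑Q)),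
      σ * σ = 1 ∧ Abelianization.of h = σ ∧
      W.map (Matrix.mulVecLin ((h : Matrix.GeneralLinearGroup ι F) : Matrix ι ι F)) = W ∧
      ∀ (k : ℕ) (l : List (ι → F)), l.length = 2 * k → (∀ d ∈ l, Q d ≠ 0) →
        ∀ g : ↥(Cfsg.isometryGroup F ⇑Q), Act Q g l →
          (Abelianization.of g = 1 ∨ Abelianization.of g = σ) := by
  have hchar : ringChar F ≠ 2 := by
    intro hr
    apply h2
    have h3 := CharP.cast_eq_zero F (ringChar F)
    rw [hr] at h3
    exact_mod_cast h3
  obtain ⟨ν, hν⟩ := FiniteField.exists_nonsquare (F := F) hchar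
  have hν0 : ν ≠ 0 := by
    rintro rfl
    exact hν ⟨0, by simp⟩
  have hWne : W ≠ ⊥ := by
    intro hbot
    rw [hbot, finrank_bot] at hW
    omega
  obtain ⟨e, heW, he0⟩ := Submodule.exists_mem_ne_zero_of_ne_bot hWne
  have hQe : Q e = 0 := hW0 e heW
  obtain ⟨f, hQf, hef⟩ := Cfsg.Agent.Lib.Helper5.hyp_pair Q hQ e he0 hQe
  have hee : QuadraticMap.polar Q e e = 0 := by rw [QuadraticMap.polar_self, hQe, smul_zero]
  have hff : QuadraticMap.polar Q f f = 0 := by rw [QuadraticMap.polar_self, hQf, smul_zero]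
  have hfe : QuadraticMap.polar Q f e = 1 := by rw [QuadraticMap.polar_comm]; exact hef
  have hQa : Q (e + f) = 1 := by rw [Q_add', hQe, hQf, hef]; ring
  have hQb : Q (e + ν • f) = ν := by
    rw [Q_add', hQe, QuadraticMap.map_smul, hQf, QuadraticMap.polar_smul_right, hef]; simp
  have ha0 : Q (e + f) ≠ 0 := by rw [hQa]; exact one_ne_zero
  have hb0 : Q (e + ν • f) ≠ 0 := by rw [hQb]; exact hν0
  obtain ⟨ta, hta2, hta⟩ := exists_invol ⇑Q (rfl0 Q (e + f)) (rfl0_invol Q _ ha0) (rfl0_iso Q _ ha0)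
  obtain ⟨tb, htb2, htb⟩ := exists_invol ⇑Q (rfl0 Q (e + ν • f)) (rfl0_invol Q _ hb0)
    (rfl0_iso Q _ hb0)
  have hta' : Act Q ta [e + f] := fun x => hta x
  have htb' : Act Q tb [e + ν • f] := fun x => htb x
  have hρa : (Abelianization.of ta : Abelianization ↥(Cfsg.isometryGroup F ⇑Q)) *
      Abelianization.of ta = 1 := by rw [← map_mul, hta2, map_one]
  have hρb : (Abelianization.of tb : Abelianization ↥(Cfsg.isometryGroup F ⇑Q)) *
      Abelianization.of tb = 1 := by rw [← map_mul, htb2, map_one]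
  have hρ : ∀ (a : ι → F) (t : ↥(Cfsg.isometryGroup F ⇑Q)), Q a ≠ 0 → Act Q t [a] → t * t = 1 →
      (Abelianization.of t : Abelianization ↥(Cfsg.isometryGroup F ⇑Q)) = Abelianization.of ta ∨
      (Abelianization.of t : Abelianization ↥(Cfsg.isometryGroup F ⇑Q)) = Abelianization.of tb := by
    intro a t ha hact ht2
    rcases sq_dich ν hν (Q a) ha with ⟨c, hc⟩ | ⟨c, hc⟩
    · left
      exact pi_eq Q hQ a (e + f) ha ha0 c (by rw [hQa, div_one]; exact hc) t ta hact hta' ht2 hta2
    · right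
      refine pi_eq Q hQ a (e + ν • f) ha hb0 (c / ν) ?_ t tb hact htb' ht2 htb2
      rw [hQb]
      field_simp
      linear_combination hc
  refine ⟨Abelianization.of ta * Abelianization.of tb, ta * tb, ?_, map_mul _ _ _, ?_, ?_⟩
  · rw [mul_mul_mul_comm, hρa, hρb, one_mul]
  · have hewp : ∀ w ∈ W, QuadraticMap.polar Q e w = 0 := by
      intro w hw
      unfold QuadraticMap.polar
      rw [hW0 _ (W.add_mem heW hw), hQe, hW0 w hw]; simp
    have hle : W.map (Matrix.mulVecLin (((ta * tb : ↥(Cfsg.isometryGroup F ⇑Q)) :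
        Matrix.GeneralLinearGroup ι F) : Matrix ι ι F)) ≤ W := by
      rintro _ ⟨w, hw, rfl⟩
      rw [Matrix.mulVecLin_apply, Subgroup.coe_mul, Units.val_mul, ← Matrix.mulVec_mulVec, htb, hta]
      have hb1 : QuadraticMap.polar Q (e + ν • f) w = ν * QuadraticMap.polar Q f w := by
        rw [QuadraticMap.polar_add_left, QuadraticMap.polar_smul_left, hewp w hw, zero_add,
          smul_eq_mul]
      have hrb : rfl0 Q (e + ν • f) w = w - QuadraticMap.polar Q f w • (e + ν • f) := by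
        rw [rfl0_apply, hQb, hb1, ← mul_assoc, inv_mul_cancel₀ hν0, one_mul]
      have ha1 : QuadraticMap.polar Q (e + f) (w - QuadraticMap.polar Q f w • (e + ν • f)) =
          -(QuadraticMap.polar Q f w * ν) := by
        simp only [QuadraticMap.polar_sub_right, QuadraticMap.polar_smul_right,
          QuadraticMap.polar_add_left, QuadraticMap.polar_add_right, hewp w hw, hee, hef, hfe, hff,
          smul_eq_mul]
        ring
      rw [hrb, rfl0_apply, hQa, ha1, inv_one, one_mul]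
      have e1 : w - QuadraticMap.polar Q f w • (e + ν • f) -
          (-(QuadraticMap.polar Q f w * ν)) • (e + f) =
          w + (QuadraticMap.polar Q f w * ν - QuadraticMap.polar Q f w) • e := by module
      rw [e1]
      exact W.add_mem hw (W.smul_mem _ heW)
    have hleft : ∀ x, ((((ta * tb)⁻¹ : ↥(Cfsg.isometryGroup F ⇑Q)) :
        Matrix.GeneralLinearGroup ι F) : Matrix ι ι F) *ᵥ
        ((((ta * tb : ↥(Cfsg.isometryGroup F ⇑Q)) : Matrix.GeneralLinearGroup ι F) :
          Matrix ι ι F) *ᵥ x) = x := by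
      intro x
      rw [Matrix.mulVec_mulVec, ← Units.val_mul, ← Subgroup.coe_mul, inv_mul_cancel]
      show (1 : Matrix ι ι F) *ᵥ x = x
      rw [Matrix.one_mulVec]
    have hinj : Function.Injective (Matrix.mulVecLin (((ta * tb : ↥(Cfsg.isometryGroup F ⇑Q)) :
        Matrix.GeneralLinearGroup ι F) : Matrix ι ι F)) := by
      intro x y hxy
      rw [Matrix.mulVecLin_apply, Matrix.mulVecLin_apply] at hxy
      rw [← hleft x, hxy, hleft y]
    exact Submodule.eq_of_le_of_finrank_eq hle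
      (Submodule.equivMapOfInjective _ hinj W).finrank_eq.symm
  · intro k
    induction k with
    | zero =>
      intro l hl _ g hg
      have hnil : l = [] := List.length_eq_zero_iff.1 (by omega)
      subst hnil
      have h1 : g = 1 := by
        apply Subtype.ext
        apply Units.ext
        show ((g : Matrix.GeneralLinearGroup ι F) : Matrix ι ι F) = 1
        apply Cfsg.Agent.Lib.Helper5.matrix_ext_mulVec
        intro x
        rw [hg x, Matrix.one_mulVec]; rfl
      left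
      rw [h1, map_one]
    | succ k ih =>
      intro l hl hQl g hg
      match l, hl, hQl, hg with
      | [], hl, _, _ => simp at hl
      | [a], hl, _, _ => simp at hl; omega
      | a :: b :: l', hl, hQl, hg =>
        have ha := hQl a List.mem_cons_self
        have hb := hQl b (List.mem_cons_of_mem _ List.mem_cons_self)
        obtain ⟨sa, hsa2, hsa⟩ := exists_invol ⇑Q (rfl0 Q a) (rfl0_invol Q a ha) (rfl0_iso Q a ha)
        obtain ⟨sb, hsb2, hsb⟩ := exists_invol ⇑Q (rfl0 Q b) (rfl0_invol Q b hb) (rfl0_iso Q b hb)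
        have hg' : Act Q (sb * sa * g) l' := fun x => by
          rw [Subgroup.coe_mul, Units.val_mul, Subgroup.coe_mul, Units.val_mul,
            ← Matrix.mulVec_mulVec, ← Matrix.mulVec_mulVec, hg x, hsa, hsb]
          show rfl0 Q b (rfl0 Q a (rfl0 Q a (rfl0 Q b (app Q l' x)))) = app Q l' x
          rw [rfl0_invol Q a ha, rfl0_invol Q b hb]
        have h1 := ih l' (by simp at hl; omega)
          (fun d hd => hQl d (List.mem_cons_of_mem _ (List.mem_cons_of_mem _ hd))) _ hg'
        have e : g = sa * sb * (sb * sa * g) := by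
          rw [← mul_assoc, ← mul_assoc, mul_assoc sa sb sb, hsb2, mul_one, hsa2, one_mul]
        rw [e, map_mul, map_mul]
        exact cg _ _ _ _ _ hρa hρb (hρ a sa ha (fun x => hsa x) hsa2)
          (hρ b sb hb (fun x => hsb x) hsb2) h1

theorem main (hQ : (QuadraticMap.polarBilin Q).Nondegenerate) (m : ℕ) (hm : 1 ≤ m)
    (hV : Module.finrank F (ι → F) = 2 * m)
    (hc : (∃ s : F, s ≠ 0 ∧ s ≠ 1) ∨ Module.finrank F (ι → F) ≠ 4)
    (U W : Submodule F (ι → F)) (hU : Module.finrank F U = m) (hW : Module.finrank F W = m)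
    (hU0 : ∀ u ∈ U, Q u = 0) (hW0 : ∀ w ∈ W, Q w = 0)
    (he : Even (m - Module.finrank F ↥(U ⊓ W))) :
    ∃ g : ↥(Cfsg.isometryGroup F ⇑Q), g ∈ commutator ↥(Cfsg.isometryGroup F ⇑Q) ∧
      U.map (Matrix.mulVecLin ((g : Matrix.GeneralLinearGroup ι F) : Matrix ι ι F)) = W := by
  obtain ⟨g₀, hg₀⟩ := witt_sub Q hQ m U W hU hW hU0 hW0
  have hiso := (mem_iso_iff ⇑Q g₀.1).1 g₀.2
  have hlist : ∃ l : List (ι → F), (∀ d ∈ l, Q d ≠ 0) ∧ Act Q g₀ l := by
    by_cases h2 : (2 : F) = 0
    · exact act_list Q h2 hQ hc g₀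
    · obtain ⟨l, hl1, hl2⟩ := Cfsg.Agent.S0792.cd h2 (2 * m) (ι → F) Q hQ hV
        (Matrix.toLin' ((g₀ : Matrix.GeneralLinearGroup ι F) : Matrix ι ι F))
        (fun v => by rw [Matrix.toLin'_apply]; exact hiso v)
      exact ⟨l, hl1, fun x => by rw [← hl2 x, Matrix.toLin'_apply]⟩
  obtain ⟨l, hl, hact⟩ := hlist
  have hmap : Matrix.mulVecLin ((g₀ : Matrix.GeneralLinearGroup ι F) : Matrix ι ι F) = appL Q l := by
    apply LinearMap.ext
    intro x
    rw [Matrix.mulVecLin_apply, appL_apply]; exact hact x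
  have hpar := (class_parity Q hQ m hV U hU hU0 l hl).1
  rw [← hmap, hg₀] at hpar
  have hle : Module.finrank F ↥(U ⊓ W) ≤ m := by
    rw [← hU]; exact Submodule.finrank_mono inf_le_left
  obtain ⟨k, hk⟩ : ∃ k, l.length = 2 * k := by
    rw [Nat.even_iff] at he
    exact ⟨l.length / 2, by omega⟩
  by_cases h2 : (2 : F) = 0
  · haveI : CharP F 2 := CharTwo.of_one_ne_zero_of_two_eq_zero one_ne_zero h2
    exact ⟨g₀, even_mem_gen Q hQ k l hk hl g₀ hact, hg₀⟩
  · obtain ⟨σ, h, hσ, hhσ, hhW, hall⟩ := odd_case Q h2 hQ m hm W hW hW0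
    rcases hall k l hk hl g₀ hact with h1 | h1
    · refine ⟨g₀, ?_, hg₀⟩
      rw [← Abelianization.ker_of, MonoidHom.mem_ker]; exact h1
    · refine ⟨h * g₀, ?_, ?_⟩
      · rw [← Abelianization.ker_of, MonoidHom.mem_ker, map_mul, hhσ, h1, hσ]
      · rw [Subgroup.coe_mul, Units.val_mul, Matrix.mulVecLin_mul, Submodule.map_comp, hg₀, hhW]

end gen

/-- For the hyperbolic form Σ x_i y_i on F^(2m) over a finite field (m ≥ 1, excluding m = 2 over the field of two elements), Ω (the commutator subgroup of the orthogonal group) acts transitively on each of the two classes of maximal totally singular subspaces: if U and W are m-dimensional totally singular subspaces with m − dim(U ∩ W) even, some element of Ω carries U to W. -/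
theorem result {F : Type*} [Field F] [Fintype F] {m : ℕ} (hm : 1 ≤ m) (h : Fintype.card F ≠ 2 ∨ m ≠ 2) (U W : Submodule F (Fin m ⊕ Fin m → F)) (hU : Module.finrank F U = m) (hW : Module.finrank F W = m) (hU0 : ∀ u ∈ U, Cfsg.quadFormPlus m F u = 0) (hW0 : ∀ w ∈ W, Cfsg.quadFormPlus m F w = 0) (he : Even (m - Module.finrank F ↥(U ⊓ W))) : ∃ g : ↥(Cfsg.isometryGroup F (Cfsg.quadFormPlus m F)), g ∈ Cfsg.Omega F (Cfsg.quadFormPlus m F) ∧ U.map (Matrix.mulVecLin ((g : Matrix.GeneralLinearGroup (Fin m ⊕ Fin m) F) : Matrix (Fin m ⊕ Fin m) (Fin m ⊕ Fin m) F)) = W := by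
  classical
  have hV : Module.finrank F (Fin m ⊕ Fin m → F) = 2 * m := by
    rw [Module.finrank_fintype_fun_eq_card, Fintype.card_sum, Fintype.card_fin]; ring
  obtain ⟨Qp, hQp, hQpnd⟩ := Cfsg.Agent.S2169.exists_Qp (F := F) m
  have hc : (∃ s : F, s ≠ 0 ∧ s ≠ 1) ∨ Module.finrank F (Fin m ⊕ Fin m → F) ≠ 4 := by
    rcases h with h | h
    · left
      by_contra hcon
      push Not at hcon
      apply h
      have huniv : (Finset.univ : Finset F) = {0, 1} := by
        ext s
        simp only [Finset.mem_univ, Finset.mem_insert, Finset.mem_singleton, true_iff]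
        by_cases hs : s = 0
        · exact Or.inl hs
        · exact Or.inr (hcon s hs)
      rw [← Finset.card_univ, huniv, Finset.card_pair zero_ne_one]
    · right
      rw [hV]; omega
  revert hU0 hW0
  rw [← hQp]
  intro hU0 hW0
  exact main Qp hQpnd m hm hV hc U W hU hW hU0 hW0 he

end Cfsg.Agent.S2631
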