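import Mathlib
import Cfsg.Statements.S2633
import Cfsg.Agent.S2631

set_option autoImplicit false
open Cfsg

namespace Cfsg.Agent.S2633

open Matrix
open scoped commutatorElement
open Cfsg.Agent.S5754 (rfl0 rfl0_apply rfl0_invol rfl0_iso)
open Cfsg.Agent.S0792 (app app_cons Q_add')
open Cfsg.Agent.S0786 (appL appL_apply)
open Cfsg.Agent.S2628 (mem_iso_iff exists_invol)
open Cfsg.Agent.S2630 (Act act_one act_mul act_list exists_iso_gen)
open Cfsg.Agent.S2631 (witt_sub pair_sq pi_eq sq_dich)

section gen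
variable {F : Type*} [Field F] [Fintype F] {ι : Type} [Fintype ι] [DecidableEq ι]
  (Q : QuadraticForm F (ι → F))

/-- the stabiliser of a subspace in the isometry group -/
def Stab (W : Submodule F (ι → F)) : Subgroup ↥(Cfsg.isometryGroup F ⇑Q) where
  carrier := {c | W.map (Matrix.mulVecLin ((c : Matrix.GeneralLinearGroup ι F) : Matrix ι ι F)) = W}
  mul_mem' := by
    intro a b ha hb
    have ha' : W.map (Matrix.mulVecLin ((a : Matrix.GeneralLinearGroup ι F) : Matrix ι ι F)) = W := ha
    have hb' : W.map (Matrix.mulVecLin ((b : Matrix.GeneralLinearGroup ι F) : Matrix ι ι F)) = W := hb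
    show W.map (Matrix.mulVecLin (((a * b : ↥(Cfsg.isometryGroup F ⇑Q)) :
      Matrix.GeneralLinearGroup ι F) : Matrix ι ι F)) = W
    rw [Subgroup.coe_mul, Units.val_mul, Matrix.mulVecLin_mul, Submodule.map_comp, hb', ha']
  one_mem' := by
    show W.map (Matrix.mulVecLin (1 : Matrix ι ι F)) = W
    rw [Matrix.mulVecLin_one]; exact Submodule.map_id W
  inv_mem' := by
    intro a ha
    have ha' : W.map (Matrix.mulVecLin ((a : Matrix.GeneralLinearGroup ι F) : Matrix ι ι F)) = W := ha
    show W.map (Matrix.mulVecLin (((a⁻¹ : ↥(Cfsg.isometryGroup F ⇑Q)) :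
      Matrix.GeneralLinearGroup ι F) : Matrix ι ι F)) = W
    have h1 : (W.map (Matrix.mulVecLin ((a : Matrix.GeneralLinearGroup ι F) : Matrix ι ι F))).map
        (Matrix.mulVecLin (((a⁻¹ : ↥(Cfsg.isometryGroup F ⇑Q)) :
          Matrix.GeneralLinearGroup ι F) : Matrix ι ι F)) = W := by
      rw [← Submodule.map_comp, ← Matrix.mulVecLin_mul, ← Units.val_mul, ← Subgroup.coe_mul,
        inv_mul_cancel]
      show W.map (Matrix.mulVecLin (1 : Matrix ι ι F)) = W
      rw [Matrix.mulVecLin_one]; exact Submodule.map_id W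
    rw [ha'] at h1
    exact h1

theorem pi_mem (T : Subgroup (Abelianization ↥(Cfsg.isometryGroup F ⇑Q)))
    (hT : ∀ (a : ι → F) (t : ↥(Cfsg.isometryGroup F ⇑Q)), Q a ≠ 0 → Act Q t [a] → t * t = 1 →
      Abelianization.of t ∈ T) :
    ∀ (l : List (ι → F)), (∀ d ∈ l, Q d ≠ 0) → ∀ g : ↥(Cfsg.isometryGroup F ⇑Q), Act Q g l →
      Abelianization.of g ∈ T := by
  intro l
  induction l with
  | nil =>
    intro _ g hg
    have h1 : g = 1 := by
      apply Subtype.ext
      apply Units.ext
      show ((g : Matrix.GeneralLinearGroup ι F) : Matrix ι ι F) = 1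
      apply Cfsg.Agent.Lib.Helper5.matrix_ext_mulVec
      intro x
      rw [hg x, Matrix.one_mulVec]; rfl
    rw [h1, map_one]; exact T.one_mem
  | cons a l' ih =>
    intro hQl g hg
    have ha := hQl a List.mem_cons_self
    obtain ⟨ta, hta2, hta⟩ := exists_invol ⇑Q (rfl0 Q a) (rfl0_invol Q a ha) (rfl0_iso Q a ha)
    have hg' : Act Q (ta * g) l' := fun x => by
      rw [Subgroup.coe_mul, Units.val_mul, ← Matrix.mulVec_mulVec, hg x, hta]
      show rfl0 Q a (rfl0 Q a (app Q l' x)) = app Q l' x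
      rw [rfl0_invol Q a ha]
    have h1 := ih (fun d hd => hQl d (List.mem_cons_of_mem _ hd)) _ hg'
    have e : g = ta * (ta * g) := by rw [← mul_assoc, hta2, one_mul]
    rw [e, map_mul]
    exact T.mul_mem (hT a ta ha (fun x => hta x) hta2) h1

theorem exists_perp (hQ : (QuadraticMap.polarBilin Q).Nondegenerate) (W : Submodule F (ι → F))
    (k : ℕ) (hW : Module.finrank F W = k) (hk : 2 * k < Module.finrank F (ι → F)) :
    ∃ d, (∀ w ∈ W, QuadraticMap.polar Q w d = 0) ∧ Q d ≠ 0 := by
  by_contra hcon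
  push Not at hcon
  have h1 : Module.finrank F (LinearMap.BilinForm.orthogonal (QuadraticMap.polarBilin Q) W) =
      Module.finrank F (ι → F) - k := by
    rw [LinearMap.BilinForm.finrank_orthogonal hQ W, hW]
  have h2 : LinearMap.BilinForm.orthogonal (QuadraticMap.polarBilin Q) W ≤
      LinearMap.BilinForm.orthogonal (QuadraticMap.polarBilin Q)
        (LinearMap.BilinForm.orthogonal (QuadraticMap.polarBilin Q) W) := by
    intro x hx
    rw [LinearMap.BilinForm.mem_orthogonal_iff]
    intro y hy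
    show QuadraticMap.polar Q y x = 0
    have hx' : ∀ w ∈ W, QuadraticMap.polar Q w x = 0 := hx
    have hy' : ∀ w ∈ W, QuadraticMap.polar Q w y = 0 := hy
    have hxy : ∀ w ∈ W, QuadraticMap.polar Q w (y + x) = 0 := by
      intro w hw
      rw [QuadraticMap.polar_add_right, hx' w hw, hy' w hw, add_zero]
    unfold QuadraticMap.polar
    rw [hcon _ hxy, hcon y hy', hcon x hx']; simp
  have h3 := Submodule.finrank_mono h2
  have h4 : Module.finrank F (LinearMap.BilinForm.orthogonal (QuadraticMap.polarBilin Q)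
      (LinearMap.BilinForm.orthogonal (QuadraticMap.polarBilin Q) W)) =
      Module.finrank F (ι → F) - (Module.finrank F (ι → F) - k) := by
    rw [LinearMap.BilinForm.finrank_orthogonal hQ, h1]
  rw [h4, h1] at h3
  omega

theorem refl_stab (W : Submodule F (ι → F)) (d : ι → F)
    (hd : ∀ w ∈ W, QuadraticMap.polar Q w d = 0) (t : ↥(Cfsg.isometryGroup F ⇑Q))
    (ht : Act Q t [d]) : t ∈ Stab Q W := by
  have hfix : ∀ w ∈ W, ((t : Matrix.GeneralLinearGroup ι F) : Matrix ι ι F) *ᵥ w = w := by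
    intro w hw
    rw [ht w]
    show rfl0 Q d w = w
    rw [rfl0_apply, QuadraticMap.polar_comm, hd w hw, mul_zero, zero_smul, sub_zero]
  show W.map (Matrix.mulVecLin ((t : Matrix.GeneralLinearGroup ι F) : Matrix ι ι F)) = W
  apply le_antisymm
  · rintro _ ⟨w, hw, rfl⟩
    rw [Matrix.mulVecLin_apply, hfix w hw]; exact hw
  · intro w hw
    exact ⟨w, hw, by rw [Matrix.mulVecLin_apply, hfix w hw]⟩

theorem odd_tools (h2 : (2 : F) ≠ 0) (hQ : (QuadraticMap.polarBilin Q).Nondegenerate)
    (W : Submodule F (ι → F)) (hWne : W ≠ ⊥) (hW0 : ∀ w ∈ W, Q w = 0) :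
    ∃ (ta tb : ↥(Cfsg.isometryGroup F ⇑Q)), ta * tb ∈ Stab Q W ∧
      ∀ (a : ι → F) (t : ↥(Cfsg.isometryGroup F ⇑Q)), Q a ≠ 0 → Act Q t [a] → t * t = 1 →
      ((Abelianization.of t : Abelianization ↥(Cfsg.isometryGroup F ⇑Q)) = Abelianization.of ta ∨
      (Abelianization.of t : Abelianization ↥(Cfsg.isometryGroup F ⇑Q)) = Abelianization.of tb) := by
  have hchar : ringChar F ≠ 2 := by
    intro hr
    apply h2
    have h3 := CharP.cast_eq_zero F (ringChar F)
    rw [hr] at h3
    exact_mod_cast h3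
  obtain ⟨ν, hν⟩ := FiniteField.exists_nonsquare (F := F) hchar
  have hν0 : ν ≠ 0 := by
    rintro rfl
    exact hν ⟨0, by simp⟩
  obtain ⟨e, heW, he0⟩ := Submodule.exists_mem_ne_zero_of_ne_bot hWne
  have hQe : Q e = 0 := hW0 e heW
  obtain ⟨f, hQf, hef⟩ := Cfsg.Agent.Lib.Helper5.hyp_pair Q hQ e he0 hQe
  have hee : QuadraticMap.polar Q e e = 0 := by rw [QuadraticMap.polar_self, hQe, smul_zero]
  have hff : QuadraticMap.polar Q f f = 0 := by rw [QuadraticMap.polar_self, hQf, smul_zero]
  have hfe : QuadraticMap.polar Q f e = 1 := by rw [QuadraticMap.polar_comm]; exact hef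
  have hQa : Q (e + f) = 1 := by rw [Q_add', hQe, hQf, hef]; ring
  have hQb : Q (e + ν • f) = ν := by
    rw [Q_add', hQe, QuadraticMap.map_smul, hQf, QuadraticMap.polar_smul_right, hef]; simp
  have ha0 : Q (e + f) ≠ 0 := by rw [hQa]; exact one_ne_zero
  have hb0 : Q (e + ν • f) ≠ 0 := by rw [hQb]; exact hν0
  obtain ⟨ta, hta2, hta⟩ := exists_invol ⇑Q (rfl0 Q (e + f)) (rfl0_invol Q _ ha0) (rfl0_iso Q _ ha0)
  obtain ⟨tb, htb2, htb⟩ := exists_invol ⇑Q (rfl0 Q (e + ν • f)) (rfl0_invol Q _ hb0)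
    (rfl0_iso Q _ hb0)
  have hta' : Act Q ta [e + f] := fun x => hta x
  have htb' : Act Q tb [e + ν • f] := fun x => htb x
  refine ⟨ta, tb, ?_, ?_⟩
  · have hewp : ∀ w ∈ W, QuadraticMap.polar Q e w = 0 := by
      intro w hw
      unfold QuadraticMap.polar
      rw [hW0 _ (W.add_mem heW hw), hQe, hW0 w hw]; simp
    have hle : W.map (Matrix.mulVecLin (((ta * tb : ↥(Cfsg.isometryGroup F ⇑Q)) :
        Matrix.GeneralLinearGroup ι F) : Matrix ι ι F)) ≤ W := by
      rintro _ ⟨w, hw, rfl⟩
      rw [Matrix.mulVecLin_apply, Subgroup.coe_mul, Units.val_mul, ← Matrix.mulVec_mulVec, htb, hta]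
      have hb1 : QuadraticMap.polar Q (e + ν • f) w = ν * QuadraticMap.polar Q f w := by
        rw [QuadraticMap.polar_add_left, QuadraticMap.polar_smul_left, hewp w hw, zero_add,
          smul_eq_mul]
      have hrb : rfl0 Q (e + ν • f) w = w - QuadraticMap.polar Q f w • (e + ν • f) := by
        rw [rfl0_apply, hQb, hb1, ← mul_assoc, inv_mul_cancel₀ hν0, one_mul]
      have ha1 : QuadraticMap.polar Q (e + f) (w - QuadraticMap.polar Q f w • (e + ν • f)) =
          -(QuadraticMap.polar Q f w * ν) := by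
        simp only [QuadraticMap.polar_sub_right, QuadraticMap.polar_smul_right,
          QuadraticMap.polar_add_left, QuadraticMap.polar_add_right, hewp w hw, hee, hef, hfe, hff,
          smul_eq_mul]
        ring
      rw [hrb, rfl0_apply, hQa, ha1, inv_one, one_mul]
      have e1 : w - QuadraticMap.polar Q f w • (e + ν • f) -
          (-(QuadraticMap.polar Q f w * ν)) • (e + f) =
          w + (QuadraticMap.polar Q f w * ν - QuadraticMap.polar Q f w) • e := by module
      rw [e1]
      exact W.add_mem hw (W.smul_mem _ heW)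
    have hleft : ∀ x, ((((ta * tb)⁻¹ : ↥(Cfsg.isometryGroup F ⇑Q)) :
        Matrix.GeneralLinearGroup ι F) : Matrix ι ι F) *ᵥ
        ((((ta * tb : ↥(Cfsg.isometryGroup F ⇑Q)) : Matrix.GeneralLinearGroup ι F) :
          Matrix ι ι F) *ᵥ x) = x := by
      intro x
      rw [Matrix.mulVec_mulVec, ← Units.val_mul, ← Subgroup.coe_mul, inv_mul_cancel]
      show (1 : Matrix ι ι F) *ᵥ x = x
      rw [Matrix.one_mulVec]
    have hinj : Function.Injective (Matrix.mulVecLin (((ta * tb : ↥(Cfsg.isometryGroup F ⇑Q)) :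
        Matrix.GeneralLinearGroup ι F) : Matrix ι ι F)) := by
      intro x y hxy
      rw [Matrix.mulVecLin_apply, Matrix.mulVecLin_apply] at hxy
      rw [← hleft x, hxy, hleft y]
    exact Submodule.eq_of_le_of_finrank_eq hle
      (Submodule.equivMapOfInjective _ hinj W).finrank_eq.symm
  · intro a t ha hact ht2
    rcases sq_dich ν hν (Q a) ha with ⟨c, hc⟩ | ⟨c, hc⟩
    · left
      exact pi_eq Q hQ a (e + f) ha ha0 c (by rw [hQa, div_one]; exact hc) t ta hact hta' ht2 hta2
    · right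
      refine pi_eq Q hQ a (e + ν • f) ha hb0 (c / ν) ?_ t tb hact htb' ht2 htb2
      rw [hQb]
      field_simp
      linear_combination hc

theorem main (hQ : (QuadraticMap.polarBilin Q).Nondegenerate)
    (hc : (∃ s : F, s ≠ 0 ∧ s ≠ 1) ∨ Module.finrank F (ι → F) ≠ 4)
    (U W : Submodule F (ι → F)) (k : ℕ) (hk : 2 * k < Module.finrank F (ι → F))
    (hU : Module.finrank F U = k) (hW : Module.finrank F W = k)
    (hU0 : ∀ u ∈ U, Q u = 0) (hW0 : ∀ w ∈ W, Q w = 0) :
    ∃ g : ↥(Cfsg.isometryGroup F ⇑Q), g ∈ commutator ↥(Cfsg.isometryGroup F ⇑Q) ∧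
      U.map (Matrix.mulVecLin ((g : Matrix.GeneralLinearGroup ι F) : Matrix ι ι F)) = W := by
  by_cases hWbot : W = ⊥
  · have hk0 : k = 0 := by rw [← hW, hWbot, finrank_bot]
    have hUbot : U = ⊥ := by
      rw [hk0] at hU
      exact Submodule.finrank_eq_zero.1 hU
    exact ⟨1, Subgroup.one_mem _, by rw [hUbot, hWbot]; exact Submodule.map_bot _⟩
  obtain ⟨g₀, hg₀⟩ := witt_sub Q hQ k U W hU hW hU0 hW0
  have hiso := (mem_iso_iff ⇑Q g₀.1).1 g₀.2
  have hlist : ∃ l : List (ι → F), (∀ d ∈ l, Q d ≠ 0) ∧ Act Q g₀ l := by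
    by_cases h2 : (2 : F) = 0
    · exact act_list Q h2 hQ hc g₀
    · obtain ⟨l, hl1, hl2⟩ := Cfsg.Agent.S0792.cd h2 (Module.finrank F (ι → F)) (ι → F) Q hQ rfl
        (Matrix.toLin' ((g₀ : Matrix.GeneralLinearGroup ι F) : Matrix ι ι F))
        (fun v => by rw [Matrix.toLin'_apply]; exact hiso v)
      exact ⟨l, hl1, fun x => by rw [← hl2 x, Matrix.toLin'_apply]⟩
  obtain ⟨l, hl, hact⟩ := hlist
  obtain ⟨d, hdW, hQd⟩ := exists_perp Q hQ W k hW hk
  obtain ⟨td, htd2, htd⟩ := exists_invol ⇑Q (rfl0 Q d) (rfl0_invol Q d hQd) (rfl0_iso Q d hQd)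
  have htd' : Act Q td [d] := fun x => htd x
  have htdS : td ∈ Stab Q W := refl_stab Q W d hdW td htd'
  have hdT : (Abelianization.of td : Abelianization ↥(Cfsg.isometryGroup F ⇑Q)) ∈
      (Stab Q W).map Abelianization.of := Subgroup.mem_map_of_mem _ htdS
  have hT : ∀ (a : ι → F) (t : ↥(Cfsg.isometryGroup F ⇑Q)), Q a ≠ 0 → Act Q t [a] → t * t = 1 →
      (Abelianization.of t : Abelianization ↥(Cfsg.isometryGroup F ⇑Q)) ∈
        (Stab Q W).map Abelianization.of := by
    by_cases h2 : (2 : F) = 0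
    · have : CharP F 2 := CharTwo.of_one_ne_zero_of_two_eq_zero one_ne_zero h2
      intro a t ha hta ht2
      have h1 := Cfsg.Agent.S2630.pair_gen Q hQ a d ha hQd t td hta htd' ht2
      have h1' : t * td ∈ (Abelianization.of :
          ↥(Cfsg.isometryGroup F ⇑Q) →* Abelianization ↥(Cfsg.isometryGroup F ⇑Q)).ker := by
        rw [Abelianization.ker_of]; exact h1
      rw [MonoidHom.mem_ker, map_mul] at h1'
      have h3 : (Abelianization.of td : Abelianization ↥(Cfsg.isometryGroup F ⇑Q)) *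
          Abelianization.of td = 1 := by rw [← map_mul, htd2, map_one]
      have h4 : (Abelianization.of t : Abelianization ↥(Cfsg.isometryGroup F ⇑Q)) =
          Abelianization.of td := mul_right_cancel (h1'.trans h3.symm)
      rw [h4]; exact hdT
    · obtain ⟨ta, tb, hS, hρ⟩ := odd_tools Q h2 hQ W hWbot hW0
      have hh : (Abelianization.of ta : Abelianization ↥(Cfsg.isometryGroup F ⇑Q)) *
          Abelianization.of tb ∈ (Stab Q W).map Abelianization.of := by
        rw [← map_mul]; exact Subgroup.mem_map_of_mem _ hS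
      intro a t ha hta ht2
      rcases hρ a t ha hta ht2 with h1 | h1 <;> rcases hρ d td hQd htd' htd2 with h3 | h3
      · rw [h1, ← h3]; exact hdT
      · rw [h1, ← mul_inv_cancel_right (Abelianization.of ta) (Abelianization.of tb)]
        exact Subgroup.mul_mem _ hh (Subgroup.inv_mem _ (by rw [← h3]; exact hdT))
      · rw [h1, ← inv_mul_cancel_left (Abelianization.of ta) (Abelianization.of tb)]
        exact Subgroup.mul_mem _ (Subgroup.inv_mem _ (by rw [← h3]; exact hdT)) hh
      · rw [h1, ← h3]; exact hdT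
  have hmem := pi_mem Q _ hT l hl g₀ hact
  obtain ⟨c, hcS, hcπ⟩ := Subgroup.mem_map.1 hmem
  refine ⟨c⁻¹ * g₀, ?_, ?_⟩
  · rw [← Abelianization.ker_of, MonoidHom.mem_ker, map_mul, map_inv, hcπ, inv_mul_cancel]
  · rw [Subgroup.coe_mul, Units.val_mul, Matrix.mulVecLin_mul, Submodule.map_comp, hg₀]
    exact (Stab Q W).inv_mem hcS

end gen

/-- Ω is transitive on totally singular subspaces of each dimension less than half the dimension: for a quadratic form Q on F^n with non-degenerate polar form (F finite; excluding dimension 4 over the field of two elements), if U and W are subspaces of the same dimension k with 2k < n on which Q vanishes, then some element of Ω (the commutator subgroup of the orthogonal group) carries U to W. -/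
theorem result {F : Type*} [Field F] [Fintype F] {n : ℕ} (h : Fintype.card F ≠ 2 ∨ n ≠ 4) (Q : QuadraticForm F (Fin n → F)) (hQ : (QuadraticMap.polarBilin Q).Nondegenerate) (U W : Submodule F (Fin n → F)) {k : ℕ} (hk : 2 * k < n) (hU : Module.finrank F U = k) (hW : Module.finrank F W = k) (hU0 : ∀ u ∈ U, Q u = 0) (hW0 : ∀ w ∈ W, Q w = 0) : ∃ g : ↥(Cfsg.isometryGroup F ⇑Q), g ∈ Cfsg.Omega F ⇑Q ∧ U.map (Matrix.mulVecLin ((g : Matrix.GeneralLinearGroup (Fin n) F) : Matrix (Fin n) (Fin n) F)) = W := by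
  classical
  have hV : Module.finrank F (Fin n → F) = n := by
    rw [Module.finrank_fintype_fun_eq_card, Fintype.card_fin]
  have hc : (∃ s : F, s ≠ 0 ∧ s ≠ 1) ∨ Module.finrank F (Fin n → F) ≠ 4 := by
    rcases h with h | h
    · left
      by_contra hcon
      push Not at hcon
      apply h
      have huniv : (Finset.univ : Finset F) = {0, 1} := by
        ext s
        simp only [Finset.mem_univ, Finset.mem_insert, Finset.mem_singleton, true_iff]
        by_cases hs : s = 0
        · exact Or.inl hs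
        · exact Or.inr (hcon s hs)
      rw [← Finset.card_univ, huniv, Finset.card_pair zero_ne_one]
    · right
      rw [hV]; exact h
  exact main Q hQ hc U W k (by rw [hV]; exact hk) hU hW hU0 hW0

end Cfsg.Agent.S2633
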