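import Mathlib
import Cfsg.Statements.S2632
import Cfsg.Agent.S2633

set_option autoImplicit false
open Cfsg

namespace Cfsg.Agent.S2632

open Matrix
open scoped commutatorElement
open Cfsg.Agent.S5754 (rfl0 rfl0_apply rfl0_invol rfl0_iso)
open Cfsg.Agent.S0792 (app app_cons Q_add')
open Cfsg.Agent.S2628 (mem_iso_iff exists_invol)
open Cfsg.Agent.S2630 (Act act_one act_mul act_list exists_iso_gen)
open Cfsg.Agent.S2631 (pair_sq pi_eq sq_dich)
open Cfsg.Agent.S2633 (Stab pi_mem refl_stab)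

section gen
variable {F : Type*} [Field F] [Fintype F] {ι : Type} [Fintype ι] [DecidableEq ι]
  (Q : QuadraticForm F (ι → F))

theorem witt_e (hQ : (QuadraticMap.polarBilin Q).Nondegenerate)
    (U W : Submodule F (ι → F)) (φ : U ≃ₗ[F] W)
    (he : ∀ u : U, Q (φ u : ι → F) = Q (u : ι → F)) :
    ∃ g : ↥(Cfsg.isometryGroup F ⇑Q),
      U.map (Matrix.mulVecLin ((g : Matrix.GeneralLinearGroup ι F) : Matrix ι ι F)) = W := by
  obtain ⟨U', hU'⟩ := Submodule.exists_isCompl U
  obtain ⟨f, hfdef⟩ : ∃ f : (ι → F) →ₗ[F] (ι → F),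
      f = W.subtype.comp (φ.toLinearMap.comp (Submodule.linearProjOfIsCompl U U' hU')) := ⟨_, rfl⟩
  have hf : ∀ x (hx : x ∈ U), f x = (φ ⟨x, hx⟩ : ι → F) := by
    intro x hx
    have h1 : Submodule.linearProjOfIsCompl U U' hU' x = ⟨x, hx⟩ :=
      Submodule.linearProjOfIsCompl_apply_left hU' ⟨x, hx⟩
    rw [hfdef]
    show ((φ (Submodule.linearProjOfIsCompl U U' hU' x) : W) : ι → F) = _
    rw [h1]
  obtain ⟨g, hg1, hg2⟩ := Cfsg.Agent.S0750.main Q hQ (Module.finrank F U) U f le_rfl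
    (fun x hx hfx => by
      rw [hf x hx] at hfx
      have h1 : φ ⟨x, hx⟩ = 0 := Subtype.ext hfx
      have h2 : (⟨x, hx⟩ : U) = 0 := by simpa using h1
      exact congrArg Subtype.val h2)
    (fun x hx => by
      rw [hf x hx]
      exact he ⟨x, hx⟩)
  obtain ⟨h, hh⟩ := exists_iso_gen Q g hg1
  refine ⟨h, ?_⟩
  apply le_antisymm
  · rintro _ ⟨x, hx, rfl⟩
    rw [Matrix.mulVecLin_apply, hh, hg2 x hx, hf x hx]
    exact (φ ⟨x, hx⟩).2
  · intro w hw
    refine ⟨(φ.symm ⟨w, hw⟩ : ι → F), (φ.symm ⟨w, hw⟩).2, ?_⟩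
    rw [Matrix.mulVecLin_apply, hh, hg2 _ (φ.symm ⟨w, hw⟩).2, hf _ (φ.symm ⟨w, hw⟩).2]
    simp

theorem refl_stab_in (W : Submodule F (ι → F)) (d : ι → F) (hdW : d ∈ W) (hQd : Q d ≠ 0)
    (t : ↥(Cfsg.isometryGroup F ⇑Q)) (ht : Act Q t [d]) : t ∈ Stab Q W := by
  have hmap : ∀ w ∈ W, ((t : Matrix.GeneralLinearGroup ι F) : Matrix ι ι F) *ᵥ w ∈ W := by
    intro w hw
    rw [ht w]
    show rfl0 Q d w ∈ W
    rw [rfl0_apply]
    exact W.sub_mem hw (W.smul_mem _ hdW)
  have hinv : ∀ w, ((t : Matrix.GeneralLinearGroup ι F) : Matrix ι ι F) *ᵥ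
      (((t : Matrix.GeneralLinearGroup ι F) : Matrix ι ι F) *ᵥ w) = w := by
    intro w
    rw [ht (((t : Matrix.GeneralLinearGroup ι F) : Matrix ι ι F) *ᵥ w), ht w]
    exact rfl0_invol Q d hQd w
  show W.map (Matrix.mulVecLin ((t : Matrix.GeneralLinearGroup ι F) : Matrix ι ι F)) = W
  apply le_antisymm
  · rintro _ ⟨w, hw, rfl⟩
    rw [Matrix.mulVecLin_apply]; exact hmap w hw
  · intro w hw
    exact ⟨_, hmap w hw, by rw [Matrix.mulVecLin_apply, hinv w]⟩

theorem exists_aniso (X : Submodule F (ι → F))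
    (hX : X ⊓ LinearMap.BilinForm.orthogonal (QuadraticMap.polarBilin Q) X = ⊥) (hne : X ≠ ⊥) :
    ∃ a ∈ X, Q a ≠ 0 := by
  by_contra hcon
  push Not at hcon
  apply hne
  rw [eq_bot_iff, ← hX]
  intro x hx
  refine ⟨hx, ?_⟩
  show ∀ n ∈ X, QuadraticMap.polarBilin Q n x = 0
  intro y hy
  show QuadraticMap.polar Q y x = 0
  unfold QuadraticMap.polar
  rw [hcon _ (X.add_mem hy hx), hcon y hy, hcon x hx]; simp

theorem exists_aniso2 (h2 : (2 : F) ≠ 0) (X : Submodule F (ι → F))
    (hX : X ⊓ LinearMap.BilinForm.orthogonal (QuadraticMap.polarBilin Q) X = ⊥)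
    (hdim : 2 ≤ Module.finrank F X) :
    ∃ a ∈ X, ∃ b ∈ X, Q a ≠ 0 ∧ Q b ≠ 0 ∧ QuadraticMap.polar Q a b = 0 := by
  have hne : X ≠ ⊥ := by
    rintro rfl
    rw [finrank_bot] at hdim
    omega
  obtain ⟨a, haX, hQa⟩ := exists_aniso Q X hX hne
  have ha0 : a ≠ 0 := by
    rintro rfl
    exact hQa (QuadraticMap.map_zero Q)
  by_contra hcon
  push Not at hcon
  have hcon' : ∀ b ∈ X, QuadraticMap.polar Q a b = 0 → Q b = 0 := by
    intro b hb hab
    by_contra hQb
    exact hcon a haX b hb hQa hQb hab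
  have hps : QuadraticMap.polar Q a a = 2 * Q a := by
    rw [QuadraticMap.polar_self]; simp [two_mul, two_smul]
  have hproj : ∀ z, QuadraticMap.polar Q a
      (z - ((2 * Q a)⁻¹ * QuadraticMap.polar Q a z) • a) = 0 := by
    intro z
    rw [QuadraticMap.polar_sub_right, QuadraticMap.polar_smul_right, hps, smul_eq_mul]
    field_simp
    ring
  have hzero : ∀ y ∈ X, QuadraticMap.polar Q a y = 0 → y = 0 := by
    intro y hy hay
    have hmem : y ∈ X ⊓ LinearMap.BilinForm.orthogonal (QuadraticMap.polarBilin Q) X := by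
      refine ⟨hy, ?_⟩
      show ∀ n ∈ X, QuadraticMap.polarBilin Q n y = 0
      intro z hz
      show QuadraticMap.polar Q z y = 0
      obtain ⟨c, hc⟩ : ∃ c, c = (2 * Q a)⁻¹ * QuadraticMap.polar Q a z := ⟨_, rfl⟩
      have hz' : z - c • a ∈ X := X.sub_mem hz (X.smul_mem _ haX)
      have haz' : QuadraticMap.polar Q a (z - c • a) = 0 := by
        rw [hc]; exact hproj z
      have e : z = (z - c • a) + c • a := by abel
      rw [e, QuadraticMap.polar_add_left, QuadraticMap.polar_smul_left, hay, smul_zero, add_zero]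
      unfold QuadraticMap.polar
      rw [hcon' _ (X.add_mem hz' hy) (by rw [QuadraticMap.polar_add_right, haz', hay, add_zero]),
        hcon' _ hz' haz', hcon' y hy hay]
      simp
    rw [hX] at hmem
    exact (Submodule.mem_bot F).1 hmem
  have hle : X ≤ Submodule.span F {a} := by
    intro x hx
    have h1 := hzero _ (X.sub_mem hx (X.smul_mem ((2 * Q a)⁻¹ * QuadraticMap.polar Q a x) haX))
      (hproj x)
    rw [sub_eq_zero] at h1
    rw [h1]
    exact Submodule.smul_mem _ _ (Submodule.mem_span_singleton_self a)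
  have h3 := Submodule.finrank_mono hle
  have h4 := finrank_span_singleton (K := F) ha0
  omega

theorem exists_other (h2 : (2 : F) ≠ 0) (X : Submodule F (ι → F)) (a b : ι → F)
    (haX : a ∈ X) (hbX : b ∈ X) (hQa : Q a ≠ 0) (hQb : Q b ≠ 0)
    (hab : QuadraticMap.polar Q a b = 0) :
    ∃ a' ∈ X, ∃ b' ∈ X, Q a' ≠ 0 ∧ Q b' ≠ 0 ∧ ¬ IsSquare (Q a' * Q b') := by
  classical
  by_cases hsq : IsSquare (Q a * Q b)
  · obtain ⟨c, hc⟩ := hsq
    have hc0 : c ≠ 0 := by
      rintro rfl
      rw [mul_zero] at hc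
      exact mul_ne_zero hQa hQb hc
    have hchar : ringChar F ≠ 2 := by
      intro hr
      apply h2
      have h3 := CharP.cast_eq_zero F (ringChar F)
      rw [hr] at h3
      exact_mod_cast h3
    obtain ⟨ν, hν⟩ := FiniteField.exists_nonsquare (F := F) hchar
    have hν0 : ν ≠ 0 := by
      rintro rfl
      exact hν ⟨0, by simp⟩
    obtain ⟨x, z, hxz⟩ := FiniteField.exists_root_sum_quadratic
      (f := (Polynomial.X : Polynomial F) ^ 2)
      (g := (Polynomial.X : Polynomial F) ^ 2 - Polynomial.C ν)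
      (Polynomial.degree_X_pow 2) (Polynomial.degree_X_pow_sub_C (by norm_num) ν)
      (FiniteField.odd_card_of_char_ne_two hchar)
    simp only [Polynomial.eval_pow, Polynomial.eval_X, Polynomial.eval_sub,
      Polynomial.eval_C] at hxz
    have hQa' : Q (x • a + (z * Q a / c) • b) = Q a * ν := by
      rw [Q_add', QuadraticMap.map_smul, QuadraticMap.map_smul, QuadraticMap.polar_smul_left,
        QuadraticMap.polar_smul_right, hab]
      simp only [smul_eq_mul, mul_zero, add_zero]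
      have e1 : z * Q a / c * (z * Q a / c) * Q b = z * z * Q a * (Q a * Q b) / (c * c) := by ring
      rw [e1, hc, mul_div_assoc, div_self (mul_ne_zero hc0 hc0), mul_one]
      linear_combination (Q a) * hxz
    refine ⟨x • a + (z * Q a / c) • b, X.add_mem (X.smul_mem _ haX) (X.smul_mem _ hbX), a, haX,
      ?_, hQa, ?_⟩
    · rw [hQa']; exact mul_ne_zero hQa hν0
    · rw [hQa']
      rintro ⟨d, hd⟩
      apply hν
      refine ⟨d / Q a, ?_⟩
      have e2 : d / Q a * (d / Q a) = d * d / (Q a * Q a) := by ring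
      rw [e2, ← hd]
      field_simp
  · exact ⟨a, haX, b, hbX, hQa, hQb, hsq⟩

theorem main (hQ : (QuadraticMap.polarBilin Q).Nondegenerate)
    (hn : 3 ≤ Module.finrank F (ι → F))
    (hc : (∃ s : F, s ≠ 0 ∧ s ≠ 1) ∨ Module.finrank F (ι → F) ≠ 4)
    (U W : Submodule F (ι → F))
    (hW : W ⊓ LinearMap.BilinForm.orthogonal (QuadraticMap.polarBilin Q) W = ⊥)
    (φ : U ≃ₗ[F] W) (he : ∀ u : U, Q (φ u : ι → F) = Q (u : ι → F)) :
    ∃ g : ↥(Cfsg.isometryGroup F ⇑Q), g ∈ commutator ↥(Cfsg.isometryGroup F ⇑Q) ∧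
      U.map (Matrix.mulVecLin ((g : Matrix.GeneralLinearGroup ι F) : Matrix ι ι F)) = W := by
  by_cases hWbot : W = ⊥
  · have hUbot : U = ⊥ := by
      rw [eq_bot_iff]
      intro u hu
      have h1 : φ ⟨u, hu⟩ = 0 := by
        have hall := (Submodule.eq_bot_iff W).1 hWbot
        exact Subtype.ext (hall _ (φ ⟨u, hu⟩).2)
      have h3 : (⟨u, hu⟩ : U) = 0 := by simpa using h1
      rw [Submodule.mem_bot]
      exact congrArg Subtype.val h3
    exact ⟨1, Subgroup.one_mem _, by rw [hUbot, hWbot]; exact Submodule.map_bot _⟩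
  obtain ⟨g₀, hg₀⟩ := witt_e Q hQ U W φ he
  have hiso := (mem_iso_iff ⇑Q g₀.1).1 g₀.2
  have hlist : ∃ l : List (ι → F), (∀ d ∈ l, Q d ≠ 0) ∧ Act Q g₀ l := by
    by_cases h2 : (2 : F) = 0
    · exact act_list Q h2 hQ hc g₀
    · obtain ⟨l, hl1, hl2⟩ := Cfsg.Agent.S0792.cd h2 (Module.finrank F (ι → F)) (ι → F) Q hQ rfl
        (Matrix.toLin' ((g₀ : Matrix.GeneralLinearGroup ι F) : Matrix ι ι F))
        (fun v => by rw [Matrix.toLin'_apply]; exact hiso v)
      exact ⟨l, hl1, fun x => by rw [← hl2 x, Matrix.toLin'_apply]⟩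
  obtain ⟨l, hl, hact⟩ := hlist
  have hT : ∀ (a : ι → F) (t : ↥(Cfsg.isometryGroup F ⇑Q)), Q a ≠ 0 → Act Q t [a] → t * t = 1 →
      (Abelianization.of t : Abelianization ↥(Cfsg.isometryGroup F ⇑Q)) ∈
        (Stab Q W).map Abelianization.of := by
    by_cases h2 : (2 : F) = 0
    · have : CharP F 2 := CharTwo.of_one_ne_zero_of_two_eq_zero one_ne_zero h2
      obtain ⟨d, hdW, hQd⟩ := exists_aniso Q W hW hWbot
      obtain ⟨td, htd2, htd⟩ := exists_invol ⇑Q (rfl0 Q d) (rfl0_invol Q d hQd) (rfl0_iso Q d hQd)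
      have htd' : Act Q td [d] := fun x => htd x
      have htdS : td ∈ Stab Q W := refl_stab_in Q W d hdW hQd td htd'
      intro a t ha hta ht2
      have h1 := Cfsg.Agent.S2630.pair_gen Q hQ a d ha hQd t td hta htd' ht2
      have h1' : t * td ∈ (Abelianization.of :
          ↥(Cfsg.isometryGroup F ⇑Q) →* Abelianization ↥(Cfsg.isometryGroup F ⇑Q)).ker := by
        rw [Abelianization.ker_of]; exact h1
      rw [MonoidHom.mem_ker, map_mul] at h1'
      have h3 : (Abelianization.of td : Abelianization ↥(Cfsg.isometryGroup F ⇑Q)) *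
          Abelianization.of td = 1 := by rw [← map_mul, htd2, map_one]
      have h4 : (Abelianization.of t : Abelianization ↥(Cfsg.isometryGroup F ⇑Q)) =
          Abelianization.of td := mul_right_cancel (h1'.trans h3.symm)
      rw [h4]; exact Subgroup.mem_map_of_mem _ htdS
    · have hrefl : (QuadraticMap.polarBilin Q).IsRefl := fun x y h =>
        (QuadraticMap.polar_comm Q y x).trans h
      have hX : ∃ a b : ι → F, Q a ≠ 0 ∧ Q b ≠ 0 ∧ ¬ IsSquare (Q a * Q b) ∧
          (∀ t : ↥(Cfsg.isometryGroup F ⇑Q), Act Q t [a] → t ∈ Stab Q W) ∧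
          (∀ t : ↥(Cfsg.isometryGroup F ⇑Q), Act Q t [b] → t ∈ Stab Q W) := by
        by_cases hdim : 2 ≤ Module.finrank F W
        · obtain ⟨a, haX, b, hbX, hQa, hQb, hab⟩ := exists_aniso2 Q h2 W hW hdim
          obtain ⟨a', ha'X, b', hb'X, hQa', hQb', hns⟩ :=
            exists_other Q h2 W a b haX hbX hQa hQb hab
          exact ⟨a', b', hQa', hQb', hns, fun t ht => refl_stab_in Q W a' ha'X hQa' t ht,
            fun t ht => refl_stab_in Q W b' hb'X hQb' t ht⟩
        · have hfo := LinearMap.BilinForm.finrank_orthogonal hQ W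
          have hoo := LinearMap.BilinForm.orthogonal_orthogonal hQ hrefl W
          have hX' : LinearMap.BilinForm.orthogonal (QuadraticMap.polarBilin Q) W ⊓
              LinearMap.BilinForm.orthogonal (QuadraticMap.polarBilin Q)
                (LinearMap.BilinForm.orthogonal (QuadraticMap.polarBilin Q) W) = ⊥ := by
            rw [hoo, inf_comm]; exact hW
          obtain ⟨a, haX, b, hbX, hQa, hQb, hab⟩ := exists_aniso2 Q h2 _ hX' (by omega)
          obtain ⟨a', ha'X, b', hb'X, hQa', hQb', hns⟩ :=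
            exists_other Q h2 _ a b haX hbX hQa hQb hab
          exact ⟨a', b', hQa', hQb', hns, fun t ht => refl_stab Q W a' (fun w hw => ha'X w hw) t ht,
            fun t ht => refl_stab Q W b' (fun w hw => hb'X w hw) t ht⟩
      obtain ⟨a, b, hQa, hQb, hns, hSa, hSb⟩ := hX
      obtain ⟨ta, hta2, hta⟩ := exists_invol ⇑Q (rfl0 Q a) (rfl0_invol Q a hQa) (rfl0_iso Q a hQa)
      obtain ⟨tb, htb2, htb⟩ := exists_invol ⇑Q (rfl0 Q b) (rfl0_invol Q b hQb) (rfl0_iso Q b hQb)
      have hta' : Act Q ta [a] := fun x => hta x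
      have htb' : Act Q tb [b] := fun x => htb x
      intro d t hd htd ht2
      rcases sq_dich (Q a * Q b) hns (Q d * Q a) (mul_ne_zero hd hQa) with ⟨c, hc⟩ | ⟨c, hc⟩
      · have e0 : Q d / Q a = c / Q a * (c / Q a) := by
          have e1 : c / Q a * (c / Q a) = c * c / (Q a * Q a) := by ring
          rw [e1, ← hc, mul_div_mul_right _ _ hQa]
        have h1 := pi_eq Q hQ d a hd hQa (c / Q a) e0 t ta htd hta' ht2 hta2
        rw [h1]; exact Subgroup.mem_map_of_mem _ (hSa ta hta')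
      · have e0 : Q d / Q b = c / (Q a * Q b) * (c / (Q a * Q b)) := by
          have e1 : c / (Q a * Q b) * (c / (Q a * Q b)) =
              c * c / ((Q a * Q b) * (Q a * Q b)) := by ring
          rw [e1, ← hc]
          field_simp
        have h1 := pi_eq Q hQ d b hd hQb (c / (Q a * Q b)) e0 t tb htd htb' ht2 htb2
        rw [h1]; exact Subgroup.mem_map_of_mem _ (hSb tb htb')
  have hmem := pi_mem Q _ hT l hl g₀ hact
  obtain ⟨c, hcS, hcπ⟩ := Subgroup.mem_map.1 hmem
  refine ⟨c⁻¹ * g₀, ?_, ?_⟩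
  · rw [← Abelianization.ker_of, MonoidHom.mem_ker, map_mul, map_inv, hcπ, inv_mul_cancel]
  · rw [Subgroup.coe_mul, Units.val_mul, Matrix.mulVecLin_mul, Submodule.map_comp, hg₀]
    exact (Stab Q W).inv_mem hcS

end gen

/-- Ω is transitive on non-degenerate subspaces of each isometry type: for a quadratic form Q on F^n, n ≥ 3, with non-degenerate polar form (F finite; excluding dimension 4 over the field of two elements), if U and W are subspaces on which the polar form is non-degenerate and there is a Q-preserving linear isomorphism U → W, then some element of Ω (the commutator subgroup of the orthogonal group) carries U to W. (In dimension 2 this fails: Ω can be {±1}, which fixes every line.) -/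
theorem result {F : Type*} [Field F] [Fintype F] {n : ℕ} (hn : 3 ≤ n) (h : Fintype.card F ≠ 2 ∨ n ≠ 4) (Q : QuadraticForm F (Fin n → F)) (hQ : (QuadraticMap.polarBilin Q).Nondegenerate) (U W : Submodule F (Fin n → F)) (hU : U ⊓ LinearMap.BilinForm.orthogonal (QuadraticMap.polarBilin Q) U = ⊥) (hW : W ⊓ LinearMap.BilinForm.orthogonal (QuadraticMap.polarBilin Q) W = ⊥) (e : U ≃ₗ[F] W) (he : ∀ u : U, Q (e u : Fin n → F) = Q (u : Fin n → F)) : ∃ g : ↥(Cfsg.isometryGroup F ⇑Q), g ∈ Cfsg.Omega F ⇑Q ∧ U.map (Matrix.mulVecLin ((g : Matrix.GeneralLinearGroup (Fin n) F) : Matrix (Fin n) (Fin n) F)) = W := by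
  classical
  have hV : Module.finrank F (Fin n → F) = n := by
    rw [Module.finrank_fintype_fun_eq_card, Fintype.card_fin]
  have hc : (∃ s : F, s ≠ 0 ∧ s ≠ 1) ∨ Module.finrank F (Fin n → F) ≠ 4 := by
    rcases h with h | h
    · left
      by_contra hcon
      push Not at hcon
      apply h
      have huniv : (Finset.univ : Finset F) = {0, 1} := by
        ext s
        simp only [Finset.mem_univ, Finset.mem_insert, Finset.mem_singleton, true_iff]
        by_cases hs : s = 0
        · exact Or.inl hs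
        · exact Or.inr (hcon s hs)
      rw [← Finset.card_univ, huniv, Finset.card_pair zero_ne_one]
    · right
      rw [hV]; exact h
  exact main Q hQ (by rw [hV]; exact hn) hc U W hW e he

end Cfsg.Agent.S2632
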