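import Mathlib
import Cfsg.Statements.S0788
import Cfsg.Agent.S2632

set_option autoImplicit false
open Cfsg

namespace Cfsg.Agent.S0788

open Matrix
open Cfsg.Agent.S5754 (rfl0 rfl0_apply rfl0_invol rfl0_iso rfl0_self)
open Cfsg.Agent.S0792 (app app_cons Q_add')
open Cfsg.Agent.S2628 (mem_iso_iff exists_invol)
open Cfsg.Agent.S2630 (Act act_one act_mul act_list exists_iso_gen)
open Cfsg.Agent.S2631 (pair_sq pi_eq sq_dich)
open Cfsg.Agent.S2633 (pi_mem)

theorem invol_sign {α : Type*} [Fintype α] [DecidableEq α] (τ : Equiv.Perm α) (h : τ * τ = 1) :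
    ∃ k, τ.support.card = 2 * k ∧ Equiv.Perm.sign τ = (-1) ^ k := by
  obtain ⟨k, hk⟩ : ∃ k, τ.cycleType = Multiset.replicate k 2 := by
    refine ⟨Multiset.card τ.cycleType, ?_⟩
    rw [Multiset.eq_replicate_card]
    intro n hn
    have h1 := Equiv.Perm.dvd_of_mem_cycleType hn
    have h2 := Equiv.Perm.two_le_of_mem_cycleType hn
    have h3 : orderOf τ ∣ 2 := orderOf_dvd_of_pow_eq_one (by rw [pow_two]; exact h)
    have h4 := Nat.le_of_dvd (by norm_num) (h1.trans h3)
    omega
  refine ⟨k, ?_, ?_⟩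
  · rw [← Equiv.Perm.sum_cycleType, hk, Multiset.sum_replicate, smul_eq_mul, mul_comm]
  · rw [Equiv.Perm.sign_of_cycleType, hk, Multiset.sum_replicate, Multiset.card_replicate,
      smul_eq_mul, pow_add, pow_mul]
    simp

section gen
open Classical
variable {F : Type*} [Field F] [Fintype F] {ι : Type} [Fintype ι] [DecidableEq ι]
  (Q : QuadraticForm F (ι → F))

/-- the permutation of the vectors of norm `c` induced by an isometry -/
noncomputable def permY (c : F) (g : ↥(Cfsg.isometryGroup F ⇑Q)) :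
    Equiv.Perm {v : ι → F // Q v = c} where
  toFun v := ⟨((g : Matrix.GeneralLinearGroup ι F) : Matrix ι ι F) *ᵥ v.1, by
    rw [(mem_iso_iff ⇑Q g.1).1 g.2]; exact v.2⟩
  invFun v := ⟨(((g⁻¹ : ↥(Cfsg.isometryGroup F ⇑Q)) : Matrix.GeneralLinearGroup ι F) :
      Matrix ι ι F) *ᵥ v.1, by
    rw [(mem_iso_iff ⇑Q (g⁻¹).1).1 (g⁻¹).2]; exact v.2⟩
  left_inv v := Subtype.ext (by
    show (((g⁻¹ : ↥(Cfsg.isometryGroup F ⇑Q)) : Matrix.GeneralLinearGroup ι F) : Matrix ι ι F) *ᵥ
      (((g : Matrix.GeneralLinearGroup ι F) : Matrix ι ι F) *ᵥ v.1) = v.1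
    rw [Matrix.mulVec_mulVec, ← Units.val_mul, ← Subgroup.coe_mul, inv_mul_cancel]
    show (1 : Matrix ι ι F) *ᵥ v.1 = v.1
    rw [Matrix.one_mulVec])
  right_inv v := Subtype.ext (by
    show ((g : Matrix.GeneralLinearGroup ι F) : Matrix ι ι F) *ᵥ
      ((((g⁻¹ : ↥(Cfsg.isometryGroup F ⇑Q)) : Matrix.GeneralLinearGroup ι F) : Matrix ι ι F) *ᵥ
        v.1) = v.1
    rw [Matrix.mulVec_mulVec, ← Units.val_mul, ← Subgroup.coe_mul, mul_inv_cancel]
    show (1 : Matrix ι ι F) *ᵥ v.1 = v.1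
    rw [Matrix.one_mulVec])

/-- the sign of the permutation of the vectors of norm `c` induced by an isometry -/
noncomputable def chi (c : F) : ↥(Cfsg.isometryGroup F ⇑Q) →* ℤˣ :=
  Equiv.Perm.sign.comp
    { toFun := permY Q c
      map_one' := Equiv.ext (fun v => Subtype.ext (by
        show (1 : Matrix ι ι F) *ᵥ v.1 = v.1
        rw [Matrix.one_mulVec]))
      map_mul' := fun g h => Equiv.ext (fun v => Subtype.ext (by
        show (((g * h : ↥(Cfsg.isometryGroup F ⇑Q)) : Matrix.GeneralLinearGroup ι F) :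
          Matrix ι ι F) *ᵥ v.1 = ((g : Matrix.GeneralLinearGroup ι F) : Matrix ι ι F) *ᵥ
            (((h : Matrix.GeneralLinearGroup ι F) : Matrix ι ι F) *ᵥ v.1)
        rw [Subgroup.coe_mul, Units.val_mul, Matrix.mulVec_mulVec])) }

theorem chi_apply (c : F) (g : ↥(Cfsg.isometryGroup F ⇑Q)) :
    chi Q c g = Equiv.Perm.sign (permY Q c g) := rfl

/-- negation on the vectors of norm `c` -/
noncomputable def negY (c : F) : Equiv.Perm {v : ι → F // Q v = c} where
  toFun v := ⟨-v.1, by rw [QuadraticMap.map_neg]; exact v.2⟩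
  invFun v := ⟨-v.1, by rw [QuadraticMap.map_neg]; exact v.2⟩
  left_inv v := Subtype.ext (neg_neg _)
  right_inv v := Subtype.ext (neg_neg _)

theorem chi_refl (h2 : (2 : F) ≠ 0) (c : F) (hc : c ≠ 0) (b : ι → F) (hb : Q b ≠ 0)
    (t : ↥(Cfsg.isometryGroup F ⇑Q)) (ht : Act Q t [b]) :
    chi Q c t = if (∃ s : F, s * s * Q b = c) then -1 else 1 := by
  have hb0 : b ≠ 0 := by
    rintro rfl
    exact hb (QuadraticMap.map_zero Q)
  have hact : ∀ v : {v : ι → F // Q v = c}, (permY Q c t v).1 = rfl0 Q b v.1 := fun v => ht v.1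
  have hν2 : negY Q c * negY Q c = 1 := Equiv.ext (fun v => Subtype.ext (neg_neg _))
  have hτ : ∀ v : {v : ι → F // Q v = c},
      ((negY Q c * permY Q c t) v).1 = -(rfl0 Q b v.1) := fun v => by
    show -(permY Q c t v).1 = _
    rw [hact]
  have hτ2 : (negY Q c * permY Q c t) * (negY Q c * permY Q c t) = 1 :=
    Equiv.ext (fun v => Subtype.ext (by
      show ((negY Q c * permY Q c t) ((negY Q c * permY Q c t) v)).1 = v.1
      rw [hτ, hτ, map_neg, neg_neg]
      exact rfl0_invol Q b hb v.1))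
  have hνsupp : (negY Q c).support = Finset.univ := by
    ext v
    simp only [Equiv.Perm.mem_support, Finset.mem_univ, iff_true]
    intro h
    have h1 : -v.1 = v.1 := congrArg Subtype.val h
    have h3 : v.1 = 0 := by
      have h4 : (2 : F) • v.1 = 0 := by
        rw [two_smul]
        nth_rewrite 1 [← h1]
        exact neg_add_cancel _
      exact (smul_eq_zero.1 h4).resolve_left h2
    have h5 := v.2
    rw [h3, QuadraticMap.map_zero] at h5
    exact hc h5.symm
  obtain ⟨k₁, hk₁, hs₁⟩ := invol_sign (negY Q c) hν2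
  obtain ⟨k₂, hk₂, hs₂⟩ := invol_sign (negY Q c * permY Q c t) hτ2
  rw [hνsupp, Finset.card_univ] at hk₁
  have hσ : permY Q c t = negY Q c * (negY Q c * permY Q c t) := by
    rw [← mul_assoc, hν2, one_mul]
  rw [chi_apply, hσ, map_mul, hs₁, hs₂]
  have hfix : ∀ v : {v : ι → F // Q v = c},
      (negY Q c * permY Q c t) v = v ↔ ∃ s : F, v.1 = s • b := by
    intro v
    constructor
    · intro h
      have h1 : -(rfl0 Q b v.1) = v.1 := by
        rw [← hτ]; exact congrArg Subtype.val h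
      rw [rfl0_apply] at h1
      refine ⟨2⁻¹ * ((Q b)⁻¹ * QuadraticMap.polar Q b v.1), ?_⟩
      have h5 : (2 : F) • v.1 = ((Q b)⁻¹ * QuadraticMap.polar Q b v.1) • b :=
        calc (2 : F) • v.1 = v.1 + v.1 := two_smul _ _
          _ = v.1 + -(v.1 - ((Q b)⁻¹ * QuadraticMap.polar Q b v.1) • b) := by rw [h1]
          _ = ((Q b)⁻¹ * QuadraticMap.polar Q b v.1) • b := by abel
      rw [mul_smul, ← h5, smul_smul, inv_mul_cancel₀ h2, one_smul]
    · rintro ⟨s, hs⟩
      apply Subtype.ext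
      rw [hτ, hs, map_smul, rfl0_self Q b hb, smul_neg, neg_neg]
  have hmm : ((-1 : ℤˣ)) ^ k₂ * (-1) ^ k₂ = 1 := by
    rw [← mul_pow]; simp
  split_ifs with hex
  · obtain ⟨s₀, hs₀⟩ := hex
    have hs₀0 : s₀ ≠ 0 := by
      rintro rfl
      rw [mul_zero, zero_mul] at hs₀
      exact hc hs₀.symm
    have hQp : Q (s₀ • b) = c := by
      rw [QuadraticMap.map_smul, smul_eq_mul]; exact hs₀
    have hQq : Q ((-s₀) • b) = c := by
      rw [QuadraticMap.map_smul, smul_eq_mul, neg_mul_neg]; exact hs₀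
    have hsuppτ : (negY Q c * permY Q c t).support =
        Finset.univ \ {(⟨s₀ • b, hQp⟩ : {v : ι → F // Q v = c}), ⟨(-s₀) • b, hQq⟩} := by
      ext v
      simp only [Equiv.Perm.mem_support, Finset.mem_sdiff, Finset.mem_univ, true_and,
        Finset.mem_insert, Finset.mem_singleton]
      rw [ne_eq, not_iff_not, hfix]
      constructor
      · rintro ⟨s, hs⟩
        have h6 : s * s * Q b = c := by
          have h7 := v.2
          rw [hs, QuadraticMap.map_smul, smul_eq_mul] at h7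
          exact h7
        have h7 : s * s = s₀ * s₀ := mul_right_cancel₀ hb (h6.trans hs₀.symm)
        rcases mul_self_eq_mul_self_iff.1 h7 with h8 | h8
        · left; exact Subtype.ext (by rw [hs, h8])
        · right; exact Subtype.ext (by rw [hs, h8])
      · rintro (h | h)
        · exact ⟨s₀, congrArg Subtype.val h⟩
        · exact ⟨-s₀, congrArg Subtype.val h⟩
    have hpq : (⟨s₀ • b, hQp⟩ : {v : ι → F // Q v = c}) ≠ ⟨(-s₀) • b, hQq⟩ := by
      intro h
      have h1 : s₀ • b = (-s₀) • b := congrArg Subtype.val h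
      have h3 : (s₀ + s₀) • b = 0 := by
        rw [add_smul]
        nth_rewrite 2 [h1]
        rw [neg_smul, add_neg_cancel]
      rcases smul_eq_zero.1 h3 with h4 | h4
      · have h5 : (2 : F) * s₀ = 0 := by rw [two_mul]; exact h4
        rcases mul_eq_zero.1 h5 with h6 | h6
        · exact h2 h6
        · exact hs₀0 h6
      · exact hb0 h4
    have h9 := Finset.card_sdiff_add_card_eq_card (Finset.subset_univ
      ({(⟨s₀ • b, hQp⟩ : {v : ι → F // Q v = c}), ⟨(-s₀) • b, hQq⟩} : Finset {v : ι → F // Q v = c}))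
    rw [Finset.card_pair hpq, Finset.card_univ] at h9
    rw [hsuppτ] at hk₂
    have hk : k₁ = k₂ + 1 := by omega
    rw [hk, pow_succ, mul_right_comm, hmm, one_mul]
  · have hsuppτ : (negY Q c * permY Q c t).support = Finset.univ := by
      ext v
      simp only [Equiv.Perm.mem_support, Finset.mem_univ, iff_true]
      intro h
      obtain ⟨s, hs⟩ := (hfix v).1 h
      apply hex
      refine ⟨s, ?_⟩
      have h7 := v.2
      rw [hs, QuadraticMap.map_smul, smul_eq_mul] at h7
      exact h7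
    rw [hsuppτ, Finset.card_univ] at hk₂
    have hk : k₁ = k₂ := by omega
    rw [hk, hmm]

theorem ker_eq (h2 : (2 : F) ≠ 0) (hQ : (QuadraticMap.polarBilin Q).Nondegenerate)
    (a b : ι → F) (hQa : Q a ≠ 0) (hQb : Q b ≠ 0) (hns : ¬ IsSquare (Q a * Q b))
    (ta tb : ↥(Cfsg.isometryGroup F ⇑Q)) (hta : Act Q ta [a]) (htb : Act Q tb [b])
    (hta2 : ta * ta = 1) (htb2 : tb * tb = 1) :
    (chi Q (Q a) ta = -1 ∧ chi Q (Q b) ta = 1 ∧ chi Q (Q a) tb = 1 ∧ chi Q (Q b) tb = -1) ∧
    ∀ g : ↥(Cfsg.isometryGroup F ⇑Q),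
      g ∈ commutator ↥(Cfsg.isometryGroup F ⇑Q) ↔ (chi Q (Q a) g = 1 ∧ chi Q (Q b) g = 1) := by
  have haa : chi Q (Q a) ta = -1 := by
    rw [chi_refl Q h2 (Q a) hQa a hQa ta hta, if_pos ⟨1, by ring⟩]
  have hba : chi Q (Q b) ta = 1 := by
    rw [chi_refl Q h2 (Q b) hQb a hQa ta hta, if_neg]
    rintro ⟨s, hs⟩
    exact hns ⟨s * Q a, by rw [← hs]; ring⟩
  have hab : chi Q (Q a) tb = 1 := by
    rw [chi_refl Q h2 (Q a) hQa b hQb tb htb, if_neg]
    rintro ⟨s, hs⟩
    exact hns ⟨s * Q b, by rw [← hs]; ring⟩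
  have hbb : chi Q (Q b) tb = -1 := by
    rw [chi_refl Q h2 (Q b) hQb b hQb tb htb, if_pos ⟨1, by ring⟩]
  refine ⟨⟨haa, hba, hab, hbb⟩, fun g => ⟨fun hg => ⟨?_, ?_⟩, ?_⟩⟩
  · exact MonoidHom.mem_ker.1 (Abelianization.commutator_subset_ker (chi Q (Q a)) hg)
  · exact MonoidHom.mem_ker.1 (Abelianization.commutator_subset_ker (chi Q (Q b)) hg)
  · rintro ⟨hga, hgb⟩
    have hiso := (mem_iso_iff ⇑Q g.1).1 g.2
    obtain ⟨l, hl1, hl2⟩ := Cfsg.Agent.S0792.cd h2 (Module.finrank F (ι → F)) (ι → F) Q hQ rfl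
      (Matrix.toLin' ((g : Matrix.GeneralLinearGroup ι F) : Matrix ι ι F))
      (fun v => by rw [Matrix.toLin'_apply]; exact hiso v)
    have hact : Act Q g l := fun x => by rw [← hl2 x, Matrix.toLin'_apply]
    have hT : ∀ (d : ι → F) (t : ↥(Cfsg.isometryGroup F ⇑Q)), Q d ≠ 0 → Act Q t [d] → t * t = 1 →
        (Abelianization.of t : Abelianization ↥(Cfsg.isometryGroup F ⇑Q)) ∈
          Subgroup.closure {Abelianization.of ta, Abelianization.of tb} := by
      intro d t hd htd ht2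
      rcases sq_dich (Q a * Q b) hns (Q d * Q a) (mul_ne_zero hd hQa) with ⟨c, hc⟩ | ⟨c, hc⟩
      · have e0 : Q d / Q a = c / Q a * (c / Q a) := by
          have e1 : c / Q a * (c / Q a) = c * c / (Q a * Q a) := by ring
          rw [e1, ← hc, mul_div_mul_right _ _ hQa]
        rw [pi_eq Q hQ d a hd hQa (c / Q a) e0 t ta htd hta ht2 hta2]
        exact Subgroup.subset_closure (Set.mem_insert _ _)
      · have e0 : Q d / Q b = c / (Q a * Q b) * (c / (Q a * Q b)) := by
          have e1 : c / (Q a * Q b) * (c / (Q a * Q b)) =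
              c * c / ((Q a * Q b) * (Q a * Q b)) := by ring
          rw [e1, ← hc]
          field_simp
        rw [pi_eq Q hQ d b hd hQb (c / (Q a * Q b)) e0 t tb htd htb ht2 htb2]
        exact Subgroup.subset_closure (Set.mem_insert_of_mem _ rfl)
    have hmem := pi_mem Q _ hT l hl1 g hact
    obtain ⟨m, n, hmn⟩ := Subgroup.mem_closure_pair.1 hmem
    have hρa : (Abelianization.of ta : Abelianization ↥(Cfsg.isometryGroup F ⇑Q)) ^ (2 : ℤ) = 1 := by
      rw [zpow_two, ← map_mul, hta2, map_one]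
    have hρb : (Abelianization.of tb : Abelianization ↥(Cfsg.isometryGroup F ⇑Q)) ^ (2 : ℤ) = 1 := by
      rw [zpow_two, ← map_mul, htb2, map_one]
    have hpa : (Abelianization.of ta : Abelianization ↥(Cfsg.isometryGroup F ⇑Q)) ^ m = 1 ∨
        (Abelianization.of ta : Abelianization ↥(Cfsg.isometryGroup F ⇑Q)) ^ m =
          Abelianization.of ta := by
      rcases Int.even_or_odd' m with ⟨j, hj | hj⟩
      · left; rw [hj, _root_.zpow_mul, hρa, _root_.one_zpow]
      · right; rw [hj, _root_.zpow_add_one, _root_.zpow_mul, hρa, _root_.one_zpow, one_mul]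
    have hpb : (Abelianization.of tb : Abelianization ↥(Cfsg.isometryGroup F ⇑Q)) ^ n = 1 ∨
        (Abelianization.of tb : Abelianization ↥(Cfsg.isometryGroup F ⇑Q)) ^ n =
          Abelianization.of tb := by
      rcases Int.even_or_odd' n with ⟨j, hj | hj⟩
      · left; rw [hj, _root_.zpow_mul, hρb, _root_.one_zpow]
      · right; rw [hj, _root_.zpow_add_one, _root_.zpow_mul, hρb, _root_.one_zpow, one_mul]
    have hla : Abelianization.lift (chi Q (Q a)) (Abelianization.of g) = 1 := by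
      rw [Abelianization.lift_apply_of]; exact hga
    have hlb : Abelianization.lift (chi Q (Q b)) (Abelianization.of g) = 1 := by
      rw [Abelianization.lift_apply_of]; exact hgb
    have hne : (-1 : ℤˣ) ≠ 1 := by decide
    rw [← Abelianization.ker_of, MonoidHom.mem_ker]
    rw [← hmn] at hla hlb ⊢
    rcases hpa with h1 | h1 <;> rcases hpb with h3 | h3
    · rw [h1, h3, one_mul]
    · rw [h1, h3, one_mul, Abelianization.lift_apply_of, hbb] at hlb
      exact absurd hlb hne
    · rw [h1, h3, mul_one, Abelianization.lift_apply_of, haa] at hla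
      exact absurd hla hne
    · rw [h1, h3, map_mul, Abelianization.lift_apply_of, Abelianization.lift_apply_of, haa, hab,
        mul_one] at hla
      exact absurd hla hne

end gen

/-- Ω has index 4 in O for q odd: if F is finite of odd characteristic, n ≥ 2 and Q is a quadratic form on F^n with non-degenerate polar form, then the commutator subgroup of the isometry group of Q (the group Ω of our definitions) has index 4 in it. -/
theorem result {F : Type*} [Field F] [Fintype F] (h2 : (2 : F) ≠ 0) {n : ℕ} (hn : 2 ≤ n) (Q : QuadraticForm F (Fin n → F)) (hQ : (QuadraticMap.polarBilin Q).Nondegenerate) : (Cfsg.Omega F ⇑Q).index = 4 := by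
  classical
  have hV : Module.finrank F (Fin n → F) = n := by
    rw [Module.finrank_fintype_fun_eq_card, Fintype.card_fin]
  have htop : (⊤ : Submodule F (Fin n → F)) ⊓
      LinearMap.BilinForm.orthogonal (QuadraticMap.polarBilin Q) ⊤ = ⊥ := by
    rw [eq_bot_iff]
    rintro x ⟨-, hx⟩
    rw [Submodule.mem_bot]
    apply hQ.1 x
    intro y
    show QuadraticMap.polar Q x y = 0
    rw [QuadraticMap.polar_comm]
    exact hx y Submodule.mem_top
  obtain ⟨a₀, -, b₀, -, hQa₀, hQb₀, hab₀⟩ := Cfsg.Agent.S2632.exists_aniso2 Q h2 ⊤ htop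
    (by rw [finrank_top, hV]; exact hn)
  obtain ⟨a, -, b, -, hQa, hQb, hns⟩ := Cfsg.Agent.S2632.exists_other Q h2 ⊤ a₀ b₀
    Submodule.mem_top Submodule.mem_top hQa₀ hQb₀ hab₀
  obtain ⟨ta, hta2, hta⟩ := Cfsg.Agent.S2628.exists_invol ⇑Q (rfl0 Q a) (rfl0_invol Q a hQa)
    (rfl0_iso Q a hQa)
  obtain ⟨tb, htb2, htb⟩ := Cfsg.Agent.S2628.exists_invol ⇑Q (rfl0 Q b) (rfl0_invol Q b hQb)
    (rfl0_iso Q b hQb)
  obtain ⟨⟨haa, hba, hab, hbb⟩, hker⟩ := ker_eq Q h2 hQ a b hQa hQb hns ta tb (fun x => hta x)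
    (fun x => htb x) hta2 htb2
  have hkerΨ : ((chi Q (Q a)).prod (chi Q (Q b))).ker = Cfsg.Omega F ⇑Q := by
    ext g
    rw [MonoidHom.mem_ker, MonoidHom.prod_apply, Prod.mk_eq_one]
    exact (hker g).symm
  have hsurj : ((chi Q (Q a)).prod (chi Q (Q b))).range = ⊤ := by
    rw [eq_top_iff]
    rintro ⟨x, y⟩ -
    rcases Int.units_eq_one_or x with rfl | rfl <;> rcases Int.units_eq_one_or y with rfl | rfl
    · exact ⟨1, by rw [map_one]; rfl⟩
    · exact ⟨tb, by rw [MonoidHom.prod_apply, hab, hbb]⟩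
    · exact ⟨ta, by rw [MonoidHom.prod_apply, haa, hba]⟩
    · exact ⟨ta * tb, by rw [map_mul, MonoidHom.prod_apply, MonoidHom.prod_apply, haa, hba, hab, hbb]; rfl⟩
  rw [← hkerΨ, Subgroup.index_ker, hsurj, Subgroup.card_top, Nat.card_prod, Nat.card_eq_fintype_card,
    Fintype.card_units_int]

end Cfsg.Agent.S0788
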