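import Mathlib
import Cfsg.Statements.S2609
import Cfsg.Agent.S0788

set_option autoImplicit false
open Cfsg

namespace Cfsg.Agent.S2609

open Matrix
open Cfsg.Agent.S5754 (rfl0 rfl0_apply rfl0_invol rfl0_iso rfl0_self)
open Cfsg.Agent.S0792 (app app_cons Q_add')
open Cfsg.Agent.S2628 (mem_iso_iff exists_invol)
open Cfsg.Agent.S2630 (Act act_one act_mul act_list exists_iso_gen)
open Cfsg.Agent.S0788 (chi chi_refl ker_eq)

section gen
open Classical
variable {F : Type*} [Field F] [Fintype F] {ι : Type} [Fintype ι] [DecidableEq ι]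
  (Q : QuadraticForm F (ι → F))

theorem chiZ1 (h2 : (2 : F) ≠ 0) (c : F) (hc : c ≠ 0) (b : ι → F) (hb : Q b ≠ 0)
    (t : ↥(Cfsg.isometryGroup F ⇑Q)) (ht : Act Q t [b]) :
    ((chi Q c t : ℤˣ) : ℤ) = -quadraticChar F (c * Q b) := by
  rw [chi_refl Q h2 c hc b hb t ht]
  split_ifs with hex
  · obtain ⟨s, hs⟩ := hex
    have h1 : IsSquare (c * Q b) := ⟨s * Q b, by rw [← hs]; ring⟩
    rw [(quadraticChar_one_iff_isSquare (mul_ne_zero hc hb)).2 h1]
    rfl
  · have h1 : ¬ IsSquare (c * Q b) := by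
      rintro ⟨r, hr⟩
      apply hex
      refine ⟨r / Q b, ?_⟩
      have e1 : r / Q b * (r / Q b) * Q b = r * r / Q b := by field_simp
      rw [e1, ← hr, mul_div_assoc, div_self hb, mul_one]
    rw [quadraticChar_neg_one_iff_not_isSquare.2 h1]
    rfl

theorem chiZ (h2 : (2 : F) ≠ 0) (c : F) (hc : c ≠ 0) :
    ∀ (l : List (ι → F)), (∀ d ∈ l, Q d ≠ 0) → ∀ g : ↥(Cfsg.isometryGroup F ⇑Q), Act Q g l →
      ((chi Q c g : ℤˣ) : ℤ) =
        (-quadraticChar F c) ^ l.length * quadraticChar F (l.map (fun v => Q v)).prod := by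
  intro l
  induction l with
  | nil =>
    intro _ g hg
    have h1 : g = 1 := by
      apply Subtype.ext
      apply Units.ext
      show ((g : Matrix.GeneralLinearGroup ι F) : Matrix ι ι F) = 1
      apply Cfsg.Agent.Lib.Helper5.matrix_ext_mulVec
      intro x
      rw [hg x, Matrix.one_mulVec]; rfl
    rw [h1, map_one]
    simp
  | cons d l' ih =>
    intro hQl g hg
    have hd := hQl d List.mem_cons_self
    obtain ⟨td, htd2, htd⟩ := exists_invol ⇑Q (rfl0 Q d) (rfl0_invol Q d hd) (rfl0_iso Q d hd)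
    have hg' : Act Q (td * g) l' := fun x => by
      rw [Subgroup.coe_mul, Units.val_mul, ← Matrix.mulVec_mulVec, hg x, htd]
      show rfl0 Q d (rfl0 Q d (app Q l' x)) = app Q l' x
      rw [rfl0_invol Q d hd]
    have h1 := ih (fun d' hd' => hQl d' (List.mem_cons_of_mem _ hd')) _ hg'
    have e : g = td * (td * g) := by rw [← mul_assoc, htd2, one_mul]
    rw [e, map_mul, Units.val_mul, h1, chiZ1 Q h2 c hc d hd td (fun x => htd x), List.length_cons,
      List.map_cons, List.prod_cons, map_mul, map_mul, pow_succ]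
    ring

theorem crit (h2 : (2 : F) ≠ 0) (hQ : (QuadraticMap.polarBilin Q).Nondegenerate)
    (hn : 2 ≤ Module.finrank F (ι → F)) (g : ↥(Cfsg.isometryGroup F ⇑Q)) (l : List (ι → F))
    (hl : ∀ d ∈ l, Q d ≠ 0) (hg : Act Q g l) :
    g ∈ commutator ↥(Cfsg.isometryGroup F ⇑Q) ↔
      (Even l.length ∧ IsSquare (l.map (fun v => Q v)).prod) := by
  have htop : (⊤ : Submodule F (ι → F)) ⊓
      LinearMap.BilinForm.orthogonal (QuadraticMap.polarBilin Q) ⊤ = ⊥ := by
    rw [eq_bot_iff]
    rintro x ⟨-, hx⟩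
    rw [Submodule.mem_bot]
    apply hQ.1 x
    intro y
    show QuadraticMap.polar Q x y = 0
    rw [QuadraticMap.polar_comm]
    exact hx y Submodule.mem_top
  obtain ⟨a₀, -, b₀, -, hQa₀, hQb₀, hab₀⟩ := Cfsg.Agent.S2632.exists_aniso2 Q h2 ⊤ htop
    (by rw [finrank_top]; exact hn)
  obtain ⟨a, -, b, -, hQa, hQb, hns⟩ := Cfsg.Agent.S2632.exists_other Q h2 ⊤ a₀ b₀
    Submodule.mem_top Submodule.mem_top hQa₀ hQb₀ hab₀
  obtain ⟨ta, hta2, hta⟩ := exists_invol ⇑Q (rfl0 Q a) (rfl0_invol Q a hQa) (rfl0_iso Q a hQa)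
  obtain ⟨tb, htb2, htb⟩ := exists_invol ⇑Q (rfl0 Q b) (rfl0_invol Q b hQb) (rfl0_iso Q b hQb)
  obtain ⟨-, hker⟩ := ker_eq Q h2 hQ a b hQa hQb hns ta tb (fun x => hta x) (fun x => htb x)
    hta2 htb2
  rw [hker g]
  have hX := chiZ Q h2 (Q a) hQa l hl g hg
  have hY := chiZ Q h2 (Q b) hQb l hl g hg
  have hP0 : (l.map (fun v => Q v)).prod ≠ 0 := by
    apply List.prod_ne_zero
    intro h0
    obtain ⟨d, hd, hd0⟩ := List.mem_map.1 h0
    exact hl d hd hd0
  have hεε : quadraticChar F (Q a) * quadraticChar F (Q b) = -1 := by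
    rw [← map_mul]; exact quadraticChar_neg_one_iff_not_isSquare.2 hns
  have hsq : ∀ x : F, x ≠ 0 → quadraticChar F x * quadraticChar F x = 1 := by
    intro x hx
    rcases quadraticChar_dichotomy hx with h | h <;> rw [h] <;> norm_num
  have hevenpow : ∀ (ε : ℤ) (k : ℕ), ε * ε = 1 → Even k → (-ε) ^ k = 1 := by
    intro ε k hε hk
    obtain ⟨j, rfl⟩ := hk
    rw [pow_add, ← mul_pow, neg_mul_neg, hε, one_pow]
  have hone : ∀ u : ℤˣ, u = 1 ↔ (u : ℤ) = 1 := fun u => by
    rw [Units.ext_iff, Units.val_one]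
  rw [hone, hone, hX, hY]
  constructor
  · rintro ⟨h1, h3⟩
    have h4 : ((-quadraticChar F (Q a)) ^ l.length * quadraticChar F (l.map (fun v => Q v)).prod) *
        ((-quadraticChar F (Q b)) ^ l.length * quadraticChar F (l.map (fun v => Q v)).prod) =
        (-1) ^ l.length := by
      have e1 : ((-quadraticChar F (Q a)) ^ l.length * quadraticChar F (l.map (fun v => Q v)).prod) *
        ((-quadraticChar F (Q b)) ^ l.length * quadraticChar F (l.map (fun v => Q v)).prod) =
        ((-quadraticChar F (Q a)) * (-quadraticChar F (Q b))) ^ l.length *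
          (quadraticChar F (l.map (fun v => Q v)).prod *
            quadraticChar F (l.map (fun v => Q v)).prod) := by
        rw [mul_pow]; ring
      rw [e1, neg_mul_neg, hεε, hsq _ hP0, mul_one]
    rw [h1, h3, one_mul] at h4
    have hk : Even l.length := (neg_one_pow_eq_one_iff_even (by norm_num : (-1 : ℤ) ≠ 1)).1 h4.symm
    refine ⟨hk, ?_⟩
    rw [hevenpow _ _ (hsq _ hQa) hk, one_mul] at h1
    exact (quadraticChar_one_iff_isSquare hP0).1 h1
  · rintro ⟨hk, hsqP⟩
    have hE := (quadraticChar_one_iff_isSquare hP0).2 hsqP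
    rw [hevenpow _ _ (hsq _ hQa) hk, hevenpow _ _ (hsq _ hQb) hk, hE]
    exact ⟨one_mul _, one_mul _⟩

end gen

/-- Spinor norm criterion for Ω over a finite field of odd order: let Q be a quadratic form on F^n, n ≥ 2, with non-degenerate polar form, and let g be an isometry written as a product of reflections in non-singular vectors v_1, …, v_k. Then g lies in Ω (the commutator subgroup of the orthogonal group) if and only if k is even and Q(v_1)⋯Q(v_k) is a square; in particular, for g of determinant one, whether that product is a square does not depend on the chosen factorisation (it is the spinor norm of g). -/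
theorem result {F : Type*} [Field F] [Fintype F] (h2 : (2 : F) ≠ 0) {n : ℕ} (hn : 2 ≤ n) (Q : QuadraticForm F (Fin n → F)) (hQ : (QuadraticMap.polarBilin Q).Nondegenerate) (g : ↥(Cfsg.isometryGroup F ⇑Q)) (vs : List (Fin n → F)) (hvs : ∀ v ∈ vs, Q v ≠ 0) (hg : ((g : Matrix.GeneralLinearGroup (Fin n) F) : Matrix (Fin n) (Fin n) F) = (vs.map (fun v => Cfsg.reflectionMatrix ⇑Q v)).prod) : g ∈ Cfsg.Omega F ⇑Q ↔ (Even vs.length ∧ IsSquare (vs.map (fun v => Q v)).prod) := by
  classical
  have hV : Module.finrank F (Fin n → F) = n := by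
    rw [Module.finrank_fintype_fun_eq_card, Fintype.card_fin]
  have hact : Act Q g vs := fun x => by
    rw [hg]
    exact Cfsg.Agent.S0792.prod_mulVec Q vs x
  exact crit Q h2 hQ (by rw [hV]; exact hn) g vs hvs hact

end Cfsg.Agent.S2609
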