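import Mathlib
import Cfsg.Statements.S0790
import Cfsg.Agent.S2609
import Cfsg.Agent.S2169

set_option autoImplicit false
open Cfsg

namespace Cfsg.Agent.S0790

open Matrix
open Cfsg.Agent.S5754 (rfl0 rfl0_apply)
open Cfsg.Agent.S0792 (app app_cons)
open Cfsg.Agent.S2628 (mem_iso_iff exists_invol)
open Cfsg.Agent.S2630 (Act)

section
variable {F : Type*} [Field F] {m : ℕ}

/-- the vector `e_j + s f_j` -/
def uv (s : F) (j : Fin m) : Fin m ⊕ Fin m → F := Sum.elim (Pi.single j 1) (Pi.single j s)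

theorem polar_plus (d x : Fin m ⊕ Fin m → F) :
    QuadraticMap.polar (Cfsg.quadFormPlus m F) d x =
      ∑ i : Fin m, (d (Sum.inl i) * x (Sum.inr i) + x (Sum.inl i) * d (Sum.inr i)) := by
  simp only [QuadraticMap.polar, Cfsg.quadFormPlus, Pi.add_apply, ← Finset.sum_sub_distrib]
  exact Finset.sum_congr rfl (fun i _ => by ring)

theorem Q_uv (s : F) (j : Fin m) : Cfsg.quadFormPlus m F (uv s j) = s := by
  unfold Cfsg.quadFormPlus uv
  simp only [Sum.elim_inl, Sum.elim_inr]
  rw [Finset.sum_eq_single j]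
  · simp
  · intro i _ hij
    simp [hij]
  · intro h; exact absurd (Finset.mem_univ j) h

theorem polar_uv (s : F) (j : Fin m) (x : Fin m ⊕ Fin m → F) :
    QuadraticMap.polar (Cfsg.quadFormPlus m F) (uv s j) x = x (Sum.inr j) + s * x (Sum.inl j) := by
  rw [polar_plus]
  unfold uv
  simp only [Sum.elim_inl, Sum.elim_inr]
  rw [Finset.sum_eq_single j]
  · simp; ring
  · intro i _ hij
    simp [hij]
  · intro h; exact absurd (Finset.mem_univ j) h

variable (Qp : QuadraticForm F (Fin m ⊕ Fin m → F)) (hQp : ⇑Qp = Cfsg.quadFormPlus m F)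
include hQp

theorem neg_j (j : Fin m) (x : Fin m ⊕ Fin m → F) :
    rfl0 Qp (uv 1 j) (rfl0 Qp (uv (-1) j) x) =
      fun i => if Sum.elim id id i = j then - x i else x i := by
  have hp : ∀ d y, QuadraticMap.polar (⇑Qp) d y = QuadraticMap.polar (Cfsg.quadFormPlus m F) d y := by
    intro d y; rw [hQp]
  have hq : ∀ d, Qp d = Cfsg.quadFormPlus m F d := by
    intro d; rw [hQp]
  have e1 : ∀ y, rfl0 Qp (uv 1 j) y = y - (y (Sum.inr j) + y (Sum.inl j)) • uv 1 j := by
    intro y
    rw [rfl0_apply, hp, hq, polar_uv, Q_uv, inv_one, one_mul, one_mul]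
  have e2 : ∀ y, rfl0 Qp (uv (-1) j) y = y + (y (Sum.inr j) - y (Sum.inl j)) • uv (-1) j := by
    intro y
    rw [rfl0_apply, hp, hq, polar_uv, Q_uv]
    have : ((-1 : F))⁻¹ = -1 := by rw [inv_neg, inv_one]
    rw [this, sub_eq_add_neg, ← neg_smul]
    congr 2
    ring
  rw [e1, e2]
  funext i
  rcases i with i | i
  · by_cases hij : i = j
    · subst hij
      simp [uv]
    · simp [uv, hij]
  · by_cases hij : i = j
    · subst hij
      simp [uv]
    · simp [uv, hij]

/-- the list of reflections whose product is `-1` on the coordinates in `L` -/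
def lst (L : List (Fin m)) : List (Fin m ⊕ Fin m → F) :=
  L.flatMap (fun j => [uv 1 j, uv (-1) j])

omit hQp in
theorem lst_cons (a : Fin m) (L : List (Fin m)) :
    lst (F := F) (a :: L) = uv 1 a :: uv (-1) a :: lst L := by
  unfold lst
  rw [List.flatMap_cons]
  rfl

omit hQp in
theorem lst_len (L : List (Fin m)) : (lst (F := F) L).length = 2 * L.length := by
  induction L with
  | nil => rfl
  | cons a L ih => rw [lst_cons, List.length_cons, List.length_cons, ih, List.length_cons]; ring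

theorem lst_prod (L : List (Fin m)) :
    ((lst (F := F) L).map (fun v => Qp v)).prod = (-1) ^ L.length := by
  induction L with
  | nil => simp [lst]
  | cons a L ih =>
    rw [lst_cons, List.map_cons, List.map_cons, List.prod_cons, List.prod_cons, ih,
      List.length_cons, hQp, Q_uv, Q_uv, pow_succ]
    ring

theorem lst_ne (L : List (Fin m)) : ∀ d ∈ lst (F := F) L, Qp d ≠ 0 := by
  intro d hd
  unfold lst at hd
  rw [List.mem_flatMap] at hd
  obtain ⟨j, -, hj⟩ := hd
  rw [hQp]
  simp only [List.mem_cons, List.not_mem_nil, or_false] at hj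
  rcases hj with rfl | rfl
  · rw [Q_uv]; exact one_ne_zero
  · rw [Q_uv]; exact neg_ne_zero.2 one_ne_zero

theorem lst_app (L : List (Fin m)) (x : Fin m ⊕ Fin m → F) :
    app Qp (lst L) x = fun i => (-1) ^ (L.count (Sum.elim id id i)) * x i := by
  induction L with
  | nil => funext i; simp [lst, app]
  | cons a L ih =>
    rw [lst_cons, app_cons, app_cons, ih, neg_j Qp hQp]
    funext i
    by_cases hi : Sum.elim id id i = a
    · rw [if_pos hi, hi, List.count_cons_self, pow_succ]; ring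
    · rw [if_neg hi, List.count_cons_of_ne (fun h => hi h.symm)]

end

theorem nt {F : Type*} [Field F] [Fintype F] {q : ℕ} (hF : Fintype.card F = q) (hodd : Odd q)
    (m : ℕ) : IsSquare ((-1 : F) ^ m) ↔ q ^ m % 4 = 1 := by
  have hq : q % 4 = 1 ∨ q % 4 = 3 := by
    obtain ⟨k, rfl⟩ := hodd
    omega
  have hsq : IsSquare (-1 : F) ↔ q % 4 ≠ 3 := by
    rw [← hF]; exact FiniteField.isSquare_neg_one_iff
  rcases hq with hq | hq
  · have h1 : IsSquare (-1 : F) := hsq.2 (by omega)
    have h3 : q ^ m % 4 = 1 := by rw [Nat.pow_mod, hq, one_pow]; norm_num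
    exact ⟨fun _ => h3, fun _ => h1.pow m⟩
  · have h1 : ¬ IsSquare (-1 : F) := fun h => (hsq.1 h) hq
    rcases Nat.even_or_odd m with ⟨k, rfl⟩ | ⟨k, rfl⟩
    · have h3 : q ^ (k + k) % 4 = 1 := by
        rw [Nat.pow_mod, hq, ← two_mul, pow_mul]
        norm_num
        rw [Nat.pow_mod]
        norm_num
      refine ⟨fun _ => h3, fun _ => ?_⟩
      rw [← two_mul, pow_mul]
      norm_num
    · have h3 : q ^ (2 * k + 1) % 4 = 3 := by
        rw [Nat.pow_mod, hq, pow_succ, pow_mul, Nat.mul_mod, Nat.pow_mod]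
        norm_num
      have h4 : (-1 : F) ^ (2 * k + 1) = -1 := by
        rw [pow_succ, pow_mul]; norm_num
      rw [h4, h3]
      exact ⟨fun h => absurd h h1, fun h => by omega⟩

/-- −1 ∈ Ω⁺_2m(q) iff q^m ≡ 1 (mod 4), for q odd and m ≥ 1 (so that in the other case SO⁺_2m(q) = 2 × Ω⁺_2m(q)). -/
theorem result {F : Type*} [Field F] [Fintype F] {q : ℕ} (hF : Fintype.card F = q) (hodd : Odd q) (m : ℕ) (hm : 1 ≤ m) : (∃ g : ↥(Cfsg.isometryGroup F (Cfsg.quadFormPlus m F)), g ∈ Cfsg.Omega F (Cfsg.quadFormPlus m F) ∧ ((g : Matrix.GeneralLinearGroup (Fin m ⊕ Fin m) F) : Matrix (Fin m ⊕ Fin m) (Fin m ⊕ Fin m) F) = -1) ↔ q ^ m % 4 = 1 := by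
  classical
  have h2 : (2 : F) ≠ 0 := by
    intro h
    have h3 : ringChar F = 2 := CharP.ringChar_of_prime_eq_zero Nat.prime_two h
    have h4 := FiniteField.even_card_iff_char_two.1 h3
    rw [hF] at h4
    obtain ⟨k, rfl⟩ := hodd
    omega
  obtain ⟨Qp, hQp, hnd⟩ := Cfsg.Agent.S2169.exists_Qp (F := F) m
  have key : ∀ (Qf : (Fin m ⊕ Fin m → F) → F), ⇑Qp = Qf →
      ((∃ g : ↥(Cfsg.isometryGroup F Qf), g ∈ Cfsg.Omega F Qf ∧ ((g : Matrix.GeneralLinearGroup (Fin m ⊕ Fin m) F) : Matrix (Fin m ⊕ Fin m) (Fin m ⊕ Fin m) F) = -1) ↔ q ^ m % 4 = 1) := by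
    rintro _ rfl
    obtain ⟨g0, -, hg0⟩ := exists_invol (⇑Qp) (-LinearMap.id) (fun x => by simp)
      (fun x => by simp)
    have hmat : ((g0 : Matrix.GeneralLinearGroup (Fin m ⊕ Fin m) F) :
        Matrix (Fin m ⊕ Fin m) (Fin m ⊕ Fin m) F) = -1 := by
      apply Matrix.toLin'.injective
      apply LinearMap.ext
      intro x
      rw [Matrix.toLin'_apply, hg0, Matrix.toLin'_apply, Matrix.neg_mulVec, Matrix.one_mulVec]
      rfl
    have hact : Act Qp g0 (lst (List.finRange m)) := by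
      intro x
      rw [hg0, lst_app Qp hQp]
      funext i
      rw [List.count_eq_one_of_mem (List.nodup_finRange m) (List.mem_finRange _), pow_one]
      simp
    have hV : Module.finrank F (Fin m ⊕ Fin m → F) = m + m := by
      rw [Module.finrank_fintype_fun_eq_card, Fintype.card_sum, Fintype.card_fin]
    have hc := Cfsg.Agent.S2609.crit Qp h2 hnd (by rw [hV]; omega) g0 (lst (List.finRange m))
      (lst_ne Qp hQp _) hact
    rw [lst_len, lst_prod Qp hQp, List.length_finRange] at hc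
    have hc' : g0 ∈ Cfsg.Omega F ⇑Qp ↔ IsSquare ((-1 : F) ^ m) :=
      hc.trans ⟨fun h => h.2, fun h => ⟨even_two_mul m, h⟩⟩
    rw [← nt hF hodd m, ← hc']
    constructor
    · rintro ⟨g, hg, hgm⟩
      have : g = g0 := by
        apply Subtype.ext
        apply Units.ext
        rw [hgm, hmat]
      rw [← this]; exact hg
    · intro h
      exact ⟨g0, h, hmat⟩
  exact key _ hQp

end Cfsg.Agent.S0790
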