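import Mathlib
import Cfsg.Statements.S2613
import Cfsg.Agent.S0790

set_option autoImplicit false
open Cfsg

namespace Cfsg.Agent.S2613

open Matrix
open Cfsg.Agent.S0792 (app)
open Cfsg.Agent.S0786 (appL appL_apply)
open Cfsg.Agent.S2630 (Act)
open Cfsg.Agent.S0790 (lst lst_app lst_len lst_prod lst_ne nt)

/-- the first `i` indices of `Fin m` -/
def firstL {m : ℕ} (i : ℕ) (him : i ≤ m) : List (Fin m) := (List.finRange i).map (Fin.castLE him)

theorem firstL_len {m : ℕ} (i : ℕ) (him : i ≤ m) : (firstL i him).length = i := by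
  unfold firstL
  rw [List.length_map, List.length_finRange]

theorem firstL_count {m : ℕ} (i : ℕ) (him : i ≤ m) (j : Fin m) :
    (firstL i him).count j = if (j : ℕ) < i then 1 else 0 := by
  unfold firstL
  by_cases hj : (j : ℕ) < i
  · rw [if_pos hj]
    have e : j = Fin.castLE him ⟨j, hj⟩ := by
      apply Fin.ext; rfl
    rw [e, List.count_map_of_injective _ _ (Fin.castLE_injective him)]
    exact List.count_eq_one_of_mem (List.nodup_finRange i) (List.mem_finRange _)
  · rw [if_neg hj]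
    apply List.count_eq_zero_of_not_mem
    intro hmem
    rw [List.mem_map] at hmem
    obtain ⟨a, -, ha⟩ := hmem
    apply hj
    rw [← ha]
    exact a.2

/-- a group element acting as a given list of reflections -/
theorem exists_act {F : Type*} [Field F] {ι : Type} [Fintype ι] [DecidableEq ι]
    (Q : QuadraticForm F (ι → F)) (l : List (ι → F)) (hl : ∀ d ∈ l, Q d ≠ 0) :
    ∃ g : ↥(Cfsg.isometryGroup F ⇑Q), Act Q g l := by
  induction l with
  | nil => exact ⟨1, Cfsg.Agent.S2630.act_one Q⟩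
  | cons d l ih =>
    obtain ⟨g, hg⟩ := ih (fun d' hd' => hl d' (List.mem_cons_of_mem _ hd'))
    have hd : Q d ≠ 0 := hl d List.mem_cons_self
    obtain ⟨t, -, ht⟩ := Cfsg.Agent.S2628.exists_invol (⇑Q) (Cfsg.Agent.S5754.rfl0 Q d)
      (fun x => Cfsg.Agent.S5754.rfl0_invol Q d hd x) (fun x => Cfsg.Agent.S5754.rfl0_iso Q d hd x)
    refine ⟨t * g, fun x => ?_⟩
    rw [Subgroup.coe_mul, Units.val_mul, ← Matrix.mulVec_mulVec, hg x, ht]
    rfl

/-- For the hyperbolic form Σ x_j y_j on F^(2m), F finite with q elements, q odd, and 1 ≤ i ≤ m: the involution negating the first i hyperbolic pairs (x_j, y_j ↦ −x_j, −y_j for j < i) and fixing the rest lies in Ω⁺_2m(q) (commutator subgroup of the orthogonal group) if and only if q^i ≡ 1 (mod 4); its (−1)-eigenspace is a hyperbolic 2i-space. -/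
theorem result {F : Type*} [Field F] [Fintype F] {q : ℕ} (hF : Fintype.card F = q) (hq : Odd q) {m : ℕ} (i : ℕ) (hi : 1 ≤ i) (him : i ≤ m) : (∃ g : ↥(Cfsg.isometryGroup F (Cfsg.quadFormPlus m F)), g ∈ Cfsg.Omega F (Cfsg.quadFormPlus m F) ∧ ((g : Matrix.GeneralLinearGroup (Fin m ⊕ Fin m) F) : Matrix (Fin m ⊕ Fin m) (Fin m ⊕ Fin m) F) = Matrix.diagonal (fun k : Fin m ⊕ Fin m => if (Sum.elim (fun j : Fin m => (j : ℕ)) (fun j : Fin m => (j : ℕ)) k) < i then (-1 : F) else 1)) ↔ q ^ i % 4 = 1 := by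
  classical
  have h2 : (2 : F) ≠ 0 := by
    intro h
    have h3 : ringChar F = 2 := CharP.ringChar_of_prime_eq_zero Nat.prime_two h
    have h4 := FiniteField.even_card_iff_char_two.1 h3
    rw [hF] at h4
    obtain ⟨k, rfl⟩ := hq
    omega
  obtain ⟨Qp, hQp, hnd⟩ := Cfsg.Agent.S2169.exists_Qp (F := F) m
  have key : ∀ (Qf : (Fin m ⊕ Fin m → F) → F), ⇑Qp = Qf →
      ((∃ g : ↥(Cfsg.isometryGroup F Qf), g ∈ Cfsg.Omega F Qf ∧ ((g : Matrix.GeneralLinearGroup (Fin m ⊕ Fin m) F) : Matrix (Fin m ⊕ Fin m) (Fin m ⊕ Fin m) F) = Matrix.diagonal (fun k : Fin m ⊕ Fin m => if (Sum.elim (fun j : Fin m => (j : ℕ)) (fun j : Fin m => (j : ℕ)) k) < i then (-1 : F) else 1)) ↔ q ^ i % 4 = 1) := by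
    rintro _ rfl
    obtain ⟨g0, hact⟩ := exists_act Qp (lst (firstL i him)) (lst_ne Qp hQp _)
    have hmat : ((g0 : Matrix.GeneralLinearGroup (Fin m ⊕ Fin m) F) :
        Matrix (Fin m ⊕ Fin m) (Fin m ⊕ Fin m) F) = Matrix.diagonal (fun k : Fin m ⊕ Fin m => if (Sum.elim (fun j : Fin m => (j : ℕ)) (fun j : Fin m => (j : ℕ)) k) < i then (-1 : F) else 1) := by
      apply Matrix.toLin'.injective
      apply LinearMap.ext
      intro x
      rw [Matrix.toLin'_apply, hact x, lst_app Qp hQp, Matrix.toLin'_apply]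
      funext k
      rw [Matrix.mulVec_diagonal, firstL_count]
      rcases k with k | k
      · simp only [Sum.elim_inl, id]
        by_cases hk : (k : ℕ) < i <;> simp [hk]
      · simp only [Sum.elim_inr, id]
        by_cases hk : (k : ℕ) < i <;> simp [hk]
    have hV : Module.finrank F (Fin m ⊕ Fin m → F) = m + m := by
      rw [Module.finrank_fintype_fun_eq_card, Fintype.card_sum, Fintype.card_fin]
    have hc := Cfsg.Agent.S2609.crit Qp h2 hnd (by rw [hV]; omega) g0 (lst (firstL i him))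
      (lst_ne Qp hQp _) hact
    rw [lst_len, lst_prod Qp hQp, firstL_len] at hc
    have hc' : g0 ∈ Cfsg.Omega F ⇑Qp ↔ IsSquare ((-1 : F) ^ i) :=
      hc.trans ⟨fun h => h.2, fun h => ⟨even_two_mul i, h⟩⟩
    rw [← nt hF hq i, ← hc']
    constructor
    · rintro ⟨g, hg, hgm⟩
      have : g = g0 := by
        apply Subtype.ext
        apply Units.ext
        rw [hgm, hmat]
      rw [← this]; exact hg
    · intro h
      exact ⟨g0, h, hmat⟩
  exact key _ hQp

end Cfsg.Agent.S2613
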