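import Mathlib
import Cfsg.Statements.S2615
import Cfsg.Agent.S2613

set_option autoImplicit false
open Cfsg

namespace Cfsg.Agent.S2615

open Matrix
open Cfsg.Agent.S5754 (rfl0 rfl0_apply)
open Cfsg.Agent.S0792 (app app_cons)
open Cfsg.Agent.S2630 (Act)
open Cfsg.Agent.S0790 (uv polar_uv Q_uv nt)
open Cfsg.Agent.S2613 (firstL firstL_len firstL_count exists_act)

section
variable {F : Type*} [Field F] {m : ℕ}

/-- the vector `e_j + s f_j` in the minus-type space -/
def uvM (s : F) (j : Fin m) : (Fin m ⊕ Fin m) ⊕ Fin 2 → F := Sum.elim (uv s j) 0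

theorem qm_eq (a b : F) (v : (Fin m ⊕ Fin m) ⊕ Fin 2 → F) :
    Cfsg.quadFormMinus m F a b v = Cfsg.quadFormPlus m F (v ∘ Sum.inl) +
      (v (Sum.inr 0) ^ 2 + a * v (Sum.inr 0) * v (Sum.inr 1) + b * v (Sum.inr 1) ^ 2) := rfl

theorem polar_minus (a b : F) (d x : (Fin m ⊕ Fin m) ⊕ Fin 2 → F) :
    QuadraticMap.polar (Cfsg.quadFormMinus m F a b) d x =
      QuadraticMap.polar (Cfsg.quadFormPlus m F) (d ∘ Sum.inl) (x ∘ Sum.inl) +
      (2 * d (Sum.inr 0) * x (Sum.inr 0) +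
        a * (d (Sum.inr 0) * x (Sum.inr 1) + x (Sum.inr 0) * d (Sum.inr 1)) +
        2 * b * d (Sum.inr 1) * x (Sum.inr 1)) := by
  unfold QuadraticMap.polar
  rw [qm_eq, qm_eq, qm_eq]
  have e : (d + x) ∘ Sum.inl = d ∘ Sum.inl + x ∘ Sum.inl := rfl
  rw [e, Pi.add_apply, Pi.add_apply]
  ring

theorem Q_uvM (a b : F) (s : F) (j : Fin m) : Cfsg.quadFormMinus m F a b (uvM s j) = s := by
  rw [qm_eq]
  have e : uvM s j ∘ Sum.inl = uv s j := rfl
  rw [e, Q_uv]
  simp [uvM]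

theorem polar_uvM (a b : F) (s : F) (j : Fin m) (x : (Fin m ⊕ Fin m) ⊕ Fin 2 → F) :
    QuadraticMap.polar (Cfsg.quadFormMinus m F a b) (uvM s j) x =
      x (Sum.inl (Sum.inr j)) + s * x (Sum.inl (Sum.inl j)) := by
  rw [polar_minus]
  have e : uvM s j ∘ Sum.inl = uv s j := rfl
  rw [e, polar_uv]
  simp [uvM]

theorem exists_Qm (h2 : (2 : F) ≠ 0) (m : ℕ) (a b : F)
    (hab : ∀ z₁ z₂ : F, z₁ ^ 2 + a * z₁ * z₂ + b * z₂ ^ 2 = 0 → z₁ = 0 ∧ z₂ = 0) :
    ∃ Qm : QuadraticForm F ((Fin m ⊕ Fin m) ⊕ Fin 2 → F),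
      ⇑Qm = Cfsg.quadFormMinus m F a b ∧ (QuadraticMap.polarBilin Qm).Nondegenerate := by
  classical
  obtain ⟨Qp, hQp, -⟩ := Cfsg.Agent.S2169.exists_Qp (F := F) m
  have hQm : ∃ Qm : QuadraticForm F ((Fin m ⊕ Fin m) ⊕ Fin 2 → F),
      ⇑Qm = Cfsg.quadFormMinus m F a b := by
    refine ⟨Qp.comp (LinearMap.funLeft F F Sum.inl) +
      ((QuadraticMap.proj (R := F) (A := F) (0 : Fin 2) 0 +
        a • QuadraticMap.proj (R := F) (A := F) (0 : Fin 2) 1 +
        b • QuadraticMap.proj (R := F) (A := F) (1 : Fin 2) 1).comp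
          (LinearMap.funLeft F F Sum.inr)), ?_⟩
    funext v
    rw [qm_eq, ← hQp]
    simp only [_root_.add_apply, QuadraticMap.comp_apply, _root_.smul_apply,
      QuadraticMap.proj_apply, LinearMap.funLeft_apply, smul_eq_mul]
    have e : (LinearMap.funLeft F F Sum.inl) v = v ∘ Sum.inl := rfl
    rw [e]
    ring
  obtain ⟨Qm, hQm⟩ := hQm
  refine ⟨Qm, hQm, ?_⟩
  have key : ∀ u : (Fin m ⊕ Fin m) ⊕ Fin 2 → F,
      (∀ v, QuadraticMap.polar (Cfsg.quadFormMinus m F a b) u v = 0) → u = 0 := by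
    intro u hu
    have hr : ∀ j, u (Sum.inl (Sum.inr j)) = 0 := by
      intro j
      have h1 := hu (uvM 0 j)
      rw [QuadraticMap.polar_comm, polar_uvM, zero_mul, add_zero] at h1
      exact h1
    have hl : ∀ j, u (Sum.inl (Sum.inl j)) = 0 := by
      intro j
      have h1 := hu (uvM 1 j)
      rw [QuadraticMap.polar_comm, polar_uvM, hr j, one_mul, zero_add] at h1
      exact h1
    have e2 : QuadraticMap.polar (Cfsg.quadFormPlus m F) (u ∘ Sum.inl) 0 = 0 := by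
      rw [← hQp]; exact QuadraticMap.polar_zero_right _ _
    have h01 : 2 * u (Sum.inr 0) + a * u (Sum.inr 1) = 0 := by
      have h1 := hu (Sum.elim 0 ![1, 0])
      rw [polar_minus] at h1
      have e : (Sum.elim 0 ![1, 0] : (Fin m ⊕ Fin m) ⊕ Fin 2 → F) ∘ Sum.inl = 0 := rfl
      rw [e, e2] at h1
      simp only [Sum.elim_inr, Matrix.cons_val_zero, Matrix.cons_val_one] at h1
      linear_combination h1
    have h10 : a * u (Sum.inr 0) + 2 * b * u (Sum.inr 1) = 0 := by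
      have h1 := hu (Sum.elim 0 ![0, 1])
      rw [polar_minus] at h1
      have e : (Sum.elim 0 ![0, 1] : (Fin m ⊕ Fin m) ⊕ Fin 2 → F) ∘ Sum.inl = 0 := rfl
      rw [e, e2] at h1
      simp only [Sum.elim_inr, Matrix.cons_val_zero, Matrix.cons_val_one] at h1
      linear_combination h1
    have hb : u (Sum.inr 0) ^ 2 + a * u (Sum.inr 0) * u (Sum.inr 1) + b * u (Sum.inr 1) ^ 2 = 0 := by
      have h3 : 2 * (u (Sum.inr 0) ^ 2 + a * u (Sum.inr 0) * u (Sum.inr 1) +
          b * u (Sum.inr 1) ^ 2) = 0 := by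
        linear_combination u (Sum.inr 0) * h01 + u (Sum.inr 1) * h10
      rcases mul_eq_zero.1 h3 with h | h
      · exact absurd h h2
      · exact h
    obtain ⟨hz0, hz1⟩ := hab _ _ hb
    funext k
    rcases k with (k | k) | k
    · exact hl k
    · exact hr k
    · fin_cases k
      · exact hz0
      · exact hz1
  constructor
  · intro u hu
    exact key u (fun v => by rw [← hQm]; exact hu v)
  · intro v hv
    exact key v (fun a' => by rw [QuadraticMap.polar_comm, ← hQm]; exact hv a')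

variable (a b : F) (Qm : QuadraticForm F ((Fin m ⊕ Fin m) ⊕ Fin 2 → F))
  (hQm : ⇑Qm = Cfsg.quadFormMinus m F a b)
include hQm

theorem neg_jM (j : Fin m) (x : (Fin m ⊕ Fin m) ⊕ Fin 2 → F) :
    rfl0 Qm (uvM 1 j) (rfl0 Qm (uvM (-1) j) x) =
      Sum.elim (fun k => if Sum.elim id id k = j then - x (Sum.inl k) else x (Sum.inl k))
        (fun t => x (Sum.inr t)) := by
  have hp : ∀ d y, QuadraticMap.polar (⇑Qm) d y =
      QuadraticMap.polar (Cfsg.quadFormMinus m F a b) d y := by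
    intro d y; rw [hQm]
  have hq : ∀ d, Qm d = Cfsg.quadFormMinus m F a b d := by
    intro d; rw [hQm]
  have e1 : ∀ y, rfl0 Qm (uvM 1 j) y =
      y - (y (Sum.inl (Sum.inr j)) + y (Sum.inl (Sum.inl j))) • uvM 1 j := by
    intro y
    rw [rfl0_apply, hp, hq, polar_uvM, Q_uvM, inv_one, one_mul, one_mul]
  have e2 : ∀ y, rfl0 Qm (uvM (-1) j) y =
      y + (y (Sum.inl (Sum.inr j)) - y (Sum.inl (Sum.inl j))) • uvM (-1) j := by
    intro y
    rw [rfl0_apply, hp, hq, polar_uvM, Q_uvM]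
    have : ((-1 : F))⁻¹ = -1 := by rw [inv_neg, inv_one]
    rw [this, sub_eq_add_neg, ← neg_smul]
    congr 2
    ring
  rw [e1, e2]
  funext i
  rcases i with (i | i) | i
  · by_cases hij : i = j
    · subst hij
      simp [uvM, uv]
    · simp [uvM, uv, hij]
  · by_cases hij : i = j
    · subst hij
      simp [uvM, uv]
    · simp [uvM, uv, hij]
  · simp [uvM]

/-- the list of reflections whose product is `-1` on the hyperbolic pairs in `L` -/
def lstM (L : List (Fin m)) : List ((Fin m ⊕ Fin m) ⊕ Fin 2 → F) :=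
  L.flatMap (fun j => [uvM 1 j, uvM (-1) j])

omit hQm in
theorem lstM_cons (c : Fin m) (L : List (Fin m)) :
    lstM (F := F) (c :: L) = uvM 1 c :: uvM (-1) c :: lstM L := by
  unfold lstM
  rw [List.flatMap_cons]
  rfl

omit hQm in
theorem lstM_len (L : List (Fin m)) : (lstM (F := F) L).length = 2 * L.length := by
  induction L with
  | nil => rfl
  | cons c L ih => rw [lstM_cons, List.length_cons, List.length_cons, ih, List.length_cons]; ring

theorem lstM_prod (L : List (Fin m)) :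
    ((lstM (F := F) L).map (fun v => Qm v)).prod = (-1) ^ L.length := by
  induction L with
  | nil => simp [lstM]
  | cons c L ih =>
    rw [lstM_cons, List.map_cons, List.map_cons, List.prod_cons, List.prod_cons, ih,
      List.length_cons, hQm, Q_uvM, Q_uvM, pow_succ]
    ring

theorem lstM_ne (L : List (Fin m)) : ∀ d ∈ lstM (F := F) L, Qm d ≠ 0 := by
  intro d hd
  unfold lstM at hd
  rw [List.mem_flatMap] at hd
  obtain ⟨j, -, hj⟩ := hd
  rw [hQm]
  simp only [List.mem_cons, List.not_mem_nil, or_false] at hj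
  rcases hj with rfl | rfl
  · rw [Q_uvM]; exact one_ne_zero
  · rw [Q_uvM]; exact neg_ne_zero.2 one_ne_zero

theorem lstM_app (L : List (Fin m)) (x : (Fin m ⊕ Fin m) ⊕ Fin 2 → F) :
    app Qm (lstM L) x = Sum.elim
      (fun k => (-1) ^ (L.count (Sum.elim id id k)) * x (Sum.inl k)) (fun t => x (Sum.inr t)) := by
  induction L with
  | nil =>
    funext i
    rcases i with i | i
    · simp [lstM, app]
    · simp [lstM, app]
  | cons c L ih =>
    rw [lstM_cons, app_cons, app_cons, ih, neg_jM a b Qm hQm]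
    funext i
    rcases i with i | i
    · simp only [Sum.elim_inr, Sum.elim_inl]
      by_cases hi : Sum.elim id id i = c
      · rw [if_pos hi, hi, List.count_cons_self, pow_succ]; ring
      · rw [if_neg hi, List.count_cons_of_ne (fun h => hi h.symm)]
    · rfl

end

/-- For an elliptic form Σ_(j<m−1) x_j y_j + (z₁² + a z₁z₂ + b z₂²) (anisotropic binary part) on F^(2m), F finite with q elements, q odd, and 1 ≤ i ≤ m − 1: the involution negating the first i hyperbolic pairs and fixing the rest lies in Ω⁻_2m(q) (commutator subgroup of the orthogonal group) if and only if q^i ≡ 1 (mod 4). -/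
theorem result {F : Type*} [Field F] [Fintype F] {q : ℕ} (hF : Fintype.card F = q) (hq : Odd q) {m : ℕ} (a b : F) (hab : ∀ z₁ z₂ : F, z₁ ^ 2 + a * z₁ * z₂ + b * z₂ ^ 2 = 0 → z₁ = 0 ∧ z₂ = 0) (i : ℕ) (hi : 1 ≤ i) (him : i + 1 ≤ m) : (∃ g : ↥(Cfsg.isometryGroup F (Cfsg.quadFormMinus (m - 1) F a b)), g ∈ Cfsg.Omega F (Cfsg.quadFormMinus (m - 1) F a b) ∧ ((g : Matrix.GeneralLinearGroup ((Fin (m - 1) ⊕ Fin (m - 1)) ⊕ Fin 2) F) : Matrix ((Fin (m - 1) ⊕ Fin (m - 1)) ⊕ Fin 2) ((Fin (m - 1) ⊕ Fin (m - 1)) ⊕ Fin 2) F) = Matrix.diagonal (fun k : (Fin (m - 1) ⊕ Fin (m - 1)) ⊕ Fin 2 => if (Sum.elim (Sum.elim (fun j : Fin (m - 1) => (j : ℕ)) (fun j : Fin (m - 1) => (j : ℕ))) (fun _ : Fin 2 => i) k) < i then (-1 : F) else 1)) ↔ q ^ i % 4 = 1 := by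
  classical
  have h2 : (2 : F) ≠ 0 := by
    intro h
    have h3 : ringChar F = 2 := CharP.ringChar_of_prime_eq_zero Nat.prime_two h
    have h4 := FiniteField.even_card_iff_char_two.1 h3
    rw [hF] at h4
    obtain ⟨k, rfl⟩ := hq
    omega
  have him' : i ≤ m - 1 := by omega
  obtain ⟨Qm, hQm, hnd⟩ := exists_Qm (F := F) h2 (m - 1) a b hab
  have key : ∀ (Qf : ((Fin (m - 1) ⊕ Fin (m - 1)) ⊕ Fin 2 → F) → F), ⇑Qm = Qf →
      ((∃ g : ↥(Cfsg.isometryGroup F Qf), g ∈ Cfsg.Omega F Qf ∧ ((g : Matrix.GeneralLinearGroup ((Fin (m - 1) ⊕ Fin (m - 1)) ⊕ Fin 2) F) : Matrix ((Fin (m - 1) ⊕ Fin (m - 1)) ⊕ Fin 2) ((Fin (m - 1) ⊕ Fin (m - 1)) ⊕ Fin 2) F) = Matrix.diagonal (fun k : (Fin (m - 1) ⊕ Fin (m - 1)) ⊕ Fin 2 => if (Sum.elim (Sum.elim (fun j : Fin (m - 1) => (j : ℕ)) (fun j : Fin (m - 1) => (j : ℕ))) (fun _ : Fin 2 => i) k) < i then (-1 : F) else 1)) ↔ q ^ i % 4 = 1) := by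
    rintro _ rfl
    obtain ⟨g0, hact⟩ := exists_act Qm (lstM (firstL i him')) (lstM_ne a b Qm hQm _)
    have hmat : ((g0 : Matrix.GeneralLinearGroup ((Fin (m - 1) ⊕ Fin (m - 1)) ⊕ Fin 2) F) :
        Matrix ((Fin (m - 1) ⊕ Fin (m - 1)) ⊕ Fin 2) ((Fin (m - 1) ⊕ Fin (m - 1)) ⊕ Fin 2) F) = Matrix.diagonal (fun k : (Fin (m - 1) ⊕ Fin (m - 1)) ⊕ Fin 2 => if (Sum.elim (Sum.elim (fun j : Fin (m - 1) => (j : ℕ)) (fun j : Fin (m - 1) => (j : ℕ))) (fun _ : Fin 2 => i) k) < i then (-1 : F) else 1) := by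
      apply Matrix.toLin'.injective
      apply LinearMap.ext
      intro x
      rw [Matrix.toLin'_apply, hact x, lstM_app a b Qm hQm, Matrix.toLin'_apply]
      funext k
      rw [Matrix.mulVec_diagonal]
      rcases k with (k | k) | k
      · simp only [Sum.elim_inl, Sum.elim_inr, id, firstL_count]
        by_cases hk : (k : ℕ) < i <;> simp [hk]
      · simp only [Sum.elim_inl, Sum.elim_inr, id, firstL_count]
        by_cases hk : (k : ℕ) < i <;> simp [hk]
      · simp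
    have hV : Module.finrank F ((Fin (m - 1) ⊕ Fin (m - 1)) ⊕ Fin 2 → F) = (m - 1 + (m - 1)) + 2 := by
      rw [Module.finrank_fintype_fun_eq_card, Fintype.card_sum, Fintype.card_sum, Fintype.card_fin,
        Fintype.card_fin]
    have hc := Cfsg.Agent.S2609.crit Qm h2 hnd (by rw [hV]; omega) g0 (lstM (firstL i him'))
      (lstM_ne a b Qm hQm _) hact
    rw [lstM_len, lstM_prod a b Qm hQm, firstL_len] at hc
    have hc' : g0 ∈ Cfsg.Omega F ⇑Qm ↔ IsSquare ((-1 : F) ^ i) :=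
      hc.trans ⟨fun h => h.2, fun h => ⟨even_two_mul i, h⟩⟩
    rw [← nt hF hq i, ← hc']
    constructor
    · rintro ⟨g, hg, hgm⟩
      have : g = g0 := by
        apply Subtype.ext
        apply Units.ext
        rw [hgm, hmat]
      rw [← this]; exact hg
    · intro h
      exact ⟨g0, h, hmat⟩
  exact key _ hQm

end Cfsg.Agent.S2615
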