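import Mathlib
import Cfsg.Statements.S0791
import Cfsg.Agent.S2615

set_option autoImplicit false
open Cfsg

namespace Cfsg.Agent.S0791

open Matrix
open Cfsg.Agent.S5754 (rfl0 rfl0_apply)
open Cfsg.Agent.S0792 (app app_cons)
open Cfsg.Agent.S2630 (Act)
open Cfsg.Agent.S0790 (nt)
open Cfsg.Agent.S2613 (exists_act)
open Cfsg.Agent.S2615 (qm_eq polar_minus exists_Qm lstM lstM_len lstM_prod lstM_ne lstM_app)

section
variable {F : Type*} [Field F] {m : ℕ}

/-- first vector of an orthogonal basis of the binary part -/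
def d1 : (Fin m ⊕ Fin m) ⊕ Fin 2 → F := Sum.elim 0 ![1, 0]

/-- second vector of an orthogonal basis of the binary part -/
def d2 (a : F) : (Fin m ⊕ Fin m) ⊕ Fin 2 → F := Sum.elim 0 ![a, -2]

theorem plus_zero : Cfsg.quadFormPlus m F 0 = 0 := by
  simp [Cfsg.quadFormPlus]

theorem polar_plus_zero (y : Fin m ⊕ Fin m → F) :
    QuadraticMap.polar (Cfsg.quadFormPlus m F) 0 y = 0 := by
  rw [Cfsg.Agent.S0790.polar_plus]
  simp

theorem Q_d1 (a b : F) : Cfsg.quadFormMinus m F a b d1 = 1 := by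
  rw [qm_eq]
  have e : (d1 : (Fin m ⊕ Fin m) ⊕ Fin 2 → F) ∘ Sum.inl = 0 := rfl
  rw [e, plus_zero]
  simp [d1]

theorem Q_d2 (a b : F) : Cfsg.quadFormMinus m F a b (d2 a) = 4 * b - a ^ 2 := by
  rw [qm_eq]
  have e : (d2 a : (Fin m ⊕ Fin m) ⊕ Fin 2 → F) ∘ Sum.inl = 0 := rfl
  rw [e, plus_zero]
  simp [d2]
  ring

theorem polar_d1 (a b : F) (x : (Fin m ⊕ Fin m) ⊕ Fin 2 → F) :
    QuadraticMap.polar (Cfsg.quadFormMinus m F a b) d1 x =
      2 * x (Sum.inr 0) + a * x (Sum.inr 1) := by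
  rw [polar_minus]
  have e : (d1 : (Fin m ⊕ Fin m) ⊕ Fin 2 → F) ∘ Sum.inl = 0 := rfl
  rw [e, polar_plus_zero]
  simp [d1]

theorem polar_d2 (a b : F) (x : (Fin m ⊕ Fin m) ⊕ Fin 2 → F) :
    QuadraticMap.polar (Cfsg.quadFormMinus m F a b) (d2 a) x =
      (a ^ 2 - 4 * b) * x (Sum.inr 1) := by
  rw [polar_minus]
  have e : (d2 a : (Fin m ⊕ Fin m) ⊕ Fin 2 → F) ∘ Sum.inl = 0 := rfl
  rw [e, polar_plus_zero]
  simp [d2]
  ring

variable (a b : F) (Qm : QuadraticForm F ((Fin m ⊕ Fin m) ⊕ Fin 2 → F))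
  (hQm : ⇑Qm = Cfsg.quadFormMinus m F a b)
include hQm

theorem neg_bin (hD : 4 * b - a ^ 2 ≠ 0) (x : (Fin m ⊕ Fin m) ⊕ Fin 2 → F) :
    rfl0 Qm d1 (rfl0 Qm (d2 a) x) =
      Sum.elim (fun k => x (Sum.inl k)) (fun t => - x (Sum.inr t)) := by
  have hp : ∀ d y, QuadraticMap.polar (⇑Qm) d y =
      QuadraticMap.polar (Cfsg.quadFormMinus m F a b) d y := by
    intro d y; rw [hQm]
  have hq : ∀ d, Qm d = Cfsg.quadFormMinus m F a b d := by
    intro d; rw [hQm]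
  have e1 : ∀ y, rfl0 Qm d1 y = y - (2 * y (Sum.inr 0) + a * y (Sum.inr 1)) • d1 := by
    intro y
    rw [rfl0_apply, hp, hq, polar_d1, Q_d1, inv_one, one_mul]
  have e2 : ∀ y, rfl0 Qm (d2 a) y = y + (y (Sum.inr 1)) • d2 a := by
    intro y
    rw [rfl0_apply, hp, hq, polar_d2, Q_d2, sub_eq_add_neg, ← neg_smul]
    congr 2
    field_simp
    ring
  rw [e1, e2]
  funext i
  rcases i with i | i
  · simp [d1, d2]
  · fin_cases i
    · simp [d1, d2]
      ring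
    · simp [d1, d2]
      ring

end

theorem nsq {F : Type*} [Field F] (h2 : (2 : F) ≠ 0) (a b : F)
    (hab : ∀ z₁ z₂ : F, z₁ ^ 2 + a * z₁ * z₂ + b * z₂ ^ 2 = 0 → z₁ = 0 ∧ z₂ = 0) :
    ¬ IsSquare (a ^ 2 - 4 * b) := by
  rintro ⟨s, hs⟩
  have h4 : (4 : F) ≠ 0 := by
    have : (4 : F) = 2 * 2 := by norm_num
    rw [this]; exact mul_ne_zero h2 h2
  have h1 := hab ((s - a) / 2) 1 (by
    field_simp
    linear_combination -hs)
  exact one_ne_zero h1.2

/-- −1 ∈ Ω⁻_2m(q) iff q^m ≡ −1 (mod 4), for q odd and m ≥ 1; for the minus-type form quadFormMinus (m−1) with anisotropic binary part. -/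
theorem result {F : Type*} [Field F] [Fintype F] {q : ℕ} (hF : Fintype.card F = q) (hodd : Odd q) (m : ℕ) (hm : 1 ≤ m) (a b : F) (hab : ∀ z₁ z₂ : F, z₁ ^ 2 + a * z₁ * z₂ + b * z₂ ^ 2 = 0 → z₁ = 0 ∧ z₂ = 0) : (∃ g : ↥(Cfsg.isometryGroup F (Cfsg.quadFormMinus (m - 1) F a b)), g ∈ Cfsg.Omega F (Cfsg.quadFormMinus (m - 1) F a b) ∧ ((g : Matrix.GeneralLinearGroup ((Fin (m - 1) ⊕ Fin (m - 1)) ⊕ Fin 2) F) : Matrix ((Fin (m - 1) ⊕ Fin (m - 1)) ⊕ Fin 2) ((Fin (m - 1) ⊕ Fin (m - 1)) ⊕ Fin 2) F) = -1) ↔ q ^ m % 4 = 3 := by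
  classical
  have h2 : (2 : F) ≠ 0 := by
    intro h
    have h3 : ringChar F = 2 := CharP.ringChar_of_prime_eq_zero Nat.prime_two h
    have h4 := FiniteField.even_card_iff_char_two.1 h3
    rw [hF] at h4
    obtain ⟨k, rfl⟩ := hodd
    omega
  have hN : ¬ IsSquare (a ^ 2 - 4 * b) := nsq h2 a b hab
  have hD : 4 * b - a ^ 2 ≠ 0 := by
    intro h
    apply hN
    have : a ^ 2 - 4 * b = 0 := by linear_combination -h
    rw [this]
    exact ⟨0, by ring⟩
  obtain ⟨Qm, hQm, hnd⟩ := exists_Qm (F := F) h2 (m - 1) a b hab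
  have key : ∀ (Qf : ((Fin (m - 1) ⊕ Fin (m - 1)) ⊕ Fin 2 → F) → F), ⇑Qm = Qf →
      ((∃ g : ↥(Cfsg.isometryGroup F Qf), g ∈ Cfsg.Omega F Qf ∧ ((g : Matrix.GeneralLinearGroup ((Fin (m - 1) ⊕ Fin (m - 1)) ⊕ Fin 2) F) : Matrix ((Fin (m - 1) ⊕ Fin (m - 1)) ⊕ Fin 2) ((Fin (m - 1) ⊕ Fin (m - 1)) ⊕ Fin 2) F) = -1) ↔ q ^ m % 4 = 3) := by
    rintro _ rfl
    have hne : ∀ d ∈ lstM (F := F) (List.finRange (m - 1)) ++ [d1, d2 a], Qm d ≠ 0 := by
      intro d hd
      rw [List.mem_append] at hd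
      rcases hd with hd | hd
      · exact lstM_ne a b Qm hQm _ d hd
      · simp only [List.mem_cons, List.not_mem_nil, or_false] at hd
        rcases hd with rfl | rfl
        · rw [hQm, Q_d1]; exact one_ne_zero
        · rw [hQm, Q_d2]; exact hD
    obtain ⟨g0, hact⟩ := exists_act Qm (lstM (List.finRange (m - 1)) ++ [d1, d2 a]) hne
    have hmat : ((g0 : Matrix.GeneralLinearGroup ((Fin (m - 1) ⊕ Fin (m - 1)) ⊕ Fin 2) F) :
        Matrix ((Fin (m - 1) ⊕ Fin (m - 1)) ⊕ Fin 2) ((Fin (m - 1) ⊕ Fin (m - 1)) ⊕ Fin 2) F) = -1 := by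
      apply Matrix.toLin'.injective
      apply LinearMap.ext
      intro x
      rw [Matrix.toLin'_apply, hact x, Cfsg.Agent.S0786.app_append, lstM_app a b Qm hQm,
        Matrix.toLin'_apply, Matrix.neg_mulVec, Matrix.one_mulVec]
      have e : app Qm [d1, d2 a] x = rfl0 Qm d1 (rfl0 Qm (d2 a) x) := rfl
      rw [e, neg_bin a b Qm hQm hD]
      funext k
      rcases k with k | k
      · simp only [Sum.elim_inl, Pi.neg_apply]
        rw [List.count_eq_one_of_mem (List.nodup_finRange _) (List.mem_finRange _), pow_one]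
        ring
      · simp
    have hV : Module.finrank F ((Fin (m - 1) ⊕ Fin (m - 1)) ⊕ Fin 2 → F) = (m - 1 + (m - 1)) + 2 := by
      rw [Module.finrank_fintype_fun_eq_card, Fintype.card_sum, Fintype.card_sum, Fintype.card_fin,
        Fintype.card_fin]
    have hc := Cfsg.Agent.S2609.crit Qm h2 hnd (by rw [hV]; omega) g0
      (lstM (List.finRange (m - 1)) ++ [d1, d2 a]) hne hact
    have hlen : (lstM (F := F) (List.finRange (m - 1)) ++ [d1, d2 a]).length = 2 * m := by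
      rw [List.length_append, lstM_len, List.length_finRange]
      simp only [List.length_cons, List.length_nil]
      omega
    have hprod : ((lstM (F := F) (List.finRange (m - 1)) ++ [d1, d2 a]).map (fun v => Qm v)).prod =
        (-1) ^ m * (a ^ 2 - 4 * b) := by
      rw [List.map_append, List.prod_append, lstM_prod a b Qm hQm, List.length_finRange]
      simp only [List.map_cons, List.map_nil, List.prod_cons, List.prod_nil]
      rw [hQm, Q_d1, Q_d2]
      obtain ⟨k, rfl⟩ : ∃ k, m = k + 1 := ⟨m - 1, by omega⟩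
      rw [Nat.add_sub_cancel, pow_succ]
      ring
    rw [hlen, hprod] at hc
    have hpm : ((-1 : F)) ^ m ≠ 0 := pow_ne_zero _ (neg_ne_zero.2 one_ne_zero)
    have hc' : g0 ∈ Cfsg.Omega F ⇑Qm ↔ ¬ IsSquare ((-1 : F) ^ m) := by
      refine hc.trans ⟨fun h hs => ?_, fun h => ⟨even_two_mul m, ?_⟩⟩
      · apply hN
        have h3 := h.2.div hs
        rwa [mul_div_cancel_left₀ _ hpm] at h3
      · rcases Cfsg.Agent.S2631.sq_dich _ hN _ hpm with h3 | h3
        · exact absurd h3 h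
        · exact h3
    have hnt : ¬ IsSquare ((-1 : F) ^ m) ↔ q ^ m % 4 = 3 := by
      rw [nt hF hodd m]
      have hoddm : q ^ m % 2 = 1 := Nat.odd_iff.1 (hodd.pow)
      omega
    rw [← hnt, ← hc']
    constructor
    · rintro ⟨g, hg, hgm⟩
      have : g = g0 := by
        apply Subtype.ext
        apply Units.ext
        rw [hgm, hmat]
      rw [← this]; exact hg
    · intro h
      exact ⟨g0, h, hmat⟩
  exact key _ hQm

end Cfsg.Agent.S0791
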