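import Mathlib
import Cfsg.Statements.S0797
import Cfsg.Agent.S2609

set_option autoImplicit false
open Cfsg

namespace Cfsg.Agent.S0797

open Matrix
open Cfsg.Agent.S5754 (rfl0 rfl0_invol rfl0_iso)
open Cfsg.Agent.S2628 (exists_invol)
open Cfsg.Agent.S0788 (chi ker_eq)

theorem index_ker_two {G : Type*} [Group G] (φ : G →* ℤˣ) (t : G) (ht : φ t = -1) :
    φ.ker.index = 2 := by
  rw [Subgroup.index_eq_two_iff]
  refine ⟨t, fun b => ?_⟩
  rw [MonoidHom.mem_ker, MonoidHom.mem_ker, map_mul, ht]
  rcases Int.units_eq_one_or (φ b) with h | h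
  · rw [h]; right; exact ⟨rfl, by decide⟩
  · rw [h]; left; exact ⟨by decide, by decide⟩

/-- abstract group theory: two characters with independent witnesses whose common kernel is the
commutator subgroup give exactly three subgroups of index two -/
theorem three_index_two {G : Type*} [Group G] (χa χb : G →* ℤˣ) (ta tb : G)
    (haa : χa ta = -1) (hba : χb ta = 1) (hab : χa tb = 1) (hbb : χb tb = -1)
    (hker : ∀ g : G, g ∈ commutator G ↔ (χa g = 1 ∧ χb g = 1)) :
    Nat.card {H : Subgroup G // H.index = 2} = 3 := by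
  classical
  have hcomm : ∀ H : Subgroup G, H.index = 2 → commutator G ≤ H := by
    intro H hH
    rw [commutator_def, Subgroup.commutator_le]
    intro a _ b _
    rw [commutatorElement_def, Subgroup.mul_mem_iff_of_index_two hH,
      Subgroup.mul_mem_iff_of_index_two hH, Subgroup.mul_mem_iff_of_index_two hH, inv_mem_iff,
      inv_mem_iff]
    tauto
  have key : ∀ H : Subgroup G, H.index = 2 → ∀ g : G,
      g ∈ H ↔ ((χa g = -1 → ta ∈ H) ↔ (χb g = -1 → tb ∈ H)) := by
    intro H hH g
    have hm : ∀ r : G, χa (g * r) = 1 → χb (g * r) = 1 → (g ∈ H ↔ r ∈ H) := by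
      intro r h1 h2
      have h3 : g * r ∈ H := hcomm H hH ((hker _).2 ⟨h1, h2⟩)
      exact (Subgroup.mul_mem_iff_of_index_two hH).1 h3
    rcases Int.units_eq_one_or (χa g) with h1 | h1 <;>
      rcases Int.units_eq_one_or (χb g) with h2 | h2
    · have h3 := hm 1 (by rw [mul_one, h1]) (by rw [mul_one, h2])
      rw [h3, h1, h2]
      simp
    · have h3 := hm tb (by rw [map_mul, h1, hab]; rfl) (by rw [map_mul, h2, hbb]; rfl)
      rw [h3, h1, h2]
      simp
    · have h3 := hm ta (by rw [map_mul, h1, haa]; rfl) (by rw [map_mul, h2, hba]; rfl)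
      rw [h3, h1, h2]
      simp
    · have h3 := hm (ta * tb) (by rw [map_mul, map_mul, h1, haa, hab]; rfl)
        (by rw [map_mul, map_mul, h2, hba, hbb]; rfl)
      rw [h3, h1, h2, Subgroup.mul_mem_iff_of_index_two hH]
      simp
  have hA : χa.ker.index = 2 := index_ker_two χa ta haa
  have hB : χb.ker.index = 2 := index_ker_two χb tb hbb
  have hAB : (χa * χb).ker.index = 2 :=
    index_ker_two (χa * χb) ta (by rw [MonoidHom.mul_apply, haa, hba]; rfl)
  have hne1 : χa.ker ≠ χb.ker := by
    intro h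
    have h1 : ta ∈ χb.ker := MonoidHom.mem_ker.2 hba
    rw [← h, MonoidHom.mem_ker, haa] at h1
    exact absurd h1 (by decide)
  have hne2 : χa.ker ≠ (χa * χb).ker := by
    intro h
    have h1 : tb ∈ χa.ker := MonoidHom.mem_ker.2 hab
    rw [h, MonoidHom.mem_ker, MonoidHom.mul_apply, hab, hbb] at h1
    exact absurd h1 (by decide)
  have hne3 : χb.ker ≠ (χa * χb).ker := by
    intro h
    have h1 : ta ∈ χb.ker := MonoidHom.mem_ker.2 hba
    rw [h, MonoidHom.mem_ker, MonoidHom.mul_apply, haa, hba] at h1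
    exact absurd h1 (by decide)
  show Nat.card ↥({H : Subgroup G | H.index = 2}) = 3
  rw [_root_.Nat.card_coe_set_eq, Set.ncard_eq_three]
  refine ⟨χa.ker, χb.ker, (χa * χb).ker, hne1, hne2, hne3, ?_⟩
  ext H
  simp only [Set.mem_setOf_eq, Set.mem_insert_iff, Set.mem_singleton_iff]
  constructor
  · intro hH
    have hk := key H hH
    by_cases pa : ta ∈ H <;> by_cases pb : tb ∈ H
    · exfalso
      have htop : H = ⊤ := by
        rw [eq_top_iff]
        intro g _
        rw [hk g]
        simp [pa, pb]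
      rw [htop, Subgroup.index_top] at hH
      omega
    · right; left
      ext g
      rw [hk g, MonoidHom.mem_ker]
      rcases Int.units_eq_one_or (χb g) with h2 | h2 <;> simp [pa, pb, h2]
    · left
      ext g
      rw [hk g, MonoidHom.mem_ker]
      rcases Int.units_eq_one_or (χa g) with h1 | h1 <;> simp [pa, pb, h1]
    · right; right
      ext g
      rw [hk g, MonoidHom.mem_ker, MonoidHom.mul_apply]
      rcases Int.units_eq_one_or (χa g) with h1 | h1 <;>
        rcases Int.units_eq_one_or (χb g) with h2 | h2 <;> simp [pa, pb, h1, h2]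
  · rintro (rfl | rfl | rfl)
    · exact hA
    · exact hB
    · exact hAB

/-- O^ε_2m(q) ≅ Ω.2² for q odd: if F is finite of odd characteristic, n ≥ 2 is even and Q has non-degenerate polar form on F^n, the isometry group of Q has exactly three subgroups of index 2. -/
theorem result {F : Type*} [Field F] [Fintype F] (h2 : (2 : F) ≠ 0) {n : ℕ} (hn : 2 ≤ n) (heven : Even n) (Q : QuadraticForm F (Fin n → F)) (hQ : (QuadraticMap.polarBilin Q).Nondegenerate) : Nat.card {H : Subgroup ↥(Cfsg.isometryGroup F ⇑Q) // H.index = 2} = 3 := by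
  classical
  have hV : Module.finrank F (Fin n → F) = n := by
    rw [Module.finrank_fintype_fun_eq_card, Fintype.card_fin]
  have htop : (⊤ : Submodule F (Fin n → F)) ⊓
      LinearMap.BilinForm.orthogonal (QuadraticMap.polarBilin Q) ⊤ = ⊥ := by
    rw [eq_bot_iff]
    rintro x ⟨-, hx⟩
    rw [Submodule.mem_bot]
    apply hQ.1 x
    intro y
    show QuadraticMap.polar Q x y = 0
    rw [QuadraticMap.polar_comm]
    exact hx y Submodule.mem_top
  obtain ⟨a₀, -, b₀, -, hQa₀, hQb₀, hab₀⟩ := Cfsg.Agent.S2632.exists_aniso2 Q h2 ⊤ htop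
    (by rw [finrank_top, hV]; exact hn)
  obtain ⟨a, -, b, -, hQa, hQb, hns⟩ := Cfsg.Agent.S2632.exists_other Q h2 ⊤ a₀ b₀
    Submodule.mem_top Submodule.mem_top hQa₀ hQb₀ hab₀
  obtain ⟨ta, hta2, hta⟩ := exists_invol ⇑Q (rfl0 Q a) (rfl0_invol Q a hQa) (rfl0_iso Q a hQa)
  obtain ⟨tb, htb2, htb⟩ := exists_invol ⇑Q (rfl0 Q b) (rfl0_invol Q b hQb) (rfl0_iso Q b hQb)
  obtain ⟨⟨haa, hba, hab, hbb⟩, hker⟩ := ker_eq Q h2 hQ a b hQa hQb hns ta tb (fun x => hta x)
    (fun x => htb x) hta2 htb2
  exact three_index_two (chi Q (Q a)) (chi Q (Q b)) ta tb haa hba hab hbb hker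

end Cfsg.Agent.S0797
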