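import Cfsg.Statements.S0994
import Cfsg.Agent.Lib.Helper6.SimpleTools

set_option autoImplicit false
open Cfsg

namespace Cfsg.Agent.S0994

/-- No finite simple group has order 1188 = 2^2 * 3^3 * 11. -/
theorem result {G : Type*} [Group G] [Finite G] [IsSimpleGroup G] : Nat.card G ≠ 1188 := by
  intro hG
  haveI : Fact (Nat.Prime 11) := ⟨by norm_num⟩
  have hnc : ¬ IsMulCommutative G := Cfsg.Agent.Lib.Helper6.st_not_comm (by rw [hG]; norm_num)
  obtain ⟨j, hj0, hn, hdvd, hfact, hP⟩ := Cfsg.Agent.Lib.Helper6.st_sylow_data (G := G) 11 1 108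
    (hG.trans (by norm_num)) (by norm_num) (by norm_num) (by norm_num)
  have hj : j ≤ 9 := by
    have := Nat.le_of_dvd (by norm_num) hdvd
    omega
  obtain ⟨P⟩ : Nonempty (Sylow 11 G) := inferInstance
  obtain ⟨hPc, hN⟩ := hP P
  norm_num only at hPc
  interval_cases j
  all_goals try omega
  norm_num only at hN
  have hN' : Nat.card (Subgroup.normalizer ((P : Subgroup G) : Set G)) = 11 * 9 := by omega
  exact Cfsg.Agent.Lib.Helper6.st_burnside_prime hnc P hPc 9 hN' (by decide)

end Cfsg.Agent.S0994
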