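import Cfsg.Statements.S1249
-- import your own Cfsg.Agent.* helpers here

set_option autoImplicit false
open Cfsg

namespace Cfsg.Agent.S1249

/-- Let P and Q be Sylow p-subgroups of the finite group G both containing the subgroup A. If A is strongly closed in P, then A is strongly closed in Q. -/
theorem result {G : Type*} [Group G] [Finite G] {p : ℕ} [Fact p.Prime] (P Q : Sylow p G) (A : Subgroup G) (hAQ : A ≤ Q) (hA : Cfsg.IsStronglyClosed A (P : Subgroup G)) : Cfsg.IsStronglyClosed A (Q : Subgroup G) := by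
  obtain ⟨h, rfl⟩ := MulAction.exists_smul_eq G P Q
  have key : ∀ x : G, x ∈ ((h • P : Sylow p G) : Subgroup G) ↔ h⁻¹ * x * h ∈ (P : Subgroup G) := by
    intro x
    rw [Sylow.coe_subgroup_smul, Subgroup.mem_pointwise_smul_iff_inv_smul_mem]
    simp [MulAut.smul_def]
  refine ⟨hAQ, ?_⟩
  intro x hx g hg
  have h1 : ∀ a ∈ A, h⁻¹ * a * h ∈ A := fun a ha => by
    have := hA.2 a ha h⁻¹ (by simpa using (key a).1 (hAQ ha))
    simpa using this
  have h2 : ∀ a ∈ A, h * a * h⁻¹ ∈ A := by
    intro a ha
    let f : A → A := fun b => ⟨h⁻¹ * b * h, h1 b b.2⟩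
    have hf : Function.Injective f := by
      intro b c hbc
      have : h⁻¹ * (b : G) * h = h⁻¹ * (c : G) * h := congrArg Subtype.val hbc
      exact Subtype.ext (by simpa using this)
    obtain ⟨b, hb⟩ := (Finite.surjective_of_injective hf) ⟨a, ha⟩
    have hb' : h⁻¹ * (b : G) * h = a := congrArg Subtype.val hb
    have : h * a * h⁻¹ = b := by rw [← hb']; group
    rw [this]; exact b.2
  have h3 := hA.2 x hx (h⁻¹ * g) (by have := (key _).1 hg; simpa [mul_assoc] using this)
  have := h2 _ h3
  simpa [mul_assoc] using this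

end Cfsg.Agent.S1249
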