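import Cfsg.Statements.S1250
import Cfsg.Agent.Lib.Helper8.Basic

set_option autoImplicit false
open Cfsg
open Cfsg.Agent.Lib.Helper8

namespace Cfsg.Agent.S1250

/-- Let S be a Sylow p-subgroup of the finite group G, A ≤ S strongly closed in S, and N a normal subgroup. Then the image of A in G ⧸ N is strongly closed in the image of S (which is a Sylow p-subgroup of G ⧸ N). -/
theorem result {G : Type*} [Group G] [Finite G] {p : ℕ} [Fact p.Prime] (S : Sylow p G) (A : Subgroup G) (hA : Cfsg.IsStronglyClosed A (S : Subgroup G)) (N : Subgroup G) [N.Normal] : Cfsg.IsStronglyClosed (A.map (QuotientGroup.mk' N)) ((S : Subgroup G).map (QuotientGroup.mk' N)) := by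
  obtain ⟨hAS, hsc⟩ := hA
  refine ⟨Subgroup.map_mono hAS, ?_⟩
  rintro _ ⟨x, hx, rfl⟩ g' hg'
  obtain ⟨g, rfl⟩ := QuotientGroup.mk'_surjective N g'
  have hconj : (QuotientGroup.mk' N) g * (QuotientGroup.mk' N) x * ((QuotientGroup.mk' N) g)⁻¹ = (QuotientGroup.mk' N) (g * x * g⁻¹) := by
    simp
  rw [hconj] at hg' ⊢
  obtain ⟨s, hs, hsg⟩ := hg'
  -- g x g⁻¹ = s n with n ∈ N
  have hn : s⁻¹ * (g * x * g⁻¹) ∈ N := by
    have := hsg
    rw [QuotientGroup.mk'_eq_mk'] at this
    obtain ⟨z, hz, hz'⟩ := this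
    rw [← hz']
    simpa using hz
  -- the subgroup S ⊔ N, in which S is Sylow
  set M : Subgroup G := (S : Subgroup G) ⊔ N with hMdef
  have hSM : (S : Subgroup G) ≤ M := le_sup_left
  have hNM : N ≤ M := le_sup_right
  have hyM : g * x * g⁻¹ ∈ M := by
    have : g * x * g⁻¹ = s * (s⁻¹ * (g * x * g⁻¹)) := by group
    rw [this]
    exact Subgroup.mul_mem _ (hSM hs) (hNM hn)
  -- x is a p-element
  have hxp : IsPGroup p (Subgroup.zpowers x) := S.isPGroup'.to_le (by
    rw [Subgroup.zpowers_le]; exact hAS hx)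
  have hyp : IsPGroup p (Subgroup.zpowers (g * x * g⁻¹)) := by
    have := h8_isPGroup_map_conj g hxp
    have e : (Subgroup.zpowers x).map (MulAut.conj g).toMonoidHom = Subgroup.zpowers (g * x * g⁻¹) := by
      rw [MonoidHom.map_zpowers]; simp
    rwa [e] at this
  -- Sylow of M containing S
  have hSsyl : IsPGroup p ((S : Subgroup G).subgroupOf M) := S.isPGroup'.comap_subtype
  obtain ⟨P, hP⟩ := hSsyl.exists_le_sylow
  have hPeq : ((P : Subgroup M).map M.subtype) = S := by
    have h1 : (S : Subgroup G) ≤ (P : Subgroup M).map M.subtype := by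
      intro y hy
      exact ⟨⟨y, hSM hy⟩, hP (by rw [Subgroup.mem_subgroupOf]; exact hy), rfl⟩
    exact S.is_maximal' (P.isPGroup'.map _) h1
  have hyp' : IsPGroup p ((Subgroup.zpowers (g * x * g⁻¹)).subgroupOf M) := hyp.comap_subtype
  obtain ⟨m, hm⟩ := h8_exists_conj_sylow_ge P hyp'
  have hmem := hm ⟨g * x * g⁻¹, hyM⟩ (by
    rw [Subgroup.mem_subgroupOf]; exact Subgroup.mem_zpowers _)
  have hmem' : (m : G)⁻¹ * (g * x * g⁻¹) * (m : G) ∈ (S : Subgroup G) := by
    rw [← hPeq]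
    exact ⟨_, hmem, by simp⟩
  have hA' := hsc x hx ((m : G)⁻¹ * g) (by simpa [mul_assoc] using hmem')
  -- m ∈ S ⊔ N = S N; conjugation by m changes things by an element of N mod N ... use normality in quotient
  -- image of m⁻¹ g x g⁻¹ m in G/N lies in image of A, and image of m is in image of S
  have hmM : (m : G) ∈ M := m.2
  -- write image of m as image of some s' ∈ S
  have hmS : ∃ s' ∈ (S : Subgroup G), (QuotientGroup.mk' N) s' = (QuotientGroup.mk' N) (m : G) := by
    have : (m : G) ∈ (((S : Subgroup G) ⊔ N : Subgroup G) : Set G) := hmM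
    rw [Subgroup.mul_normal, Set.mem_mul] at this
    obtain ⟨y, hy, z, hz, hyz⟩ := this
    refine ⟨y, hy, ?_⟩
    rw [← hyz, QuotientGroup.mk'_eq_mk']
    exact ⟨z, hz, rfl⟩
  obtain ⟨s', hs', hs'm⟩ := hmS
  -- s' (m⁻¹ g x g⁻¹ m) s'⁻¹ ∈ A by strong closure (it lies in S)
  have hA'' := hsc _ hA' s' (by
    have h1 : (m : G)⁻¹ * g * x * ((m : G)⁻¹ * g)⁻¹ ∈ (S : Subgroup G) := by simpa [mul_assoc] using hmem'
    exact Subgroup.mul_mem _ (Subgroup.mul_mem _ hs' h1) (Subgroup.inv_mem _ hs'))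
  refine ⟨_, hA'', ?_⟩
  simp only [map_mul, map_inv, hs'm]
  group

end Cfsg.Agent.S1250
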