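import Cfsg.Statements.S3734
import Mathlib
import Cfsg.Agent.Lib.Helper7.Coprime2
import Cfsg.Agent.Lib.Helper7.CoprimeSylow
import Cfsg.Agent.Lib.Helper2.PGroup

set_option autoImplicit false
open Cfsg

namespace Cfsg.Agent.S3734



theorem descent {Q : Type*} [CommGroup Q] [Fintype Q] [DecidableEq Q] :
    ∀ n : ℕ, 0 < n → n < (Finset.univ.filter (fun g : Q => g ^ n = 1)).card →
      ∃ r : ℕ, r.Prime ∧ r < (Finset.univ.filter (fun g : Q => g ^ r = 1)).card := by
  intro n
  induction n using Nat.strong_induction_on with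
  | _ n ih =>
    intro hn hcard
    by_cases hpr : n.Prime
    · exact ⟨n, hpr, hcard⟩
    · have hn1 : n ≠ 1 := by
        rintro rfl
        have : (Finset.univ.filter (fun g : Q => g ^ 1 = 1)).card ≤ 1 := by
          rw [Finset.card_le_one]
          intro x hx y hy
          simp only [Finset.mem_filter, Finset.mem_univ, true_and, pow_one] at hx hy
          rw [hx, hy]
        omega
      set r := n.minFac with hr
      have hrp : r.Prime := Nat.minFac_prime hn1
      obtain ⟨m, hm⟩ := Nat.minFac_dvd n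
      have hm0 : 0 < m := by
        rcases Nat.eq_zero_or_pos m with h | h
        · rw [h, mul_zero] at hm; omega
        · exact h
      have hmn : m < n := by
        rw [hm]
        have := hrp.two_le
        nlinarith
      have hm1 : m ≠ 1 := by
        rintro rfl
        rw [mul_one] at hm
        exact hpr (hm ▸ hrp)
      -- card bound
      have hbound : (Finset.univ.filter (fun g : Q => g ^ n = 1)).card ≤
          (Finset.univ.filter (fun g : Q => g ^ m = 1)).card *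
            (Finset.univ.filter (fun g : Q => g ^ r = 1)).card := by
        have h1 := Finset.card_le_mul_card_image (f := fun g : Q => g ^ m)
          (Finset.univ.filter (fun g : Q => g ^ n = 1))
          (Finset.univ.filter (fun g : Q => g ^ m = 1)).card (by
            intro y hy
            obtain ⟨g₀, hg₀, rfl⟩ := Finset.mem_image.mp hy
            apply Finset.card_le_card_of_injOn (fun g => g * g₀⁻¹)
            · intro g hg
              simp only [Finset.coe_filter, Finset.mem_filter, Finset.mem_univ, true_and,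
                Set.mem_ofPred_eq] at hg ⊢
              rw [mul_pow, inv_pow, hg.2, mul_inv_cancel]
            · intro g _ g' _ h
              exact mul_right_cancel h)
        refine h1.trans (Nat.mul_le_mul_left _ (Finset.card_le_card ?_))
        intro y hy
        obtain ⟨g, hg, rfl⟩ := Finset.mem_image.mp hy
        simp only [Finset.mem_filter, Finset.mem_univ, true_and] at hg ⊢
        rw [← pow_mul, mul_comm, ← hm]; exact hg
      by_cases h2 : r < (Finset.univ.filter (fun g : Q => g ^ r = 1)).card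
      · exact ⟨r, hrp, h2⟩
      · have h3 : m < (Finset.univ.filter (fun g : Q => g ^ m = 1)).card := by
          by_contra h3
          push Not at h2 h3
          have h4 : (Finset.univ.filter (fun g : Q => g ^ n = 1)).card ≤ m * r :=
            hbound.trans (Nat.mul_le_mul h3 h2)
          have hmr : m * r = n := by rw [mul_comm]; exact hm.symm
          omega
        exact ih m hmn hm0 h3

theorem exists_rank_two {X : Type*} [Group X] [Finite X] (A A₀ : Subgroup X)
    (hAab : IsMulCommutative A) (hA₀ : A₀ ≤ A)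
    (hnc : ¬ ∃ a ∈ A, A₀ ⊔ Subgroup.zpowers a = A) :
    ∃ r : ℕ, r.Prime ∧ r ∣ Nat.card A ∧ ∃ a ∈ A, ∃ b ∈ A, a ^ r ∈ A₀ ∧ b ^ r ∈ A₀ ∧ b ∉ A₀ ∧
      ∀ j : ℕ, a * b ^ j ∉ A₀ := by
  classical
  letI : CommGroup ↥A := { (inferInstance : Group ↥A) with mul_comm := fun x y => mul_comm' x y }
  set N : Subgroup ↥A := A₀.subgroupOf A with hN
  have hnotcyc : ¬ IsCyclic (↥A ⧸ N) := by
    intro hc
    obtain ⟨g, hg⟩ := hc.exists_generator
    obtain ⟨a, rfl⟩ := QuotientGroup.mk_surjective g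
    apply hnc
    refine ⟨a, a.2, le_antisymm (sup_le hA₀ (by rw [Subgroup.zpowers_le]; exact a.2)) ?_⟩
    intro x hx
    obtain ⟨k, hk⟩ := Subgroup.mem_zpowers_iff.mp (hg (QuotientGroup.mk ⟨x, hx⟩))
    have h1 : (a ^ k)⁻¹ * ⟨x, hx⟩ ∈ N := by
      rw [← QuotientGroup.eq]; exact hk
    have h2 : ((a : X) ^ k)⁻¹ * x ∈ A₀ := by
      simpa [hN, Subgroup.mem_subgroupOf] using h1
    have e : x = (a : X) ^ k * (((a : X) ^ k)⁻¹ * x) := by group
    rw [e]
    exact Subgroup.mul_mem _ (Subgroup.mem_sup_right (Subgroup.zpow_mem_zpowers _ k))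
      (Subgroup.mem_sup_left h2)
  letI : Fintype (↥A ⧸ N) := Fintype.ofFinite _
  have h2 : ∃ n : ℕ, 0 < n ∧ n < (Finset.univ.filter (fun g : ↥A ⧸ N => g ^ n = 1)).card := by
    by_contra hcon
    push Not at hcon
    exact hnotcyc (isCyclic_of_card_pow_eq_one_le (fun n hn => hcon n hn))
  obtain ⟨n, hn0, hn⟩ := h2
  obtain ⟨r, hrp, hr⟩ := descent n hn0 hn
  -- pick b̄ ≠ 1
  have hone : (1 : ↥A ⧸ N) ∈ Finset.univ.filter (fun g : ↥A ⧸ N => g ^ r = 1) := by simp
  obtain ⟨bq, hbq, hbq1⟩ : ∃ bq ∈ Finset.univ.filter (fun g : ↥A ⧸ N => g ^ r = 1), bq ≠ 1 := by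
    by_contra hcon
    push Not at hcon
    have : (Finset.univ.filter (fun g : ↥A ⧸ N => g ^ r = 1)).card ≤ 1 := by
      rw [Finset.card_le_one]
      intro x hx y hy
      rw [hcon x hx, hcon y hy]
    have := hrp.two_le
    omega
  have hbr : bq ^ r = 1 := by simpa using hbq
  have himg : ((Finset.range r).image (fun j => bq ^ j)).card < 
      (Finset.univ.filter (fun g : ↥A ⧸ N => g ^ r = 1)).card :=
    lt_of_le_of_lt (Finset.card_image_le.trans (by rw [Finset.card_range])) hr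
  obtain ⟨aq, haq, haq'⟩ := Finset.exists_mem_notMem_of_card_lt_card himg
  have har : aq ^ r = 1 := by simpa using haq
  have hmod : ∀ k : ℕ, bq ^ k = bq ^ (k % r) := by
    intro k
    conv_lhs => rw [← Nat.div_add_mod k r]
    rw [pow_add, pow_mul, hbr, one_pow, one_mul]
  have hab : ∀ j : ℕ, aq * bq ^ j ≠ 1 := by
    intro j hj
    apply haq'
    have e : aq = bq ^ ((r - 1) * j) := by
      have h1 : bq ^ j * bq ^ ((r - 1) * j) = 1 := by
        rw [← pow_add]
        have : j + (r - 1) * j = r * j := by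
          have := hrp.two_le
          obtain ⟨s, hs⟩ : ∃ s, r = s + 1 := ⟨r - 1, by omega⟩
          rw [hs]; simp; ring
        rw [this, pow_mul, hbr, one_pow]
      calc aq = aq * (bq ^ j * bq ^ ((r - 1) * j)) := by rw [h1, mul_one]
        _ = (aq * bq ^ j) * bq ^ ((r - 1) * j) := by rw [mul_assoc]
        _ = bq ^ ((r - 1) * j) := by rw [hj, one_mul]
    rw [e, hmod]
    exact Finset.mem_image.mpr ⟨_, Finset.mem_range.mpr (Nat.mod_lt _ hrp.pos), rfl⟩
  obtain ⟨a, rfl⟩ := QuotientGroup.mk_surjective aq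
  obtain ⟨b, rfl⟩ := QuotientGroup.mk_surjective bq
  have hdvd : r ∣ Nat.card A := by
    haveI := Fact.mk hrp
    have h1 : orderOf (QuotientGroup.mk b : ↥A ⧸ N) = r := orderOf_eq_prime hbr hbq1
    have h2 : orderOf (QuotientGroup.mk b : ↥A ⧸ N) ∣ Nat.card (↥A ⧸ N) := orderOf_dvd_natCard _
    rw [h1, ← Subgroup.index_eq_card] at h2
    exact h2.trans (Subgroup.index_dvd_card N)
  refine ⟨r, hrp, hdvd, a, a.2, b, b.2, ?_, ?_, ?_, ?_⟩
  · have h1 : a ^ r ∈ N := by
      rw [← QuotientGroup.eq_one_iff]; exact har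
    simpa [hN, Subgroup.mem_subgroupOf] using h1
  · have h1 : b ^ r ∈ N := by
      rw [← QuotientGroup.eq_one_iff]; exact hbr
    simpa [hN, Subgroup.mem_subgroupOf] using h1
  · intro hb
    apply hbq1
    rw [QuotientGroup.eq_one_iff]
    simpa [hN, Subgroup.mem_subgroupOf] using hb
  · intro j hj
    apply hab j
    have : a * b ^ j ∈ N := by simpa [hN, Subgroup.mem_subgroupOf] using hj
    have h1 := (QuotientGroup.eq_one_iff (N := N) (a * b ^ j)).mpr this
    simpa using h1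



open scoped commutatorElement
open Subgroup

universe u
variable {X : Type u} [Group X]

/-- ordered product -/
def ordprod : ℕ → (ℕ → X) → X
  | 0, _ => 1
  | n + 1, g => ordprod n g * g n

theorem ordprod_mem (W : Subgroup X) (n : ℕ) (g : ℕ → X) (h : ∀ i < n, g i ∈ W) :
    ordprod n g ∈ W := by
  induction n with
  | zero => exact W.one_mem
  | succ n ih => exact W.mul_mem (ih (fun i hi => h i (by omega))) (h n (by omega))

theorem ordprod_conj (c : X) (n : ℕ) (g : ℕ → X) :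
    c * ordprod n g * c⁻¹ = ordprod n (fun i => c * g i * c⁻¹) := by
  induction n with
  | zero => simp [ordprod]
  | succ n ih =>
    show c * (ordprod n g * g n) * c⁻¹ = ordprod n _ * (c * g n * c⁻¹)
    rw [← ih]; group

/-- abelian quotient `W / M` built so that it is a commutative group by instance -/
abbrev QuotAb (W M : Subgroup X) : Type u :=
  Abelianization ↥W ⧸ ((M.subgroupOf W).map Abelianization.of)

open Classical in
noncomputable def piW (W M : Subgroup X) : X → QuotAb W M :=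
  fun g => if h : g ∈ W then QuotientGroup.mk (Abelianization.of ⟨g, h⟩) else 1

theorem piW_mul (W M : Subgroup X) {u v : X} (hu : u ∈ W) (hv : v ∈ W) :
    piW W M (u * v) = piW W M u * piW W M v := by
  unfold piW
  rw [dif_pos hu, dif_pos hv, dif_pos (W.mul_mem hu hv)]
  rw [← QuotientGroup.mk_mul, ← map_mul]
  rfl

theorem piW_one (W M : Subgroup X) : piW W M 1 = 1 := by
  have h := piW_mul W M W.one_mem W.one_mem
  rw [one_mul] at h
  exact (mul_eq_left.mp h.symm)

theorem piW_inv (W M : Subgroup X) {u : X} (hu : u ∈ W) : piW W M u⁻¹ = (piW W M u)⁻¹ := by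
  have h := piW_mul W M hu (W.inv_mem hu)
  rw [mul_inv_cancel, piW_one] at h
  exact (eq_inv_of_mul_eq_one_right h.symm)

theorem piW_pow (W M : Subgroup X) {u : X} (hu : u ∈ W) (n : ℕ) :
    piW W M (u ^ n) = (piW W M u) ^ n := by
  induction n with
  | zero => simp [piW_one]
  | succ n ih => rw [pow_succ, pow_succ, piW_mul W M (W.pow_mem hu n) hu, ih]

theorem piW_eq_one (W M : Subgroup X) (hWW : ⁅W, W⁆ ≤ M) {u : X} (hu : u ∈ W) :
    piW W M u = 1 ↔ u ∈ M := by
  unfold piW
  rw [dif_pos hu, QuotientGroup.eq_one_iff]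
  constructor
  · rintro ⟨n, hn, hnu⟩
    have h1 : Abelianization.of (n⁻¹ * ⟨u, hu⟩) = 1 := by
      rw [map_mul, map_inv, hnu, inv_mul_cancel]
    have h2 : n⁻¹ * ⟨u, hu⟩ ∈ commutator ↥W := by
      rw [← Abelianization.ker_of]; exact h1
    have h3 : ((n⁻¹ * ⟨u, hu⟩ : ↥W) : X) ∈ ⁅W, W⁆ := by
      rw [← Subgroup.map_subtype_commutator]
      exact ⟨_, h2, rfl⟩
    have h4 : (n : X)⁻¹ * u ∈ M := hWW h3
    have h5 : (n : X) ∈ M := hn
    have e : u = (n : X) * ((n : X)⁻¹ * u) := by group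
    rw [e]; exact M.mul_mem h5 h4
  · intro huM
    exact ⟨⟨u, hu⟩, huM, rfl⟩

theorem piW_ordprod (W M : Subgroup X) (n : ℕ) (g : ℕ → X) (h : ∀ i < n, g i ∈ W) :
    piW W M (ordprod n g) = ∏ i ∈ Finset.range n, piW W M (g i) := by
  induction n with
  | zero => simp [ordprod, piW_one]
  | succ n ih =>
    show piW W M (ordprod n g * g n) = _
    rw [piW_mul W M (ordprod_mem W n g (fun i hi => h i (by omega))) (h n (by omega)),
      Finset.prod_range_succ, ih (fun i hi => h i (by omega))]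

/-- elements of the normalizer of `M` fixed by `c` modulo `M` -/
def fixMod (M : Subgroup X) (c : X) : Subgroup X where
  carrier := {w | w ∈ normalizer (M : Set X) ∧ ⁅c, w⁆ ∈ M}
  mul_mem' := by
    rintro w₁ w₂ ⟨h1, h1'⟩ ⟨h2, h2'⟩
    refine ⟨Subgroup.mul_mem _ h1 h2, ?_⟩
    have e : ⁅c, w₁ * w₂⁆ = ⁅c, w₁⁆ * (w₁ * ⁅c, w₂⁆ * w₁⁻¹) := by
      simp only [commutatorElement_def]; group
    rw [e]
    exact M.mul_mem h1' (Cfsg.Agent.Lib.Helper7.conj_mem_of_mem_normalizer h1 h2')
  one_mem' := by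
    refine ⟨Subgroup.one_mem _, ?_⟩
    have e : ⁅c, (1 : X)⁆ = 1 := by simp only [commutatorElement_def]; group
    rw [e]; exact M.one_mem
  inv_mem' := by
    rintro w ⟨h1, h1'⟩
    refine ⟨Subgroup.inv_mem _ h1, ?_⟩
    have e : ⁅c, w⁻¹⁆ = w⁻¹ * (⁅c, w⁆)⁻¹ * w := by
      simp only [commutatorElement_def]; group
    rw [e]
    exact Cfsg.Agent.Lib.Helper7.conj_mem_of_mem_normalizer' h1 (M.inv_mem h1')

theorem mem_fixMod {M : Subgroup X} {c w : X} :
    w ∈ fixMod M c ↔ w ∈ normalizer (M : Set X) ∧ ⁅c, w⁆ ∈ M := Iff.rfl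

theorem prod_shift {Q : Type*} [CommGroup Q] (r : ℕ) (g : ℕ → Q) (h : g r = g 0) :
    ∏ i ∈ Finset.range r, g (i + 1) = ∏ i ∈ Finset.range r, g i := by
  have h1 := Finset.prod_range_succ' g r
  have h2 := Finset.prod_range_succ g r
  rw [h1, h] at h2
  exact mul_right_cancel h2

theorem prod_bij_mul {Q : Type*} [CommGroup Q] (r : ℕ) (hr : r.Prime) (i : ℕ) (hi0 : 0 < i)
    (hir : i < r) (g : ℕ → Q) (hg : ∀ j, g j = g (j % r)) :
    ∏ j ∈ Finset.range r, g (i * j) = ∏ j ∈ Finset.range r, g j := by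
  have hinj : Set.InjOn (fun j => (i * j) % r) (Finset.range r : Set ℕ) := by
    intro j hj j' hj' h
    have hj1 : j < r := Finset.mem_range.mp hj
    have hj1' : j' < r := Finset.mem_range.mp hj'
    have hcop : Nat.gcd r i = 1 := Nat.coprime_of_lt_prime (Nat.pos_iff_ne_zero.mp hi0) hir hr
    have h2 : j ≡ j' [MOD r] := Nat.ModEq.cancel_left_of_coprime hcop h
    have h3 : j % r = j' % r := h2
    rwa [Nat.mod_eq_of_lt hj1, Nat.mod_eq_of_lt hj1'] at h3
  have himg : (Finset.range r).image (fun j => (i * j) % r) = Finset.range r := by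
    apply Finset.eq_of_subset_of_card_le
    · intro x hx
      obtain ⟨j, -, rfl⟩ := Finset.mem_image.mp hx
      exact Finset.mem_range.mpr (Nat.mod_lt _ hr.pos)
    · rw [Finset.card_image_of_injOn hinj]
  calc ∏ j ∈ Finset.range r, g (i * j) = ∏ j ∈ Finset.range r, g ((i * j) % r) :=
        Finset.prod_congr rfl (fun j _ => hg _)
    _ = ∏ x ∈ (Finset.range r).image (fun j => (i * j) % r), g x :=
        (Finset.prod_image (fun x hx y hy h => hinj hx hy h)).symm
    _ = ∏ j ∈ Finset.range r, g j := by rw [himg]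

theorem comb {Q : Type*} [CommGroup Q] (r : ℕ) (hr : r.Prime) (f : ℕ → ℕ → Q)
    (hf : ∀ i j, f i j = f i (j % r)) :
    (∏ j ∈ Finset.range r, f 0 j) * ∏ j ∈ Finset.range r, ∏ i ∈ Finset.range r, f i (i * j) =
      (f 0 0) ^ r * ∏ i ∈ Finset.range r, ∏ j ∈ Finset.range r, f i j := by
  rw [Finset.prod_comm]
  obtain ⟨s, rfl⟩ : ∃ s, r = s + 1 := ⟨r - 1, by have := hr.pos; omega⟩
  rw [Finset.prod_range_succ' (fun i => ∏ j ∈ Finset.range (s + 1), f i (i * j)),
    Finset.prod_range_succ' (fun i => ∏ j ∈ Finset.range (s + 1), f i j)]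
  have h0 : ∏ j ∈ Finset.range (s + 1), f 0 (0 * j) = (f 0 0) ^ (s + 1) := by
    simp
  have h1 : ∏ k ∈ Finset.range s, ∏ j ∈ Finset.range (s + 1), f (k + 1) ((k + 1) * j) =
      ∏ k ∈ Finset.range s, ∏ j ∈ Finset.range (s + 1), f (k + 1) j := by
    refine Finset.prod_congr rfl (fun k hk => ?_)
    have hk' : k < s := Finset.mem_range.mp hk
    exact prod_bij_mul (s + 1) hr (k + 1) (by omega) (by omega) (fun j => f (k + 1) j)
      (fun j => hf _ _)
  rw [h0, h1]
  ac_rfl

theorem lemmaE [Finite X] (W M : Subgroup X) (hMW : M ≤ W) (hWW : ⁅W, W⁆ ≤ M) (a b : X)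
    (hab : a * b = b * a)
    (haW : a ∈ normalizer (W : Set X)) (hbW : b ∈ normalizer (W : Set X))
    (haM : a ∈ normalizer (M : Set X)) (hbM : b ∈ normalizer (M : Set X))
    (r : ℕ) (hr : r.Prime) (hcop : r.Coprime (Nat.card W))
    (har : ∀ w ∈ W, ⁅a ^ r, w⁆ ∈ M) (hbr : ∀ w ∈ W, ⁅b ^ r, w⁆ ∈ M) :
    W ≤ (W ⊓ fixMod M b) ⊔ ⨆ j ∈ Finset.range r, W ⊓ fixMod M (a * b ^ j) := by
  classical
  have hWM : W ≤ normalizer (M : Set X) := by
    intro w hw
    rw [Subgroup.mem_normalizer_iff]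
    intro m
    constructor
    · intro hm
      have e : w * m * w⁻¹ = ⁅w, m⁆ * m := by simp only [commutatorElement_def]; group
      rw [e]
      exact M.mul_mem (hWW (Subgroup.commutator_mem_commutator hw (hMW hm))) hm
    · intro hm
      have e : m = ⁅w⁻¹, w * m * w⁻¹⁆ * (w * m * w⁻¹) := by
        simp only [commutatorElement_def]; group
      rw [e]
      exact M.mul_mem (hWW (Subgroup.commutator_mem_commutator (W.inv_mem hw) (hMW hm))) hm
  set NN : Subgroup X := normalizer (W : Set X) ⊓ normalizer (M : Set X) with hNN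
  have haNN : a ∈ NN := Subgroup.mem_inf.mpr ⟨haW, haM⟩
  have hbNN : b ∈ NN := Subgroup.mem_inf.mpr ⟨hbW, hbM⟩
  set Y : Subgroup X := (W ⊓ fixMod M b) ⊔ ⨆ j ∈ Finset.range r, W ⊓ fixMod M (a * b ^ j) with hY
  intro w hw
  let F : X → QuotAb W M := fun x => piW W M (x * w * x⁻¹)
  have F1 : ∀ x ∈ NN, x * w * x⁻¹ ∈ W := fun x hx =>
    Cfsg.Agent.Lib.Helper7.conj_mem_of_mem_normalizer (Subgroup.mem_inf.mp hx).1 hw
  have hconjM : ∀ x ∈ NN, ∀ m ∈ M, x * m * x⁻¹ ∈ M := fun x hx m hm =>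
    Cfsg.Agent.Lib.Helper7.conj_mem_of_mem_normalizer (Subgroup.mem_inf.mp hx).2 hm
  have F2 : ∀ x ∈ NN, F (x * b ^ r) = F x := by
    intro x hx
    show piW W M (x * b ^ r * w * (x * b ^ r)⁻¹) = piW W M (x * w * x⁻¹)
    have e : x * b ^ r * w * (x * b ^ r)⁻¹ = (x * ⁅b ^ r, w⁆ * x⁻¹) * (x * w * x⁻¹) := by
      simp only [commutatorElement_def]; group
    have hm : x * ⁅b ^ r, w⁆ * x⁻¹ ∈ M := hconjM x hx _ (hbr w hw)
    rw [e, piW_mul W M (hMW hm) (F1 x hx), (piW_eq_one W M hWW (hMW hm)).mpr hm, one_mul]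
  have F2' : ∀ k, ∀ x ∈ NN, F (x * (b ^ r) ^ k) = F x := by
    intro k
    induction k with
    | zero => intro x hx; simp
    | succ k ih =>
      intro x hx
      have e : x * (b ^ r) ^ (k + 1) = (x * (b ^ r) ^ k) * b ^ r := by rw [pow_succ, mul_assoc]
      rw [e, F2 _ (NN.mul_mem hx (NN.pow_mem (NN.pow_mem hbNN r) k)), ih x hx]
  have F3 : ∀ i j, F (a ^ i * b ^ j) = F (a ^ i * b ^ (j % r)) := by
    intro i j
    have e : a ^ i * b ^ j = (a ^ i * b ^ (j % r)) * (b ^ r) ^ (j / r) := by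
      conv_lhs => rw [← Nat.mod_add_div j r]
      rw [pow_add, pow_mul, mul_assoc]
    rw [e, F2' _ _ (NN.mul_mem (NN.pow_mem haNN i) (NN.pow_mem hbNN _))]
  have hFone : F 1 = piW W M w := by
    show piW W M (1 * w * 1⁻¹) = _
    simp
  have F4 : F (a ^ r) = F 1 := by
    rw [hFone]
    show piW W M (a ^ r * w * (a ^ r)⁻¹) = piW W M w
    have e : a ^ r * w * (a ^ r)⁻¹ = ⁅a ^ r, w⁆ * w := by
      simp only [commutatorElement_def]; group
    have hm := har w hw
    rw [e, piW_mul W M (hMW hm) hw, (piW_eq_one W M hWW (hMW hm)).mpr hm, one_mul]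
  let wc : X → X := fun c => ordprod r (fun i => c ^ i * w * (c ^ i)⁻¹)
  have wcW : ∀ c ∈ NN, wc c ∈ W := fun c hc =>
    ordprod_mem W r _ (fun i _ => F1 _ (NN.pow_mem hc i))
  have piwc : ∀ c ∈ NN, piW W M (wc c) = ∏ i ∈ Finset.range r, F (c ^ i) := fun c hc =>
    piW_ordprod W M r _ (fun i _ => F1 _ (NN.pow_mem hc i))
  have C1 : ∀ c ∈ NN, F (c ^ r) = F 1 → wc c ∈ W ⊓ fixMod M c := by
    intro c hc hcr
    refine Subgroup.mem_inf.mpr ⟨wcW c hc, hWM (wcW c hc), ?_⟩
    have hconjW : c * wc c * c⁻¹ ∈ W :=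
      Cfsg.Agent.Lib.Helper7.conj_mem_of_mem_normalizer (Subgroup.mem_inf.mp hc).1 (wcW c hc)
    have e : ⁅c, wc c⁆ = (c * wc c * c⁻¹) * (wc c)⁻¹ := by simp only [commutatorElement_def]
    have h1 : piW W M (c * wc c * c⁻¹) = ∏ i ∈ Finset.range r, F (c ^ (i + 1)) := by
      show piW W M (c * ordprod r _ * c⁻¹) = _
      rw [ordprod_conj, piW_ordprod W M r _ (fun i _ =>
        Cfsg.Agent.Lib.Helper7.conj_mem_of_mem_normalizer (Subgroup.mem_inf.mp hc).1
          (F1 _ (NN.pow_mem hc i)))]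
      refine Finset.prod_congr rfl (fun i _ => ?_)
      show piW W M (c * (c ^ i * w * (c ^ i)⁻¹) * c⁻¹) = piW W M (c ^ (i + 1) * w * (c ^ (i + 1))⁻¹)
      congr 1
      rw [pow_succ']; group
    rw [e, ← piW_eq_one W M hWW (W.mul_mem hconjW (W.inv_mem (wcW c hc))),
      piW_mul W M hconjW (W.inv_mem (wcW c hc)), piW_inv W M (wcW c hc), piwc c hc, h1,
      prod_shift r (fun i => F (c ^ i)) (by simpa using hcr), mul_inv_cancel]
  have hin : ∀ i j, (a ^ i * b ^ j) * w * (a ^ i * b ^ j)⁻¹ ∈ W := fun i j =>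
    F1 _ (NN.mul_mem (NN.pow_mem haNN i) (NN.pow_mem hbNN j))
  let wE : X := ordprod r (fun i => ordprod r (fun j => (a ^ i * b ^ j) * w * (a ^ i * b ^ j)⁻¹))
  have wEW : wE ∈ W := ordprod_mem W r _ (fun i _ => ordprod_mem W r _ (fun j _ => hin i j))
  have piwE : piW W M wE = ∏ i ∈ Finset.range r, ∏ j ∈ Finset.range r, F (a ^ i * b ^ j) := by
    show piW W M (ordprod r _) = _
    rw [piW_ordprod W M r _ (fun i _ => ordprod_mem W r _ (fun j _ => hin i j))]
    refine Finset.prod_congr rfl (fun i _ => ?_)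
    exact piW_ordprod W M r _ (fun j _ => hin i j)
  have C2 : wE ∈ W ⊓ fixMod M b := by
    refine Subgroup.mem_inf.mpr ⟨wEW, hWM wEW, ?_⟩
    have hconjW : b * wE * b⁻¹ ∈ W :=
      Cfsg.Agent.Lib.Helper7.conj_mem_of_mem_normalizer hbW wEW
    have e : ⁅b, wE⁆ = (b * wE * b⁻¹) * wE⁻¹ := by simp only [commutatorElement_def]
    have h1 : piW W M (b * wE * b⁻¹) =
        ∏ i ∈ Finset.range r, ∏ j ∈ Finset.range r, F (a ^ i * b ^ (j + 1)) := by
      show piW W M (b * ordprod r _ * b⁻¹) = _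
      rw [ordprod_conj, piW_ordprod W M r _ (fun i _ =>
        Cfsg.Agent.Lib.Helper7.conj_mem_of_mem_normalizer hbW
          (ordprod_mem W r _ (fun j _ => hin i j)))]
      refine Finset.prod_congr rfl (fun i _ => ?_)
      rw [ordprod_conj, piW_ordprod W M r _ (fun j _ =>
        Cfsg.Agent.Lib.Helper7.conj_mem_of_mem_normalizer hbW (hin i j))]
      refine Finset.prod_congr rfl (fun j _ => ?_)
      show piW W M (b * ((a ^ i * b ^ j) * w * (a ^ i * b ^ j)⁻¹) * b⁻¹) =
        piW W M ((a ^ i * b ^ (j + 1)) * w * (a ^ i * b ^ (j + 1))⁻¹)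
      congr 1
      have h2 : b * a ^ i = a ^ i * b :=
        ((Commute.pow_right (show Commute b a from hab.symm) i)).eq
      have hc : b * (a ^ i * b ^ j) = a ^ i * b ^ (j + 1) := by
        rw [← mul_assoc, h2, mul_assoc, ← pow_succ']
      have h3 : b * (a ^ i * b ^ j * w * (a ^ i * b ^ j)⁻¹) * b⁻¹ =
          (b * (a ^ i * b ^ j)) * w * (b * (a ^ i * b ^ j))⁻¹ := by group
      rw [h3, hc]
    have h3 : ∀ i, ∏ j ∈ Finset.range r, F (a ^ i * b ^ (j + 1)) =
        ∏ j ∈ Finset.range r, F (a ^ i * b ^ j) := fun i =>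
      prod_shift r (fun j => F (a ^ i * b ^ j)) (by
        show F (a ^ i * b ^ r) = F (a ^ i * b ^ 0)
        rw [F3 i r, Nat.mod_self])
    rw [e, ← piW_eq_one W M hWW (W.mul_mem hconjW (W.inv_mem wEW)),
      piW_mul W M hconjW (W.inv_mem wEW), piW_inv W M wEW, piwE, h1,
      Finset.prod_congr rfl (fun i _ => h3 i), mul_inv_cancel]
  have hcj : ∀ j, a * b ^ j ∈ NN := fun j => NN.mul_mem haNN (NN.pow_mem hbNN j)
  have hpow : ∀ i j, (a * b ^ j) ^ i = a ^ i * b ^ (i * j) := by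
    intro i j
    have hc : Commute a (b ^ j) := (show Commute a b from hab).pow_right j
    rw [hc.mul_pow, ← pow_mul, mul_comm j i]
  have hFcr : ∀ j, F ((a * b ^ j) ^ r) = F 1 := by
    intro j
    rw [hpow r j, F3, Nat.mul_mod_right, pow_zero, mul_one, F4]
  have hFbr : F (b ^ r) = F 1 := by
    have := F2 1 NN.one_mem
    rwa [one_mul] at this
  have hcomb' : (∏ j ∈ Finset.range r, F (b ^ j)) *
      ∏ j ∈ Finset.range r, ∏ i ∈ Finset.range r, F ((a * b ^ j) ^ i) =
      (piW W M w) ^ r * ∏ i ∈ Finset.range r, ∏ j ∈ Finset.range r, F (a ^ i * b ^ j) := by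
    have h := comb r hr (fun i j => F (a ^ i * b ^ j)) (fun i j => F3 i j)
    have e1 : ∏ j ∈ Finset.range r, F (b ^ j) =
        ∏ j ∈ Finset.range r, (fun i j => F (a ^ i * b ^ j)) 0 j :=
      Finset.prod_congr rfl (fun j _ => by simp)
    have e2 : ∏ j ∈ Finset.range r, ∏ i ∈ Finset.range r, F ((a * b ^ j) ^ i) =
        ∏ j ∈ Finset.range r, ∏ i ∈ Finset.range r, (fun i j => F (a ^ i * b ^ j)) i (i * j) :=
      Finset.prod_congr rfl (fun j _ => Finset.prod_congr rfl (fun i _ => by rw [hpow]))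
    have e3 : piW W M w = (fun i j => F (a ^ i * b ^ j)) 0 0 := by
      rw [← hFone]; simp
    rw [e1, e2, e3]; exact h
  let y : X := wc b * ordprod r (fun j => wc (a * b ^ j)) * wE⁻¹
  have hordW : ordprod r (fun j => wc (a * b ^ j)) ∈ W :=
    ordprod_mem W r _ (fun j _ => wcW _ (hcj j))
  have hyW : y ∈ W := W.mul_mem (W.mul_mem (wcW b hbNN) hordW) (W.inv_mem wEW)
  have hyY : y ∈ Y := by
    refine Subgroup.mul_mem _ (Subgroup.mul_mem _ (Subgroup.mem_sup_left (C1 b hbNN hFbr)) ?_)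
      (Subgroup.mem_sup_left (Subgroup.inv_mem _ C2))
    apply Subgroup.mem_sup_right
    apply ordprod_mem
    intro j hj
    exact (le_biSup (fun j => W ⊓ fixMod M (a * b ^ j)) (Finset.mem_range.mpr hj))
      (C1 _ (hcj j) (hFcr j))
  have hpi : piW W M (w ^ r) = piW W M y := by
    rw [piW_pow W M hw]
    show _ = piW W M (wc b * ordprod r (fun j => wc (a * b ^ j)) * wE⁻¹)
    rw [piW_mul W M (W.mul_mem (wcW b hbNN) hordW) (W.inv_mem wEW),
      piW_mul W M (wcW b hbNN) hordW, piW_inv W M wEW, piwE,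
      piW_ordprod W M r _ (fun j _ => wcW _ (hcj j)), piwc b hbNN,
      Finset.prod_congr rfl (fun j _ => piwc _ (hcj j)), hcomb', mul_inv_cancel_right]
  have hM : w ^ r * y⁻¹ ∈ M := by
    rw [← piW_eq_one W M hWW (W.mul_mem (W.pow_mem hw r) (W.inv_mem hyW)),
      piW_mul W M (W.pow_mem hw r) (W.inv_mem hyW), piW_inv W M hyW, hpi, mul_inv_cancel]
  have hMY : M ≤ Y := by
    intro m hm
    apply Subgroup.mem_sup_left
    refine Subgroup.mem_inf.mpr ⟨hMW hm, Subgroup.le_normalizer hm, ?_⟩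
    have e : ⁅b, m⁆ = (b * m * b⁻¹) * m⁻¹ := by simp only [commutatorElement_def]
    rw [e]
    exact M.mul_mem (Cfsg.Agent.Lib.Helper7.conj_mem_of_mem_normalizer hbM hm) (M.inv_mem hm)
  have hwr : w ^ r ∈ Y := by
    have e : w ^ r = (w ^ r * y⁻¹) * y := by group
    rw [e]
    exact Y.mul_mem (hMY hM) hyY
  have hord : orderOf w ∣ Nat.card W := by
    have h1 : orderOf (⟨w, hw⟩ : W) ∣ Nat.card W := orderOf_dvd_natCard _
    rwa [Subgroup.orderOf_mk] at h1
  obtain ⟨m, hm⟩ := exists_pow_eq_self_of_coprime (Nat.Coprime.coprime_dvd_right hord hcop)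
  rw [← hm]
  exact Y.pow_mem hwr m


section main

open scoped commutatorElement
open Subgroup

variable {X : Type u} [Group X]

/-- generated by fixed points of the subgroups `B` with `A / B` cyclic -/
def gen (A G : Subgroup X) : Subgroup X :=
  ⨆ B ∈ {B : Subgroup X | B ≤ A ∧ ∃ a ∈ A, B ⊔ Subgroup.zpowers a = A},
    G ⊓ Subgroup.centralizer (B : Set X)

theorem gen_le (A G : Subgroup X) : gen A G ≤ G := iSup₂_le (fun _ _ => inf_le_left)

theorem gen_mono (A : Subgroup X) {G G' : Subgroup X} (h : G ≤ G') : gen A G ≤ gen A G' :=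
  iSup₂_mono (fun _ _ => inf_le_inf_right _ h)

theorem le_gen (A G B : Subgroup X) (hB : B ≤ A) (h : ∃ a ∈ A, B ⊔ Subgroup.zpowers a = A) :
    G ⊓ Subgroup.centralizer (B : Set X) ≤ gen A G := by
  unfold gen
  have hmem : B ∈ {B : Subgroup X | B ≤ A ∧ ∃ a ∈ A, B ⊔ Subgroup.zpowers a = A} := ⟨hB, h⟩
  exact le_biSup (fun B : Subgroup X => G ⊓ Subgroup.centralizer (B : Set X)) hmem

theorem le_normalizer_of_conj {A H : Subgroup X} (h : ∀ x ∈ A, ∀ w ∈ H, x * w * x⁻¹ ∈ H) :
    A ≤ normalizer (H : Set X) := by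
  intro x hx
  rw [Subgroup.mem_normalizer_iff]
  intro w
  constructor
  · exact h x hx w
  · intro hw
    have := h x⁻¹ (A.inv_mem hx) _ hw
    simpa [mul_assoc] using this

theorem le_normalizer_biSup {ι : Type*} (A : Subgroup X) (s : Set ι) (f : ι → Subgroup X)
    (h : ∀ i ∈ s, A ≤ normalizer (f i : Set X)) : A ≤ normalizer ((⨆ i ∈ s, f i : Subgroup X) : Set X) := by
  intro x hx
  rw [Subgroup.mem_normalizer_iff_map_conj_eq, Subgroup.map_iSup]
  congr 1
  funext i
  rw [Subgroup.map_iSup]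
  congr 1
  funext hi
  exact Subgroup.mem_normalizer_iff_map_conj_eq.mp (h i hi hx)

theorem le_normalizer_sup (A H K : Subgroup X) (h1 : A ≤ normalizer (H : Set X))
    (h2 : A ≤ normalizer (K : Set X)) : A ≤ normalizer ((H ⊔ K : Subgroup X) : Set X) := by
  intro x hx
  rw [Subgroup.mem_normalizer_iff_map_conj_eq, Subgroup.map_sup,
    Subgroup.mem_normalizer_iff_map_conj_eq.mp (h1 hx),
    Subgroup.mem_normalizer_iff_map_conj_eq.mp (h2 hx)]

theorem le_normalizer_comm (A H K : Subgroup X) (h1 : A ≤ normalizer (H : Set X))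
    (h2 : A ≤ normalizer (K : Set X)) : A ≤ normalizer ((⁅H, K⁆ : Subgroup X) : Set X) := by
  intro x hx
  rw [Subgroup.mem_normalizer_iff_map_conj_eq, Subgroup.map_commutator,
    Subgroup.mem_normalizer_iff_map_conj_eq.mp (h1 hx),
    Subgroup.mem_normalizer_iff_map_conj_eq.mp (h2 hx)]

theorem comm_of_ab {A : Subgroup X} (hAab : IsMulCommutative A) {x y : X} (hx : x ∈ A)
    (hy : y ∈ A) : x * y = y * x := by
  have := mul_comm' (⟨x, hx⟩ : A) ⟨y, hy⟩
  exact congrArg Subtype.val this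

theorem le_normalizer_fix (A : Subgroup X) (hAab : IsMulCommutative A) (G B : Subgroup X)
    (hAG : A ≤ normalizer (G : Set X)) (hB : B ≤ A) :
    A ≤ normalizer ((G ⊓ Subgroup.centralizer (B : Set X) : Subgroup X) : Set X) := by
  apply le_normalizer_of_conj
  intro x hx w hw
  obtain ⟨hwG, hwC⟩ := Subgroup.mem_inf.mp hw
  refine Subgroup.mem_inf.mpr ⟨Cfsg.Agent.Lib.Helper7.conj_mem_of_mem_normalizer (hAG hx) hwG, ?_⟩
  rw [Subgroup.mem_centralizer_iff]
  intro b hb
  have h1 : b * w = w * b := Subgroup.mem_centralizer_iff.mp hwC b hb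
  have h2 : x * b = b * x := comm_of_ab hAab hx (hB hb)
  calc b * (x * w * x⁻¹) = (b * x) * w * x⁻¹ := by group
    _ = (x * b) * w * x⁻¹ := by rw [h2]
    _ = x * (b * w) * x⁻¹ := by group
    _ = x * (w * b) * x⁻¹ := by rw [h1]
    _ = x * w * x⁻¹ * (x * b) * x⁻¹ := by group
    _ = x * w * x⁻¹ * (b * x) * x⁻¹ := by rw [h2]
    _ = x * w * x⁻¹ * b := by group

theorem gen_normal (A : Subgroup X) (hAab : IsMulCommutative A) (G : Subgroup X)
    (hAG : A ≤ normalizer (G : Set X)) : A ≤ normalizer ((gen A G : Subgroup X) : Set X) :=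
  le_normalizer_biSup A _ _ (fun B hB => le_normalizer_fix A hAab G B hAG hB.1)

theorem le_normalizer_of_comm_le {M W : Subgroup X} (hMW : M ≤ W) (hWW : ⁅W, W⁆ ≤ M) :
    W ≤ normalizer (M : Set X) := by
  apply le_normalizer_of_conj
  intro w hw m hm
  have e : w * m * w⁻¹ = ⁅w, m⁆ * m := by simp only [commutatorElement_def]; group
  rw [e]
  exact M.mul_mem (hWW (Subgroup.commutator_mem_commutator hw (hMW hm))) hm

/-- elements of the normalizer of `M` acting trivially on `W` modulo `M` -/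
def centMod (M W : Subgroup X) : Subgroup X where
  carrier := {x | x ∈ normalizer (M : Set X) ∧ ∀ w ∈ W, ⁅x, w⁆ ∈ M}
  mul_mem' := by
    rintro x y ⟨hx, hx'⟩ ⟨hy, hy'⟩
    refine ⟨Subgroup.mul_mem _ hx hy, fun w hw => ?_⟩
    have e : ⁅x * y, w⁆ = (x * ⁅y, w⁆ * x⁻¹) * ⁅x, w⁆ := by
      simp only [commutatorElement_def]; group
    rw [e]
    exact M.mul_mem (Cfsg.Agent.Lib.Helper7.conj_mem_of_mem_normalizer hx (hy' w hw)) (hx' w hw)
  one_mem' := by
    refine ⟨Subgroup.one_mem _, fun w _ => ?_⟩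
    have e : ⁅(1 : X), w⁆ = 1 := by simp only [commutatorElement_def]; group
    rw [e]; exact M.one_mem
  inv_mem' := by
    rintro x ⟨hx, hx'⟩
    refine ⟨Subgroup.inv_mem _ hx, fun w hw => ?_⟩
    have e : ⁅x⁻¹, w⁆ = x⁻¹ * (⁅x, w⁆)⁻¹ * x := by
      simp only [commutatorElement_def]; group
    rw [e]
    exact Cfsg.Agent.Lib.Helper7.conj_mem_of_mem_normalizer' hx (M.inv_mem (hx' w hw))

theorem key [Finite X] (A : Subgroup X) (hAab : IsMulCommutative A) (G₀ M : Subgroup X)
    (hMG : M ≤ G₀) (hcomm : ⁅G₀, G₀⁆ ≤ M) (hAG : A ≤ normalizer (G₀ : Set X))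
    (hAM : A ≤ normalizer (M : Set X)) (hcop : (Nat.card A).Coprime (Nat.card G₀)) :
    ∀ d : ℕ, ∀ A₀ : Subgroup X, A₀ ≤ A → Nat.card A - Nat.card A₀ = d →
      ∀ W : Subgroup X, M ≤ W → W ≤ G₀ → A ≤ normalizer (W : Set X) →
        (∀ x ∈ A₀, ∀ w ∈ W, ⁅x, w⁆ ∈ M) → W ≤ M ⊔ gen A G₀ := by
  have hG₀M : G₀ ≤ normalizer (M : Set X) := le_normalizer_of_comm_le hMG hcomm
  intro d
  induction d using Nat.strong_induction_on with
  | _ d ih =>
    intro A₀ hA₀ hd W hMW hWG hAW hfix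
    by_cases hcyc : ∃ a ∈ A, A₀ ⊔ Subgroup.zpowers a = A
    · intro w hw
      have hcopW : (Nat.card A₀).Coprime (Nat.card W) :=
        Nat.Coprime.coprime_dvd_left (Subgroup.card_dvd_of_le hA₀)
          (Nat.Coprime.coprime_dvd_right (Subgroup.card_dvd_of_le hWG) hcop)
      have hsolv : Group.IsSolvable A₀ := Group.isSolvable_of_comm (fun x y => by
        have := comm_of_ab hAab (hA₀ x.2) (hA₀ y.2)
        exact Subtype.ext this)
      obtain ⟨c, hc, hwc⟩ := Cfsg.Agent.Lib.Helper7.coprime_fixed_lift A₀ W (hA₀.trans hAW)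
        hcopW (Or.inl hsolv) M hMW (hWG.trans hG₀M) (hA₀.trans hAM) w hw
        (fun x hx => hfix x hx w hw)
      have e : w = c * (w⁻¹ * c)⁻¹ := by group
      rw [e]
      refine Subgroup.mul_mem _ (Subgroup.mem_sup_right ?_)
        (Subgroup.mem_sup_left (M.inv_mem hwc))
      have hcG : c ∈ G₀ ⊓ Subgroup.centralizer (A₀ : Set X) :=
        Subgroup.mem_inf.mpr ⟨hWG (Subgroup.mem_inf.mp hc).1, (Subgroup.mem_inf.mp hc).2⟩
      exact le_gen A G₀ A₀ hA₀ hcyc hcG
    · obtain ⟨r, hrp, hrdvd, a, ha, b, hb, har, hbr, hbA₀, habj⟩ :=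
        exists_rank_two A A₀ hAab hA₀ hcyc
      have hrcop : r.Coprime (Nat.card W) :=
        Nat.Coprime.coprime_dvd_left hrdvd
          (Nat.Coprime.coprime_dvd_right (Subgroup.card_dvd_of_le hWG) hcop)
      have hWW : ⁅W, W⁆ ≤ M := (Subgroup.commutator_mono hWG hWG).trans hcomm
      have hE := lemmaE W M hMW hWW a b (comm_of_ab hAab ha hb) (hAW ha) (hAW hb) (hAM ha)
        (hAM hb) r hrp hrcop (fun w hw => hfix _ har w hw) (fun w hw => hfix _ hbr w hw)
      have step : ∀ c ∈ A, c ∉ A₀ → W ⊓ fixMod M c ≤ M ⊔ gen A G₀ := by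
        intro c hc hcA₀
        have hA₀' : A₀ ⊔ Subgroup.zpowers c ≤ A :=
          sup_le hA₀ (by rw [Subgroup.zpowers_le]; exact hc)
        have hlt : Nat.card A₀ < Nat.card (A₀ ⊔ Subgroup.zpowers c : Subgroup X) := by
          by_contra hcon
          push Not at hcon
          have := Subgroup.eq_of_le_of_card_ge (le_sup_left : A₀ ≤ A₀ ⊔ Subgroup.zpowers c) hcon
          apply hcA₀
          rw [this]
          exact Subgroup.mem_sup_right (Subgroup.mem_zpowers c)
        have hle : Nat.card (A₀ ⊔ Subgroup.zpowers c : Subgroup X) ≤ Nat.card A :=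
          Subgroup.card_le_of_le hA₀'
        refine ih (Nat.card A - Nat.card (A₀ ⊔ Subgroup.zpowers c : Subgroup X)) (by omega)
          (A₀ ⊔ Subgroup.zpowers c) hA₀' rfl (W ⊓ fixMod M c) ?_ (inf_le_left.trans hWG) ?_ ?_
        · intro m hm
          refine Subgroup.mem_inf.mpr ⟨hMW hm, Subgroup.le_normalizer hm, ?_⟩
          have e : ⁅c, m⁆ = (c * m * c⁻¹) * m⁻¹ := by simp only [commutatorElement_def]
          rw [e]
          exact M.mul_mem (Cfsg.Agent.Lib.Helper7.conj_mem_of_mem_normalizer (hAM hc) hm)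
            (M.inv_mem hm)
        · apply le_normalizer_of_conj
          intro x hx w hw
          obtain ⟨hwW, hwN, hwc⟩ := Subgroup.mem_inf.mp hw
          refine Subgroup.mem_inf.mpr
            ⟨Cfsg.Agent.Lib.Helper7.conj_mem_of_mem_normalizer (hAW hx) hwW,
              Subgroup.mul_mem _ (Subgroup.mul_mem _ (hAM hx) hwN)
                (Subgroup.inv_mem _ (hAM hx)), ?_⟩
          have hcx : c * x = x * c := comm_of_ab hAab hc hx
          have e : ⁅c, x * w * x⁻¹⁆ = x * ⁅x⁻¹ * c * x, w⁆ * x⁻¹ := by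
            simp only [commutatorElement_def]; group
          have e2 : x⁻¹ * c * x = c := by
            rw [mul_assoc, hcx, ← mul_assoc, inv_mul_cancel, one_mul]
          rw [e, e2]
          exact Cfsg.Agent.Lib.Helper7.conj_mem_of_mem_normalizer (hAM hx) hwc
        · have h1 : A₀ ≤ centMod M (W ⊓ fixMod M c) := fun x hx =>
            ⟨hAM (hA₀ hx), fun w hw => hfix x hx w (Subgroup.mem_inf.mp hw).1⟩
          have h2 : Subgroup.zpowers c ≤ centMod M (W ⊓ fixMod M c) := by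
            rw [Subgroup.zpowers_le]
            exact ⟨hAM hc, fun w hw => (Subgroup.mem_inf.mp hw).2.2⟩
          intro x hx w hw
          exact ((sup_le h1 h2) hx).2 w hw
      refine hE.trans (sup_le (step b hb hbA₀) (iSup₂_le (fun j _ => ?_)))
      exact step (a * b ^ j) (A.mul_mem ha (A.pow_mem hb j)) (habj j)

theorem pgroup_case [Finite X] (A : Subgroup X) (hAab : IsMulCommutative A) (Q : Subgroup X)
    (q : ℕ) [Fact q.Prime] (hQ : IsPGroup q Q) (hAQ : A ≤ normalizer (Q : Set X))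
    (hcop : (Nat.card A).Coprime (Nat.card Q)) : gen A Q = Q := by
  by_contra hne
  have hSQ : gen A Q ≤ Q := gen_le A Q
  have hcQ : ⁅Q, Q⁆ ≤ Q := Subgroup.commutator_le.mpr (fun a ha b hb =>
    Q.mul_mem (Q.mul_mem (Q.mul_mem ha hb) (Q.inv_mem ha)) (Q.inv_mem hb))
  have hsub : (gen A Q).subgroupOf Q ≠ ⊤ := by
    intro h
    exact hne (le_antisymm hSQ (Subgroup.subgroupOf_eq_top.mp h))
  obtain ⟨C, hC, hSC⟩ := (eq_top_or_exists_le_coatom ((gen A Q).subgroupOf Q)).resolve_left hsub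
  have hcomC : commutator ↥Q ≤ C := Cfsg.Agent.Lib.Helper2.commutator_le_coatom_of_pGroup hQ C hC
  have h1 : gen A Q ≤ C.map Q.subtype := by
    intro s hs
    exact ⟨⟨s, hSQ hs⟩, hSC (by simpa [Subgroup.mem_subgroupOf] using hs), rfl⟩
  have h2 : ⁅Q, Q⁆ ≤ C.map Q.subtype := by
    rw [← Subgroup.map_subtype_commutator]
    exact Subgroup.map_mono hcomC
  have hM : gen A Q ⊔ ⁅Q, Q⁆ ≤ Q := sup_le hSQ hcQ
  have hAM : A ≤ normalizer ((gen A Q ⊔ ⁅Q, Q⁆ : Subgroup X) : Set X) :=
    le_normalizer_sup A _ _ (gen_normal A hAab Q hAQ) (le_normalizer_comm A Q Q hAQ hAQ)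
  have hkey := key A hAab Q (gen A Q ⊔ ⁅Q, Q⁆) hM le_sup_right hAQ hAM hcop
    (Nat.card A - Nat.card (⊥ : Subgroup X)) ⊥ bot_le rfl Q hM le_rfl hAQ (fun x hx w _ => by
      rw [Subgroup.mem_bot] at hx
      subst hx
      have e : ⁅(1 : X), w⁆ = 1 := by simp only [commutatorElement_def]; group
      rw [e]; exact Subgroup.one_mem _)
  have h3 : Q ≤ C.map Q.subtype := hkey.trans (sup_le (sup_le h1 h2) h1)
  apply hC.1
  rw [eq_top_iff]
  intro x _
  obtain ⟨y, hy, hyx⟩ := h3 x.2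
  have : y = x := Subtype.ext hyx
  rw [← this]; exact hy

theorem part1 [Finite X] (A G : Subgroup X) (hAab : IsMulCommutative A)
    (hAG : A ≤ Subgroup.normalizer (G : Set X)) (hcop : (Nat.card A).Coprime (Nat.card G)) :
    gen A G = G := by
  have hsolv : Group.IsSolvable A := Group.isSolvable_of_comm (fun x y => by
    have := comm_of_ab hAab x.2 y.2
    exact Subtype.ext this)
  apply Subgroup.eq_of_le_of_card_ge (gen_le A G)
  apply Nat.le_of_dvd Nat.card_pos
  rw [Nat.dvd_iff_prime_pow_dvd_dvd]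
  intro q k hq hqk
  haveI := Fact.mk hq
  obtain ⟨P, hP⟩ := Cfsg.Agent.Lib.Helper7.exists_invariant_sylow A G hAG hcop (Or.inl hsolv) q
  have hQG : (P : Subgroup G).map G.subtype ≤ G := Subgroup.map_subtype_le _
  have hQ : IsPGroup q ((P : Subgroup G).map G.subtype) := P.2.map _
  have hgen := pgroup_case A hAab ((P : Subgroup G).map G.subtype) q hQ hP
    (Nat.Coprime.coprime_dvd_right (Subgroup.card_dvd_of_le hQG) hcop)
  have hle : (P : Subgroup G).map G.subtype ≤ gen A G := by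
    rw [← hgen]; exact gen_mono A hQG
  have h1 : q ^ k ∣ Nat.card (P : Subgroup G) := P.pow_dvd_card_of_pow_dvd_card hqk
  rw [← Subgroup.card_map_of_injective G.subtype_injective] at h1
  exact h1.trans (Subgroup.card_dvd_of_le hle)

end main

/-- Let A and G be subgroups of a finite group with A abelian, A normalizing G and the orders of A and G coprime. Then G is generated by the fixed-point subgroups C_G(B) of those subgroups B of A for which A/B is cyclic (that is, A = ⟨B, a⟩ for some a), and [G, A] is generated by the commutator subgroups [C_G(B), A] over the same subgroups B. -/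
theorem result {X : Type*} [Group X] [Finite X] (A G : Subgroup X) (hAab : IsMulCommutative A) (hAG : A ≤ Subgroup.normalizer (G : Set X)) (hcop : (Nat.card A).Coprime (Nat.card G)) : (⨆ B ∈ {B : Subgroup X | B ≤ A ∧ ∃ a ∈ A, B ⊔ Subgroup.zpowers a = A}, G ⊓ Subgroup.centralizer (B : Set X)) = G ∧ (⨆ B ∈ {B : Subgroup X | B ≤ A ∧ ∃ a ∈ A, B ⊔ Subgroup.zpowers a = A}, ⁅G ⊓ Subgroup.centralizer (B : Set X), A⁆) = ⁅G, A⁆ := by
  have h1 : gen A G = G := part1 A G hAab hAG hcop
  refine ⟨h1, ?_⟩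
  have hsolv : Group.IsSolvable A := Group.isSolvable_of_comm (fun x y => by
    have := comm_of_ab hAab x.2 y.2
    exact Subtype.ext this)
  apply le_antisymm
  · exact iSup₂_le (fun B _ => Subgroup.commutator_mono inf_le_left le_rfl)
  · obtain ⟨H, hH⟩ : ∃ H : Subgroup X, H = ⨆ B ∈ {B : Subgroup X | B ≤ A ∧ ∃ a ∈ A, B ⊔ Subgroup.zpowers a = A},
      ⁅G ⊓ Subgroup.centralizer (B : Set X), A⁆ := ⟨_, rfl⟩
    rw [← hH]
    have hBH : ∀ B ∈ {B : Subgroup X | B ≤ A ∧ ∃ a ∈ A, B ⊔ Subgroup.zpowers a = A},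
        ⁅G ⊓ Subgroup.centralizer (B : Set X), A⁆ ≤ H := by
      intro B hB
      rw [hH]
      exact le_biSup (fun B : Subgroup X => ⁅G ⊓ Subgroup.centralizer (B : Set X), A⁆) hB
    -- A normalizes H
    have hAH : A ≤ Subgroup.normalizer (H : Set X) := by
      rw [hH]
      exact le_normalizer_biSup A _ _ (fun B _ =>
        Cfsg.Agent.Lib.Helper7.le_normalizer_commutator_right _ A)
    -- C = C_G(A) normalizes H
    have hCH : G ⊓ Subgroup.centralizer (A : Set X) ≤ Subgroup.normalizer (H : Set X) := by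
      rw [hH]
      exact le_normalizer_biSup _ _ _ (fun B hB => by
        have hle : G ⊓ Subgroup.centralizer (A : Set X) ≤ G ⊓ Subgroup.centralizer (B : Set X) :=
          inf_le_inf_left _ (Subgroup.centralizer_le hB.1)
        exact hle.trans (Cfsg.Agent.Lib.Helper7.le_normalizer_commutator_left _ A))
    -- G ≤ H ⊔ C
    have hG : G ≤ H ⊔ (G ⊓ Subgroup.centralizer (A : Set X)) := by
      have h1' : gen A G ≤ H ⊔ (G ⊓ Subgroup.centralizer (A : Set X)) := by
        refine iSup₂_le (fun B hB => ?_)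
        have hAK := le_normalizer_fix A hAab G B hAG hB.1
        have hcopK : (Nat.card A).Coprime
            (Nat.card (G ⊓ Subgroup.centralizer (B : Set X) : Subgroup X)) :=
          Nat.Coprime.coprime_dvd_right (Subgroup.card_dvd_of_le inf_le_left) hcop
        have h2 := Cfsg.Agent.Lib.Helper7.commutator_sup_centralizer A
          (G ⊓ Subgroup.centralizer (B : Set X)) hAK hcopK (Or.inl hsolv)
        have h3 : ⁅G ⊓ Subgroup.centralizer (B : Set X), A⁆ ⊔
            (G ⊓ Subgroup.centralizer (B : Set X) ⊓ Subgroup.centralizer (A : Set X)) ≤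
            H ⊔ (G ⊓ Subgroup.centralizer (A : Set X)) := by
          have hle2 : G ⊓ Subgroup.centralizer (B : Set X) ⊓ Subgroup.centralizer (A : Set X) ≤
              G ⊓ Subgroup.centralizer (A : Set X) := inf_le_inf_right _ inf_le_left
          exact sup_le ((hBH B hB).trans le_sup_left) (hle2.trans le_sup_right)
        rw [h2] at h3
        exact h3
      rw [h1] at h1'
      exact h1'
    rw [Subgroup.commutator_le]
    intro g hg a ha
    obtain ⟨h, hh, c, hc, rfl⟩ := Cfsg.Agent.Lib.Helper7.exists_mul_of_mem_sup hCH (hG hg)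
    have hca : a * c = c * a := Subgroup.mem_centralizer_iff.mp (Subgroup.mem_inf.mp hc).2 a ha
    have e : ⁅h * c, a⁆ = h * (a * h⁻¹ * a⁻¹) := by
      rw [commutatorElement_def]
      calc h * c * a * (h * c)⁻¹ * a⁻¹ = h * (c * a) * c⁻¹ * h⁻¹ * a⁻¹ := by group
        _ = h * (a * c) * c⁻¹ * h⁻¹ * a⁻¹ := by rw [hca]
        _ = h * (a * h⁻¹ * a⁻¹) := by group
    rw [e]
    exact H.mul_mem hh (Cfsg.Agent.Lib.Helper7.conj_mem_of_mem_normalizer (hAH ha) (H.inv_mem hh))

end Cfsg.Agent.S3734
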