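import Cfsg.Statements.S1282
import Mathlib
import Cfsg.Agent.S3734
import Cfsg.Agent.Lib.Helper2.Frobenius
import Cfsg.Agent.Lib.Helper9.KW1

set_option autoImplicit false
open Cfsg

namespace Cfsg.Agent.S1282

open Subgroup
open scoped Pointwise

theorem card_sup_le {X : Type*} [Group X] [Finite X] (B C : Subgroup X)
    (h : C ≤ normalizer (B : Set X)) :
    Nat.card (B ⊔ C : Subgroup X) ≤ Nat.card B * Nat.card C := by
  have e : Nat.card (B ⊔ C : Subgroup X) = Nat.card ((B : Set X) * (C : Set X) : Set X) := by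
    rw [← Subgroup.coe_mul_of_right_le_normalizer_left B C h]; rfl
  rw [e]; exact Set.natCard_mul_le

theorem step {G : Type*} [Group G] [Finite G] (p : ℕ) [Fact p.Prime] (A : Subgroup G)
    (hAab : IsMulCommutative A) (hAp : ∀ a ∈ A, a ^ p = 1) (q : ℕ) [Fact q.Prime] (hqp : q ≠ p)
    (Q D : Subgroup G) (hQ : IsPGroup q Q) (hAQ : A ≤ normalizer (Q : Set G))
    (hAD : A ≤ normalizer (D : Set G)) (hDQ : D < Q) :
    ∃ B : Subgroup G, B ≤ A ∧ (∃ a ∈ A, B ⊔ Subgroup.zpowers a = A) ∧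
      ¬ (normalizer (D : Set G) ⊓ Q ⊓ Subgroup.centralizer (B : Set G) ≤ D) := by
  have hAR : A ≤ normalizer ((normalizer (D : Set G) ⊓ Q : Subgroup G) : Set G) := by
    apply Cfsg.Agent.S3734.le_normalizer_of_conj
    intro x hx w hw
    obtain ⟨hwN, hwQ⟩ := Subgroup.mem_inf.mp hw
    exact Subgroup.mem_inf.mpr ⟨Subgroup.mul_mem _ (Subgroup.mul_mem _ (hAD hx) hwN)
      (Subgroup.inv_mem _ (hAD hx)),
      Cfsg.Agent.Lib.Helper7.conj_mem_of_mem_normalizer (hAQ hx) hwQ⟩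
  have hApg : IsPGroup p A := fun a => ⟨1, by
    apply Subtype.ext
    simpa using hAp a a.2⟩
  have hcop : (Nat.card A).Coprime (Nat.card (normalizer (D : Set G) ⊓ Q : Subgroup G)) :=
    IsPGroup.coprime_card_of_ne p q hqp.symm A _ hApg (hQ.to_le inf_le_right)
  have hgen := Cfsg.Agent.S3734.part1 A (normalizer (D : Set G) ⊓ Q) hAab hAR hcop
  obtain ⟨x, hxQ, hxN, hxD⟩ := Cfsg.Agent.Lib.Helper2.normalizer_grows Q hQ D hDQ
  by_contra hcon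
  push Not at hcon
  have hle : Cfsg.Agent.S3734.gen A (normalizer (D : Set G) ⊓ Q) ≤ D :=
    iSup₂_le (fun B hB => hcon B hB.1 hB.2)
  rw [hgen] at hle
  exact hxD (hle (Subgroup.mem_inf.mpr ⟨hxN, hxQ⟩))

/-- Let A be an elementary abelian p-subgroup of rank at least 3 of the finite group G, q ≠ p a prime, and Q₁, Q₂ q-subgroups normalized by A with D = Q₁ ∩ Q₂ different from both. Then there is a non-identity a ∈ A such that, for i = 1 and i = 2, N_{Q_i}(D) ∩ C_G(a) is not contained in D. -/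
theorem result {G : Type*} [Group G] [Finite G] (p : ℕ) [Fact p.Prime] (A : Subgroup G) (hA : Cfsg.IsElementaryAbelian p A) (hA3 : p ^ 3 ≤ Nat.card ↥A) (q : ℕ) [Fact q.Prime] (hqp : q ≠ p) (Q₁ Q₂ : Subgroup G) (h₁ : IsPGroup q ↥Q₁) (h₂ : IsPGroup q ↥Q₂) (hA₁ : A ≤ Subgroup.normalizer (Q₁ : Set G)) (hA₂ : A ≤ Subgroup.normalizer (Q₂ : Set G)) (hD₁ : Q₁ ⊓ Q₂ ≠ Q₁) (hD₂ : Q₁ ⊓ Q₂ ≠ Q₂) : ∃ a ∈ A, a ≠ 1 ∧ ¬ (Subgroup.normalizer ((Q₁ ⊓ Q₂ : Subgroup G) : Set G) ⊓ Q₁ ⊓ Subgroup.centralizer {a} ≤ Q₁ ⊓ Q₂) ∧ ¬ (Subgroup.normalizer ((Q₁ ⊓ Q₂ : Subgroup G) : Set G) ⊓ Q₂ ⊓ Subgroup.centralizer {a} ≤ Q₁ ⊓ Q₂) := by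
  have hp : p.Prime := Fact.out
  obtain ⟨hAab, hAp⟩ := hA
  have hAD : A ≤ normalizer ((Q₁ ⊓ Q₂ : Subgroup G) : Set G) := by
    apply Cfsg.Agent.S3734.le_normalizer_of_conj
    intro x hx w hw
    obtain ⟨hw1, hw2⟩ := Subgroup.mem_inf.mp hw
    exact Subgroup.mem_inf.mpr ⟨Cfsg.Agent.Lib.Helper7.conj_mem_of_mem_normalizer (hA₁ hx) hw1,
      Cfsg.Agent.Lib.Helper7.conj_mem_of_mem_normalizer (hA₂ hx) hw2⟩
  have hD1 : Q₁ ⊓ Q₂ < Q₁ := lt_of_le_of_ne inf_le_left hD₁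
  have hD2 : Q₁ ⊓ Q₂ < Q₂ := lt_of_le_of_ne inf_le_right hD₂
  obtain ⟨B₁, hB₁A, ⟨a₁, ha₁, hBa₁⟩, hn₁⟩ :=
    step p A hAab hAp q hqp Q₁ (Q₁ ⊓ Q₂) h₁ hA₁ hAD hD1
  have hB₁ab : IsMulCommutative B₁ := ⟨⟨fun x y =>
    Subtype.ext (Cfsg.Agent.S3734.comm_of_ab hAab (hB₁A x.2) (hB₁A y.2))⟩⟩
  obtain ⟨B₂, hB₂B₁, ⟨a₂, ha₂, hBa₂⟩, hn₂⟩ :=
    step p B₁ hB₁ab (fun a ha => hAp a (hB₁A ha)) q hqp Q₂ (Q₁ ⊓ Q₂) h₂ (hB₁A.trans hA₂)
      (hB₁A.trans hAD) hD2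
  have hz : ∀ a ∈ A, Nat.card (Subgroup.zpowers a) ≤ p := by
    intro a ha
    rw [Nat.card_zpowers]
    exact Nat.le_of_dvd hp.pos (orderOf_dvd_of_pow_eq_one (hAp a ha))
  have hB₂ne : B₂ ≠ ⊥ := by
    intro hbot
    rw [hbot, bot_sup_eq] at hBa₂
    have c1 : Nat.card B₁ ≤ p := by rw [← hBa₂]; exact hz a₂ (hB₁A ha₂)
    have hnorm : Subgroup.zpowers a₁ ≤ normalizer (B₁ : Set G) := by
      rw [Subgroup.zpowers_le]
      apply Cfsg.Agent.Lib.Helper9.kw_mem_normalizer_of_comm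
      intro y hy
      exact Cfsg.Agent.S3734.comm_of_ab hAab ha₁ (hB₁A hy)
    have c2 := card_sup_le B₁ (Subgroup.zpowers a₁) hnorm
    rw [hBa₁] at c2
    have c3 : Nat.card A ≤ p * p := c2.trans (Nat.mul_le_mul c1 (hz a₁ ha₁))
    have c4 : p * p < p ^ 3 := by
      have := hp.two_le
      have e : p ^ 3 = p * p * p := by ring
      rw [e]
      nlinarith [Nat.mul_pos hp.pos hp.pos]
    omega
  obtain ⟨a, ha, hane⟩ : ∃ a ∈ B₂, a ≠ 1 := by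
    by_contra hcon
    push Not at hcon
    exact hB₂ne ((Subgroup.eq_bot_iff_forall _).mpr hcon)
  refine ⟨a, hB₁A (hB₂B₁ ha), hane, ?_, ?_⟩
  · intro h
    apply hn₁
    refine le_trans (inf_le_inf_left _ (Subgroup.centralizer_le ?_)) h
    exact Set.singleton_subset_iff.mpr (hB₂B₁ ha)
  · intro h
    apply hn₂
    refine le_trans (inf_le_inf_left _ (Subgroup.centralizer_le ?_)) h
    exact Set.singleton_subset_iff.mpr ha

end Cfsg.Agent.S1282
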