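import Cfsg.Statements.S1293
import Cfsg.Agent.Lib.Helper1.Local2

set_option autoImplicit false
open Cfsg

open Cfsg.Agent.Lib.Helper1 Cfsg.Agent.Lib.Helper7

namespace Cfsg.Agent.S1293

/-- Let G be finite with L_{p'}(G) = 1, and H = N_G(P) for a nontrivial p-subgroup P. Then L_{p'}(H) = 1 and O_{p'}(H) ≤ O_{p'}(G). -/
theorem result {G : Type*} [Group G] [Finite G] (p : ℕ) [Fact p.Prime] (hL : Cfsg.pLayer p G = ⊥) (P : Subgroup G) (hP : IsPGroup p ↥P) (hP1 : P ≠ ⊥) : Cfsg.pLayer p ↥(Subgroup.normalizer (P : Set G)) = ⊥ ∧ (Cfsg.pPrimeCore p ↥(Subgroup.normalizer (P : Set G))).map (Subgroup.normalizer (P : Set G)).subtype ≤ Cfsg.pPrimeCore p G := by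
  have hker : (QuotientGroup.mk' (Cfsg.pPrimeCore p G)).ker = Cfsg.pPrimeCore p G :=
    QuotientGroup.ker_mk' _
  have hM := genFitting_map_normalizer_eq_pCore p hL P hP
  obtain ⟨hME, hMO⟩ := (genFitting_eq_pCore_iff p _).mp hM
  have hφs : Function.Surjective ((QuotientGroup.mk' (Cfsg.pPrimeCore p G)).subgroupMap
      (Subgroup.normalizer (P : Set G))) :=
    (QuotientGroup.mk' (Cfsg.pPrimeCore p G)).subgroupMap_surjective _
  have hW'n : (Cfsg.pPrimeCore p ↥(Subgroup.normalizer (P : Set G))).Normal :=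
    pPrimeCore_normal p _
  have h1 : (Cfsg.pPrimeCore p ↥(Subgroup.normalizer (P : Set G))).map
      ((QuotientGroup.mk' (Cfsg.pPrimeCore p G)).subgroupMap (Subgroup.normalizer (P : Set G)))
        = ⊥ := by
    have hn := hW'n.map _ hφs
    have hc : (Nat.card ↥((Cfsg.pPrimeCore p ↥(Subgroup.normalizer (P : Set G))).map
        ((QuotientGroup.mk' (Cfsg.pPrimeCore p G)).subgroupMap
          (Subgroup.normalizer (P : Set G))))).Coprime p :=
      Nat.Coprime.coprime_dvd_left (Subgroup.card_map_dvd _ _) (pPrimeCore_coprime p _)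
    have := le_pPrimeCore hn hc
    rw [hMO] at this
    exact le_bot_iff.mp this
  have h2 := (Subgroup.map_eq_bot_iff _).mp h1
  have hkerφ : ∀ x : ↥(Subgroup.normalizer (P : Set G)),
      x ∈ ((QuotientGroup.mk' (Cfsg.pPrimeCore p G)).subgroupMap
        (Subgroup.normalizer (P : Set G))).ker ↔ (x : G) ∈ Cfsg.pPrimeCore p G := by
    intro x
    rw [MonoidHom.mem_ker]
    have h0 : (x : G) ∈ Cfsg.pPrimeCore p G ↔
        (QuotientGroup.mk' (Cfsg.pPrimeCore p G)) (x : G) = 1 := by
      rw [← MonoidHom.mem_ker, hker]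
    rw [h0]
    constructor
    · intro h; exact congrArg Subtype.val h
    · intro h; exact Subtype.ext h
  have h3 : ((QuotientGroup.mk' (Cfsg.pPrimeCore p G)).subgroupMap
        (Subgroup.normalizer (P : Set G))).ker
      ≤ Cfsg.pPrimeCore p ↥(Subgroup.normalizer (P : Set G)) := by
    apply le_pPrimeCore inferInstance
    have : ((QuotientGroup.mk' (Cfsg.pPrimeCore p G)).subgroupMap
        (Subgroup.normalizer (P : Set G))).ker
        = (Cfsg.pPrimeCore p G).subgroupOf (Subgroup.normalizer (P : Set G)) := by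
      ext x; rw [hkerφ, Subgroup.mem_subgroupOf]
    rw [this]
    exact Nat.Coprime.coprime_dvd_left (card_subgroupOf_dvd' _ _) (pPrimeCore_coprime p G)
  have h4 := le_antisymm h2 h3
  refine ⟨?_, ?_⟩
  · rw [pLayer_eq_bot_iff]
    have h5 := layer_map_equiv ((QuotientGroup.quotientMulEquivOfEq h4).trans
      (QuotientGroup.quotientKerEquivOfSurjective _ hφs))
    rw [hME] at h5
    exact (Subgroup.map_eq_bot_iff_of_injective _ (MulEquiv.injective _)).mp h5
  · rintro _ ⟨w, hw, rfl⟩
    exact (hkerφ w).mp (h2 hw)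

end Cfsg.Agent.S1293
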