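import Mathlib
import Cfsg.Statements.S1459
import Cfsg.Agent.S0615
import Cfsg.Agent.S1900
import Cfsg.Agent.Lib.Helper1.PCore2
import Cfsg.Agent.Lib.Helper1.PxQ
import Cfsg.Agent.Lib.Helper7.PCore
import Cfsg.Agent.Lib.Helper2.PGroup

set_option autoImplicit false
open Cfsg
open scoped commutatorElement

namespace Cfsg.Agent.S1459

/-- the norm map `h ↦ ∏_{k ∈ K} k h k⁻¹` into the abelianization of `H`. -/
noncomputable def nrm {G : Type*} [Group G] (H K : Subgroup G) [hH : H.Normal] [Fintype K] :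
    ↥H →* Abelianization ↥H :=
  MonoidHom.mk' (fun h => ∏ k : K,
      Abelianization.of (⟨(k : G) * h * (k : G)⁻¹, hH.conj_mem h h.2 k⟩ : H))
    (by
      intro a b
      rw [← Finset.prod_mul_distrib]
      refine Finset.prod_congr rfl (fun k _ => ?_)
      rw [← map_mul]
      congr 1
      apply Subtype.ext
      simp [mul_assoc])

theorem nrm_apply {G : Type*} [Group G] (H K : Subgroup G) [hH : H.Normal] [Fintype K] (h : H) :
    nrm H K h = ∏ k : K,
      Abelianization.of (⟨(k : G) * h * (k : G)⁻¹, hH.conj_mem h h.2 k⟩ : H) := rfl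

theorem nrm_conj {G : Type*} [Group G] (H K : Subgroup G) [hH : H.Normal] [Fintype K] (h : H)
    (k₀ : K) :
    nrm H K ⟨(k₀ : G) * h * (k₀ : G)⁻¹, hH.conj_mem h h.2 k₀⟩ = nrm H K h := by
  rw [nrm_apply, nrm_apply]
  refine Fintype.prod_equiv (Equiv.mulRight k₀) _ _ (fun k => ?_)
  congr 1
  apply Subtype.ext
  simp [mul_assoc]

theorem nrm_fixed {G : Type*} [Group G] (H K : Subgroup G) [hH : H.Normal] [Fintype K] (c : H)
    (hc : ∀ k ∈ K, k * (c : G) = (c : G) * k) :
    nrm H K c = (Abelianization.of c) ^ (Fintype.card K) := by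
  rw [nrm_apply]
  have h1 : ∀ k : K, Abelianization.of
      (⟨(k : G) * c * (k : G)⁻¹, hH.conj_mem c c.2 k⟩ : H) = Abelianization.of c := by
    intro k
    congr 1
    apply Subtype.ext
    show (k : G) * c * (k : G)⁻¹ = c
    rw [hc k k.2, mul_inv_cancel_right]
  rw [Finset.prod_congr rfl (fun k _ => h1 k), Finset.prod_const, Finset.card_univ]

theorem partA {G : Type*} [Group G] [Finite G] [Group.IsSolvable G] (H K : Subgroup G)
    (hHn : H.Normal) (hcop : (Nat.card H).Coprime H.index) (hc : Subgroup.IsComplement' H K)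
    (hHG : H ≤ commutator G) :
    H = ⁅H, K⁆ ∧ H ⊓ Subgroup.centralizer (K : Set G) ≤ ⁅H, H⁆ := by
  classical
  haveI := hHn
  have hsup : H ⊔ K = ⊤ := hc.sup_eq_top
  have hdis : H ⊓ K = ⊥ := hc.disjoint.eq_bot
  set M : Subgroup G := ⁅H, K⁆ with hM
  have hMH : M ≤ H := Subgroup.commutator_le_left H K
  haveI hMn : M.Normal := by
    rw [← Subgroup.normalizer_eq_top_iff, eq_top_iff, ← hsup]
    exact Cfsg.Agent.S0615.comm_normal_in_sup H K
  haveI hHHn : (⁅H, H⁆ : Subgroup G).Normal := inferInstance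
  set N : Subgroup G := ⁅H, H⁆ ⊔ M with hN
  haveI hNn : N.Normal := inferInstance
  have hNH : N ≤ H := sup_le (Subgroup.commutator_le_left H H) hMH
  set X : Subgroup G := N ⊔ K with hX
  haveI hXn : X.Normal := by
    rw [← Subgroup.normalizer_eq_top_iff, eq_top_iff, ← hsup]
    refine sup_le ?_ ?_
    · intro h hh
      apply Cfsg.Agent.S1900.mem_normalizer_of_conj_mem
      have hle : N ⊔ K ≤ X.comap (MulAut.conj h).toMonoidHom := by
        refine sup_le ?_ ?_
        · intro n hn
          rw [Subgroup.mem_comap]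
          exact (le_sup_left : N ≤ X) (hNn.conj_mem n hn h)
        · intro k hk
          rw [Subgroup.mem_comap]
          have h1 : (MulAut.conj h).toMonoidHom k = ⁅h, k⁆ * k := by
            simp [commutatorElement_def]
          rw [h1]
          exact X.mul_mem ((le_sup_left : N ≤ X) ((le_sup_right : M ≤ N)
            (Subgroup.commutator_mem_commutator hh hk))) ((le_sup_right : K ≤ X) hk)
      intro x hx
      exact hle hx
    · exact (le_sup_right : K ≤ X).trans Subgroup.le_normalizer
  -- `G/X` is abelian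
  have hGX : commutator G ≤ X := by
    have h1 : (commutator G).map (QuotientGroup.mk' X) = ⊥ := by
      rw [commutator_def, Subgroup.map_commutator, ← hsup, Subgroup.map_sup]
      have h2 : K.map (QuotientGroup.mk' X) = ⊥ := by
        rw [Subgroup.map_eq_bot_iff, QuotientGroup.ker_mk']
        exact le_sup_right
      rw [h2, sup_bot_eq, ← Subgroup.map_commutator, Subgroup.map_eq_bot_iff,
        QuotientGroup.ker_mk']
      exact (le_sup_left : ⁅H, H⁆ ≤ N).trans le_sup_left
    rw [Subgroup.map_eq_bot_iff, QuotientGroup.ker_mk'] at h1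
    exact h1
  have hHN : H ≤ N := by
    intro h hh
    have h1 : h ∈ N ⊔ K := hGX (hHG hh)
    obtain ⟨n, hn, k, hk, rfl⟩ := Subgroup.mem_sup_of_normal_left.1 h1
    have hkH : k ∈ H := by
      have h2 : k = n⁻¹ * (n * k) := by group
      rw [h2]; exact H.mul_mem (H.inv_mem (hNH hn)) hh
    have hk1 : k = 1 := by
      have h2 : k ∈ H ⊓ K := ⟨hkH, hk⟩
      rw [hdis] at h2
      exact Subgroup.mem_bot.1 h2
    rw [hk1, mul_one]; exact hn
  -- solvability
  have hHM : H ≤ M := by
    have h1 : H.map (QuotientGroup.mk' M) ≤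
        ⁅H.map (QuotientGroup.mk' M), H.map (QuotientGroup.mk' M)⁆ := by
      rw [← Subgroup.map_commutator]
      refine (Subgroup.map_mono hHN).trans ?_
      rw [hN, Subgroup.map_sup]
      have h3 : M.map (QuotientGroup.mk' M) = ⊥ := by
        rw [Subgroup.map_eq_bot_iff, QuotientGroup.ker_mk']
      rw [h3, sup_bot_eq]
    have h2 : H.map (QuotientGroup.mk' M) = ⊥ := by
      by_contra hne
      exact lt_irrefl _ ((IsSolvable.commutator_lt_of_ne_bot hne).trans_le h1)
    rw [Subgroup.map_eq_bot_iff, QuotientGroup.ker_mk'] at h2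
    exact h2
  have hHeq : H = M := le_antisymm hHM hMH
  refine ⟨hHeq, ?_⟩
  -- the norm map
  letI : Fintype K := Fintype.ofFinite K
  have hker : ∀ h : H, nrm H K h = 1 := by
    have hle : M ≤ (nrm H K).ker.map H.subtype := by
      rw [hM, Subgroup.commutator_le]
      intro h hh k hk
      have hmem : ⁅h, k⁆ ∈ H := hMH (Subgroup.commutator_mem_commutator hh hk)
      refine ⟨⟨⁅h, k⁆, hmem⟩, ?_, rfl⟩
      rw [SetLike.mem_coe, MonoidHom.mem_ker]
      have h1 : (⟨⁅h, k⁆, hmem⟩ : H) = ⟨h, hh⟩ *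
          ⟨k * ((⟨h, hh⟩⁻¹ : H) : G) * k⁻¹, hHn.conj_mem _ (⟨h, hh⟩⁻¹ : H).2 k⟩ := by
        apply Subtype.ext
        simp [commutatorElement_def, mul_assoc]
      rw [h1, map_mul]
      have h2 := nrm_conj H K (⟨h, hh⟩⁻¹ : H) ⟨k, hk⟩
      rw [h2, map_inv, mul_inv_cancel]
    intro h
    obtain ⟨h', hh', heq⟩ := hle (hHM h.2)
    have h3 : h' = h := Subtype.ext heq
    rw [← h3]; exact MonoidHom.mem_ker.1 hh'
  intro c hcc
  obtain ⟨hcH, hcK⟩ := hcc
  have h1 := nrm_fixed H K ⟨c, hcH⟩ (fun k hk => hcK k hk)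
  rw [hker] at h1
  have h2 : (Abelianization.of (⟨c, hcH⟩ : H)) ^ (Nat.card H) = 1 := by
    rw [← map_pow, pow_card_eq_one', map_one]
  have h3 : Abelianization.of (⟨c, hcH⟩ : H) = 1 := by
    have hK : Fintype.card K = H.index := by
      rw [← Nat.card_eq_fintype_card]; exact (hc.symm.index_eq_card).symm
    have hd1 : orderOf (Abelianization.of (⟨c, hcH⟩ : H)) ∣ Nat.card H :=
      orderOf_dvd_of_pow_eq_one h2
    have hd2 : orderOf (Abelianization.of (⟨c, hcH⟩ : H)) ∣ H.index := by
      rw [← hK]; exact orderOf_dvd_of_pow_eq_one h1.symm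
    exact orderOf_eq_one_iff.1 (Nat.eq_one_of_dvd_coprimes hcop hd1 hd2)
  have h4 : (⟨c, hcH⟩ : H) ∈ commutator H := by
    rw [← Abelianization.ker_of, MonoidHom.mem_ker]; exact h3
  rw [← Subgroup.map_subtype_commutator]
  exact ⟨⟨c, hcH⟩, h4, rfl⟩

theorem comm_bot_of_index {P : Type*} [Group P] [Finite P] {q : ℕ} [Fact q.Prime]
    (hP : IsPGroup q P) (hidx : (commutator P).index ∣ q) : commutator P = ⊥ := by
  have hcyc : IsCyclic (P ⧸ commutator P) := by
    rcases (Nat.dvd_prime Fact.out).1 hidx with h1 | hq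
    · have h2 : Nat.card (P ⧸ commutator P) = 1 := by rw [← Subgroup.index_eq_card]; exact h1
      haveI : Subsingleton (P ⧸ commutator P) := (Nat.card_eq_one_iff_unique.1 h2).1
      infer_instance
    · have h2 : Nat.card (P ⧸ commutator P) = q := by rw [← Subgroup.index_eq_card]; exact hq
      exact isCyclic_of_prime_card h2
  obtain ⟨g, hg⟩ := hcyc.exists_generator
  obtain ⟨x, rfl⟩ := QuotientGroup.mk_surjective g
  have htop : Subgroup.zpowers x ⊔ commutator P = ⊤ := by
    rw [eq_top_iff]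
    intro y _
    obtain ⟨n, hn⟩ := Subgroup.mem_zpowers_iff.1 (hg (QuotientGroup.mk y))
    have h1 : (x ^ n)⁻¹ * y ∈ commutator P := by
      rw [← QuotientGroup.eq, QuotientGroup.mk_zpow]; exact hn
    have h2 : y = x ^ n * ((x ^ n)⁻¹ * y) := by group
    rw [h2]
    exact Subgroup.mul_mem_sup (Subgroup.zpow_mem_zpowers x n) h1
  have hfr : Subgroup.zpowers x ⊔ frattini P = ⊤ := by
    rw [eq_top_iff, ← htop]
    exact sup_le_sup_left (Cfsg.Agent.Lib.Helper2.commutator_le_frattini_of_pGroup hP) _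
  have hz : Subgroup.zpowers x = ⊤ := frattini_nongenerating hfr
  rw [commutator_def, eq_bot_iff, Subgroup.commutator_le]
  intro a _ b _
  have ha : a ∈ Subgroup.zpowers x := by rw [hz]; trivial
  have hb : b ∈ Subgroup.zpowers x := by rw [hz]; trivial
  obtain ⟨i, rfl⟩ := Subgroup.mem_zpowers_iff.1 ha
  obtain ⟨j, rfl⟩ := Subgroup.mem_zpowers_iff.1 hb
  rw [Subgroup.mem_bot, commutatorElement_eq_one_iff_commute]
  exact Commute.zpow_zpow_self x i j

theorem partB {G : Type*} [Group G] [Finite G] (hnil : Group.IsNilpotent ↥(commutator G))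
    (hidx : (commutator G).index.Prime) :
    (Nat.card ↥(commutator G)).Coprime (commutator G).index := by
  classical
  set q := (commutator G).index with hq
  haveI : Fact q.Prime := ⟨hidx⟩
  have hπs : Function.Surjective (QuotientGroup.mk' (Cfsg.pPrimeCore q G)) :=
    QuotientGroup.mk'_surjective _
  set D' : Subgroup (G ⧸ Cfsg.pPrimeCore q G) :=
    (commutator G).map (QuotientGroup.mk' (Cfsg.pPrimeCore q G)) with hD'
  have hD'eq : D' = commutator (G ⧸ Cfsg.pPrimeCore q G) := by
    rw [hD', commutator_def, Subgroup.map_commutator, commutator_def,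
      Subgroup.map_top_of_surjective _ hπs]
  haveI hnil' : Group.IsNilpotent ↥D' :=
    Group.nilpotent_of_surjective ((QuotientGroup.mk' (Cfsg.pPrimeCore q G)).subgroupMap
      (commutator G)) (MonoidHom.subgroupMap_surjective _ _)
  haveI hD'n : D'.Normal := by rw [hD'eq]; infer_instance
  have hcore : Cfsg.pPrimeCore q ↥D' = ⊥ := by
    have h1 := Cfsg.Agent.Lib.Helper1.pPrimeCore_map_subtype_le_of_subnormal q (hD'n.isSubnormal)
    rw [Cfsg.Agent.Lib.Helper1.pPrimeCore_quotient_eq_bot q G, le_bot_iff] at h1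
    exact (Subgroup.map_eq_bot_iff_of_injective _ D'.subtype_injective).1 h1
  have hD'p : IsPGroup q ↥D' :=
    Cfsg.Agent.Lib.Helper1.isPGroup_of_isNilpotent_of_pPrimeCore_eq_bot q ↥D' hcore
  have hidx' : D'.index ∣ q := Subgroup.index_map_dvd (commutator G) hπs
  have hPp : IsPGroup q (G ⧸ Cfsg.pPrimeCore q G) := by
    obtain ⟨a, ha⟩ := IsPGroup.iff_card.1 hD'p
    have hcard : Nat.card (G ⧸ Cfsg.pPrimeCore q G) = Nat.card D' * D'.index :=
      (D'.card_mul_index).symm
    rcases (Nat.dvd_prime hidx).1 hidx' with h1 | h1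
    · exact IsPGroup.of_card (n := a) (by rw [hcard, ha, h1, mul_one])
    · exact IsPGroup.of_card (n := a + 1) (by rw [hcard, ha, h1, pow_succ])
  have hbot : commutator (G ⧸ Cfsg.pPrimeCore q G) = ⊥ :=
    comm_bot_of_index hPp (by rw [← hD'eq]; exact hidx')
  have hle : commutator G ≤ Cfsg.pPrimeCore q G := by
    rw [← hD'eq, hD', Subgroup.map_eq_bot_iff, QuotientGroup.ker_mk'] at hbot
    exact hbot
  have hcopO : (Nat.card (Cfsg.pPrimeCore q G)).Coprime q :=
    Cfsg.Agent.Lib.Helper7.pPrimeCore_coprime q G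
  exact Nat.Coprime.coprime_dvd_left (Subgroup.card_dvd_of_le hle) hcopO

/-- Let G be a finite solvable group. (a) If H is a normal subgroup of order coprime to its index, K is a complement to H, and H ≤ G', then H = [H, K] and H ∩ C_G(K) ≤ [H, H]. (b) If G' is nilpotent and has prime index in G, then the order of G' is coprime to its index and G' = [G, K] (the subgroup generated by commutators of elements of G with elements of K) for every complement K of G'. -/
theorem result {G : Type*} [Group G] [Finite G] [Group.IsSolvable G] :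
    (∀ (H K : Subgroup G), H.Normal → (Nat.card H).Coprime H.index → Subgroup.IsComplement' H K → H ≤ commutator G →
        H = ⁅H, K⁆ ∧ H ⊓ Subgroup.centralizer (K : Set G) ≤ ⁅H, H⁆) ∧
      (Group.IsNilpotent ↥(commutator G) → (commutator G).index.Prime →
        (Nat.card ↥(commutator G)).Coprime (commutator G).index ∧
        ∀ K : Subgroup G, Subgroup.IsComplement' (commutator G) K → commutator G = ⁅(⊤ : Subgroup G), K⁆) := by
  refine ⟨fun H K hHn hcop hc hHG => partA H K hHn hcop hc hHG, fun hnil hidx => ?_⟩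
  have hcop := partB hnil hidx
  refine ⟨hcop, fun K hK => ?_⟩
  have h1 := (partA (commutator G) K inferInstance hcop hK le_rfl).1
  apply le_antisymm
  · calc commutator G = ⁅commutator G, K⁆ := h1
      _ ≤ ⁅(⊤ : Subgroup G), K⁆ := Subgroup.commutator_mono le_top le_rfl
  · rw [commutator_def]; exact Subgroup.commutator_mono le_rfl le_top

end Cfsg.Agent.S1459
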