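import Mathlib
import Cfsg.Statements.S1629
import Cfsg.Agent.S2630
import Cfsg.Agent.S2169

set_option autoImplicit false
open scoped MatrixGroups
open Cfsg

namespace Cfsg.Agent.S1629

open Matrix
open Cfsg.Agent.S5754 (rfl0 rfl0_apply rfl0_invol rfl0_iso)
open Cfsg.Agent.S0792 (app app_cons Q_add')
open Cfsg.Agent.S2628 (mem_iso_iff exists_invol)
open Cfsg.Agent.S2630 (Act act_one act_mul act_list exists_iso_gen)

section gen
variable {ι : Type} [Fintype ι] [DecidableEq ι] (Q : QuadraticForm (ZMod 2) (ι → ZMod 2))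

theorem zmod2 : ∀ a : ZMod 2, a = 0 ∨ a = 1 := by decide

theorem act_eq (g h : ↥(Cfsg.isometryGroup (ZMod 2) ⇑Q)) (l₁ l₂ : List (ι → ZMod 2))
    (hg : Act Q g l₁) (hh : Act Q h l₂) (H : ∀ x, app Q l₁ x = app Q l₂ x) : g = h := by
  apply Subtype.ext
  apply Units.ext
  apply Cfsg.Agent.Lib.Helper5.matrix_ext_mulVec
  intro x
  rw [hg x, hh x, H x]

theorem exists_polar (hQ : (QuadraticMap.polarBilin Q).Nondegenerate) (v : ι → ZMod 2)
    (hv : v ≠ 0) : ∃ x, QuadraticMap.polar Q v x = 1 := by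
  by_contra hcon
  push Not at hcon
  apply hv
  apply hQ.1 v
  intro y
  show QuadraticMap.polar Q v y = 0
  rcases zmod2 (QuadraticMap.polar Q v y) with h | h
  · exact h
  · exact absurd h (hcon y)

theorem exists_nonsing [Nonempty ι] (hQ : (QuadraticMap.polarBilin Q).Nondegenerate) :
    ∃ v, Q v ≠ 0 := by
  by_contra hcon
  push Not at hcon
  obtain ⟨i⟩ := ‹Nonempty ι›
  have hv : (Pi.single i 1 : ι → ZMod 2) ≠ 0 := by
    intro h
    have h1 := congrFun h i
    simp at h1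
  obtain ⟨x, hx⟩ := exists_polar Q hQ _ hv
  unfold QuadraticMap.polar at hx
  rw [hcon, hcon, hcon] at hx
  simp at hx

theorem rank_of_act (hQ : (QuadraticMap.polarBilin Q).Nondegenerate)
    (g : ↥(Cfsg.isometryGroup (ZMod 2) ⇑Q)) (v : ι → ZMod 2) (hv : Q v ≠ 0)
    (hg : Act Q g [v]) :
    (((g : Matrix.GeneralLinearGroup ι (ZMod 2)) : Matrix ι ι (ZMod 2)) - 1).rank = 1 := by
  have hv0 : v ≠ 0 := by
    rintro rfl
    exact hv (QuadraticMap.map_zero Q)
  have hQv : Q v = 1 := by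
    rcases zmod2 (Q v) with h | h
    · exact absurd h hv
    · exact h
  have hneg : ∀ a : ZMod 2, -a = a := by decide
  have hA : ∀ x, (((g : Matrix.GeneralLinearGroup ι (ZMod 2)) : Matrix ι ι (ZMod 2)) - 1) *ᵥ x =
      QuadraticMap.polar Q v x • v := by
    intro x
    rw [Matrix.sub_mulVec, Matrix.one_mulVec, hg x]
    show rfl0 Q v x - x = _
    rw [rfl0_apply, hQv, inv_one, one_mul]
    funext i
    simp only [Pi.sub_apply, Pi.smul_apply, smul_eq_mul]
    rw [sub_sub_cancel_left, hneg]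
  have hr : LinearMap.range (((g : Matrix.GeneralLinearGroup ι (ZMod 2)) : Matrix ι ι (ZMod 2)) - 1).mulVecLin =
      Submodule.span (ZMod 2) {v} := by
    apply le_antisymm
    · rintro _ ⟨x, rfl⟩
      rw [Matrix.mulVecLin_apply, hA]
      exact Submodule.smul_mem _ _ (Submodule.mem_span_singleton_self v)
    · rw [Submodule.span_singleton_le_iff_mem]
      obtain ⟨x, hx⟩ := exists_polar Q hQ v hv0
      refine ⟨x, ?_⟩
      rw [Matrix.mulVecLin_apply, hA, hx, one_smul]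
  unfold Matrix.rank
  rw [hr, finrank_span_singleton hv0]

theorem act_of_rank (hQ : (QuadraticMap.polarBilin Q).Nondegenerate)
    (g : ↥(Cfsg.isometryGroup (ZMod 2) ⇑Q))
    (hg : (((g : Matrix.GeneralLinearGroup ι (ZMod 2)) : Matrix ι ι (ZMod 2)) - 1).rank = 1) :
    ∃ v, Q v ≠ 0 ∧ Act Q g [v] := by
  have hiso := (mem_iso_iff ⇑Q g.1).1 g.2
  have h1 : Module.finrank (ZMod 2) (LinearMap.range
      (((g : Matrix.GeneralLinearGroup ι (ZMod 2)) : Matrix ι ι (ZMod 2)) - 1).mulVecLin) = 1 := hg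
  obtain ⟨⟨v, hvr⟩, hv0, hvs⟩ := finrank_eq_one_iff'.1 h1
  have hv0' : v ≠ 0 := fun h => hv0 (Subtype.ext h)
  obtain ⟨x₀, hx₀⟩ := hvr
  rw [Matrix.mulVecLin_apply] at hx₀
  have hcase : ∀ x, (((g : Matrix.GeneralLinearGroup ι (ZMod 2)) : Matrix ι ι (ZMod 2)) - 1) *ᵥ x = 0 ∨
      (((g : Matrix.GeneralLinearGroup ι (ZMod 2)) : Matrix ι ι (ZMod 2)) - 1) *ᵥ x = v := by
    intro x
    obtain ⟨c, hc⟩ := hvs ⟨_, ⟨x, rfl⟩⟩
    have hc' := congrArg Subtype.val hc
    simp only [Submodule.coe_smul, Matrix.mulVecLin_apply] at hc'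
    rcases zmod2 c with h | h
    · left; rw [← hc', h, zero_smul]
    · right; rw [← hc', h, one_smul]
  have hgx : ∀ x, ((g : Matrix.GeneralLinearGroup ι (ZMod 2)) : Matrix ι ι (ZMod 2)) *ᵥ x =
      x + (((g : Matrix.GeneralLinearGroup ι (ZMod 2)) : Matrix ι ι (ZMod 2)) - 1) *ᵥ x := by
    intro x
    rw [Matrix.sub_mulVec, Matrix.one_mulVec, add_sub_cancel]
  have hQx : ∀ x, (((g : Matrix.GeneralLinearGroup ι (ZMod 2)) : Matrix ι ι (ZMod 2)) - 1) *ᵥ x = v →
      Q v + QuadraticMap.polar Q x v = 0 := by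
    intro x hx
    have h3 := hiso x
    rw [hgx x, hx, Q_add'] at h3
    linear_combination h3
  have hadd : ∀ x, (((g : Matrix.GeneralLinearGroup ι (ZMod 2)) : Matrix ι ι (ZMod 2)) - 1) *ᵥ x = 0 →
      (((g : Matrix.GeneralLinearGroup ι (ZMod 2)) : Matrix ι ι (ZMod 2)) - 1) *ᵥ (x + x₀) = v := by
    intro x hx
    rw [Matrix.mulVec_add, hx, hx₀, zero_add]
  have hQv : Q v ≠ 0 := by
    intro h0
    apply hv0'
    apply hQ.1 v
    intro y
    show QuadraticMap.polar Q v y = 0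
    rw [QuadraticMap.polar_comm]
    have hx0 := hQx x₀ hx₀
    rw [h0, zero_add] at hx0
    rcases hcase y with h | h
    · have h4 := hQx _ (hadd y h)
      rw [h0, zero_add, QuadraticMap.polar_add_left, hx0, add_zero] at h4
      exact h4
    · have h4 := hQx y h
      rwa [h0, zero_add] at h4
  have hQv1 : Q v = 1 := by
    rcases zmod2 (Q v) with h | h
    · exact absurd h hQv
    · exact h
  have hone : ∀ a : ZMod 2, 1 + a = 0 → a = 1 := by decide
  have hsub : ∀ a b : ZMod 2, a + b = a - b := by decide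
  refine ⟨v, hQv, fun x => ?_⟩
  show _ = rfl0 Q v x
  rw [rfl0_apply, hQv1, inv_one, one_mul, hgx x, QuadraticMap.polar_comm]
  have hx0 := hone _ (by have := hQx x₀ hx₀; rwa [hQv1] at this)
  rcases hcase x with h | h
  · have h4 := hQx _ (hadd x h)
    rw [hQv1, QuadraticMap.polar_add_left, hx0] at h4
    have h5 : QuadraticMap.polar Q x v = 0 := by
      have hz : ∀ a : ZMod 2, 1 + (a + 1) = 0 → a = 0 := by decide
      exact hz _ h4
    rw [h, h5, zero_smul, add_zero, sub_zero]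
  · have h4 := hone _ (by have := hQx x h; rwa [hQv1] at this)
    rw [h, h4, one_smul]
    funext i
    exact hsub _ _

omit [Fintype ι] [DecidableEq ι] in
theorem braid (u v : ι → ZMod 2) (hu : Q u ≠ 0) (x : ι → ZMod 2) :
    rfl0 Q u (rfl0 Q v (rfl0 Q u x)) = rfl0 Q (rfl0 Q u v) x := by
  have hpol : QuadraticMap.polar Q (rfl0 Q u v) x = QuadraticMap.polar Q v (rfl0 Q u x) := by
    have h1 : QuadraticMap.polar Q (rfl0 Q u v) (rfl0 Q u (rfl0 Q u x)) =
        QuadraticMap.polar Q v (rfl0 Q u x) := by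
      unfold QuadraticMap.polar
      rw [← map_add, rfl0_iso Q u hu, rfl0_iso Q u hu, rfl0_iso Q u hu]
    rwa [rfl0_invol Q u hu x] at h1
  rw [rfl0_apply Q v (rfl0 Q u x), map_sub, map_smul, rfl0_invol Q u hu x,
    rfl0_apply Q (rfl0 Q u v) x, rfl0_iso Q u hu v, hpol]

theorem three (d e : ↥(Cfsg.isometryGroup (ZMod 2) ⇑Q)) (u v : ι → ZMod 2)
    (hu : Q u ≠ 0) (hv : Q v ≠ 0) (hd : Act Q d [u]) (he : Act Q e [v]) :
    (d * e) ^ 2 = 1 ∨ (d * e) ^ 3 = 1 := by
  have hQu : Q u = 1 := by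
    rcases zmod2 (Q u) with h | h
    · exact absurd h hu
    · exact h
  have hQv : Q v = 1 := by
    rcases zmod2 (Q v) with h | h
    · exact absurd h hv
    · exact h
  have hdd : d * d = 1 := act_eq Q _ _ _ _ (act_mul Q d d _ _ hd hd) (act_one Q)
    (fun x => rfl0_invol Q u hu x)
  have hee : e * e = 1 := act_eq Q _ _ _ _ (act_mul Q e e _ _ he he) (act_one Q)
    (fun x => rfl0_invol Q v hv x)
  have hded : Act Q (d * e * d) (([u] ++ [v]) ++ [u]) := act_mul Q _ _ _ _ (act_mul Q _ _ _ _ hd he) hd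
  have hede : Act Q (e * d * e) (([v] ++ [u]) ++ [v]) := act_mul Q _ _ _ _ (act_mul Q _ _ _ _ he hd) he
  rcases zmod2 (QuadraticMap.polar Q u v) with h | h
  · left
    have h1 : rfl0 Q u v = v := by
      rw [rfl0_apply, h, mul_zero, zero_smul, sub_zero]
    have h2 : d * e * d = e := act_eq Q _ _ _ _ hded he (fun x => by
      show rfl0 Q u (rfl0 Q v (rfl0 Q u x)) = rfl0 Q v x
      rw [braid Q u v hu, h1])
    rw [pow_two, ← mul_assoc, h2, hee]
  · right
    have hsub : ∀ a b : ZMod 2, a - b = b - a := by decide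
    have h1 : rfl0 Q u v = rfl0 Q v u := by
      rw [rfl0_apply, rfl0_apply, QuadraticMap.polar_comm Q v u, h, hQu, hQv, inv_one, one_mul,
        one_smul, one_smul]
      funext i
      exact hsub _ _
    have h2 : d * e * d = e * d * e := act_eq Q _ _ _ _ hded hede (fun x => by
      show rfl0 Q u (rfl0 Q v (rfl0 Q u x)) = rfl0 Q v (rfl0 Q u (rfl0 Q v x))
      rw [braid Q u v hu, braid Q v u hv, h1])
    have h3 : (d * e) ^ 3 = (d * e * d) * (e * d * e) := by
      simp only [pow_succ, pow_zero, one_mul, mul_assoc]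
    rw [h3, h2]
    calc e * d * e * (e * d * e) = e * d * (e * e) * d * e := by simp only [mul_assoc]
      _ = e * (d * d) * e := by rw [hee, mul_one, mul_assoc e d d]
      _ = 1 := by rw [hdd, mul_one, hee]

theorem conj_act (hQ : (QuadraticMap.polarBilin Q).Nondegenerate)
    (a b : ι → ZMod 2) (ha : Q a ≠ 0) (hb : Q b ≠ 0) (ta tb : ↥(Cfsg.isometryGroup (ZMod 2) ⇑Q))
    (hta : Act Q ta [a]) (htb : Act Q tb [b]) :
    ∃ h : ↥(Cfsg.isometryGroup (ZMod 2) ⇑Q), h * ta = tb * h := by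
  have hQa : Q a = 1 := by
    rcases zmod2 (Q a) with h | h
    · exact absurd h ha
    · exact h
  have hQb : Q b = 1 := by
    rcases zmod2 (Q b) with h | h
    · exact absurd h hb
    · exact h
  have ha0 : a ≠ 0 := by
    rintro rfl
    exact ha (QuadraticMap.map_zero Q)
  have hb0 : b ≠ 0 := by
    rintro rfl
    exact hb (QuadraticMap.map_zero Q)
  obtain ⟨i, hi⟩ : ∃ i, a i ≠ 0 := by
    by_contra hcon
    push Not at hcon
    exact ha0 (funext hcon)
  have hai : a i = 1 := by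
    rcases zmod2 (a i) with h | h
    · exact absurd h hi
    · exact h
  obtain ⟨f, hf⟩ : ∃ f : (ι → ZMod 2) →ₗ[ZMod 2] (ι → ZMod 2), ∀ x, f x = (x i) • b :=
    ⟨(LinearMap.proj i).smulRight b, fun x => by simp⟩
  have hfa : ∀ s : ZMod 2, f (s • a) = s • b := by
    intro s
    rw [hf, Pi.smul_apply, smul_eq_mul, hai, mul_one]
  obtain ⟨g, hg1, hg2⟩ := Cfsg.Agent.S0750.main Q hQ (Module.finrank (ZMod 2) (Submodule.span (ZMod 2) {a}))
    (Submodule.span (ZMod 2) {a}) f le_rfl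
    (fun x hx hfx => by
      obtain ⟨s, rfl⟩ := Submodule.mem_span_singleton.1 hx
      rw [hfa] at hfx
      have hs : s = 0 := by
        rcases smul_eq_zero.1 hfx with h | h
        · exact h
        · exact absurd h hb0
      rw [hs, zero_smul])
    (fun x hx => by
      obtain ⟨s, rfl⟩ := Submodule.mem_span_singleton.1 hx
      rw [hfa, QuadraticMap.map_smul Q s b, QuadraticMap.map_smul Q s a, hQa, hQb])
  have hga : g a = b := by
    have h1 := hg2 a (Submodule.mem_span_singleton_self a)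
    rw [h1]
    have h3 := hfa 1
    rwa [one_smul, one_smul] at h3
  obtain ⟨h, hh⟩ := exists_iso_gen Q g hg1
  refine ⟨h, ?_⟩
  apply Subtype.ext
  apply Units.ext
  rw [Subgroup.coe_mul, Units.val_mul, Subgroup.coe_mul, Units.val_mul]
  apply Cfsg.Agent.Lib.Helper5.matrix_ext_mulVec
  intro x
  rw [← Matrix.mulVec_mulVec, ← Matrix.mulVec_mulVec, hta x,
    htb (((h : Matrix.GeneralLinearGroup ι (ZMod 2)) : Matrix ι ι (ZMod 2)) *ᵥ x), hh, hh]
  show g (rfl0 Q a x) = rfl0 Q b (g x)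
  rw [rfl0_apply, rfl0_apply, map_sub, map_smul, hga]
  have hpol : QuadraticMap.polar Q (g a) (g x) = QuadraticMap.polar Q a x := by
    unfold QuadraticMap.polar
    rw [← map_add, hg1, hg1, hg1]
  rw [hga] at hpol
  rw [hpol, hQa, hQb]

theorem gen_aux (hQ : (QuadraticMap.polarBilin Q).Nondegenerate) :
    ∀ (l : List (ι → ZMod 2)), (∀ d ∈ l, Q d ≠ 0) →
    ∀ g : ↥(Cfsg.isometryGroup (ZMod 2) ⇑Q), Act Q g l →
    g ∈ Subgroup.closure {g : ↥(Cfsg.isometryGroup (ZMod 2) ⇑Q) |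
      (((g : Matrix.GeneralLinearGroup ι (ZMod 2)) : Matrix ι ι (ZMod 2)) - 1).rank = 1} := by
  intro l
  induction l with
  | nil =>
    intro _ g hg
    have h1 : g = 1 := act_eq Q g 1 [] [] hg (act_one Q) (fun x => rfl)
    rw [h1]; exact Subgroup.one_mem _
  | cons a l' ih =>
    intro hQl g hg
    have ha := hQl a List.mem_cons_self
    obtain ⟨ta, hta2, hta⟩ := exists_invol ⇑Q (rfl0 Q a) (rfl0_invol Q a ha) (rfl0_iso Q a ha)
    have hta' : Act Q ta [a] := fun x => hta x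
    have hg' : Act Q (ta * g) l' := fun x => by
      rw [Subgroup.coe_mul, Units.val_mul, ← Matrix.mulVec_mulVec, hg x, hta]
      show rfl0 Q a (rfl0 Q a (app Q l' x)) = app Q l' x
      rw [rfl0_invol Q a ha]
    have h1 := ih (fun d hd => hQl d (List.mem_cons_of_mem _ hd)) _ hg'
    have e : g = ta * (ta * g) := by rw [← mul_assoc, hta2, one_mul]
    rw [e]
    exact Subgroup.mul_mem _ (Subgroup.subset_closure (rank_of_act Q hQ ta a ha hta')) h1

theorem main (hQ : (QuadraticMap.polarBilin Q).Nondegenerate)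
    (hc : Module.finrank (ZMod 2) (ι → ZMod 2) ≠ 4) (hne : ∃ v, Q v ≠ 0) :
    Cfsg.IsThreeTranspositionClass {g : ↥(Cfsg.isometryGroup (ZMod 2) ⇑Q) |
      (((g : Matrix.GeneralLinearGroup ι (ZMod 2)) : Matrix ι ι (ZMod 2)) - 1).rank = 1} := by
  refine ⟨⟨?_, ?_⟩, ?_, ?_⟩
  · intro d hd
    obtain ⟨u, hu, hdu⟩ := act_of_rank Q hQ d hd
    have hdd : d * d = 1 := act_eq Q _ _ _ _ (act_mul Q d d _ _ hdu hdu) (act_one Q)
      (fun x => rfl0_invol Q u hu x)
    have hd1 : d ≠ 1 := by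
      rintro rfl
      have h1 : ((1 : Matrix ι ι (ZMod 2)) - 1).rank = 1 := hd
      rw [sub_self, Matrix.rank_zero] at h1
      exact absurd h1 (by norm_num)
    exact orderOf_eq_prime (by rw [pow_two]; exact hdd) hd1
  · intro d hd e he
    obtain ⟨u, hu, hdu⟩ := act_of_rank Q hQ d hd
    obtain ⟨v, hv, hev⟩ := act_of_rank Q hQ e he
    exact three Q d e u v hu hv hdu hev
  · obtain ⟨v₀, hv₀⟩ := hne
    obtain ⟨d₀, hd₀2, hd₀⟩ := exists_invol ⇑Q (rfl0 Q v₀) (rfl0_invol Q v₀ hv₀) (rfl0_iso Q v₀ hv₀)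
    have hd₀' : Act Q d₀ [v₀] := fun x => hd₀ x
    refine ⟨d₀, rank_of_act Q hQ d₀ v₀ hv₀ hd₀', ?_⟩
    ext g
    constructor
    · intro hg
      obtain ⟨v, hv, hgv⟩ := act_of_rank Q hQ g hg
      obtain ⟨h, hh⟩ := conj_act Q hQ v₀ v hv₀ hv d₀ g hd₀' hgv
      show IsConj d₀ g
      rw [isConj_iff]
      exact ⟨h, by rw [hh, mul_assoc, mul_inv_cancel, mul_one]⟩
    · intro hg
      have hg' : IsConj d₀ g := hg
      rw [isConj_iff] at hg'
      obtain ⟨c, rfl⟩ := hg'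
      show ((((c * d₀ * c⁻¹ : ↥(Cfsg.isometryGroup (ZMod 2) ⇑Q)) : Matrix.GeneralLinearGroup ι (ZMod 2)) :
        Matrix ι ι (ZMod 2)) - 1).rank = 1
      have e1 : (((c * d₀ * c⁻¹ : ↥(Cfsg.isometryGroup (ZMod 2) ⇑Q)) : Matrix.GeneralLinearGroup ι (ZMod 2)) :
          Matrix ι ι (ZMod 2)) - 1 =
          ((c : Matrix.GeneralLinearGroup ι (ZMod 2)) : Matrix ι ι (ZMod 2)) *
          (((d₀ : Matrix.GeneralLinearGroup ι (ZMod 2)) : Matrix ι ι (ZMod 2)) - 1) *
          (((c⁻¹ : ↥(Cfsg.isometryGroup (ZMod 2) ⇑Q)) : Matrix.GeneralLinearGroup ι (ZMod 2)) : Matrix ι ι (ZMod 2)) := by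
        have hcc : ((c : Matrix.GeneralLinearGroup ι (ZMod 2)) : Matrix ι ι (ZMod 2)) *
            (((c⁻¹ : ↥(Cfsg.isometryGroup (ZMod 2) ⇑Q)) : Matrix.GeneralLinearGroup ι (ZMod 2)) :
              Matrix ι ι (ZMod 2)) = 1 := by
          rw [← Units.val_mul, ← Subgroup.coe_mul, mul_inv_cancel]
          rfl
        rw [Subgroup.coe_mul, Subgroup.coe_mul, Units.val_mul, Units.val_mul, Matrix.mul_sub,
          Matrix.sub_mul, Matrix.mul_one, hcc]
      rw [e1, Matrix.rank_mul_eq_left_of_isUnit_det _ _ (Matrix.isUnits_det_units _),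
        Matrix.rank_mul_eq_right_of_isUnit_det _ _ (Matrix.isUnits_det_units _)]
      exact rank_of_act Q hQ d₀ v₀ hv₀ hd₀'
  · rw [eq_top_iff]
    intro g _
    obtain ⟨l, hl, hgl⟩ := act_list Q (by decide) hQ (Or.inr hc) g
    exact gen_aux Q hQ l hl g hgl

end gen

/-- The orthogonal transvections of the plus-type orthogonal group in dimension 2m ≥ 6 over the field with two elements form a generating conjugacy class of 3-transpositions. -/
theorem result (m : ℕ) (hm : 3 ≤ m) : Cfsg.IsThreeTranspositionClass {g : ↥(Cfsg.isometryGroup (ZMod 2) (Cfsg.quadFormPlus m (ZMod 2))) | (((g : GL (Fin m ⊕ Fin m) (ZMod 2)) : Matrix (Fin m ⊕ Fin m) (Fin m ⊕ Fin m) (ZMod 2)) - 1).rank = 1} := by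
  obtain ⟨Qp, hQp, hQpnd⟩ := Cfsg.Agent.S2169.exists_Qp (F := ZMod 2) m
  rw [← hQp]
  have : Nonempty (Fin m ⊕ Fin m) := ⟨Sum.inl ⟨0, by omega⟩⟩
  refine main Qp hQpnd ?_ (exists_nonsing Qp hQpnd)
  rw [Module.finrank_fintype_fun_eq_card, Fintype.card_sum, Fintype.card_fin]
  omega

end Cfsg.Agent.S1629
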