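import Mathlib
import Cfsg.Statements.S2171
import Cfsg.Agent.S2169

set_option autoImplicit false
open Cfsg

namespace Cfsg.Agent.S2171

open Matrix

theorem sum_nd {F : Type*} [Field F] {ι₁ ι₂ : Type}
    (Q₁ : QuadraticForm F (ι₁ → F)) (Q₂ : QuadraticForm F (ι₂ → F))
    (h₁ : (QuadraticMap.polarBilin Q₁).Nondegenerate)
    (h₂ : (QuadraticMap.polarBilin Q₂).Nondegenerate)
    (Qs : QuadraticForm F (ι₁ ⊕ ι₂ → F))
    (hQs : ∀ v, Qs v = Q₁ (v ∘ Sum.inl) + Q₂ (v ∘ Sum.inr)) :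
    (QuadraticMap.polarBilin Qs).Nondegenerate := by
  have sep : ∀ x : ι₁ ⊕ ι₂ → F, (∀ y, QuadraticMap.polar Qs x y = 0) → x = 0 := by
    intro x hx
    have hl : x ∘ Sum.inl = 0 := by
      apply h₁.1
      intro y₁
      show QuadraticMap.polar Q₁ (x ∘ Sum.inl) y₁ = 0
      have h3 := hx (Sum.elim y₁ 0)
      unfold QuadraticMap.polar at h3 ⊢
      rw [hQs, hQs, hQs] at h3
      have e1 : (x + Sum.elim y₁ (0 : ι₂ → F)) ∘ Sum.inl = x ∘ Sum.inl + y₁ := by
        funext i; rfl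
      have e2 : (x + Sum.elim y₁ (0 : ι₂ → F)) ∘ Sum.inr = x ∘ Sum.inr := by
        funext i; simp
      rw [e1, e2, Sum.elim_comp_inl, Sum.elim_comp_inr, QuadraticMap.map_zero] at h3
      linear_combination h3
    have hr : x ∘ Sum.inr = 0 := by
      apply h₂.1
      intro y₁
      show QuadraticMap.polar Q₂ (x ∘ Sum.inr) y₁ = 0
      have h3 := hx (Sum.elim 0 y₁)
      unfold QuadraticMap.polar at h3 ⊢
      rw [hQs, hQs, hQs] at h3
      have e1 : (x + Sum.elim (0 : ι₁ → F) y₁) ∘ Sum.inl = x ∘ Sum.inl := by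
        funext i; simp
      have e2 : (x + Sum.elim (0 : ι₁ → F) y₁) ∘ Sum.inr = x ∘ Sum.inr + y₁ := by
        funext i; rfl
      rw [e1, e2, Sum.elim_comp_inl, Sum.elim_comp_inr, QuadraticMap.map_zero] at h3
      linear_combination h3
    funext i
    rcases i with i | i
    · exact congrFun hl i
    · exact congrFun hr i
  exact ⟨fun x hx => sep x (fun y => hx y), fun y hy => sep y (fun x => by
    rw [QuadraticMap.polar_comm (⇑Qs) y x]; exact hy x)⟩

theorem exists_Qm {F : Type*} [Field F] [Finite F] [CharP F 2] (k : ℕ) (c d : F)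
    (hcd : ∀ z₁ z₂ : F, z₁ ^ 2 + c * z₁ * z₂ + d * z₂ ^ 2 = 0 → z₁ = 0 ∧ z₂ = 0) :
    ∃ Qm : QuadraticForm F ((Fin k ⊕ Fin k) ⊕ Fin 2 → F),
      ⇑Qm = Cfsg.quadFormMinus k F c d ∧ (QuadraticMap.polarBilin Qm).Nondegenerate := by
  classical
  have h2 : (2 : F) = 0 := by
    have h3 := CharP.cast_eq_zero F 2
    exact_mod_cast h3
  obtain ⟨Qp, hQp, hQpnd⟩ := Cfsg.Agent.S2169.exists_Qp (F := F) k
  have hc0 : c ≠ 0 := by
    intro hc0'
    obtain ⟨s, hs⟩ := FiniteField.isSquare_of_char_two (ringChar.eq F 2) d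
    have h3 := hcd s 1 (by rw [hc0', hs]; linear_combination (s * s) * h2)
    exact one_ne_zero h3.2
  obtain ⟨Qb, hQb⟩ : ∃ Qb : QuadraticForm F (Fin 2 → F),
      ∀ z, Qb z = z 0 ^ 2 + c * z 0 * z 1 + d * z 1 ^ 2 :=
    ⟨QuadraticMap.ofPolar (fun z : Fin 2 → F => z 0 ^ 2 + c * z 0 * z 1 + d * z 1 ^ 2)
      (fun a x => by simp only [Pi.smul_apply, smul_eq_mul]; ring)
      (fun x x' y => by unfold QuadraticMap.polar; simp only [Pi.add_apply]; ring)
      (fun a x y => by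
        unfold QuadraticMap.polar
        simp only [Pi.add_apply, Pi.smul_apply, smul_eq_mul]; ring), fun z => rfl⟩
  have hb : ∀ z w : Fin 2 → F, QuadraticMap.polar Qb z w = c * (z 0 * w 1 + z 1 * w 0) := by
    intro z w
    unfold QuadraticMap.polar
    rw [hQb, hQb, hQb]
    simp only [Pi.add_apply]
    linear_combination (z 0 * w 0 + d * z 1 * w 1) * h2
  have sep_b : ∀ z : Fin 2 → F, (∀ w, QuadraticMap.polar Qb z w = 0) → z = 0 := by
    intro z hz
    have e11 : (Pi.single (1 : Fin 2) (1 : F) : Fin 2 → F) 1 = 1 := by simp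
    have e10 : (Pi.single (1 : Fin 2) (1 : F) : Fin 2 → F) 0 = 0 := by simp
    have e00 : (Pi.single (0 : Fin 2) (1 : F) : Fin 2 → F) 0 = 1 := by simp
    have e01 : (Pi.single (0 : Fin 2) (1 : F) : Fin 2 → F) 1 = 0 := by simp
    have h0 := hz (Pi.single 1 1)
    rw [hb, e11, e10, mul_one, mul_zero, add_zero] at h0
    have h1 := hz (Pi.single 0 1)
    rw [hb, e00, e01, mul_one, mul_zero, zero_add] at h1
    have hz0 : z 0 = 0 := (mul_eq_zero.1 h0).resolve_left hc0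
    have hz1 : z 1 = 0 := (mul_eq_zero.1 h1).resolve_left hc0
    funext i
    fin_cases i
    · exact hz0
    · exact hz1
  have hQbnd : (QuadraticMap.polarBilin Qb).Nondegenerate :=
    ⟨fun x hx => sep_b x (fun y => hx y), fun y hy => sep_b y (fun x => by
      rw [QuadraticMap.polar_comm (⇑Qb) y x]; exact hy x)⟩
  obtain ⟨Qm, hQm⟩ : ∃ Qm : QuadraticForm F ((Fin k ⊕ Fin k) ⊕ Fin 2 → F),
      ∀ v, Qm v = Qp (v ∘ Sum.inl) + Qb (v ∘ Sum.inr) :=
    ⟨Qp.comp (LinearMap.funLeft F F Sum.inl) + Qb.comp (LinearMap.funLeft F F Sum.inr),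
      fun v => rfl⟩
  refine ⟨Qm, ?_, sum_nd Qp Qb hQpnd hQbnd Qm hQm⟩
  funext v
  rw [hQm, hQp, hQb]; rfl

/-- For the quadratic form Σ x_i y_i + (z₁² + c z₁ z₂ + d z₂²) in dimension 2m with anisotropic binary part over a finite field F of characteristic two, m ≥ 4 (minus type): an element of order 2 of the full isometry group O lies in the commutator subgroup Ω of O exactly when t − 1 has even rank. -/
theorem result {F : Type*} [Field F] [Fintype F] [CharP F 2] {m : ℕ} (hm : 4 ≤ m) (c d : F) (hcd : ∀ z₁ z₂ : F, z₁ ^ 2 + c * z₁ * z₂ + d * z₂ ^ 2 = 0 → z₁ = 0 ∧ z₂ = 0) (t : ↥(Cfsg.isometryGroup F (Cfsg.quadFormMinus (m - 1) F c d))) (ht : orderOf t = 2) :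
    t ∈ Cfsg.Omega F (Cfsg.quadFormMinus (m - 1) F c d) ↔ Even ((((t : ↥(Cfsg.isometryGroup F (Cfsg.quadFormMinus (m - 1) F c d))) : GL ((Fin (m - 1) ⊕ Fin (m - 1)) ⊕ Fin 2) F) : Matrix ((Fin (m - 1) ⊕ Fin (m - 1)) ⊕ Fin 2) ((Fin (m - 1) ⊕ Fin (m - 1)) ⊕ Fin 2) F) - 1).rank := by
  classical
  obtain ⟨Qm, hfun, hQmnd⟩ := exists_Qm (F := F) (m - 1) c d hcd
  have hV : Module.finrank F ((Fin (m - 1) ⊕ Fin (m - 1)) ⊕ Fin 2 → F) = 2 * m := by
    rw [Module.finrank_fintype_fun_eq_card, Fintype.card_sum, Fintype.card_sum, Fintype.card_fin,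
      Fintype.card_fin]
    omega
  revert t
  rw [← hfun]
  intro t _
  exact Cfsg.Agent.S2169.omega_iff_rank Qm hQmnd (Or.inr (by rw [hV]; omega))
    (by rw [hV]; omega) t

end Cfsg.Agent.S2171
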