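import Mathlib
import Cfsg.Statements.S1922
import Cfsg.Agent.S0209
import Cfsg.Agent.Lib.Helper5.Invol
import Cfsg.Agent.Lib.Helper8.Basic

set_option autoImplicit false
open Cfsg

namespace Cfsg.Agent.S1922

open Cfsg.Agent.Lib.Helper5 Cfsg.Agent.Lib.Helper8

section
variable {G : Type*} [Group G]

/-- `a` fixes exactly the coset `kH` -/
def UF (H : Subgroup G) (a k : G) : Prop := ∀ g : G, g⁻¹ * a * g ∈ H ↔ k⁻¹ * g ∈ H

theorem uf_conj {H : Subgroup G} {a k : G} (h : UF H a k) (c : G) :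
    UF H (c * a * c⁻¹) (c * k) := by
  intro g
  have := h (c⁻¹ * g)
  have e1 : (c⁻¹ * g)⁻¹ * a * (c⁻¹ * g) = g⁻¹ * (c * a * c⁻¹) * g := by group
  have e2 : k⁻¹ * (c⁻¹ * g) = (c * k)⁻¹ * g := by group
  rw [e1, e2] at this
  exact this

theorem uf_same {H : Subgroup G} {a k k' : G} (h : UF H a k) (h' : UF H a k') :
    k⁻¹ * k' ∈ H := by
  have h1 := h k'
  have h2 := h' k'
  rw [inv_mul_cancel] at h2
  exact h1.mp (h2.mpr H.one_mem)

theorem uf_mem {H : Subgroup G} {a k : G} (h : UF H a k) : k⁻¹ * a * k ∈ H := by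
  have := h k
  rw [inv_mul_cancel] at this
  exact this.mpr H.one_mem

theorem uf_comm {H : Subgroup G} {a k b : G} (h : UF H a k) (hab : a * b = b * a) :
    k⁻¹ * b * k ∈ H := by
  have h1 := h (b * k)
  have e : (b * k)⁻¹ * a * (b * k) = k⁻¹ * a * k := by
    calc (b * k)⁻¹ * a * (b * k) = k⁻¹ * b⁻¹ * (a * b) * k := by group
      _ = k⁻¹ * b⁻¹ * (b * a) * k := by rw [hab]
      _ = k⁻¹ * a * k := by group
  rw [e] at h1
  have := h1.mp (uf_mem h)
  rw [← mul_assoc] at this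
  exact this

theorem step_i {H : Subgroup G} {z : G}
    (hyp : ∀ t : G, IsConj z t → t ≠ z → t * z = z * t → UF H (z * t) 1)
    (c b : G) (hb : IsConj z b) (hne : b ≠ c * z * c⁻¹)
    (hcomm : (c * z * c⁻¹) * b = b * (c * z * c⁻¹)) :
    UF H (c * z * c⁻¹ * b) c := by
  have ht : IsConj z (c⁻¹ * b * c) := by
    refine hb.trans ?_
    rw [isConj_iff]
    exact ⟨c⁻¹, by group⟩
  have hne' : c⁻¹ * b * c ≠ z := by
    intro h
    apply hne
    rw [← h]; group
  have hcomm' : c⁻¹ * b * c * z = z * (c⁻¹ * b * c) := by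
    calc c⁻¹ * b * c * z = c⁻¹ * (b * (c * z * c⁻¹)) * c := by group
      _ = c⁻¹ * ((c * z * c⁻¹) * b) * c := by rw [hcomm]
      _ = z * (c⁻¹ * b * c) := by group
  have h1 := uf_conj (hyp _ ht hne' hcomm') c
  have e : c * (z * (c⁻¹ * b * c)) * c⁻¹ = c * z * c⁻¹ * b := by group
  rw [e, mul_one] at h1
  exact h1

theorem rot_b (a b : G) (ha : a * a = 1) (hb : b * b = 1) (j : ℤ) :
    (a * b) ^ j * b * ((a * b) ^ j)⁻¹ = (a * b) ^ (2 * j - 1) * a := by
  have hb' : b = a * (a * b) := by rw [← mul_assoc, ha, one_mul]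
  have h1 := rot_swap a b ha hb (1 - j)
  calc (a * b) ^ j * b * ((a * b) ^ j)⁻¹
      = (a * b) ^ j * (a * (a * b)) * ((a * b) ^ j)⁻¹ := by rw [← hb']
    _ = (a * b) ^ j * (a * (a * b) ^ (1 - j)) := by
        rw [zpow_sub, zpow_one]; simp only [mul_assoc]
    _ = (a * b) ^ j * ((a * b) ^ (-(1 - j)) * a) := by rw [h1]
    _ = (a * b) ^ (2 * j - 1) * a := by
        rw [← mul_assoc, ← zpow_add]; congr 2; ring

theorem claimA [Finite G] {H : Subgroup G} {z : G} (hz : orderOf z = 2) (huz : UF H z 1)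
    (hyp : ∀ t : G, IsConj z t → t ≠ z → t * z = z * t → UF H (z * t) 1)
    (c d : G) (hcd : c⁻¹ * d ∉ H) : Odd (orderOf ((c * z * c⁻¹) * (d * z * d⁻¹))) := by
  by_contra hodd
  have heven : Even (orderOf ((c * z * c⁻¹) * (d * z * d⁻¹))) := Nat.not_odd_iff_even.mp hodd
  have hao : orderOf (c * z * c⁻¹) = 2 := by rw [h8_orderOf_conj]; exact hz
  have hbo : orderOf (d * z * d⁻¹) = 2 := by rw [h8_orderOf_conj]; exact hz
  have haa := sq_of_order_two hao
  have hbb := sq_of_order_two hbo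
  have hUa : UF H (c * z * c⁻¹) c := by have := uf_conj huz c; rwa [mul_one] at this
  have hUb : UF H (d * z * d⁻¹) d := by have := uf_conj huz d; rwa [mul_one] at this
  obtain ⟨hw2, hwa, hwb⟩ := Cfsg.Agent.S0209.result _ _ hao hbo heven
  generalize hadef : c * z * c⁻¹ = a at *
  generalize hbdef : d * z * d⁻¹ = b at *
  generalize hmdef : orderOf (a * b) = m at *
  generalize hwdef : (a * b) ^ (m / 2) = w at *
  have hw1 : w ≠ 1 := ne_one_of_order_two hw2
  have hconjb : ∀ j : ℤ, IsConj z ((a * b) ^ j * b * ((a * b) ^ j)⁻¹) := by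
    intro j
    rw [isConj_iff]
    exact ⟨(a * b) ^ j * d, by rw [← hbdef]; group⟩
  have hrot := rot_b a b haa hbb
  have hbinv : b⁻¹ = b := inv_eq_of_mul_eq_one_left hbb
  rcases Nat.even_or_odd (m / 2) with he | ho
  · obtain ⟨j, hj⟩ := he
    have hwz : w = (a * b) ^ ((2 : ℤ) * j) := by
      rw [← hwdef, hj, ← zpow_natCast]; congr 1; push_cast; ring
    have e1 : (a * b) ^ (j : ℤ) * b * ((a * b) ^ (j : ℤ))⁻¹ = w * b := by
      rw [hrot, zpow_sub, zpow_one, mul_assoc, ← hwz]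
      congr 1
      rw [mul_inv_rev, inv_mul_cancel_right, hbinv]
    have hb' : IsConj z (w * b) := e1 ▸ hconjb j
    have hne : w * b ≠ d * z * d⁻¹ := by
      rw [hbdef]
      intro h
      exact hw1 (mul_right_cancel (h.trans (one_mul b).symm))
    have hcomm : (d * z * d⁻¹) * (w * b) = (w * b) * (d * z * d⁻¹) := by
      rw [hbdef, ← mul_assoc, ← hwb.eq]
    have h3 := step_i hyp d (w * b) hb' hne hcomm
    have e2 : d * z * d⁻¹ * (w * b) = w := by
      rw [hbdef, ← mul_assoc, ← hwb.eq, mul_assoc, hbb, mul_one]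
    rw [e2] at h3
    have h4 := uf_comm h3 hwa.eq
    exact hcd ((hUa d).mp h4)
  · obtain ⟨j, hj⟩ := ho
    have hwz : w = (a * b) ^ ((2 : ℤ) * ((j : ℤ) + 1) - 1) := by
      rw [← hwdef, hj, ← zpow_natCast]; congr 1; push_cast; ring
    have e1 : (a * b) ^ ((j : ℤ) + 1) * b * ((a * b) ^ ((j : ℤ) + 1))⁻¹ = w * a := by
      rw [hrot, ← hwz]
    have ha' : IsConj z (w * a) := e1 ▸ hconjb (j + 1)
    have hne : w * a ≠ c * z * c⁻¹ := by
      rw [hadef]
      intro h
      exact hw1 (mul_right_cancel (h.trans (one_mul a).symm))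
    have hcomm : (c * z * c⁻¹) * (w * a) = (w * a) * (c * z * c⁻¹) := by
      rw [hadef, ← mul_assoc, ← hwa.eq]
    have h3 := step_i hyp c (w * a) ha' hne hcomm
    have e2 : c * z * c⁻¹ * (w * a) = w := by
      rw [hadef, ← mul_assoc, ← hwa.eq, mul_assoc, haa, mul_one]
    rw [e2] at h3
    have h4 := uf_comm h3 hwb.eq
    have h5 := (hUb c).mp h4
    apply hcd
    have := H.inv_mem h5
    rwa [mul_inv_rev, inv_inv] at this

theorem phi_spec [Finite G] (z b : G) (hz : z * z = 1) (hb : b * b = 1)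
    (hodd : Odd (orderOf (z * b))) :
    (z * (z * b) ^ ((orderOf (z * b) + 1) / 2)) * z * (z * (z * b) ^ ((orderOf (z * b) + 1) / 2))⁻¹ = b
      ∧ IsConj z (z * (z * b) ^ ((orderOf (z * b) + 1) / 2)) := by
  have hzinv : z⁻¹ = z := inv_eq_of_mul_eq_one_left hz
  have hbinv : b⁻¹ = b := inv_eq_of_mul_eq_one_left hb
  obtain ⟨q, hq⟩ := hodd
  have hj : (orderOf (z * b) + 1) / 2 = q + 1 := by omega
  have hm : (z * b) ^ (((2 * q + 1 : ℕ) : ℤ)) = 1 := by
    rw [zpow_natCast, ← hq, pow_orderOf_eq_one]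
  rw [hj]
  have hr : z * (z * b) ^ (q + 1) = (z * b) ^ (-((q : ℤ) + 1)) * z := by
    have := rot_swap z b hz hb ((q : ℤ) + 1)
    rw [← this, ← zpow_natCast]; push_cast; rfl
  have hrinv : (z * (z * b) ^ (q + 1))⁻¹ = z * (z * b) ^ (q + 1) := by
    rw [mul_inv_rev, hzinv]
    have := rot_swap z b hz hb ((q : ℤ) + 1)
    rw [← zpow_natCast, ← zpow_neg]
    push_cast
    rw [this]
  constructor
  · rw [hrinv]
    calc z * (z * b) ^ (q + 1) * z * (z * (z * b) ^ (q + 1))
        = (z * b) ^ (-((q : ℤ) + 1)) * z * z * ((z * b) ^ (-((q : ℤ) + 1)) * z) := by rw [hr]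
      _ = (z * b) ^ (-((q : ℤ) + 1)) * ((z * b) ^ (-((q : ℤ) + 1)) * z) := by
          rw [mul_assoc ((z * b) ^ (-((q : ℤ) + 1))) z z, hz, mul_one]
      _ = (z * b) ^ (-(((2 * q + 1 : ℕ) : ℤ)) + (-1)) * z := by
          rw [← mul_assoc, ← zpow_add]; congr 2; push_cast; ring
      _ = (z * b)⁻¹ * z := by
          rw [zpow_add, zpow_neg, hm, inv_one, one_mul, zpow_neg_one]
      _ = b := by rw [mul_inv_rev, inv_mul_cancel_right, hbinv]
  · rw [isConj_iff]
    refine ⟨(z * b) ^ (-(((q : ℤ) + 1) * ((q : ℤ) + 1))), ?_⟩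
    rw [hr, ← zpow_neg, neg_neg]
    have h1 := rot_swap z b hz hb (((q : ℤ) + 1) * ((q : ℤ) + 1))
    calc (z * b) ^ (-(((q : ℤ) + 1) * ((q : ℤ) + 1))) * z * (z * b) ^ (((q : ℤ) + 1) * ((q : ℤ) + 1))
        = (z * b) ^ (-(((q : ℤ) + 1) * ((q : ℤ) + 1))) * ((z * b) ^ (-(((q : ℤ) + 1) * ((q : ℤ) + 1))) * z) := by
          rw [mul_assoc, h1]
      _ = (z * b) ^ (-((q : ℤ) + 1) + ((2 * q + 1 : ℕ) : ℤ) * (-((q : ℤ) + 1))) * z := by
          rw [← mul_assoc, ← zpow_add]; congr 2; push_cast; ring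
      _ = (z * b) ^ (-((q : ℤ) + 1)) * z := by
          rw [zpow_add, zpow_mul, hm, one_zpow, mul_one]

theorem phi_inv [Finite G] (z r : G) (hz : z * z = 1) (hr : r * r = 1)
    (hodd : Odd (orderOf (z * r))) :
    z * (z * (r * z * r⁻¹)) ^ ((orderOf (z * (r * z * r⁻¹)) + 1) / 2) = r := by
  have hrinv : r⁻¹ = r := inv_eq_of_mul_eq_one_left hr
  have e : z * (r * z * r⁻¹) = (z * r) ^ 2 := by
    rw [hrinv, pow_two]; simp only [mul_assoc]
  rw [e]
  have ho : orderOf ((z * r) ^ 2) = orderOf (z * r) :=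
    Nat.Coprime.orderOf_pow (Nat.coprime_two_right.mpr hodd)
  rw [ho]
  obtain ⟨q, hq⟩ := hodd
  have hj : (orderOf (z * r) + 1) / 2 = q + 1 := by omega
  rw [hj, ← pow_mul]
  have : 2 * (q + 1) = orderOf (z * r) + 1 := by omega
  rw [this, pow_succ, pow_orderOf_eq_one, one_mul, ← mul_assoc, hz, one_mul]

theorem fixed_pt [Finite G] (S : Subgroup G) (hS : IsPGroup 2 S) (J : Finset G)
    (hJ : ∀ s ∈ S, ∀ a ∈ J, s * a * s⁻¹ ∈ J) (hodd : Odd J.card) :
    ∃ b ∈ J, ∀ s ∈ S, s * b * s⁻¹ = b := by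
  haveI : Fact (Nat.Prime 2) := ⟨Nat.prime_two⟩
  letI : MulAction S {a // a ∈ J} :=
    { smul := fun s a => ⟨(s : G) * a * (s : G)⁻¹, hJ s s.2 a a.2⟩
      one_smul := fun a => Subtype.ext (by
        show ((1 : S) : G) * a * ((1 : S) : G)⁻¹ = a
        simp)
      mul_smul := fun s t a => Subtype.ext (by
        show ((s * t : S) : G) * a * ((s * t : S) : G)⁻¹
          = (s : G) * ((t : G) * a * (t : G)⁻¹) * (s : G)⁻¹
        rw [Subgroup.coe_mul]; group) }
  have hcard : ¬ 2 ∣ Nat.card {a // a ∈ J} := by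
    rw [Nat.card_eq_fintype_card, Fintype.card_coe]
    exact fun h => (Nat.not_even_iff_odd.mpr hodd) (even_iff_two_dvd.mpr h)
  obtain ⟨⟨b, hb⟩, hfix⟩ := hS.nonempty_fixed_point_of_prime_not_dvd_card {a // a ∈ J} hcard
  refine ⟨b, hb, fun s hs => ?_⟩
  have := hfix ⟨s, hs⟩
  exact congrArg Subtype.val this

theorem two_central [Finite G] (z : G) (hz : orderOf z = 2) (H : Subgroup G) (hH : H ≠ ⊤)
    (huz : UF H z 1)
    (hyp : ∀ t : G, IsConj z t → t ≠ z → t * z = z * t → UF H (z * t) 1) :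
    ∃ P : Sylow 2 G, z ∈ P ∧ ∀ x ∈ P, x * z = z * x := by
  classical
  haveI : Fact (Nat.Prime 2) := ⟨Nat.prime_two⟩
  haveI : Fintype G := Fintype.ofFinite G
  have hzz := sq_of_order_two hz
  have hzinv := inv_of_order_two hz
  have hzH : z ∈ H := by have := uf_mem huz; simpa using this
  obtain ⟨k, hk⟩ : ∃ k : G, k ∉ H := by
    by_contra hcon
    push_neg at hcon
    exact hH (eq_top_iff.mpr (fun x _ => hcon x))
  have hconj : ∀ a, IsConj z a → ∃ c, a = c * z * c⁻¹ ∧ UF H a c := by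
    intro a ha
    obtain ⟨c, hc⟩ := isConj_iff.mp ha
    refine ⟨c, hc.symm, ?_⟩
    rw [← hc]
    have := uf_conj huz c
    rwa [mul_one] at this
  have hinvol : ∀ a, IsConj z a → a * a = 1 ∧ a⁻¹ = a := by
    intro a ha
    obtain ⟨c, rfl⟩ := isConj_iff.mp ha
    have ho : orderOf (c * z * c⁻¹) = 2 := by rw [h8_orderOf_conj]; exact hz
    exact ⟨sq_of_order_two ho, inv_of_order_two ho⟩
  have hmemH : ∀ a c, UF H a c → (a ∈ H ↔ c ∈ H) := by
    intro a c h
    have := h 1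
    rw [inv_one, one_mul, mul_one, mul_one] at this
    rw [this, inv_mem_iff]
  have hnotH : ∀ r, k⁻¹ * r ∈ H → r ∉ H := by
    intro r h hr
    apply hk
    have := H.mul_mem hr (H.inv_mem h)
    rwa [mul_inv_rev, inv_inv, ← mul_assoc, mul_inv_cancel, one_mul] at this
  have hoddz : ∀ b, IsConj z b → b ∉ H → Odd (orderOf (z * b)) := by
    intro b hb hbH
    obtain ⟨d, rfl, hUd⟩ := hconj b hb
    have hd : d ∉ H := fun h => hbH ((hmemH _ _ hUd).mpr h)
    have := claimA hz huz hyp 1 d (by rwa [inv_one, one_mul])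
    rwa [one_mul, inv_one, mul_one] at this
  have hJ₁notH : ∀ b, IsConj z b → k⁻¹ * b * k ∈ H → b ∉ H := by
    intro b hb hbk hbH
    obtain ⟨d, rfl, hUd⟩ := hconj b hb
    have h1 : d⁻¹ * k ∈ H := (hUd k).mp hbk
    have h2 : d ∈ H := (hmemH _ _ hUd).mp hbH
    apply hk
    have := H.mul_mem h2 h1
    rwa [← mul_assoc, mul_inv_cancel, one_mul] at this
  -- the three finsets
  set J : Finset G := Finset.univ.filter (fun a => IsConj z a ∧ a ∈ H) with hJdef
  set J₁ : Finset G := Finset.univ.filter (fun b => IsConj z b ∧ k⁻¹ * b * k ∈ H) with hJ₁def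
  set R₁ : Finset G := Finset.univ.filter (fun r => IsConj z r ∧ k⁻¹ * r ∈ H) with hR₁def
  have hJ : ∀ a, a ∈ J ↔ IsConj z a ∧ a ∈ H := by
    intro a; rw [hJdef, Finset.mem_filter]; simp
  have hJ₁ : ∀ b, b ∈ J₁ ↔ IsConj z b ∧ k⁻¹ * b * k ∈ H := by
    intro b; rw [hJ₁def, Finset.mem_filter]; simp
  have hR₁ : ∀ r, r ∈ R₁ ↔ IsConj z r ∧ k⁻¹ * r ∈ H := by
    intro r; rw [hR₁def, Finset.mem_filter]; simp
  -- |J| = |J₁|
  have hJJ₁ : J.card = J₁.card := by
    apply Finset.card_nbij' (fun a => k * a * k⁻¹) (fun b => k⁻¹ * b * k)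
    · intro a ha
      have ha' := (hJ a).mp (Finset.mem_coe.mp ha)
      apply Finset.mem_coe.mpr
      rw [hJ₁]
      refine ⟨ha'.1.trans (isConj_iff.mpr ⟨k, rfl⟩), ?_⟩
      have : k⁻¹ * (k * a * k⁻¹) * k = a := by group
      rw [this]; exact ha'.2
    · intro b hb
      have hb' := (hJ₁ b).mp (Finset.mem_coe.mp hb)
      apply Finset.mem_coe.mpr
      rw [hJ]
      refine ⟨hb'.1.trans (isConj_iff.mpr ⟨k⁻¹, by rw [inv_inv]⟩), hb'.2⟩
    · intro a _
      show k⁻¹ * (k * a * k⁻¹) * k = a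
      group
    · intro b _
      show k * (k⁻¹ * b * k) * k⁻¹ = b
      group
  -- the map φ
  have hφ : ∀ b ∈ J₁, z * (z * b) ^ ((orderOf (z * b) + 1) / 2) ∈ R₁ ∧
      (z * (z * b) ^ ((orderOf (z * b) + 1) / 2)) * z * (z * (z * b) ^ ((orderOf (z * b) + 1) / 2))⁻¹ = b := by
    intro b hb
    have hb' := (hJ₁ b).mp hb
    have hbH := hJ₁notH b hb'.1 hb'.2
    have hodd := hoddz b hb'.1 hbH
    obtain ⟨h1, h2⟩ := phi_spec z b hzz (hinvol b hb'.1).1 hodd
    refine ⟨?_, h1⟩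
    rw [hR₁]
    refine ⟨h2, ?_⟩
    generalize z * (z * b) ^ ((orderOf (z * b) + 1) / 2) = r at h1 h2 ⊢
    have hUr : UF H b r := by
      have := uf_conj huz r
      rwa [mul_one, h1] at this
    obtain ⟨d, rfl, hUd⟩ := hconj b hb'.1
    have h3 : r⁻¹ * d ∈ H := uf_same hUr hUd
    have h4 : d⁻¹ * k ∈ H := (hUd k).mp hb'.2
    have h5 := H.inv_mem (H.mul_mem h3 h4)
    have e : (r⁻¹ * d * (d⁻¹ * k))⁻¹ = k⁻¹ * r := by group
    rwa [e] at h5
  have hRJ : R₁.card = J₁.card := by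
    apply Finset.card_nbij' (fun r => r * z * r⁻¹)
      (fun b => z * (z * b) ^ ((orderOf (z * b) + 1) / 2))
    · intro r hr
      have hr' := (hR₁ r).mp (Finset.mem_coe.mp hr)
      apply Finset.mem_coe.mpr
      rw [hJ₁]
      refine ⟨isConj_iff.mpr ⟨r, rfl⟩, ?_⟩
      have e : k⁻¹ * (r * z * r⁻¹) * k = (k⁻¹ * r) * z * (k⁻¹ * r)⁻¹ := by group
      rw [e]
      exact H.mul_mem (H.mul_mem hr'.2 hzH) (H.inv_mem hr'.2)
    · intro b hb
      exact Finset.mem_coe.mpr (hφ b (Finset.mem_coe.mp hb)).1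
    · intro r hr
      have hr' := (hR₁ r).mp (Finset.mem_coe.mp hr)
      have hrH := hnotH r hr'.2
      exact phi_inv z r hzz (hinvol r hr'.1).1 (hoddz r hr'.1 hrH)
    · intro b hb
      exact (hφ b (Finset.mem_coe.mp hb)).2
  -- |R₁| is odd
  have hRodd : Odd R₁.card := by
    have hkz : k * z * k⁻¹ ∈ J₁ := by
      rw [hJ₁]
      refine ⟨isConj_iff.mpr ⟨k, rfl⟩, ?_⟩
      have : k⁻¹ * (k * z * k⁻¹) * k = z := by group
      rw [this]; exact hzH
    obtain ⟨hr₀, -⟩ := hφ _ hkz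
    generalize z * (z * (k * z * k⁻¹)) ^ ((orderOf (z * (k * z * k⁻¹)) + 1) / 2) = r₀ at hr₀
    have hr₀' := (hR₁ r₀).mp hr₀
    obtain ⟨hr₀sq, hr₀inv⟩ := hinvol r₀ hr₀'.1
    have hr₀H := hnotH r₀ hr₀'.2
    have hmemk : ∀ r ∈ R₁, r * k ∈ H := by
      intro r hr
      have hr' := (hR₁ r).mp hr
      have := H.inv_mem hr'.2
      rwa [mul_inv_rev, inv_inv, (hinvol r hr'.1).2] at this
    have hsum : ∑ x ∈ R₁.erase r₀, (1 : ZMod 2) = 0 := by
      apply Finset.sum_involution (fun r _ => r₀ * r * r₀⁻¹)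
      · intro a _; exact CharTwo.add_self_eq_zero _
      · intro r hr _ hfix
        have hr1 := Finset.mem_erase.mp hr
        have hr' := (hR₁ r).mp hr1.2
        have hcomm : r₀ * r = r * r₀ := by
          calc r₀ * r = (r₀ * r * r₀⁻¹) * r₀ := by group
            _ = r * r₀ := by rw [hfix]
        obtain ⟨c₀, hc₀, hUc₀⟩ := hconj r₀ hr₀'.1
        have h3 : UF H (r₀ * r) c₀ := by
          have := step_i hyp c₀ r hr'.1 (by rw [← hc₀]; exact hr1.1) (by rw [← hc₀]; exact hcomm)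
          rwa [← hc₀] at this
        have h4 : r₀ * r ∈ H := by
          have := H.mul_mem (hmemk r₀ hr₀) hr'.2
          rwa [mul_assoc, ← mul_assoc k, mul_inv_cancel, one_mul] at this
        have h5 : c₀ ∈ H := (hmemH _ _ h3).mp h4
        exact hr₀H ((hmemH _ _ hUc₀).mpr h5)
      · intro r hr
        have hr1 := Finset.mem_erase.mp hr
        have hr' := (hR₁ r).mp hr1.2
        apply Finset.mem_erase.mpr
        refine ⟨?_, ?_⟩
        · intro h
          apply hr1.1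
          calc r = r₀⁻¹ * (r₀ * r * r₀⁻¹) * r₀ := by group
            _ = r₀⁻¹ * r₀ * r₀ := by rw [h]
            _ = r₀ := by group
        · rw [hR₁]
          refine ⟨hr'.1.trans (isConj_iff.mpr ⟨r₀, rfl⟩), ?_⟩
          rw [hr₀inv]
          have h6 : r * r₀ ∈ H := by
            have := H.mul_mem (hmemk r hr1.2) hr₀'.2
            rwa [mul_assoc, ← mul_assoc k, mul_inv_cancel, one_mul] at this
          have := H.mul_mem hr₀'.2 h6
          have e : k⁻¹ * r₀ * (r * r₀) = k⁻¹ * (r₀ * r * r₀) := by group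
          rwa [e] at this
      · intro r hr
        show r₀ * (r₀ * r * r₀⁻¹) * r₀⁻¹ = r
        rw [hr₀inv]
        calc r₀ * (r₀ * r * r₀) * r₀ = (r₀ * r₀) * r * (r₀ * r₀) := by group
          _ = r := by rw [hr₀sq, one_mul, mul_one]
    rw [Finset.sum_const, nsmul_eq_mul, mul_one, ZMod.natCast_eq_zero_iff_even] at hsum
    have hc := Finset.card_erase_add_one hr₀
    rw [← hc]
    exact hsum.add_one
  have hJodd : Odd J.card := by rw [hJJ₁, ← hRJ]; exact hRodd
  -- Sylow argument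
  obtain ⟨P⟩ := (inferInstance : Nonempty (Sylow 2 H))
  set S₁ : Subgroup G := (P : Subgroup H).map H.subtype with hS₁
  have hS₁H : S₁ ≤ H := Subgroup.map_subtype_le _
  have hS₁p : IsPGroup 2 S₁ := P.isPGroup'.map _
  have hmax : ∀ Q : Subgroup G, IsPGroup 2 Q → Q ≤ H → S₁ ≤ Q → Q ≤ S₁ := by
    intro Q hQ hQH hSQ
    have h1 : (P : Subgroup H) ≤ Q.subgroupOf H := by
      intro x hx
      rw [Subgroup.mem_subgroupOf]
      exact hSQ ⟨x, hx, rfl⟩
    have h2 := P.is_maximal' (Q := Q.subgroupOf H) hQ.comap_subtype h1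
    intro q hq
    have : (⟨q, hQH hq⟩ : H) ∈ Q.subgroupOf H := by
      rw [Subgroup.mem_subgroupOf]; exact hq
    rw [h2] at this
    exact ⟨⟨q, hQH hq⟩, this, rfl⟩
  have hJclosed : ∀ s ∈ S₁, ∀ a ∈ J, s * a * s⁻¹ ∈ J := by
    intro s hs a ha
    have ha' := (hJ a).mp ha
    rw [hJ]
    exact ⟨ha'.1.trans (isConj_iff.mpr ⟨s, rfl⟩),
      H.mul_mem (H.mul_mem (hS₁H hs) ha'.2) (H.inv_mem (hS₁H hs))⟩
  obtain ⟨b, hbJ, hbfix⟩ := fixed_pt S₁ hS₁p J hJclosed hJodd
  have hbJ' := (hJ b).mp hbJ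
  have hbcomm : ∀ s ∈ S₁, s * b = b * s := by
    intro s hs
    have := hbfix s hs
    calc s * b = (s * b * s⁻¹) * s := by group
      _ = b * s := by rw [this]
  have hnormsup : ∀ n : G, n ∈ H → n ∈ Subgroup.normalizer (S₁ : Set G) →
      IsPGroup 2 (Subgroup.zpowers n) → n ∈ S₁ := by
    intro n hnH hnN hnp
    have hQp : IsPGroup 2 (Subgroup.zpowers n ⊔ S₁ : Subgroup G) :=
      IsPGroup.to_sup_of_normal_right' hnp hS₁p (Subgroup.zpowers_le.mpr hnN)
    have hQH : Subgroup.zpowers n ⊔ S₁ ≤ H := sup_le (Subgroup.zpowers_le.mpr hnH) hS₁H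
    exact hmax _ hQp hQH le_sup_right (le_sup_left (a := Subgroup.zpowers n)
      (Subgroup.mem_zpowers n))
  have hbo : orderOf b = 2 := by
    obtain ⟨c, hc⟩ := isConj_iff.mp hbJ'.1
    rw [← hc, h8_orderOf_conj]; exact hz
  have hbS₁ : b ∈ S₁ := by
    apply hnormsup b hbJ'.2
    · apply Subgroup.centralizer_le_normalizer
      rw [Subgroup.mem_centralizer_iff]
      intro s hs
      exact hbcomm s hs
    · exact IsPGroup.of_card (n := 1) (by rw [Nat.card_zpowers, hbo, pow_one])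
  obtain ⟨T, hT⟩ := hS₁p.exists_le_sylow
  obtain ⟨e, hbe, hUe⟩ := hconj b hbJ'.1
  have heH : e ∈ H := (hmemH _ _ hUe).mp hbJ'.2
  have hST : S₁ = (T : Subgroup G) := by
    by_contra hne
    obtain ⟨n, hnT, hnN, hnS⟩ := h8_normalizer_growth T.isPGroup' hT hne
    apply hnS
    have h1 : n * b * n⁻¹ ∈ S₁ := ((Subgroup.mem_normalizer_iff.mp hnN) b).mp hbS₁
    have h2 := (hUe n⁻¹).mp (by rw [inv_inv]; exact hS₁H h1)
    have h3 : n ∈ H := by
      have := H.inv_mem (H.mul_mem heH h2)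
      rwa [← mul_assoc, mul_inv_cancel, one_mul, inv_inv] at this
    exact hnormsup n h3 hnN (T.isPGroup'.to_le (Subgroup.zpowers_le.mpr hnT))
  refine ⟨(e⁻¹ • T : Sylow 2 G), ?_, ?_⟩
  · show z ∈ ((e⁻¹ • T : Sylow 2 G) : Subgroup G)
    rw [h8_mem_smul_sylow, inv_inv, ← hbe, ← hST]
    exact hbS₁
  · intro x hx
    have hx' : x ∈ ((e⁻¹ • T : Sylow 2 G) : Subgroup G) := hx
    rw [h8_mem_smul_sylow, inv_inv, ← hST] at hx'
    have h1 := hbcomm _ hx'
    rw [hbe] at h1
    calc x * z = e⁻¹ * ((e * x * e⁻¹) * (e * z * e⁻¹)) * e := by group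
      _ = e⁻¹ * ((e * z * e⁻¹) * (e * x * e⁻¹)) * e := by rw [h1]
      _ = z * x := by group

end

/-- Let z be an involution of a finite group G and H a proper subgroup such that z lies in gHg⁻¹ exactly when g ∈ H. Then the following are equivalent: (1) for every conjugate t ≠ z of z commuting with z, the product zt lies in gHg⁻¹ exactly when g ∈ H; (2) z lies in the centre of some Sylow 2-subgroup of G, and for every conjugate t ≠ z of z commuting with z, the centralizer of zt is contained in H. -/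
theorem result {G : Type*} [Group G] [Finite G] (z : G) (hz : orderOf z = 2) (H : Subgroup G) (hH : H ≠ ⊤)
    (h0 : ∀ g : G, z ∈ H.map (MulAut.conj g).toMonoidHom ↔ g ∈ H) :
    (∀ t : G, IsConj z t → t ≠ z → t * z = z * t → ∀ g : G, z * t ∈ H.map (MulAut.conj g).toMonoidHom ↔ g ∈ H) ↔
      ((∃ P : Sylow 2 G, z ∈ (Subgroup.center ↥(P : Subgroup G)).map (P : Subgroup G).subtype) ∧
        ∀ t : G, IsConj z t → t ≠ z → t * z = z * t → Subgroup.centralizer ({z * t} : Set G) ≤ H) := by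
  classical
  haveI : Fact (Nat.Prime 2) := ⟨Nat.prime_two⟩
  have h0' : ∀ g : G, g⁻¹ * z * g ∈ H ↔ g ∈ H := by
    intro g; rw [← h8_mem_map_conj, h0]
  have huz : UF H z 1 := by
    intro g; rw [h0', inv_one, one_mul]
  have hzz := sq_of_order_two hz
  have hzH : z ∈ H := by have := uf_mem huz; simpa using this
  have hCz : ∀ c : G, c * z = z * c → c ∈ H := by
    intro c hc
    apply (h0' c).mp
    have : c⁻¹ * z * c = z := by
      calc c⁻¹ * z * c = c⁻¹ * (z * c) := by group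
        _ = c⁻¹ * (c * z) := by rw [hc]
        _ = z := by group
    rw [this]; exact hzH
  constructor
  · intro h1
    have hyp : ∀ t : G, IsConj z t → t ≠ z → t * z = z * t → UF H (z * t) 1 := by
      intro t ht htz hcomm g
      rw [← h8_mem_map_conj, h1 t ht htz hcomm, inv_one, one_mul]
    refine ⟨?_, ?_⟩
    · obtain ⟨P, hzP, hcomm⟩ := two_central z hz H hH huz hyp
      refine ⟨P, ⟨⟨z, hzP⟩, ?_, rfl⟩⟩
      apply SetLike.mem_coe.mpr
      rw [Subgroup.mem_center_iff]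
      intro g
      exact Subtype.ext (hcomm g g.2)
    · intro t ht htz hcomm c hc
      rw [Subgroup.mem_centralizer_iff] at hc
      have hc' := hc (z * t) rfl
      have htH : t ∈ H := hCz t hcomm
      apply (h1 t ht htz hcomm c).mp
      rw [h8_mem_map_conj]
      have : c⁻¹ * (z * t) * c = z * t := by
        calc c⁻¹ * (z * t) * c = c⁻¹ * ((z * t) * c) := by group
          _ = c⁻¹ * (c * (z * t)) := by rw [hc']
          _ = z * t := by group
      rw [this]
      exact H.mul_mem hzH htH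
  · rintro ⟨⟨P, y, hyc, hyz⟩, hC⟩ t ht htz hcomm g
    have hzP : z ∈ (P : Subgroup G) := by
      have := y.2
      rw [← hyz]; exact this
    have hPz : ∀ x ∈ (P : Subgroup G), x * z = z * x := by
      intro x hx
      have := Subgroup.mem_center_iff.mp hyc ⟨x, hx⟩
      have h2 := congrArg Subtype.val this
      rw [← hyz]
      exact h2
    have hPH : (P : Subgroup G) ≤ H := fun x hx => hCz x (hPz x hx)
    have htH : t ∈ H := hCz t hcomm
    have hztH : z * t ∈ H := H.mul_mem hzH htH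
    rw [h8_mem_map_conj]
    constructor
    · intro hu
      -- u₀ = g⁻¹ (z t) g ∈ H, an involution
      have hto : orderOf t = 2 := by
        obtain ⟨c, hc⟩ := isConj_iff.mp ht
        rw [← hc, h8_orderOf_conj]; exact hz
      have htt := sq_of_order_two hto
      have hu2 : (g⁻¹ * (z * t) * g) * (g⁻¹ * (z * t) * g) = 1 := by
        calc (g⁻¹ * (z * t) * g) * (g⁻¹ * (z * t) * g) = g⁻¹ * (z * (t * z) * t) * g := by group
          _ = g⁻¹ * (z * (z * t) * t) * g := by rw [hcomm]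
          _ = g⁻¹ * ((z * z) * (t * t)) * g := by group
          _ = 1 := by rw [hzz, htt]; group
      -- Sylow theory in H
      have hQ : IsPGroup 2 (Subgroup.zpowers (⟨g⁻¹ * (z * t) * g, hu⟩ : H)) := by
        intro x
        refine ⟨1, ?_⟩
        obtain ⟨x, hx⟩ := x
        obtain ⟨i, rfl⟩ := Subgroup.mem_zpowers_iff.mp hx
        apply Subtype.ext
        have hsq : (⟨g⁻¹ * (z * t) * g, hu⟩ : H) ^ 2 = 1 := by
          apply Subtype.ext
          rw [pow_two]
          exact hu2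
        show ((⟨g⁻¹ * (z * t) * g, hu⟩ : H) ^ i) ^ 2 ^ 1 = 1
        rw [pow_one, ← zpow_natCast, ← zpow_mul, mul_comm, zpow_mul, zpow_natCast, hsq, one_zpow]
      obtain ⟨h, hh⟩ := h8_exists_conj_sylow_ge (P.subtype hPH) hQ
      have hv := hh _ (Subgroup.mem_zpowers _)
      have hv' : (h : G)⁻¹ * (g⁻¹ * (z * t) * g) * (h : G) ∈ (P : Subgroup G) := by
        have : h⁻¹ * (⟨g⁻¹ * (z * t) * g, hu⟩ : H) * h ∈ (P : Subgroup G).subgroupOf H := hv
        rw [Subgroup.mem_subgroupOf] at this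
        exact this
      have hzv := hPz _ hv'
      -- y' = (g h) z (g h)⁻¹ centralizes z t
      have hy : (g * h) * z * (g * h)⁻¹ ∈ Subgroup.centralizer ({z * t} : Set G) := by
        rw [Subgroup.mem_centralizer_iff]
        intro w hw
        rw [Set.mem_singleton_iff] at hw
        subst hw
        calc z * t * ((g * h) * z * (g * h)⁻¹)
            = (g * h) * (((h : G)⁻¹ * (g⁻¹ * (z * t) * g) * h) * z) * (g * h)⁻¹ := by group
          _ = (g * h) * (z * ((h : G)⁻¹ * (g⁻¹ * (z * t) * g) * h)) * (g * h)⁻¹ := by rw [hzv]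
          _ = (g * h) * z * (g * h)⁻¹ * (z * t) := by group
      have hyH := hC t ht htz hcomm hy
      have h3 : (g * h)⁻¹ ∈ H := by
        apply (h0' (g * h)⁻¹).mp
        rw [inv_inv]; exact hyH
      have h4 : g * h ∈ H := by
        have := H.inv_mem h3
        rwa [inv_inv] at this
      have := H.mul_mem h4 (H.inv_mem h.2)
      rwa [mul_assoc, mul_inv_cancel, mul_one] at this
    · intro hg
      exact H.mul_mem (H.mul_mem (H.inv_mem hg) hztH) hg

end Cfsg.Agent.S1922
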