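import Mathlib
import Cfsg.Statements.S1905
import Cfsg.Agent.S0208
import Cfsg.Agent.S0209
import Cfsg.Agent.S1922
import Cfsg.Agent.S1900
import Cfsg.Agent.Lib.Helper5.Invol
import Cfsg.Agent.Lib.Helper8.Basic

set_option autoImplicit false
open Cfsg

namespace Cfsg.Agent.S1905

open Cfsg.Agent.Lib.Helper5 Cfsg.Agent.Lib.Helper8

section
variable {S : Type*} [Group S] [Finite S]

/-- an involution of `M` and an involution outside `M` have a product of odd order -/
theorem odd_of (M : Subgroup S)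
    (hC : ∀ i ∈ M, orderOf i = 2 → Subgroup.centralizer ({i} : Set S) ≤ M)
    (t j : S) (ht : orderOf t = 2) (hj : orderOf j = 2) (htM : t ∈ M) (hjM : j ∉ M) :
    Odd (orderOf (t * j)) ∧ Odd (orderOf (j * t)) := by
  constructor
  · by_contra hodd
    have heven : Even (orderOf (t * j)) := Nat.not_odd_iff_even.mp hodd
    obtain ⟨hw2, hwt, hwj⟩ := Cfsg.Agent.S0209.result t j ht hj heven
    generalize (t * j) ^ (orderOf (t * j) / 2) = w at hw2 hwt hwj
    have hwM : w ∈ M := by
      apply hC t htM ht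
      rw [Subgroup.mem_centralizer_iff]
      intro h hh
      rw [Set.mem_singleton_iff] at hh
      subst hh
      exact hwt.eq.symm
    apply hjM
    apply hC w hwM hw2
    rw [Subgroup.mem_centralizer_iff]
    intro h hh
    rw [Set.mem_singleton_iff] at hh
    subst hh
    exact hwj.eq
  · by_contra hodd
    have heven : Even (orderOf (j * t)) := Nat.not_odd_iff_even.mp hodd
    obtain ⟨hw2, hwj, hwt⟩ := Cfsg.Agent.S0209.result j t hj ht heven
    generalize (j * t) ^ (orderOf (j * t) / 2) = w at hw2 hwt hwj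
    have hwM : w ∈ M := by
      apply hC t htM ht
      rw [Subgroup.mem_centralizer_iff]
      intro h hh
      rw [Set.mem_singleton_iff] at hh
      subst hh
      exact hwt.eq.symm
    apply hjM
    apply hC w hwM hw2
    rw [Subgroup.mem_centralizer_iff]
    intro h hh
    rw [Set.mem_singleton_iff] at hh
    subst hh
    exact hwj.eq

/-- all involutions are conjugate -/
theorem claim1 (M : Subgroup S) (hM : Even (Nat.card M))
    (hC : ∀ i ∈ M, orderOf i = 2 → Subgroup.centralizer ({i} : Set S) ≤ M)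
    (hcore : Odd (Nat.card M.normalCore)) :
    ∀ x y : S, orderOf x = 2 → orderOf y = 2 → IsConj x y := by
  classical
  haveI : Fact (Nat.Prime 2) := ⟨Nat.prime_two⟩
  obtain ⟨i₀, hi₀⟩ := exists_prime_orderOf_dvd_card' (G := M) 2 (even_iff_two_dvd.mp hM)
  have hio : orderOf (i₀ : S) = 2 := by rw [Subgroup.orderOf_coe]; exact hi₀
  have key : ∀ j : S, orderOf j = 2 → IsConj (i₀ : S) j := by
    intro j hj
    by_contra hnc
    have hinM : ∀ j' : S, orderOf j' = 2 → ¬ IsConj (i₀ : S) j' → j' ∈ M := by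
      intro j' hj' hnc'
      by_contra hj'M
      obtain ⟨hodd, -⟩ := odd_of M hC (i₀ : S) j' hio hj' i₀.2 hj'M
      obtain ⟨d, -, hd⟩ := Cfsg.Agent.S0208.result (i₀ : S) j' hio hj' hodd
      exact hnc' (isConj_iff.mpr ⟨d, hd⟩)
    have hjcore : j ∈ M.normalCore := by
      intro b
      apply hinM
      · rw [h8_orderOf_conj]; exact hj
      · intro h
        apply hnc
        refine h.trans ?_
        rw [isConj_iff]
        exact ⟨b⁻¹, by group⟩
    have h2 : orderOf j ∣ Nat.card M.normalCore := by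
      have := orderOf_dvd_natCard (⟨j, hjcore⟩ : M.normalCore)
      rwa [Subgroup.orderOf_mk] at this
    rw [hj] at h2
    exact (Nat.not_even_iff_odd.mpr hcore) (even_iff_two_dvd.mpr h2)
  intro x y hx hy
  exact (key x hx).symm.trans (key y hy)

/-- the strong embedding property -/
theorem se (M : Subgroup S)
    (hC : ∀ i ∈ M, orderOf i = 2 → Subgroup.centralizer ({i} : Set S) ≤ M)
    (X : Sylow 2 M) (I : M)
    (hI : I ∈ (Subgroup.center ↥(X : Subgroup ↥M)).map (X : Subgroup ↥M).subtype)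
    (hIo : orderOf I = 2)
    (hN : Subgroup.normalizer (((X : Subgroup M).map M.subtype : Subgroup S) : Set S) ≤ M) :
    ∀ t g : S, orderOf t = 2 → t ∈ M → g⁻¹ * t * g ∈ M → g ∈ M := by
  classical
  haveI : Fact (Nat.Prime 2) := ⟨Nat.prime_two⟩
  have hI'o : orderOf (I : S) = 2 := by rw [Subgroup.orderOf_coe]; exact hIo
  have hX'p : IsPGroup 2 ((X : Subgroup M).map M.subtype : Subgroup S) := X.isPGroup'.map _
  have hX'M : ((X : Subgroup M).map M.subtype : Subgroup S) ≤ M := Subgroup.map_subtype_le _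
  have hIc : ∀ x ∈ ((X : Subgroup M).map M.subtype : Subgroup S), x * (I : S) = (I : S) * x := by
    rintro x ⟨x₀, hx₀, rfl⟩
    obtain ⟨y, hyc, hyI⟩ := hI
    have h1 := Subgroup.mem_center_iff.mp hyc ⟨x₀, hx₀⟩
    have h2 := congrArg (fun u : (X : Subgroup M) => ((u : M) : S)) h1
    simp only [Subgroup.coe_mul] at h2
    have h3 : ((y : M) : S) = (I : S) := congrArg Subtype.val hyI
    rw [h3] at h2
    exact h2
  -- Step A
  have stepA : ∀ g : S, g⁻¹ * (I : S) * g ∈ M → g ∈ M := by
    intro g hg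
    have hgo : orderOf (g⁻¹ * (I : S) * g) = 2 := by
      have := h8_orderOf_conj g⁻¹ (I : S)
      rw [inv_inv] at this
      rw [this]; exact hI'o
    have hRM : ∀ x ∈ ((X : Subgroup M).map M.subtype : Subgroup S), g⁻¹ * x * g ∈ M := by
      intro x hx
      apply hC _ hg hgo
      rw [Subgroup.mem_centralizer_iff]
      intro h hh
      rw [Set.mem_singleton_iff] at hh
      subst hh
      have := hIc x hx
      calc g⁻¹ * (I : S) * g * (g⁻¹ * x * g) = g⁻¹ * ((I : S) * x) * g := by group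
        _ = g⁻¹ * (x * (I : S)) * g := by rw [this]
        _ = g⁻¹ * x * g * (g⁻¹ * (I : S) * g) := by group
    -- the 2-subgroup R of M
    have hRp : IsPGroup 2 ((((X : Subgroup M).map M.subtype : Subgroup S).map
        (MulAut.conj g⁻¹).toMonoidHom).subgroupOf M) := (hX'p.map _).comap_subtype
    obtain ⟨h, hh⟩ := h8_exists_conj_sylow_ge X hRp
    have hconj : ∀ x ∈ ((X : Subgroup M).map M.subtype : Subgroup S),
        (g * h)⁻¹ * x * ((g * h)⁻¹)⁻¹ ∈ ((X : Subgroup M).map M.subtype : Subgroup S) := by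
      intro x hx
      have h1 : (⟨g⁻¹ * x * g, hRM x hx⟩ : M) ∈
          (((X : Subgroup M).map M.subtype : Subgroup S).map
            (MulAut.conj g⁻¹).toMonoidHom).subgroupOf M := by
        rw [Subgroup.mem_subgroupOf]
        refine ⟨x, hx, ?_⟩
        simp
      have h2 := hh _ h1
      refine ⟨_, h2, ?_⟩
      simp only [Subgroup.coe_subtype, Subgroup.coe_mul, Subgroup.coe_inv]
      group
    have h3 := hN (Cfsg.Agent.S1900.mem_normalizer_of_conj_mem _ _ hconj)
    have h4 : g * h ∈ M := by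
      have := M.inv_mem h3
      rwa [inv_inv] at this
    have := M.mul_mem h4 (M.inv_mem h.2)
    rwa [mul_assoc, mul_inv_cancel, mul_one] at this
  -- Step B
  intro t g ht htM hu
  have htt := sq_of_order_two ht
  have hQ : IsPGroup 2 (Subgroup.zpowers (⟨t, htM⟩ : M)) := by
    apply IsPGroup.of_card (n := 1)
    rw [Nat.card_zpowers, Subgroup.orderOf_mk, ht, pow_one]
  obtain ⟨m, hm⟩ := h8_exists_conj_sylow_ge X hQ
  have ht₁ : (m : S)⁻¹ * t * (m : S) ∈ ((X : Subgroup M).map M.subtype : Subgroup S) := by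
    refine ⟨_, hm _ (Subgroup.mem_zpowers _), ?_⟩
    simp
  have hcomm := hIc _ ht₁
  have huo : orderOf (g⁻¹ * t * g) = 2 := by
    have := h8_orderOf_conj g⁻¹ t
    rw [inv_inv] at this
    rw [this]; exact ht
  have h5 : ((m : S)⁻¹ * g)⁻¹ * (I : S) * ((m : S)⁻¹ * g) ∈ M := by
    apply hC _ hu huo
    rw [Subgroup.mem_centralizer_iff]
    intro h hh
    rw [Set.mem_singleton_iff] at hh
    subst hh
    calc g⁻¹ * t * g * (((m : S)⁻¹ * g)⁻¹ * (I : S) * ((m : S)⁻¹ * g))
        = g⁻¹ * (m : S) * (((m : S)⁻¹ * t * (m : S)) * (I : S)) * (m : S)⁻¹ * g := by group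
      _ = g⁻¹ * (m : S) * ((I : S) * ((m : S)⁻¹ * t * (m : S))) * (m : S)⁻¹ * g := by rw [hcomm]
      _ = ((m : S)⁻¹ * g)⁻¹ * (I : S) * ((m : S)⁻¹ * g) * (g⁻¹ * t * g) := by group
  have h6 := stepA _ h5
  have := M.mul_mem m.2 h6
  rwa [← mul_assoc, mul_inv_cancel, one_mul] at this

end

/-- Let M be a subgroup of even order of a finite group S such that M contains the centralizer in S of each of its involutions and the normal core of M in S has odd order. Then all involutions of S are conjugate. If moreover N_S(X) ≤ M for a Sylow 2-subgroup X of M and I is an involution in the centre of X, then all involutions of M are conjugate in M and M = M₀ C_M(I) for some subgroup M₀ of M of odd order. -/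
theorem result {S : Type*} [Group S] [Finite S] (M : Subgroup S) (hM : Even (Nat.card M))
    (hC : ∀ i ∈ M, orderOf i = 2 → Subgroup.centralizer ({i} : Set S) ≤ M) (hcore : Odd (Nat.card M.normalCore)) :
    (∀ x y : S, orderOf x = 2 → orderOf y = 2 → IsConj x y) ∧
      ∀ (X : Sylow 2 M) (I : M), I ∈ (Subgroup.center ↥(X : Subgroup ↥M)).map (X : Subgroup ↥M).subtype → orderOf I = 2 →
        Subgroup.normalizer (((X : Subgroup M).map M.subtype : Subgroup S) : Set S) ≤ M →
        (∀ x y : M, orderOf x = 2 → orderOf y = 2 → IsConj x y) ∧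
          ∃ M₀ : Subgroup M, Odd (Nat.card M₀) ∧
            ∀ m : M, ∃ a ∈ M₀, ∃ c ∈ Subgroup.centralizer ({I} : Set M), m = a * c := by
  classical
  haveI : Fact (Nat.Prime 2) := ⟨Nat.prime_two⟩
  have h1 := claim1 M hM hC hcore
  refine ⟨h1, ?_⟩
  intro X I hI hIo hN
  have hse := se M hC X I hI hIo hN
  have hI'o : orderOf (I : S) = 2 := by rw [Subgroup.orderOf_coe]; exact hIo
  have hII := sq_of_order_two hI'o
  constructor
  · intro x y hx hy
    have hx' : orderOf (x : S) = 2 := by rw [Subgroup.orderOf_coe]; exact hx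
    have hy' : orderOf (y : S) = 2 := by rw [Subgroup.orderOf_coe]; exact hy
    obtain ⟨h, hh⟩ := isConj_iff.mp (h1 (x : S) (y : S) hx' hy')
    have hhM : h⁻¹ ∈ M := by
      apply hse (x : S) h⁻¹ hx' x.2
      rw [inv_inv, hh]; exact y.2
    have hhM' : h ∈ M := by
      have := M.inv_mem hhM
      rwa [inv_inv] at this
    rw [isConj_iff]
    exact ⟨⟨h, hhM'⟩, Subtype.ext hh⟩
  · -- choose g ∉ M
    have hMne : M ≠ ⊤ := by
      intro h
      rw [h, Subgroup.normalCore_eq_self] at hcore
      rw [h] at hM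
      exact (Nat.not_even_iff_odd.mpr hcore) hM
    obtain ⟨g, hg⟩ : ∃ g : S, g ∉ M := by
      by_contra hcon
      push_neg at hcon
      exact hMne (eq_top_iff.mpr (fun x _ => hcon x))
    have hjo : orderOf (g * (I : S) * g⁻¹) = 2 := by rw [h8_orderOf_conj]; exact hI'o
    have hjM : g * (I : S) * g⁻¹ ∉ M := by
      intro h
      apply hg
      have : g⁻¹ ∈ M := by
        apply hse (I : S) g⁻¹ hI'o I.2
        rw [inv_inv]; exact h
      have := M.inv_mem this
      rwa [inv_inv] at this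
    have hjj := sq_of_order_two hjo
    -- s₀
    obtain ⟨hodd0, -⟩ := odd_of M hC (I : S) (g * (I : S) * g⁻¹) hI'o hjo I.2 hjM
    obtain ⟨hs₀, hs₀c⟩ := Cfsg.Agent.S1922.phi_spec (I : S) (g * (I : S) * g⁻¹) hII hjj hodd0
    generalize (I : S) * ((I : S) * (g * (I : S) * g⁻¹)) ^
      ((orderOf ((I : S) * (g * (I : S) * g⁻¹)) + 1) / 2) = s₀ at hs₀ hs₀c
    have hs₀o : orderOf s₀ = 2 := by
      obtain ⟨c, hc⟩ := isConj_iff.mp hs₀c
      rw [← hc, h8_orderOf_conj]; exact hI'o
    have hs₀inv := inv_of_order_two hs₀o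
    -- g⁻¹ s₀ ∈ C(I) ≤ M
    have hgs₀ : g⁻¹ * s₀ ∈ M := by
      apply hC (I : S) I.2 hI'o
      rw [Subgroup.mem_centralizer_iff]
      intro h hh
      rw [Set.mem_singleton_iff] at hh
      subst hh
      calc (I : S) * (g⁻¹ * s₀) = g⁻¹ * (g * (I : S) * g⁻¹) * s₀ := by group
        _ = g⁻¹ * (s₀ * (I : S) * s₀⁻¹) * s₀ := by rw [hs₀]
        _ = g⁻¹ * s₀ * (I : S) := by group
    have hs₀g : s₀ * g ∈ M := by
      have := M.inv_mem hgs₀
      rwa [mul_inv_rev, inv_inv, hs₀inv] at this
    refine ⟨(M ⊓ M.map (MulAut.conj g).toMonoidHom).subgroupOf M, ?_, ?_⟩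
    · -- odd order
      by_contra hodd
      have heven : Even (Nat.card ((M ⊓ M.map (MulAut.conj g).toMonoidHom).subgroupOf M)) :=
        Nat.not_odd_iff_even.mp hodd
      obtain ⟨d, hd⟩ := exists_prime_orderOf_dvd_card'
        (G := ((M ⊓ M.map (MulAut.conj g).toMonoidHom).subgroupOf M)) 2 (even_iff_two_dvd.mp heven)
      have hd' : orderOf (((d : M) : S)) = 2 := by
        rw [Subgroup.orderOf_coe, Subgroup.orderOf_coe]; exact hd
      have hdm := d.2
      rw [Subgroup.mem_subgroupOf] at hdm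
      obtain ⟨hd1, hd2⟩ := Subgroup.mem_inf.mp hdm
      rw [h8_mem_map_conj] at hd2
      exact hg (hse _ g hd' hd1 hd2)
    · intro m
      have hto : orderOf ((m : S) * (I : S) * (m : S)⁻¹) = 2 := by
        rw [h8_orderOf_conj]; exact hI'o
      have htM : (m : S) * (I : S) * (m : S)⁻¹ ∈ M := M.mul_mem (M.mul_mem m.2 I.2) (M.inv_mem m.2)
      obtain ⟨-, hodd1⟩ := odd_of M hC ((m : S) * (I : S) * (m : S)⁻¹) (g * (I : S) * g⁻¹)
        hto hjo htM hjM
      obtain ⟨hs, hsc⟩ := Cfsg.Agent.S1922.phi_spec (g * (I : S) * g⁻¹)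
        ((m : S) * (I : S) * (m : S)⁻¹) hjj (sq_of_order_two hto) hodd1
      generalize (g * (I : S) * g⁻¹) * ((g * (I : S) * g⁻¹) * ((m : S) * (I : S) * (m : S)⁻¹)) ^
        ((orderOf ((g * (I : S) * g⁻¹) * ((m : S) * (I : S) * (m : S)⁻¹)) + 1) / 2) = s at hs hsc
      have hso : orderOf s = 2 := by
        obtain ⟨c, hc⟩ := isConj_iff.mp hsc
        rw [← hc, h8_orderOf_conj]; exact hjo
      have hsinv := inv_of_order_two hso
      -- s g ∈ M
      have hsg : s * g ∈ M := by
        have h2 : (s * g)⁻¹ ∈ M := by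
          apply hse (I : S) (s * g)⁻¹ hI'o I.2
          rw [inv_inv]
          have e : s * g * (I : S) * (s * g)⁻¹ = s * (g * (I : S) * g⁻¹) * s⁻¹ := by group
          rw [e, hs]; exact htM
        have := M.inv_mem h2
        rwa [inv_inv] at this
      have hgs : g⁻¹ * s ∈ M := by
        have := M.inv_mem hsg
        rwa [mul_inv_rev, hsinv] at this
      -- e = s s₀
      have heM : s * s₀ ∈ M := by
        have := M.mul_mem hsg hgs₀
        have e : s * g * (g⁻¹ * s₀) = s * s₀ := by group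
        rwa [e] at this
      have heg : g⁻¹ * (s * s₀) * g ∈ M := by
        have := M.mul_mem hgs hs₀g
        have e : g⁻¹ * s * (s₀ * g) = g⁻¹ * (s * s₀) * g := by group
        rwa [e] at this
      have heI : (s * s₀) * (I : S) * (s * s₀)⁻¹ = (m : S) * (I : S) * (m : S)⁻¹ := by
        have e : (s * s₀) * (I : S) * (s * s₀)⁻¹ = s * (s₀ * (I : S) * s₀⁻¹) * s⁻¹ := by group
        rw [e, hs₀, hs]
      refine ⟨⟨s * s₀, heM⟩, ?_, (⟨s * s₀, heM⟩ : M)⁻¹ * m, ?_, ?_⟩
      · rw [Subgroup.mem_subgroupOf]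
        refine Subgroup.mem_inf.mpr ⟨heM, ?_⟩
        rw [h8_mem_map_conj]
        exact heg
      · rw [Subgroup.mem_centralizer_iff]
        intro h hh
        rw [Set.mem_singleton_iff] at hh
        subst hh
        apply Subtype.ext
        simp only [Subgroup.coe_mul, Subgroup.coe_inv]
        calc (h : S) * ((s * s₀)⁻¹ * (m : S))
            = (s * s₀)⁻¹ * ((s * s₀) * (h : S) * (s * s₀)⁻¹) * (m : S) := by group
          _ = (s * s₀)⁻¹ * ((m : S) * (h : S) * (m : S)⁻¹) * (m : S) := by rw [heI]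
          _ = (s * s₀)⁻¹ * (m : S) * (h : S) := by group
      · group

end Cfsg.Agent.S1905
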