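import Mathlib
import Cfsg.Statements.S1921
import Cfsg.Agent.Lib.Helper1.Layer
import Cfsg.Agent.Lib.Helper1.QS
import Cfsg.Agent.Lib.Helper7.Coprime

set_option autoImplicit false
open Cfsg

namespace Cfsg.Agent.S1921

open Cfsg.Agent.Lib.Helper1 Cfsg.Agent.Lib.Helper7

/-- Let a be an involution of a finite group H and L a component of H with a L a⁻¹ ≠ L; put M = ⟨L, aLa⁻¹⟩ and let J be the subgroup generated by the elements x · a x a⁻¹ with x ∈ L (the diagonal). Then every element of M outside J·Z(M) generates M together with J. -/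
theorem result {H : Type*} [Group H] [Finite H] (a : H) (ha : orderOf a = 2) (L : Subgroup H) (hL : Cfsg.IsComponent L)
    (hLa : L.map (MulAut.conj a).toMonoidHom ≠ L) (x : H) (hxM : x ∈ L ⊔ L.map (MulAut.conj a).toMonoidHom)
    (hxJ : x ∉ Subgroup.closure {y : H | ∃ l ∈ L, y = l * (a * l * a⁻¹)} ⊔
      ((L ⊔ L.map (MulAut.conj a).toMonoidHom) ⊓ Subgroup.centralizer ((L ⊔ L.map (MulAut.conj a).toMonoidHom : Subgroup H) : Set H))) :
    Subgroup.closure {y : H | ∃ l ∈ L, y = l * (a * l * a⁻¹)} ⊔ Subgroup.zpowers x = L ⊔ L.map (MulAut.conj a).toMonoidHom := by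
  classical
  have hL'comp : Cfsg.IsComponent (L.map (MulAut.conj a).toMonoidHom) :=
    IsComponent.map_equiv (MulAut.conj a) hL
  have hcomm0 : ⁅L, L.map (MulAut.conj a).toMonoidHom⁆ = ⊥ :=
    IsComponent.commutator_eq_bot_of_ne hL hL'comp (Ne.symm hLa)
  have hcomm : ∀ l ∈ L, ∀ l' ∈ L.map (MulAut.conj a).toMonoidHom, l * l' = l' * l := by
    rw [Subgroup.commutator_eq_bot_iff_le_centralizer] at hcomm0
    intro l hl l' hl'
    have := hcomm0 hl
    rw [Subgroup.mem_centralizer_iff] at this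
    exact (this l' hl').symm
  have hconjmem : ∀ l ∈ L, a * l * a⁻¹ ∈ L.map (MulAut.conj a).toMonoidHom :=
    fun l hl => ⟨l, hl, by simp [MulAut.conj_apply]⟩
  have hJM : Subgroup.closure {y : H | ∃ l ∈ L, y = l * (a * l * a⁻¹)}
      ≤ L ⊔ L.map (MulAut.conj a).toMonoidHom := by
    rw [Subgroup.closure_le]
    rintro y ⟨l, hl, rfl⟩
    exact Subgroup.mul_mem_sup hl (hconjmem l hl)
  have hgenJ : ∀ l ∈ L, l * (a * l * a⁻¹)
      ∈ Subgroup.closure {y : H | ∃ l ∈ L, y = l * (a * l * a⁻¹)} :=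
    fun l hl => Subgroup.subset_closure ⟨l, hl, rfl⟩
  apply le_antisymm
  · exact sup_le hJM (Subgroup.zpowers_le.mpr hxM)
  · generalize hYdef : Subgroup.closure {y : H | ∃ l ∈ L, y = l * (a * l * a⁻¹)} ⊔
      Subgroup.zpowers x = Y
    have hxY : x ∈ Y := by
      rw [← hYdef]; exact Subgroup.mem_sup_right (Subgroup.mem_zpowers x)
    have hJY : ∀ l ∈ L, l * (a * l * a⁻¹) ∈ Y := by
      intro l hl
      rw [← hYdef]; exact Subgroup.mem_sup_left (hgenJ l hl)
    have hnorm : L.map (MulAut.conj a).toMonoidHom ≤ Subgroup.normalizer (L : Set H) := by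
      refine le_trans ?_ (Subgroup.centralizer_le_normalizer _)
      intro l' hl'
      rw [Subgroup.mem_centralizer_iff]
      intro l hl
      exact hcomm l hl l' hl'
    obtain ⟨l₁, hl₁, l₂', hl₂', hx⟩ := exists_mul_of_mem_sup hnorm hxM
    obtain ⟨l₂, hl₂, rfl⟩ := hl₂'
    have hconj : (MulAut.conj a).toMonoidHom l₂ = a * l₂ * a⁻¹ := by simp [MulAut.conj_apply]
    rw [hconj] at hx
    have hc : l₁ * l₂⁻¹ = x * (l₂ * (a * l₂ * a⁻¹))⁻¹ := by
      rw [hx]; group
    have hcY : l₁ * l₂⁻¹ ∈ Y := by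
      rw [hc]; exact Y.mul_mem hxY (Y.inv_mem (hJY l₂ hl₂))
    have hcL : l₁ * l₂⁻¹ ∈ L := L.mul_mem hl₁ (L.inv_mem hl₂)
    have hcZ : l₁ * l₂⁻¹ ∉ Subgroup.centralizer
        ((L ⊔ L.map (MulAut.conj a).toMonoidHom : Subgroup H) : Set H) := by
      intro h
      apply hxJ
      have h1 : x = (l₁ * l₂⁻¹) * (l₂ * (a * l₂ * a⁻¹)) := by rw [hc]; group
      rw [h1]
      exact Subgroup.mul_mem _
        (Subgroup.mem_sup_right (Subgroup.mem_inf.mpr ⟨Subgroup.mem_sup_left hcL, h⟩))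
        (Subgroup.mem_sup_left (hgenJ l₂ hl₂))
    have hex : ∃ l₀ ∈ L, l₀ * (l₁ * l₂⁻¹) ≠ (l₁ * l₂⁻¹) * l₀ := by
      by_contra hcon
      push_neg at hcon
      apply hcZ
      have hle : L ⊔ L.map (MulAut.conj a).toMonoidHom
          ≤ Subgroup.centralizer ({l₁ * l₂⁻¹} : Set H) := by
        apply sup_le
        · intro l hl
          rw [Subgroup.mem_centralizer_iff]
          intro h hh
          rw [Set.mem_singleton_iff] at hh
          subst hh
          exact (hcon l hl).symm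
        · intro l' hl'
          rw [Subgroup.mem_centralizer_iff]
          intro h hh
          rw [Set.mem_singleton_iff] at hh
          subst hh
          exact hcomm _ hcL l' hl'
      rw [Subgroup.mem_centralizer_iff]
      intro m hm
      have := hle hm
      rw [Subgroup.mem_centralizer_iff] at this
      exact (this _ rfl).symm
    obtain ⟨l₀, hl₀, hne⟩ := hex
    have hNn : ((Y ⊓ L).subgroupOf L).Normal := by
      constructor
      intro n hn l
      rw [Subgroup.mem_subgroupOf] at hn ⊢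
      simp only [Subgroup.coe_mul, Subgroup.coe_inv]
      refine Subgroup.mem_inf.mpr ⟨?_, L.mul_mem (L.mul_mem l.2 n.2) (L.inv_mem l.2)⟩
      have hj := hJY l l.2
      have h1 := hcomm n n.2 (a * l * a⁻¹) (hconjmem l l.2)
      have e : (l : H) * n * (l : H)⁻¹
          = ((l : H) * (a * l * a⁻¹)) * n * ((l : H) * (a * l * a⁻¹))⁻¹ := by
        calc (l : H) * n * (l : H)⁻¹
            = (l : H) * ((n : H) * (a * l * a⁻¹)) * (a * l * a⁻¹)⁻¹ * (l : H)⁻¹ := by group
          _ = (l : H) * ((a * l * a⁻¹) * (n : H)) * (a * l * a⁻¹)⁻¹ * (l : H)⁻¹ := by rw [h1]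
          _ = _ := by group
      rw [e]
      exact Y.mul_mem (Y.mul_mem hj (Subgroup.mem_inf.mp hn).1) (Y.inv_mem hj)
    rcases subnormal_of_quasisimple hL.2 _ hNn.isSubnormal with htop | hcen
    · have hLY : L ≤ Y := by
        intro l hl
        have : (⟨l, hl⟩ : L) ∈ (Y ⊓ L).subgroupOf L := by rw [htop]; trivial
        rw [Subgroup.mem_subgroupOf] at this
        exact (Subgroup.mem_inf.mp this).1
      apply sup_le hLY
      rintro l' ⟨l, hl, rfl⟩
      have e : (MulAut.conj a).toMonoidHom l = l⁻¹ * (l * (a * l * a⁻¹)) := by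
        simp [MulAut.conj_apply]
      rw [e]
      exact Y.mul_mem (Y.inv_mem (hLY hl)) (hJY l hl)
    · exfalso
      have h1 : (⟨l₁ * l₂⁻¹, hcL⟩ : L) ∈ (Y ⊓ L).subgroupOf L := by
        rw [Subgroup.mem_subgroupOf]; exact Subgroup.mem_inf.mpr ⟨hcY, hcL⟩
      have h2 := hcen h1
      rw [Subgroup.mem_center_iff] at h2
      have h3 := h2 ⟨l₀, hl₀⟩
      exact hne (congrArg Subtype.val h3)

end Cfsg.Agent.S1921
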