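import Mathlib
import Cfsg.Statements.S1944
import Cfsg.Agent.Lib.Helper7.Coprime
import Cfsg.Agent.Lib.Helper7.PCore
import Cfsg.Agent.Lib.Helper3.ZJ

set_option autoImplicit false
open Cfsg

namespace Cfsg.Agent.S1944

/-- the trace map on an abelian normal subgroup -/
theorem trace_exists {Γ : Type*} [Group Γ] [Finite Γ] (A : Subgroup Γ) [hAn : A.Normal]
    (hAc : ∀ a ∈ A, ∀ b ∈ A, a * b = b * a) (T : Subgroup Γ) :
    ∃ τ : ↥A →* ↥A, (∀ a : ↥A, (∀ s ∈ T, s * (a : Γ) = (a : Γ) * s) →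
        ((τ a : ↥A) : Γ) ∈ Subgroup.center Γ) ∧
      (∀ a : ↥A, (a : Γ) ∈ Subgroup.center Γ → τ a = a ^ T.index) := by
  classical
  letI : CommGroup ↥A :=
    { (inferInstance : Group ↥A) with mul_comm := fun a b => Subtype.ext (hAc a a.2 b b.2) }
  letI : Fintype (Γ ⧸ T) := Fintype.ofFinite _
  let c : Γ → (↥A →* ↥A) := fun g =>
    { toFun := fun a => ⟨g * a * g⁻¹, hAn.conj_mem a a.2 g⟩
      map_one' := by apply Subtype.ext; simp
      map_mul' := by
        intro a b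
        apply Subtype.ext
        show g * ((a : Γ) * (b : Γ)) * g⁻¹ = (g * (a : Γ) * g⁻¹) * (g * (b : Γ) * g⁻¹)
        group }
  have hc : ∀ (g : Γ) (a : ↥A), ((c g a : ↥A) : Γ) = g * (a : Γ) * g⁻¹ := fun g a => rfl
  refine ⟨∏ q : Γ ⧸ T, c (Quotient.out q), ?_, ?_⟩
  · intro a ha
    rw [Subgroup.mem_center_iff]
    intro g
    have key : c g ((∏ q : Γ ⧸ T, c (Quotient.out q)) a) =
        (∏ q : Γ ⧸ T, c (Quotient.out q)) a := by
      rw [MonoidHom.finset_prod_apply, map_prod]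
      have h1 : ∀ q : Γ ⧸ T, c g (c (Quotient.out q) a) = c (Quotient.out (g • q)) a := by
        intro q
        apply Subtype.ext
        rw [hc, hc, hc]
        have h2 : (Quotient.out (g • q))⁻¹ * (g * Quotient.out q) ∈ T := by
          apply QuotientGroup.eq.mp
          rw [QuotientGroup.out_eq']
          conv_lhs => rw [← QuotientGroup.out_eq' q]
          rfl
        have h3 := ha _ h2
        calc g * (Quotient.out q * (a : Γ) * (Quotient.out q)⁻¹) * g⁻¹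
            = Quotient.out (g • q) * (((Quotient.out (g • q))⁻¹ * (g * Quotient.out q)) * (a : Γ))
              * ((Quotient.out (g • q))⁻¹ * (g * Quotient.out q))⁻¹ * (Quotient.out (g • q))⁻¹ := by
              group
          _ = Quotient.out (g • q) * ((a : Γ) * ((Quotient.out (g • q))⁻¹ * (g * Quotient.out q)))
              * ((Quotient.out (g • q))⁻¹ * (g * Quotient.out q))⁻¹ * (Quotient.out (g • q))⁻¹ := by
              rw [h3]
          _ = Quotient.out (g • q) * (a : Γ) * (Quotient.out (g • q))⁻¹ := by group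
      simp only [h1]
      exact Fintype.prod_equiv (MulAction.toPerm g) _ _ (fun q => rfl)
    have key' : g * (((∏ q : Γ ⧸ T, c (Quotient.out q)) a : ↥A) : Γ) * g⁻¹ =
        (((∏ q : Γ ⧸ T, c (Quotient.out q)) a : ↥A) : Γ) := congrArg Subtype.val key
    calc g * (((∏ q : Γ ⧸ T, c (Quotient.out q)) a : ↥A) : Γ)
        = (g * (((∏ q : Γ ⧸ T, c (Quotient.out q)) a : ↥A) : Γ) * g⁻¹) * g := by group
      _ = (((∏ q : Γ ⧸ T, c (Quotient.out q)) a : ↥A) : Γ) * g := by rw [key']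
  · intro a ha
    rw [MonoidHom.finset_prod_apply]
    have h1 : ∀ q : Γ ⧸ T, c (Quotient.out q) a = a := by
      intro q
      apply Subtype.ext
      rw [hc, Subgroup.mem_center_iff.mp ha (Quotient.out q)]; group
    simp only [h1, Finset.prod_const, Finset.card_univ]
    have h2 : Fintype.card (Γ ⧸ T) = T.index := by
      rw [Subgroup.index_eq_card, Nat.card_eq_fintype_card]
    rw [h2]

theorem main {G : Type*} [Group G] [Finite G] {p : ℕ} [Fact p.Prime] (S : Sylow p G)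
    (O : Subgroup G) [hOn : O.Normal] (hOc : (Nat.card O).Coprime p)
    (hZ : ∀ z ∈ (S : Subgroup G) ⊓ Subgroup.centralizer ((S : Subgroup G) : Set G),
      (QuotientGroup.mk' O z) ∈ Cfsg.pCore p (G ⧸ O)) :
    ∃ W K : Subgroup G, (∀ x : G, x ∈ W ↔ (x ∈ (S : Subgroup G) ∧
        ∀ g : G, g * x * g⁻¹ ∈ (S : Subgroup G) → g * x * g⁻¹ = x)) ∧
      K ≤ ((S : Subgroup G) ⊓ Subgroup.centralizer ((S : Subgroup G) : Set G)) ∧ W ⊓ K = ⊥ ∧
      W ⊔ K = ((S : Subgroup G) ⊓ Subgroup.centralizer ((S : Subgroup G) : Set G)) := by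
  classical
  have hp : p.Prime := Fact.out
  have hπs : Function.Surjective (QuotientGroup.mk' O) := QuotientGroup.mk'_surjective O
  haveI hPn : (Cfsg.pCore p (G ⧸ O)).Normal := Cfsg.Agent.Lib.Helper7.pCore_normal p _
  have hPp : IsPGroup p (Cfsg.pCore p (G ⧸ O)) := Cfsg.Agent.Lib.Helper7.pCore_isPGroup p _
  have hPS : Cfsg.pCore p (G ⧸ O) ≤ (S : Subgroup G).map (QuotientGroup.mk' O) := by
    have := hPp.le_sylow_of_normal (S.mapSurjective hπs)
    exact this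
  have hidx : ¬ p ∣ ((S : Subgroup G).map (QuotientGroup.mk' O)).index := by
    have := (S.mapSurjective hπs).not_dvd_index
    exact this
  -- p-elements of S in O are trivial
  have hSord : ∀ y ∈ (S : Subgroup G), ∃ k : ℕ, orderOf y = p ^ k := by
    intro y hy
    obtain ⟨k, hk⟩ := (IsPGroup.iff_orderOf.mp S.isPGroup') ⟨y, hy⟩
    exact ⟨k, by rw [← hk]; exact (Subgroup.orderOf_mk y hy).symm⟩
  have hSO : ∀ y ∈ (S : Subgroup G), y ∈ O → y = 1 := by
    intro y hy hyO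
    obtain ⟨k, hk⟩ := hSord y hy
    have h1 : orderOf y ∣ Nat.card O := Subgroup.orderOf_dvd_natCard O hyO
    have h2 : (orderOf y).Coprime p := Nat.Coprime.coprime_dvd_left h1 hOc
    rw [hk] at h2
    have h3 : (p ^ k).Coprime (p ^ k) := Nat.Coprime.pow_right k h2
    have h4 : p ^ k = 1 := (Nat.coprime_self _).mp h3
    rw [h4] at hk
    exact orderOf_eq_one_iff.mp hk
  -- A
  obtain ⟨A, hAdef⟩ : ∃ A : Subgroup (G ⧸ O), A = Cfsg.pCore p (G ⧸ O) ⊓
      Subgroup.centralizer (Cfsg.pCore p (G ⧸ O) : Set (G ⧸ O)) := ⟨_, rfl⟩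
  haveI hAn : A.Normal := by
    rw [hAdef]
    haveI : (Subgroup.centralizer (Cfsg.pCore p (G ⧸ O) : Set (G ⧸ O))).Normal := inferInstance
    infer_instance
  have hAP : A ≤ Cfsg.pCore p (G ⧸ O) := by rw [hAdef]; exact inf_le_left
  have hAc : ∀ a ∈ A, ∀ b ∈ A, a * b = b * a := by
    intro a ha b hb
    rw [hAdef, Subgroup.mem_inf] at ha hb
    exact (Subgroup.mem_centralizer_iff.mp hb.2 a ha.1)
  obtain ⟨τ, hτ1, hτ2⟩ := trace_exists A hAc ((S : Subgroup G).map (QuotientGroup.mk' O))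
  have hπZ : ∀ z ∈ (S : Subgroup G) ⊓ Subgroup.centralizer ((S : Subgroup G) : Set G),
      QuotientGroup.mk' O z ∈ A := by
    intro z hz
    rw [hAdef, Subgroup.mem_inf]
    refine ⟨hZ z hz, ?_⟩
    rw [Subgroup.mem_centralizer_iff]
    intro b hb
    obtain ⟨s, hs, rfl⟩ := hPS hb
    rw [← map_mul, ← map_mul, Subgroup.mem_centralizer_iff.mp hz.2 s hs]
  let ψ : ↥((S : Subgroup G) ⊓ Subgroup.centralizer ((S : Subgroup G) : Set G)) →* ↥A :=
    { toFun := fun z => ⟨QuotientGroup.mk' O (z : G), hπZ z z.2⟩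
      map_one' := by apply Subtype.ext; simp
      map_mul' := by intro a b; apply Subtype.ext; simp }
  have hψ : ∀ z, ((ψ z : ↥A) : G ⧸ O) = QuotientGroup.mk' O (z : G) := fun z => rfl
  -- Claims
  have claim1 : ∀ x ∈ (S : Subgroup G), QuotientGroup.mk' O x ∈ Subgroup.center (G ⧸ O) →
      ∀ g : G, g * x * g⁻¹ ∈ (S : Subgroup G) → g * x * g⁻¹ = x := by
    intro x hx hc g hg
    have h1 : g * x * g⁻¹ * x⁻¹ ∈ (S : Subgroup G) := mul_mem hg (inv_mem hx)
    have h2 : g * x * g⁻¹ * x⁻¹ ∈ O := by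
      rw [← QuotientGroup.eq_one_iff (N := O)]
      have h3 := Subgroup.mem_center_iff.mp hc (QuotientGroup.mk' O g)
      have h4 : ((g * x * g⁻¹ * x⁻¹ : G) : G ⧸ O) = (QuotientGroup.mk' O g) *
          (QuotientGroup.mk' O x) * (QuotientGroup.mk' O g)⁻¹ * (QuotientGroup.mk' O x)⁻¹ := by
        simp
      rw [h4, h3]; group
    exact mul_inv_eq_one.mp (hSO _ h1 h2)
  have claim2 : ∀ x ∈ (S : Subgroup G), (∀ g : G, g * x * g⁻¹ ∈ (S : Subgroup G) →
      g * x * g⁻¹ = x) → x ∈ Subgroup.centralizer ((S : Subgroup G) : Set G) ∧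
      QuotientGroup.mk' O x ∈ Subgroup.center (G ⧸ O) := by
    intro x hx hprop
    have hxC : x ∈ Subgroup.centralizer ((S : Subgroup G) : Set G) := by
      rw [Subgroup.mem_centralizer_iff]
      intro s hs
      have := hprop s (mul_mem (mul_mem hs hx) (inv_mem hs))
      exact mul_inv_eq_iff_eq_mul.mp this
    refine ⟨hxC, ?_⟩
    have hxP : QuotientGroup.mk' O x ∈ Cfsg.pCore p (G ⧸ O) := hZ x ⟨hx, hxC⟩
    rw [Subgroup.mem_center_iff]
    intro gb
    obtain ⟨g, rfl⟩ := hπs gb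
    -- y = g x g⁻¹
    have hyP : QuotientGroup.mk' O (g * x * g⁻¹) ∈ Cfsg.pCore p (G ⧸ O) := by
      rw [map_mul, map_mul, map_inv]
      exact hPn.conj_mem _ hxP _
    obtain ⟨s, hs, hsy⟩ := hPS hyP
    have h1 : s⁻¹ * (g * x * g⁻¹) ∈ O := QuotientGroup.eq.mp hsy
    have hSB : (S : Subgroup G) ≤ O ⊔ (S : Subgroup G) := le_sup_right
    have hyB : g * x * g⁻¹ ∈ O ⊔ (S : Subgroup G) := by
      have : g * x * g⁻¹ = s * (s⁻¹ * (g * x * g⁻¹)) := by group
      rw [this]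
      exact mul_mem (Subgroup.mem_sup_right hs) (Subgroup.mem_sup_left h1)
    -- Sylow argument in B
    have hyp : IsPGroup p (Subgroup.zpowers (⟨g * x * g⁻¹, hyB⟩ : ↥(O ⊔ (S : Subgroup G)))) := by
      obtain ⟨k, hk⟩ := hSord x hx
      apply IsPGroup.of_card (n := k)
      rw [Nat.card_zpowers, Subgroup.orderOf_mk, ← hk]
      exact (MulAut.conj g).orderOf_eq x
    obtain ⟨Q', hQ'⟩ := hyp.exists_le_sylow
    obtain ⟨b, hb⟩ := MulAction.exists_smul_eq ↥(O ⊔ (S : Subgroup G)) (S.subtype hSB) Q'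
    have h2 : (⟨g * x * g⁻¹, hyB⟩ : ↥(O ⊔ (S : Subgroup G))) ∈ (Q' : Subgroup _) :=
      hQ' (Subgroup.mem_zpowers _)
    rw [← hb, Cfsg.Agent.Lib.Helper3.mem_sylow_smul_iff, Sylow.coe_subtype,
      Subgroup.mem_subgroupOf] at h2
    have h2' : (b : G)⁻¹ * (g * x * g⁻¹) * (b : G) ∈ (S : Subgroup G) := by simpa using h2
    have hnorm : (S : Subgroup G) ≤ Subgroup.normalizer (O : Set G) := by
      rw [Subgroup.normalizer_eq_top_iff.mpr hOn]; exact le_top
    obtain ⟨o, ho, s', hs', hbo⟩ := Cfsg.Agent.Lib.Helper7.exists_mul_of_mem_sup hnorm b.2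
    have h3 : (o⁻¹ * g) * x * (o⁻¹ * g)⁻¹ ∈ (S : Subgroup G) := by
      have : (o⁻¹ * g) * x * (o⁻¹ * g)⁻¹ = s' * ((b : G)⁻¹ * (g * x * g⁻¹) * (b : G)) * s'⁻¹ := by
        rw [hbo]; group
      rw [this]
      exact mul_mem (mul_mem hs' h2') (inv_mem hs')
    have h4 := hprop _ h3
    have h5 : g * x * g⁻¹ = o * x * o⁻¹ := by
      calc g * x * g⁻¹ = o * ((o⁻¹ * g) * x * (o⁻¹ * g)⁻¹) * o⁻¹ := by group
        _ = o * x * o⁻¹ := by rw [h4]
    have h6 : QuotientGroup.mk' O (g * x * g⁻¹) = QuotientGroup.mk' O x := by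
      rw [h5, map_mul, map_mul, map_inv]
      have : QuotientGroup.mk' O o = 1 := (QuotientGroup.eq_one_iff o).mpr ho
      rw [this]; simp
    rw [map_mul, map_mul, map_inv] at h6
    exact mul_inv_eq_iff_eq_mul.mp h6
  obtain ⟨W, hWdef⟩ : ∃ W : Subgroup G, W = (S : Subgroup G) ⊓
      (Subgroup.center (G ⧸ O)).comap (QuotientGroup.mk' O) := ⟨_, rfl⟩
  have hWiff : ∀ x : G, x ∈ W ↔ (x ∈ (S : Subgroup G) ∧
      ∀ g : G, g * x * g⁻¹ ∈ (S : Subgroup G) → g * x * g⁻¹ = x) := by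
    intro x
    rw [hWdef, Subgroup.mem_inf, Subgroup.mem_comap]
    constructor
    · rintro ⟨hx, hc⟩
      exact ⟨hx, claim1 x hx hc⟩
    · rintro ⟨hx, hprop⟩
      exact ⟨hx, (claim2 x hx hprop).2⟩
  have hWZ : W ≤ (S : Subgroup G) ⊓ Subgroup.centralizer ((S : Subgroup G) : Set G) := by
    intro x hx
    obtain ⟨hxS, hprop⟩ := (hWiff x).mp hx
    exact ⟨hxS, (claim2 x hxS hprop).1⟩
  have hWS : W ≤ (S : Subgroup G) := by rw [hWdef]; exact inf_le_left
  have hWc : ∀ x ∈ W, QuotientGroup.mk' O x ∈ Subgroup.center (G ⧸ O) := by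
    intro x hx
    rw [hWdef] at hx
    exact hx.2
  refine ⟨W, (τ.comp ψ).ker.map (Subgroup.subtype _), hWiff, Subgroup.map_subtype_le _, ?_, ?_⟩
  · rw [eq_bot_iff]
    rintro x ⟨hxW, k, hk, rfl⟩
    rw [Subgroup.mem_bot]
    have hk' : τ (ψ k) = 1 := hk
    have hcen : ((ψ k : ↥A) : G ⧸ O) ∈ Subgroup.center (G ⧸ O) := hWc _ hxW
    rw [hτ2 (ψ k) hcen] at hk'
    have h1 : ((ψ k : ↥A) : G ⧸ O) ^ ((S : Subgroup G).map (QuotientGroup.mk' O)).index
        = 1 := by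
      have := congrArg Subtype.val hk'
      simpa using this
    rw [hψ] at h1
    rw [← map_pow] at h1
    have h2 : (k : G) ^ ((S : Subgroup G).map (QuotientGroup.mk' O)).index ∈ O :=
      (QuotientGroup.eq_one_iff _).mp h1
    have hkS : (k : G) ∈ (S : Subgroup G) := k.2.1
    have h3 := hSO _ (Subgroup.pow_mem _ hkS _) h2
    obtain ⟨e, he⟩ := hSord _ hkS
    have h4 : orderOf (k : G) ∣ ((S : Subgroup G).map (QuotientGroup.mk' O)).index :=
      orderOf_dvd_of_pow_eq_one h3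
    have h5 : (orderOf (k : G)).Coprime (p ^ e) :=
      Nat.Coprime.pow_right e (Nat.Coprime.coprime_dvd_left h4
        ((Nat.Prime.coprime_iff_not_dvd hp).mpr hidx).symm)
    rw [he] at h5
    have h6 : p ^ e = 1 := (Nat.coprime_self _).mp h5
    rw [h6] at he
    exact orderOf_eq_one_iff.mp he
  · apply le_antisymm (sup_le hWZ (Subgroup.map_subtype_le _))
    intro z hz
    obtain ⟨t, htdef⟩ : ∃ t : ↥A, t = τ (ψ ⟨z, hz⟩) := ⟨_, rfl⟩
    have htc : (t : G ⧸ O) ∈ Subgroup.center (G ⧸ O) := by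
      rw [htdef]
      apply hτ1
      rintro _ ⟨s, hs, rfl⟩
      rw [hψ]
      show QuotientGroup.mk' O s * QuotientGroup.mk' O z = QuotientGroup.mk' O z * QuotientGroup.mk' O s
      rw [← map_mul, ← map_mul, Subgroup.mem_centralizer_iff.mp hz.2 s hs]
    obtain ⟨s₀, hs₀, hs₀t⟩ := hPS (hAP t.2)
    obtain ⟨e, he⟩ := hSord s₀ hs₀
    have hcop : (((S : Subgroup G).map (QuotientGroup.mk' O)).index).Coprime (orderOf s₀) := by
      rw [he]
      exact Nat.Coprime.pow_right e ((Nat.Prime.coprime_iff_not_dvd hp).mpr hidx).symm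
    obtain ⟨j, hj⟩ := exists_pow_eq_self_of_coprime hcop
    have hwS : s₀ ^ j ∈ (S : Subgroup G) := Subgroup.pow_mem _ hs₀ _
    have hwc : QuotientGroup.mk' O (s₀ ^ j) ∈ Subgroup.center (G ⧸ O) := by
      rw [map_pow, hs₀t]; exact Subgroup.pow_mem _ htc _
    have hwW : s₀ ^ j ∈ W := by rw [hWdef]; exact ⟨hwS, hwc⟩
    have hwZ := hWZ hwW
    have h1 : τ (ψ ⟨s₀ ^ j, hwZ⟩) = t := by
      rw [hτ2 _ (by rw [hψ]; exact hwc)]
      apply Subtype.ext
      rw [Subgroup.coe_pow, hψ]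
      show (QuotientGroup.mk' O (s₀ ^ j)) ^ _ = (t : G ⧸ O)
      rw [← map_pow, ← pow_mul, mul_comm, pow_mul, hj, hs₀t]
    have h2 : (⟨s₀ ^ j, hwZ⟩ : ↥((S : Subgroup G) ⊓ Subgroup.centralizer
        ((S : Subgroup G) : Set G)))⁻¹ * ⟨z, hz⟩ ∈ (τ.comp ψ).ker := by
      rw [MonoidHom.mem_ker, MonoidHom.comp_apply, map_mul, map_mul, map_inv, map_inv, h1, ← htdef]
      exact inv_mul_cancel t
    have h3 : z = s₀ ^ j * ((s₀ ^ j)⁻¹ * z) := by group
    rw [h3]
    exact mul_mem (Subgroup.mem_sup_left hwW) (Subgroup.mem_sup_right ⟨_, h2, rfl⟩)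

/-- Let S be a Sylow p-subgroup of the finite group G and suppose that the centre Z(S) lies in O_{p',p}(G). The elements of S each of which is its only G-conjugate in S form a subgroup W of Z(S); W is then a direct factor of Z(S): there is a subgroup K of Z(S) with W ∩ K = 1 and WK = Z(S). -/
theorem result {G : Type*} [Group G] [Finite G] {p : ℕ} [Fact p.Prime] (S : Sylow p G)
    (hZ : ((S : Subgroup G) ⊓ Subgroup.centralizer ((S : Subgroup G) : Set G)) ≤ Cfsg.pPrimePCore p G) :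
    ∃ W K : Subgroup G, (∀ x : G, x ∈ W ↔ (x ∈ (S : Subgroup G) ∧ ∀ g : G, g * x * g⁻¹ ∈ (S : Subgroup G) → g * x * g⁻¹ = x)) ∧
      K ≤ ((S : Subgroup G) ⊓ Subgroup.centralizer ((S : Subgroup G) : Set G)) ∧ W ⊓ K = ⊥ ∧ W ⊔ K = ((S : Subgroup G) ⊓ Subgroup.centralizer ((S : Subgroup G) : Set G)) := by
  exact main S (Cfsg.pPrimeCore p G) (Cfsg.Agent.Lib.Helper7.pPrimeCore_coprime p G)
    (fun z hz => hZ hz)

end Cfsg.Agent.S1944
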