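import Mathlib
import Cfsg.Statements.S2173
import Cfsg.Agent.S2171

set_option autoImplicit false
open Cfsg

namespace Cfsg.Agent.S2173

open Matrix
open Cfsg.Agent.S5754 (rfl0 rfl0_apply rfl0_invol rfl0_iso)
open Cfsg.Agent.S0792 (app)
open Cfsg.Agent.S2630 (Act act_list act_mul even_mem_gen odd_not_mem setup_of)
open Cfsg.Agent.S2628 (mem_iso_iff exists_invol)

section abs
variable {F V : Type*} [Field F] [AddCommGroup V] [Module F V] [FiniteDimensional F V]
  (Q : QuadraticForm F V)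

theorem fix_nonsing (h2 : (2 : F) = 0) (hQ : (QuadraticMap.polarBilin Q).Nondegenerate) (m : ℕ)
    (hV : Module.finrank F V = 2 * m)
    (hno : ∀ U : Submodule F V, Module.finrank F U = m → ¬ (∀ x ∈ U, Q x = 0))
    (t : V →ₗ[F] V) (ht2 : ∀ x, t (t x) = x) : ∃ d, t d = d ∧ Q d ≠ 0 := by
  by_contra hcon
  push Not at hcon
  have hset := setup_of Q hQ m hV
  have hts : ∀ x ∈ Cfsg.Agent.S0789.fixS t, Q x = 0 := fun x hx =>
    hcon x ((Cfsg.Agent.S0789.mem_fixS t x).1 hx)
  have hle : LinearMap.range (t - LinearMap.id) ≤ Cfsg.Agent.S0789.fixS t := by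
    rintro _ ⟨x, rfl⟩
    rw [Cfsg.Agent.S0789.mem_fixS]
    show t (t x - x) = t x - x
    rw [map_sub, ht2]
    have h3 : x - t x - (t x - x) = (2 : F) • (x - t x) := by rw [two_smul]; abel
    rw [← sub_eq_zero, h3, h2, zero_smul]
  have h1 := LinearMap.finrank_range_add_finrank_ker (t - LinearMap.id)
  have h3 := Submodule.finrank_mono hle
  have h4 := Cfsg.Agent.S0831.ts_finrank_le hset hts
  have h5 : Module.finrank F (Cfsg.Agent.S0789.fixS t) =
      Module.finrank F (LinearMap.ker (t - LinearMap.id)) := rfl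
  exact hno (Cfsg.Agent.S0789.fixS t) (by omega) hts

end abs

section gen
variable {F : Type*} [Field F] {ι : Type} [Fintype ι] [DecidableEq ι]
  (Q : QuadraticForm F (ι → F))

theorem conj_in_omega [Finite F] [CharP F 2] (hQ : (QuadraticMap.polarBilin Q).Nondegenerate)
    (hc : (∃ s : F, s ≠ 0 ∧ s ≠ 1) ∨ Module.finrank F (ι → F) ≠ 4) (m : ℕ)
    (hV : Module.finrank F (ι → F) = 2 * m)
    (hno : ∀ U : Submodule F (ι → F), Module.finrank F U = m → ¬ (∀ x ∈ U, Q x = 0))
    (t s : ↥(Cfsg.isometryGroup F ⇑Q)) (ht : t * t = 1) (hconj : IsConj t s) :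
    ∃ g ∈ commutator ↥(Cfsg.isometryGroup F ⇑Q), g * t * g⁻¹ = s := by
  have h2 : (2 : F) = 0 := by
    have h3 := CharP.cast_eq_zero F 2
    exact_mod_cast h3
  obtain ⟨g, hg⟩ := isConj_iff.1 hconj
  by_cases hgΩ : g ∈ commutator ↥(Cfsg.isometryGroup F ⇑Q)
  · exact ⟨g, hgΩ, hg⟩
  have hiso := (mem_iso_iff ⇑Q t.1).1 t.2
  obtain ⟨d, htd, hQd⟩ := fix_nonsing Q h2 hQ m hV hno
    (Matrix.toLin' ((t : Matrix.GeneralLinearGroup ι F) : Matrix ι ι F)) (fun x => by
      rw [Matrix.toLin'_apply, Matrix.toLin'_apply, Matrix.mulVec_mulVec, ← Units.val_mul,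
        ← Subgroup.coe_mul, ht]
      show (1 : Matrix ι ι F) *ᵥ x = x
      rw [Matrix.one_mulVec])
  rw [Matrix.toLin'_apply] at htd
  obtain ⟨r, hr2, hr⟩ := exists_invol ⇑Q (rfl0 Q d) (rfl0_invol Q d hQd) (rfl0_iso Q d hQd)
  have hract : Act Q r [d] := fun x => hr x
  have hcomm : t * r = r * t := by
    apply Subtype.ext
    apply Units.ext
    rw [Subgroup.coe_mul, Units.val_mul, Subgroup.coe_mul, Units.val_mul]
    apply Cfsg.Agent.Lib.Helper5.matrix_ext_mulVec
    intro x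
    rw [← Matrix.mulVec_mulVec, ← Matrix.mulVec_mulVec, hr, hr, rfl0_apply, rfl0_apply,
      Matrix.mulVec_sub, Matrix.mulVec_smul, htd]
    have hpol : QuadraticMap.polar Q d
        (((t : Matrix.GeneralLinearGroup ι F) : Matrix ι ι F) *ᵥ x) = QuadraticMap.polar Q d x := by
      have h3 : QuadraticMap.polar Q (((t : Matrix.GeneralLinearGroup ι F) : Matrix ι ι F) *ᵥ d)
          (((t : Matrix.GeneralLinearGroup ι F) : Matrix ι ι F) *ᵥ x) = QuadraticMap.polar Q d x := by
        unfold QuadraticMap.polar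
        rw [← Matrix.mulVec_add, hiso, hiso, hiso]
      rwa [htd] at h3
    rw [hpol]
  obtain ⟨l, hl, hact⟩ := act_list Q h2 hQ hc g
  obtain ⟨k, hk | hk⟩ := Nat.even_or_odd' l.length
  · exact absurd (even_mem_gen Q hQ k l hk hl g hact) hgΩ
  · refine ⟨g * r, ?_, ?_⟩
    · refine even_mem_gen Q hQ (k + 1) (l ++ [d]) ?_ ?_ (g * r) (act_mul Q g r l [d] hact hract)
      · simp only [List.length_append, List.length_singleton, hk]; omega
      · intro d' hd'
        rcases List.mem_append.1 hd' with h | h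
        · exact hl d' h
        · rw [List.mem_singleton.1 h]; exact hQd
    · rw [← hg, _root_.mul_inv_rev, mul_assoc g r t, ← hcomm]
      group

end gen

theorem no_ts_minus {F : Type*} [Field F] (k : ℕ) (c d : F)
    (hcd : ∀ z₁ z₂ : F, z₁ ^ 2 + c * z₁ * z₂ + d * z₂ ^ 2 = 0 → z₁ = 0 ∧ z₂ = 0)
    (Qm : QuadraticForm F ((Fin k ⊕ Fin k) ⊕ Fin 2 → F))
    (hfun : ⇑Qm = Cfsg.quadFormMinus k F c d)
    (hnd : (QuadraticMap.polarBilin Qm).Nondegenerate) :
    ∀ U : Submodule F ((Fin k ⊕ Fin k) ⊕ Fin 2 → F), Module.finrank F U = k + 1 →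
      ¬ (∀ x ∈ U, Qm x = 0) := by
  classical
  intro U hUf hU
  have hV : Module.finrank F ((Fin k ⊕ Fin k) ⊕ Fin 2 → F) = 2 * (k + 1) := by
    rw [Module.finrank_fintype_fun_eq_card]
    simp only [Fintype.card_sum, Fintype.card_fin]
    omega
  have hset := setup_of Qm hnd (k + 1) hV
  obtain ⟨π, hπ⟩ : ∃ π : ((Fin k ⊕ Fin k) ⊕ Fin 2 → F) →ₗ[F] (Fin k ⊕ Fin 2 → F),
      π = LinearMap.funLeft F F (Sum.map Sum.inr id) := ⟨_, rfl⟩
  have hπl : ∀ w i, π w (Sum.inl i) = w (Sum.inl (Sum.inr i)) := by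
    intro w i; rw [hπ]; rfl
  have hπr : ∀ w j, π w (Sum.inr j) = w (Sum.inr j) := by
    intro w j; rw [hπ]; rfl
  have hsurj : LinearMap.range π = ⊤ := by
    rw [LinearMap.range_eq_top]
    intro x
    refine ⟨Sum.elim (Sum.elim 0 (fun i => x (Sum.inl i))) (fun j => x (Sum.inr j)), ?_⟩
    funext j
    rcases j with i | j
    · rw [hπl]; rfl
    · rw [hπr]; rfl
  have hXf : Module.finrank F (LinearMap.ker π) = k := by
    have h3 := LinearMap.finrank_range_add_finrank_ker π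
    rw [hsurj, finrank_top, Module.finrank_fintype_fun_eq_card, hV] at h3
    simp only [Fintype.card_sum, Fintype.card_fin] at h3
    omega
  have hQ0 : ∀ w ∈ LinearMap.ker π, ∀ w' : (Fin k ⊕ Fin k) ⊕ Fin 2 → F,
      Cfsg.quadFormMinus k F c d (w' + w) = Cfsg.quadFormMinus k F c d w' +
        ∑ i, w (Sum.inl (Sum.inl i)) * w' (Sum.inl (Sum.inr i)) := by
    intro w hw w'
    rw [LinearMap.mem_ker] at hw
    have h1 : ∀ i, w (Sum.inl (Sum.inr i)) = 0 := fun i => by rw [← hπl w i, hw]; rfl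
    have h2 : ∀ j, w (Sum.inr j) = 0 := fun j => by rw [← hπr w j, hw]; rfl
    simp only [Cfsg.quadFormMinus, Pi.add_apply, h1, h2, add_zero]
    have h3 : ∑ i, (w' (Sum.inl (Sum.inl i)) + w (Sum.inl (Sum.inl i))) * w' (Sum.inl (Sum.inr i)) =
        ∑ i, w' (Sum.inl (Sum.inl i)) * w' (Sum.inl (Sum.inr i)) +
          ∑ i, w (Sum.inl (Sum.inl i)) * w' (Sum.inl (Sum.inr i)) := by
      rw [← Finset.sum_add_distrib]
      exact Finset.sum_congr rfl (fun i _ => by ring)
    rw [h3]; ring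
  have hperp : ∀ w ∈ LinearMap.BilinForm.orthogonal (QuadraticMap.polarBilin Qm) (LinearMap.ker π),
      Qm w = 0 → w ∈ LinearMap.ker π := by
    intro w hw hQw
    have hy : ∀ i, w (Sum.inl (Sum.inr i)) = 0 := by
      intro i
      have hx : (Pi.single (Sum.inl (Sum.inl i)) 1 : (Fin k ⊕ Fin k) ⊕ Fin 2 → F) ∈
          LinearMap.ker π := by
        rw [LinearMap.mem_ker]
        funext j
        rcases j with j | j
        · rw [hπl]; simp
        · rw [hπr]; simp
      have h0 : QuadraticMap.polar (⇑Qm)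
          (Pi.single (Sum.inl (Sum.inl i)) 1 : (Fin k ⊕ Fin k) ⊕ Fin 2 → F) w = 0 := hw _ hx
      unfold QuadraticMap.polar at h0
      rw [hfun, add_comm (Pi.single (Sum.inl (Sum.inl i)) 1 : (Fin k ⊕ Fin k) ⊕ Fin 2 → F) w,
        hQ0 _ hx w] at h0
      have hx0 : Cfsg.quadFormMinus k F c d
          (Pi.single (Sum.inl (Sum.inl i)) 1 : (Fin k ⊕ Fin k) ⊕ Fin 2 → F) = 0 := by
        have h4 := hQ0 _ hx 0
        rw [zero_add] at h4
        rw [h4]; simp [Cfsg.quadFormMinus]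
      rw [hx0] at h0
      simpa [Pi.single_apply] using h0
    have hz : w (Sum.inr 0) = 0 ∧ w (Sum.inr 1) = 0 := by
      apply hcd
      have h4 := hQw
      rw [hfun] at h4
      simp only [Cfsg.quadFormMinus, hy, mul_zero, Finset.sum_const_zero, zero_add] at h4
      exact h4
    rw [LinearMap.mem_ker]
    funext j
    rcases j with j | j
    · rw [hπl]; exact hy j
    · rw [hπr]
      fin_cases j
      · exact hz.1
      · exact hz.2
  have hdf := Cfsg.Agent.S0831.dim_formula hset hUf hU (LinearMap.ker π)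
  have hle : U ⊓ LinearMap.BilinForm.orthogonal (QuadraticMap.polarBilin Qm) (LinearMap.ker π) ≤
      U ⊓ LinearMap.ker π := by
    intro w hw
    obtain ⟨hwU, hwP⟩ := Submodule.mem_inf.1 hw
    exact Submodule.mem_inf.2 ⟨hwU, hperp w hwP (hU w hwU)⟩
  have h3 := Submodule.finrank_mono hle
  omega

/-- For the quadratic form Σ x_i y_i + (z₁² + c z₁ z₂ + d z₂²) in dimension 2m with anisotropic binary part over a finite field F of characteristic two, m ≥ 4 (minus type): two involutions of the commutator subgroup Ω that are conjugate in the full isometry group O are conjugate by an element of Ω (no class of involutions of O inside Ω splits). -/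
theorem result {F : Type*} [Field F] [Fintype F] [CharP F 2] {m : ℕ} (hm : 4 ≤ m) (c d : F) (hcd : ∀ z₁ z₂ : F, z₁ ^ 2 + c * z₁ * z₂ + d * z₂ ^ 2 = 0 → z₁ = 0 ∧ z₂ = 0) (t s : ↥(Cfsg.isometryGroup F (Cfsg.quadFormMinus (m - 1) F c d))) (ht : orderOf t = 2) (hs : orderOf s = 2) (htO : t ∈ Cfsg.Omega F (Cfsg.quadFormMinus (m - 1) F c d)) (hsO : s ∈ Cfsg.Omega F (Cfsg.quadFormMinus (m - 1) F c d)) (hconj : IsConj t s) :
    ∃ g ∈ Cfsg.Omega F (Cfsg.quadFormMinus (m - 1) F c d), g * t * g⁻¹ = s := by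
  classical
  obtain ⟨Qm, hfun, hQmnd⟩ := Cfsg.Agent.S2171.exists_Qm (F := F) (m - 1) c d hcd
  have hV : Module.finrank F ((Fin (m - 1) ⊕ Fin (m - 1)) ⊕ Fin 2 → F) = 2 * m := by
    rw [Module.finrank_fintype_fun_eq_card, Fintype.card_sum, Fintype.card_sum, Fintype.card_fin,
      Fintype.card_fin]
    omega
  have hno := no_ts_minus (m - 1) c d hcd Qm hfun hQmnd
  revert t s
  rw [← hfun]
  intro t s ht hs htO hsO hconj
  have ht2 : t * t = 1 := by
    have h3 := pow_orderOf_eq_one t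
    rw [ht, pow_two] at h3
    exact h3
  exact conj_in_omega Qm hQmnd (Or.inr (by rw [hV]; omega)) m hV
    (fun U hU => hno U (by omega)) t s ht2 hconj

end Cfsg.Agent.S2173
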