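import Mathlib
import Cfsg.Statements.S2172
import Cfsg.Agent.S2173

set_option autoImplicit false
open Cfsg

namespace Cfsg.Agent.S2172

open Matrix
open Cfsg.Agent.S5754 (rfl0 rfl0_apply rfl0_invol rfl0_iso)
open Cfsg.Agent.S0792 (app)
open Cfsg.Agent.S0786 (appL appL_apply)
open Cfsg.Agent.S2630 (Act act_list act_mul even_mem_gen odd_not_mem setup_of class_parity)
open Cfsg.Agent.S2628 (mem_iso_iff exists_invol)

section abs
variable {F V : Type*} [Field F] [AddCommGroup V] [Module F V] [FiniteDimensional F V]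
  (Q : QuadraticForm F V)

theorem special_of_no_fix (h2 : (2 : F) = 0) (hQ : (QuadraticMap.polarBilin Q).Nondegenerate)
    (m : ℕ) (hV : Module.finrank F V = 2 * m) (t : V →ₗ[F] V) (ht2 : ∀ x, t (t x) = x)
    (hcon : ∀ d, t d = d → Q d = 0) :
    Module.finrank F (LinearMap.range (t - LinearMap.id)) = m ∧ ∀ v, Q (v + t v) = 0 := by
  have hset := setup_of Q hQ m hV
  have hts : ∀ x ∈ Cfsg.Agent.S0789.fixS t, Q x = 0 := fun x hx =>
    hcon x ((Cfsg.Agent.S0789.mem_fixS t x).1 hx)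
  have hle : LinearMap.range (t - LinearMap.id) ≤ Cfsg.Agent.S0789.fixS t := by
    rintro _ ⟨x, rfl⟩
    rw [Cfsg.Agent.S0789.mem_fixS]
    show t (t x - x) = t x - x
    rw [map_sub, ht2]
    have h3 : x - t x - (t x - x) = (2 : F) • (x - t x) := by rw [two_smul]; abel
    rw [← sub_eq_zero, h3, h2, zero_smul]
  have h1 := LinearMap.finrank_range_add_finrank_ker (t - LinearMap.id)
  have h3 := Submodule.finrank_mono hle
  have h4 := Cfsg.Agent.S0831.ts_finrank_le hset hts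
  have h5 : Module.finrank F (Cfsg.Agent.S0789.fixS t) =
      Module.finrank F (LinearMap.ker (t - LinearMap.id)) := rfl
  exact ⟨by omega, fun v => hcon _ (by rw [map_add, ht2, add_comm])⟩

end abs

section gen
variable {F : Type*} [Field F] {ι : Type} [Fintype ι] [DecidableEq ι]
  (Q : QuadraticForm F (ι → F))

theorem conj_of_fix [Finite F] [CharP F 2] (hQ : (QuadraticMap.polarBilin Q).Nondegenerate)
    (hc : (∃ s : F, s ≠ 0 ∧ s ≠ 1) ∨ Module.finrank F (ι → F) ≠ 4)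
    (t s : ↥(Cfsg.isometryGroup F ⇑Q)) (hconj : IsConj t s) (d : ι → F)
    (htd : t.1.1 *ᵥ d = d) (hQd : Q d ≠ 0) :
    ∃ g ∈ commutator ↥(Cfsg.isometryGroup F ⇑Q), g * t * g⁻¹ = s := by
  have h2 : (2 : F) = 0 := by
    have h3 := CharP.cast_eq_zero F 2
    exact_mod_cast h3
  obtain ⟨g, hg⟩ := isConj_iff.1 hconj
  by_cases hgΩ : g ∈ commutator ↥(Cfsg.isometryGroup F ⇑Q)
  · exact ⟨g, hgΩ, hg⟩
  have hiso := (mem_iso_iff ⇑Q t.1).1 t.2
  obtain ⟨r, hr2, hr⟩ := exists_invol ⇑Q (rfl0 Q d) (rfl0_invol Q d hQd) (rfl0_iso Q d hQd)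
  have hract : Act Q r [d] := fun x => hr x
  have hcomm : t * r = r * t := by
    apply Subtype.ext
    apply Units.ext
    rw [Subgroup.coe_mul, Units.val_mul, Subgroup.coe_mul, Units.val_mul]
    apply Cfsg.Agent.Lib.Helper5.matrix_ext_mulVec
    intro x
    rw [← Matrix.mulVec_mulVec, ← Matrix.mulVec_mulVec, hr, hr, rfl0_apply, rfl0_apply,
      Matrix.mulVec_sub, Matrix.mulVec_smul, htd]
    have hpol : QuadraticMap.polar Q d (t.1.1 *ᵥ x) = QuadraticMap.polar Q d x := by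
      have h3 : QuadraticMap.polar Q (t.1.1 *ᵥ d) (t.1.1 *ᵥ x) = QuadraticMap.polar Q d x := by
        unfold QuadraticMap.polar
        rw [← Matrix.mulVec_add, hiso, hiso, hiso]
      rwa [htd] at h3
    rw [hpol]
  obtain ⟨l, hl, hact⟩ := act_list Q h2 hQ hc g
  obtain ⟨k, hk | hk⟩ := Nat.even_or_odd' l.length
  · exact absurd (even_mem_gen Q hQ k l hk hl g hact) hgΩ
  · refine ⟨g * r, ?_, ?_⟩
    · refine even_mem_gen Q hQ (k + 1) (l ++ [d]) ?_ ?_ (g * r) (act_mul Q g r l [d] hact hract)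
      · simp only [List.length_append, List.length_singleton, hk]; omega
      · intro d' hd'
        rcases List.mem_append.1 hd' with h | h
        · exact hl d' h
        · rw [List.mem_singleton.1 h]; exact hQd
    · rw [← hg, _root_.mul_inv_rev, mul_assoc g r t, ← hcomm]
      group

theorem conj_of_not [Finite F] [CharP F 2] (hQ : (QuadraticMap.polarBilin Q).Nondegenerate)
    (hc : (∃ s : F, s ≠ 0 ∧ s ≠ 1) ∨ Module.finrank F (ι → F) ≠ 4) (m : ℕ)
    (hV : Module.finrank F (ι → F) = 2 * m)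
    (t s : ↥(Cfsg.isometryGroup F ⇑Q)) (ht : t * t = 1) (hconj : IsConj t s)
    (hnot : ¬ ((t.1.1 - 1).rank = m ∧ ∀ v : ι → F, Q (v + t.1.1 *ᵥ v) = 0)) :
    ∃ g ∈ commutator ↥(Cfsg.isometryGroup F ⇑Q), g * t * g⁻¹ = s := by
  have h2 : (2 : F) = 0 := by
    have h3 := CharP.cast_eq_zero F 2
    exact_mod_cast h3
  have hfix : ∃ d, t.1.1 *ᵥ d = d ∧ Q d ≠ 0 := by
    by_contra hcon
    push Not at hcon
    apply hnot
    obtain ⟨hr, hs⟩ := special_of_no_fix Q h2 hQ m hV (Matrix.toLin' t.1.1) (fun x => by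
      rw [Matrix.toLin'_apply, Matrix.toLin'_apply, Matrix.mulVec_mulVec, ← Units.val_mul,
        ← Subgroup.coe_mul, ht]
      show (1 : Matrix ι ι F) *ᵥ x = x
      rw [Matrix.one_mulVec]) (fun d hd => hcon d (by rwa [Matrix.toLin'_apply] at hd))
    have hlin : (t.1.1 - 1).mulVecLin = Matrix.toLin' t.1.1 - LinearMap.id := by
      apply LinearMap.ext
      intro x
      rw [Matrix.mulVecLin_apply, Matrix.sub_mulVec, Matrix.one_mulVec, LinearMap.sub_apply,
        LinearMap.id_apply, Matrix.toLin'_apply]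
    refine ⟨?_, fun v => ?_⟩
    · rw [← hr, ← hlin]; rfl
    · have h3 := hs v
      rwa [Matrix.toLin'_apply] at h3
  obtain ⟨d, htd, hQd⟩ := hfix
  exact conj_of_fix Q hQ hc t s hconj d htd hQd

theorem split_iff [Finite F] [CharP F 2] (hQ : (QuadraticMap.polarBilin Q).Nondegenerate)
    (hc : (∃ s : F, s ≠ 0 ∧ s ≠ 1) ∨ Module.finrank F (ι → F) ≠ 4) (m : ℕ)
    (hV : Module.finrank F (ι → F) = 2 * m)
    (t s : ↥(Cfsg.isometryGroup F ⇑Q)) (htO : t ∈ commutator ↥(Cfsg.isometryGroup F ⇑Q))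
    (hconj : IsConj t s) (hrk : (t.1.1 - 1).rank = m)
    (hsing : ∀ v : ι → F, Q (v + t.1.1 *ᵥ v) = 0) :
    (∃ g ∈ commutator ↥(Cfsg.isometryGroup F ⇑Q), g * t * g⁻¹ = s) ↔
      Even (Module.finrank F ↥(LinearMap.range (Matrix.toLin' (t.1.1 - 1)) ⊓
        LinearMap.range (Matrix.toLin' (s.1.1 - 1)))) := by
  have h2 : (2 : F) = 0 := by
    have h3 := CharP.cast_eq_zero F 2
    exact_mod_cast h3
  have hm : m % 2 = 0 := by
    have h3 := (Cfsg.Agent.S2169.omega_iff_rank Q hQ hc (by rw [hV]; omega) t).1 htO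
    rw [hrk, Nat.even_iff] at h3
    exact h3
  obtain ⟨Ut, hUt⟩ : ∃ Ut : Submodule F (ι → F),
      Ut = LinearMap.range (Matrix.toLin' (t.1.1 - 1)) := ⟨_, rfl⟩
  have hUtf : Module.finrank F Ut = m := by
    rw [hUt, ← hrk]; rfl
  have hUts : ∀ x ∈ Ut, Q x = 0 := by
    intro x hx
    rw [hUt] at hx
    obtain ⟨v, rfl⟩ := hx
    rw [Matrix.toLin'_apply, Matrix.sub_mulVec, Matrix.one_mulVec]
    have h3 : v + v = 0 := by rw [← two_smul F v, h2, zero_smul]
    have e : t.1.1 *ᵥ v - v = v + t.1.1 *ᵥ v := by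
      rw [sub_eq_add_neg, neg_eq_of_add_eq_zero_left h3, add_comm]
    rw [e]; exact hsing v
  have hrange : ∀ g : ↥(Cfsg.isometryGroup F ⇑Q), g * t * g⁻¹ = s →
      LinearMap.range (Matrix.toLin' (s.1.1 - 1)) = Ut.map (Matrix.toLin' g.1.1) := by
    intro g hg
    have hsm : s.1.1 = g.1.1 * t.1.1 * (g⁻¹).1.1 := by rw [← hg]; rfl
    have hgi : g.1.1 * (g⁻¹).1.1 = 1 := by
      rw [← Units.val_mul, ← Subgroup.coe_mul, mul_inv_cancel]; rfl
    have hgi' : (g⁻¹).1.1 * g.1.1 = 1 := by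
      rw [← Units.val_mul, ← Subgroup.coe_mul, inv_mul_cancel]; rfl
    have key : ∀ v, (s.1.1 - 1) *ᵥ v = g.1.1 *ᵥ ((t.1.1 - 1) *ᵥ ((g⁻¹).1.1 *ᵥ v)) := by
      intro v
      rw [Matrix.mulVec_mulVec, Matrix.mulVec_mulVec, hsm]
      congr 1
      rw [Matrix.mul_sub, Matrix.sub_mul, Matrix.mul_one, hgi]
    apply le_antisymm
    · rintro _ ⟨v, rfl⟩
      rw [Matrix.toLin'_apply, key]
      refine Submodule.mem_map.2 ⟨(t.1.1 - 1) *ᵥ ((g⁻¹).1.1 *ᵥ v), ?_, ?_⟩
      · rw [hUt]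
        exact ⟨(g⁻¹).1.1 *ᵥ v, by rw [Matrix.toLin'_apply]⟩
      · rw [Matrix.toLin'_apply]
    · rintro _ ⟨x, hx, rfl⟩
      rw [hUt] at hx
      obtain ⟨w, rfl⟩ := hx
      refine ⟨g.1.1 *ᵥ w, ?_⟩
      rw [Matrix.toLin'_apply, key, Matrix.mulVec_mulVec w (g⁻¹).1.1 g.1.1, hgi',
        Matrix.one_mulVec, Matrix.toLin'_apply, Matrix.toLin'_apply]
  have hpar : ∀ (g : ↥(Cfsg.isometryGroup F ⇑Q)) (l : List (ι → F)), (∀ d ∈ l, Q d ≠ 0) →
      Act Q g l → g * t * g⁻¹ = s →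
      (Module.finrank F ↥(Ut ⊓ LinearMap.range (Matrix.toLin' (s.1.1 - 1))) + l.length) % 2 = 0 := by
    intro g l hl hact hg
    have hmap : Matrix.toLin' g.1.1 = appL Q l := by
      apply LinearMap.ext
      intro x
      rw [Matrix.toLin'_apply, hact x, appL_apply]
    rw [hrange g hg, hmap, ← hm]
    exact (class_parity Q hQ m hV Ut hUtf hUts l hl).1
  rw [← hUt]
  constructor
  · rintro ⟨g, hgΩ, hg⟩
    obtain ⟨l, hl, hact⟩ := act_list Q h2 hQ hc g
    have h3 := hpar g l hl hact hg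
    obtain ⟨k, hk | hk⟩ := Nat.even_or_odd' l.length
    · rw [Nat.even_iff]; omega
    · exact absurd hgΩ (odd_not_mem Q h2 hQ hc g l hl (by omega) hact)
  · intro he
    obtain ⟨g, hg⟩ := isConj_iff.1 hconj
    obtain ⟨l, hl, hact⟩ := act_list Q h2 hQ hc g
    have h3 := hpar g l hl hact hg
    rw [Nat.even_iff] at he
    obtain ⟨k, hk | hk⟩ := Nat.even_or_odd' l.length
    · exact ⟨g, even_mem_gen Q hQ k l hk hl g hact, hg⟩
    · exfalso; omega

end gen

/-- Splitting of involution classes from O to Ω for the hyperbolic quadratic form Q = Σ x_i y_i in dimension 2m over a finite field F of characteristic two, m ≥ 4. Let t, s be involutions of the commutator subgroup Ω that are conjugate in the full isometry group O. If it is not the case that t − 1 has rank m and Q(v + t v) = 0 for every vector v, then t and s are conjugate by an element of Ω. If t − 1 has rank m and Q(v + t v) = 0 for all v, then t and s are conjugate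 by an element of Ω exactly when the intersection of the images of t − 1 and s − 1 has even dimension (so the class of t in O meets at most two classes of Ω). -/
theorem result {F : Type*} [Field F] [Fintype F] [CharP F 2] {m : ℕ} (hm : 4 ≤ m) (t s : ↥(Cfsg.isometryGroup F (Cfsg.quadFormPlus m F))) (ht : orderOf t = 2) (hs : orderOf s = 2) (htO : t ∈ Cfsg.Omega F (Cfsg.quadFormPlus m F)) (hsO : s ∈ Cfsg.Omega F (Cfsg.quadFormPlus m F)) (hconj : IsConj t s) :
    (¬ (((((t : ↥(Cfsg.isometryGroup F (Cfsg.quadFormPlus m F))) : GL (Fin m ⊕ Fin m) F) : Matrix (Fin m ⊕ Fin m) (Fin m ⊕ Fin m) F) - 1).rank = m ∧ ∀ v : Fin m ⊕ Fin m → F, Cfsg.quadFormPlus m F (v + Matrix.mulVec (((t : ↥(Cfsg.isometryGroup F (Cfsg.quadFormPlus m F))) : GL (Fin m ⊕ Fin m) F) : Matrix (Fin m ⊕ Fin m) (Fin m ⊕ Fin m) F) v) = 0) →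
      ∃ g ∈ Cfsg.Omega F (Cfsg.quadFormPlus m F), g * t * g⁻¹ = s) ∧
    ((((((t : ↥(Cfsg.isometryGroup F (Cfsg.quadFormPlus m F))) : GL (Fin m ⊕ Fin m) F) : Matrix (Fin m ⊕ Fin m) (Fin m ⊕ Fin m) F) - 1).rank = m ∧ ∀ v : Fin m ⊕ Fin m → F, Cfsg.quadFormPlus m F (v + Matrix.mulVec (((t : ↥(Cfsg.isometryGroup F (Cfsg.quadFormPlus m F))) : GL (Fin m ⊕ Fin m) F) : Matrix (Fin m ⊕ Fin m) (Fin m ⊕ Fin m) F) v) = 0) →
      ((∃ g ∈ Cfsg.Omega F (Cfsg.quadFormPlus m F), g * t * g⁻¹ = s) ↔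
        Even (Module.finrank F ↥(LinearMap.range (Matrix.toLin' ((((t : ↥(Cfsg.isometryGroup F (Cfsg.quadFormPlus m F))) : GL (Fin m ⊕ Fin m) F) : Matrix (Fin m ⊕ Fin m) (Fin m ⊕ Fin m) F) - 1)) ⊓ LinearMap.range (Matrix.toLin' ((((s : ↥(Cfsg.isometryGroup F (Cfsg.quadFormPlus m F))) : GL (Fin m ⊕ Fin m) F) : Matrix (Fin m ⊕ Fin m) (Fin m ⊕ Fin m) F) - 1)))))) := by
  classical
  obtain ⟨Qp, hQp, hQpnd⟩ := Cfsg.Agent.S2169.exists_Qp (F := F) m
  have hV : Module.finrank F (Fin m ⊕ Fin m → F) = 2 * m := by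
    rw [Module.finrank_fintype_fun_eq_card, Fintype.card_sum, Fintype.card_fin]; ring
  revert t s
  rw [← hQp]
  intro t s ht hs htO hsO hconj
  have ht2 : t * t = 1 := by
    have h3 := pow_orderOf_eq_one t
    rw [ht, pow_two] at h3
    exact h3
  have hc : (∃ s : F, s ≠ 0 ∧ s ≠ 1) ∨ Module.finrank F (Fin m ⊕ Fin m → F) ≠ 4 :=
    Or.inr (by rw [hV]; omega)
  exact ⟨fun hnot => conj_of_not Qp hQpnd hc m hV t s ht2 hconj hnot,
    fun hsp => split_iff Qp hQpnd hc m hV t s htO hconj hsp.1 hsp.2⟩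

end Cfsg.Agent.S2172
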