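import Cfsg.Statements.S2247
import Cfsg.Agent.Lib.Helper2.Sz13
-- import your own Cfsg.Agent.* helpers here

set_option autoImplicit false
open Cfsg

namespace Cfsg.Agent.S2247

open Cfsg.Agent.Lib.Helper2.SzL
open scoped Pointwise

/-- In the Suzuki group with q = 2^(2m+1), m ≥ 1 (realised as the stabiliser in SL₄ of the Suzuki–Tits ovoid), the normalizer of a Sylow 2-subgroup P is a maximal subgroup and is the only maximal subgroup containing P. -/
theorem result {F : Type*} [Field F] [Fintype F] {m : ℕ} (hm : 1 ≤ m) (hF : Fintype.card F = 2 ^ (2 * m + 1)) (P : Sylow 2 ↥(Cfsg.Sz F m)) :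
    IsCoatom (Subgroup.normalizer ((P : Subgroup ↥(Cfsg.Sz F m)) : Set ↥(Cfsg.Sz F m))) ∧
    ∀ M : Subgroup ↥(Cfsg.Sz F m), IsCoatom M → (P : Subgroup ↥(Cfsg.Sz F m)) ≤ M → M = Subgroup.normalizer ((P : Subgroup ↥(Cfsg.Sz F m)) : Set ↥(Cfsg.Sz F m)) := by
  haveI : Fact (Nat.Prime 2) := ⟨Nat.prime_two⟩
  obtain ⟨x, hx⟩ := MulAction.exists_smul_eq (↥(Cfsg.Sz F m)) (QSyl hm hF) P
  have hbase : IsCoatom (Subgroup.normalizer
      ((QG (m := m) hF : Subgroup ↥(Cfsg.Sz F m)) : Set ↥(Cfsg.Sz F m))) ∧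
      ∀ M : Subgroup ↥(Cfsg.Sz F m), IsCoatom M → QG (m := m) hF ≤ M →
        M = Subgroup.normalizer
          ((QG (m := m) hF : Subgroup ↥(Cfsg.Sz F m)) : Set ↥(Cfsg.Sz F m)) := by
    rw [normalizer_QG hm hF]
    exact ⟨BInf_isCoatom hF, fun M hM hQ => eq_BInf_of_coatom hm hF M hM hQ⟩
  have key := transport_max (QG (m := m) hF) x hbase
  have e : (P : Subgroup ↥(Cfsg.Sz F m)) = MulAut.conj x • QG (m := m) hF := by
    rw [← hx, Sylow.coe_subgroup_smul]; rfl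
  rw [e]
  exact key

end Cfsg.Agent.S2247
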