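import Mathlib
import Cfsg.Statements.S2277
import Cfsg.Agent.S3734
import Cfsg.Agent.Lib.Helper7.Coprime
import Cfsg.Agent.Lib.Helper7.Coprime2
import Cfsg.Agent.Lib.Helper7.CoprimeSylow

namespace Cfsg.Agent.S2277
open Cfsg.Agent.Lib.Helper7
open scoped Pointwise

variable {G : Type*} [Group G]

/-- Sylow conjugation inside `N₀ ⊔ P`: a `p`-subgroup generated by `x c x⁻¹` and `d` forces
a decomposition of `x`. -/
theorem split_of_pgroup [Finite G] (p : ℕ) [Fact p.Prime] (P N₀ : Subgroup G) (hP : IsPGroup p P)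
    (hPN : P ≤ Subgroup.normalizer (N₀ : Set G)) (hcop : (Nat.card N₀).Coprime p)
    (x c d : G) (hx : x ∈ N₀) (hc : c ∈ P) (hd : d ∈ P)
    (hQ : IsPGroup p ↥(Subgroup.closure ({x * c * x⁻¹, d} : Set G))) :
    ∃ w ∈ N₀, w * d = d * w ∧ (w⁻¹ * x) * c = c * (w⁻¹ * x) := by
  obtain ⟨k, hk⟩ := IsPGroup.iff_card.mp hP
  have hcopPN : (Nat.card P).Coprime (Nat.card N₀) := by
    rw [hk]; exact (Nat.Coprime.pow_right k hcop).symm
  obtain ⟨L, hL⟩ : ∃ L : Subgroup G, L = N₀ ⊔ P := ⟨_, rfl⟩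
  have hPL : P ≤ L := hL ▸ le_sup_right
  have hNL : N₀ ≤ L := hL ▸ le_sup_left
  have hcardL : Nat.card L = Nat.card N₀ * Nat.card P := by
    rw [hL, sup_comm]; exact card_sup_of_coprime hPN hcopPN
  -- P is a Sylow p-subgroup of L
  have hPLp : IsPGroup p (P.subgroupOf L) := hP.comap_subtype
  have hidx : ¬ p ∣ (P.subgroupOf L).index := by
    have h1 : Nat.card (P.subgroupOf L) * (P.subgroupOf L).index = Nat.card L :=
      Subgroup.card_mul_index _
    rw [card_subgroupOf_of_le hPL, hcardL, mul_comm] at h1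
    have h2 : (P.subgroupOf L).index = Nat.card N₀ :=
      Nat.eq_of_mul_eq_mul_right Nat.card_pos h1
    rw [h2]
    intro hdvd
    have := Nat.Coprime.eq_one_of_dvd hcop.symm hdvd
    exact (Fact.out : p.Prime).one_lt.ne' this
  have hQL : Subgroup.closure ({x * c * x⁻¹, d} : Set G) ≤ L := by
    rw [Subgroup.closure_le]
    rintro y (rfl | rfl)
    · exact L.mul_mem (L.mul_mem (hNL hx) (hPL hc)) (L.inv_mem (hNL hx))
    · exact hPL hd
  have hQLp : IsPGroup p ((Subgroup.closure ({x * c * x⁻¹, d} : Set G)).subgroupOf L) :=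
    hQ.comap_subtype
  obtain ⟨S, hS⟩ := hQLp.exists_le_sylow
  obtain ⟨l, hl⟩ := MulAction.exists_smul_eq L (hPLp.toSylow hidx) S
  -- every element q of Q satisfies l⁻¹ q l ∈ P
  have key : ∀ q ∈ Subgroup.closure ({x * c * x⁻¹, d} : Set G), (l : G)⁻¹ * q * l ∈ P := by
    intro q hq
    have h1 : (⟨q, hQL hq⟩ : L) ∈ (S : Subgroup L) := hS (Subgroup.mem_subgroupOf.mpr hq)
    rw [← hl, Sylow.coe_subgroup_smul, Subgroup.mem_pointwise_smul_iff_inv_smul_mem] at h1
    have h2 : (MulAut.conj l)⁻¹ • (⟨q, hQL hq⟩ : L) ∈ P.subgroupOf L := h1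
    rw [Subgroup.mem_subgroupOf] at h2
    simpa [MulAut.smul_def] using h2
  obtain ⟨n, hn, y, hy, hly⟩ := exists_mul_of_mem_sup hPN (hL ▸ l.2 : (l : G) ∈ N₀ ⊔ P)
  have key2 : ∀ q ∈ Subgroup.closure ({x * c * x⁻¹, d} : Set G), n⁻¹ * q * n ∈ P := by
    intro q hq
    have h1 := key q hq
    rw [hly] at h1
    have h2 : n⁻¹ * q * n = y * ((n * y)⁻¹ * q * (n * y)) * y⁻¹ := by group
    rw [h2]
    exact P.mul_mem (P.mul_mem hy h1) (P.inv_mem hy)
  have hinter : ∀ g : G, g ∈ P → g ∈ N₀ → g = 1 := fun g h1 h2 =>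
    eq_one_of_mem_of_mem_coprime hcopPN h1 h2
  refine ⟨n, hn, ?_, ?_⟩
  · have h1 := key2 d (Subgroup.subset_closure (by simp))
    have h2 : d⁻¹ * (n⁻¹ * d * n) = 1 := by
      apply hinter _ (P.mul_mem (P.inv_mem hd) h1)
      have h3 : d⁻¹ * (n⁻¹ * d * n) = (d⁻¹ * n⁻¹ * d) * n := by group
      rw [h3]
      exact N₀.mul_mem (conj_mem_of_mem_normalizer' (hPN hd) (N₀.inv_mem hn)) hn
    have h4 : n⁻¹ * d * n = d := by
      have := congrArg (fun t => d * t) h2
      simpa using this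
    calc n * d = n * (n⁻¹ * d * n) := by rw [h4]
      _ = d * n := by group
  · have h1 := key2 (x * c * x⁻¹) (Subgroup.subset_closure (by simp))
    have h2 : c⁻¹ * (n⁻¹ * (x * c * x⁻¹) * n) = 1 := by
      apply hinter _ (P.mul_mem (P.inv_mem hc) h1)
      have h3 : c⁻¹ * (n⁻¹ * (x * c * x⁻¹) * n) = (c⁻¹ * (n⁻¹ * x) * c) * (n⁻¹ * x)⁻¹ := by group
      rw [h3]
      have hu : n⁻¹ * x ∈ N₀ := N₀.mul_mem (N₀.inv_mem hn) hx
      exact N₀.mul_mem (conj_mem_of_mem_normalizer' (hPN hc) hu) (N₀.inv_mem hu)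
    have h4 : n⁻¹ * (x * c * x⁻¹) * n = c := by
      have := congrArg (fun t => c * t) h2
      simpa using this
    calc n⁻¹ * x * c = (n⁻¹ * (x * c * x⁻¹) * n) * (n⁻¹ * x) := by group
      _ = c * (n⁻¹ * x) := by rw [h4]

/-- Three "eigen-subgroups" for distinct "eigenvalues" are independent. -/
theorem three_indep {A : Type*} [AddCommGroup A] (a γ : A → A)
    (ha : ∀ x y, a (x + y) = a x + a y) (hγ : ∀ x y, γ (x + y) = γ x + γ y)
    (hainj : Function.Injective a)
    (hcomm : ∀ v, γ (a v) = a (γ v))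
    (h1 : ∀ v, a v = v → v = 0) (h2 : ∀ v, a (a v) = v → v = 0)
    (u0 u1 u2 : A) (hu0 : γ u0 = u0) (hu1 : γ u1 = a u1) (hu2 : γ u2 = a (a u2))
    (h : u0 + u1 + u2 = 0) : u0 = 0 ∧ u1 = 0 ∧ u2 = 0 := by
  have ha0 : a 0 = 0 := by have := ha 0 0; simpa using this
  have hγ0 : γ 0 = 0 := by have := hγ 0 0; simpa using this
  have hasub : ∀ x y, a (x - y) = a x - a y := by
    intro x y
    have := ha (x - y) y
    rw [sub_add_cancel] at this
    rw [this]; abel
  have E2 : u0 + a u1 + a (a u2) = 0 := by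
    have := congrArg γ h
    rw [hγ, hγ, hu0, hu1, hu2, hγ0] at this
    exact this
  have E3 : u0 + a (a u1) + a (a (a (a u2))) = 0 := by
    have := congrArg γ E2
    rw [hγ, hγ, hu0, hcomm, hcomm, hcomm, hu1, hu2, hγ0] at this
    exact this
  have F1 : (a u1 - u1) + (a (a u2) - u2) = 0 := by
    calc (a u1 - u1) + (a (a u2) - u2) = (u0 + a u1 + a (a u2)) - (u0 + u1 + u2) := by abel
      _ = 0 := by rw [E2, h, sub_zero]
  have F2 : a (a u1 - u1) + a (a (a (a u2) - u2)) = 0 := by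
    rw [hasub, hasub, hasub]
    calc (a (a u1) - a u1) + (a (a (a (a u2))) - a (a u2))
        = (u0 + a (a u1) + a (a (a (a u2)))) - (u0 + a u1 + a (a u2)) := by abel
      _ = 0 := by rw [E3, E2, sub_zero]
  have F3 : a (a u1 - u1) + a (a (a u2) - u2) = 0 := by
    rw [← ha, F1, ha0]
  have F4 : a (a (a (a u2) - u2)) = a (a (a u2) - u2) := by
    have : a (a (a (a u2) - u2)) - a (a (a u2) - u2) = 0 := by
      calc a (a (a (a u2) - u2)) - a (a (a u2) - u2)
          = (a (a u1 - u1) + a (a (a (a u2) - u2))) - (a (a u1 - u1) + a (a (a u2) - u2)) := by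
            abel
        _ = 0 := by rw [F2, F3, sub_zero]
    exact sub_eq_zero.mp this
  have F5 : a (a (a u2) - u2) = 0 := h1 _ F4
  have F6 : a (a u2) - u2 = 0 := hainj (F5.trans ha0.symm)
  have hu2z : u2 = 0 := h2 u2 (sub_eq_zero.mp F6)
  have F7 : a u1 - u1 = 0 := by rw [F6, add_zero] at F1; exact F1
  have hu1z : u1 = 0 := h1 u1 (sub_eq_zero.mp F7)
  refine ⟨?_, hu1z, hu2z⟩
  rw [hu1z, hu2z, add_zero, add_zero] at h
  exact h


theorem three_indep_mul {V : Type*} [CommGroup V] (a γ : V → V)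
    (ha : ∀ x y, a (x * y) = a x * a y) (hγ : ∀ x y, γ (x * y) = γ x * γ y)
    (hainj : Function.Injective a)
    (hcomm : ∀ v, γ (a v) = a (γ v))
    (h1 : ∀ v, a v = v → v = 1) (h2 : ∀ v, a (a v) = v → v = 1)
    (u0 u1 u2 : V) (hu0 : γ u0 = u0) (hu1 : γ u1 = a u1) (hu2 : γ u2 = a (a u2))
    (h : u0 * u1 * u2 = 1) : u0 = 1 ∧ u1 = 1 ∧ u2 = 1 :=
  three_indep (A := Additive V) a γ ha hγ hainj hcomm h1 h2 u0 u1 u2 hu0 hu1 hu2 h

/-- Conjugation by a normalizing element, as an automorphism of the subgroup. -/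
def conjN (N : Subgroup G) (y : G) (hy : y ∈ Subgroup.normalizer (N : Set G)) : ↥N ≃* ↥N where
  toFun n := ⟨y * n * y⁻¹, conj_mem_of_mem_normalizer hy n.2⟩
  invFun n := ⟨y⁻¹ * n * y, conj_mem_of_mem_normalizer' hy n.2⟩
  left_inv n := Subtype.ext (by simp [mul_assoc])
  right_inv n := Subtype.ext (by simp [mul_assoc])
  map_mul' a b := Subtype.ext (by simp [mul_assoc])

theorem of_surj (N : Subgroup G) :
    Function.Surjective (Abelianization.of : ↥N → Abelianization ↥N) :=
  QuotientGroup.mk_surjective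

/-- The action of the normalizer on the abelianization. -/
def rho (N : Subgroup G) : ↥(Subgroup.normalizer (N : Set G)) →* MulAut (Abelianization ↥N) where
  toFun y := (conjN N y y.2).abelianizationCongr
  map_one' := by
    ext v
    obtain ⟨n, rfl⟩ := of_surj N v
    rw [abelianizationCongr_of]
    simp [conjN]
  map_mul' y z := by
    ext v
    obtain ⟨n, rfl⟩ := of_surj N v
    rw [MulAut.mul_apply, abelianizationCongr_of, abelianizationCongr_of,
      abelianizationCongr_of]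
    congr 1
    apply Subtype.ext
    simp [conjN, mul_assoc]

theorem rho_of (N : Subgroup G) (y : ↥(Subgroup.normalizer (N : Set G))) (n : ↥N) :
    rho N y (Abelianization.of n)
      = Abelianization.of ⟨(y : G) * n * (y : G)⁻¹, conj_mem_of_mem_normalizer y.2 n.2⟩ :=
  abelianizationCongr_of _ _

/-- If a subgroup of `P` contains the generators it is everything. -/
theorem gen_all {P : Subgroup G} {C : Set G} (hC : Subgroup.closure C = P) (K : Subgroup ↥P)
    (h : ∀ c : ↥P, (c : G) ∈ C → c ∈ K) : ∀ y : ↥P, y ∈ K := by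
  have hCP : ∀ g ∈ C, g ∈ P := fun g hg => hC ▸ Subgroup.subset_closure hg
  have hle : Subgroup.closure C ≤ K.map P.subtype := by
    rw [Subgroup.closure_le]
    intro g hg
    exact ⟨⟨g, hCP g hg⟩, h ⟨g, hCP g hg⟩ hg, rfl⟩
  intro y
  have hy : (y : G) ∈ K.map P.subtype := hle (hC ▸ y.2)
  obtain ⟨m, hm, hmy⟩ := hy
  have : m = y := Subtype.ext hmy
  exact this ▸ hm


theorem core [Finite G] (p : ℕ) [Fact p.Prime] (hp3 : 3 ≤ p) (P N : Subgroup G) (hP : IsPGroup p P)
    (hPN : P ≤ Subgroup.normalizer (N : Set G)) (hcop : (Nat.card N).Coprime p)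
    (C D : Set G) (hC : Subgroup.closure C = P) (hD : Subgroup.closure D = P)
    (h : ∀ x ∈ N, ∀ c ∈ C, ∀ d ∈ D, IsPGroup p ↥(Subgroup.closure ({x * c * x⁻¹, d} : Set G))) :
    P ≤ Subgroup.centralizer (N : Set G) := by
  classical
  by_contra hcon
  have hpp : p.Prime := Fact.out
  haveI hnilP : Group.IsNilpotent ↥P := hP.isNilpotent
  have hsolvP : Group.IsSolvable ↥P := inferInstance
  obtain ⟨N₀, ⟨hN₀N, hPN₀, hnc⟩, hmin⟩ := WellFounded.has_min (wellFounded_lt (α := Subgroup G))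
    {N₁ : Subgroup G | N₁ ≤ N ∧ P ≤ Subgroup.normalizer (N₁ : Set G) ∧
      ¬ P ≤ Subgroup.centralizer (N₁ : Set G)} ⟨N, le_rfl, hPN, hcon⟩
  have hmin' : ∀ N₁ : Subgroup G, N₁ < N₀ → P ≤ Subgroup.normalizer (N₁ : Set G) →
      P ≤ Subgroup.centralizer (N₁ : Set G) := by
    intro N₁ hlt hn
    by_contra hc
    exact hmin N₁ ⟨hlt.le.trans hN₀N, hn, hc⟩ hlt
  obtain ⟨k, hk⟩ := IsPGroup.iff_card.mp hP
  have hcop₀ : (Nat.card N₀).Coprime p :=
    Nat.Coprime.coprime_dvd_left (Subgroup.card_dvd_of_le hN₀N) hcop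
  have hcopPN₀ : (Nat.card P).Coprime (Nat.card N₀) := by
    rw [hk]; exact (Nat.Coprime.pow_right k hcop₀).symm
  -- [N₀, P] = N₀
  have hW : ⁅N₀, P⁆ = N₀ := by
    by_contra hne
    have hle : ⁅N₀, P⁆ ≤ N₀ := commutator_le_of_le_normalizer hPN₀
    have hc := hmin' _ (lt_of_le_of_ne hle hne) (le_normalizer_commutator_right N₀ P)
    have h1 : ⁅⁅N₀, P⁆, P⁆ = ⊥ := by
      rw [Subgroup.commutator_eq_bot_iff_le_centralizer]
      exact Subgroup.le_centralizer_iff.mp hc
    rw [commutator_commutator_eq P N₀ hPN₀ hcopPN₀ (Or.inl hsolvP),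
      Subgroup.commutator_eq_bot_iff_le_centralizer] at h1
    exact hnc (Subgroup.le_centralizer_iff.mp h1)
  -- N₀ is a q-group
  have hq : ∃ q : ℕ, q.Prime ∧ IsPGroup q ↥N₀ := by
    by_contra hno
    push_neg at hno
    apply hnc
    have hF : N₀ ⊓ Subgroup.centralizer (P : Set G) = N₀ := by
      apply Subgroup.eq_of_le_of_card_ge inf_le_left
      apply Nat.le_of_dvd Nat.card_pos
      rw [← Nat.factorization_prime_le_iff_dvd Nat.card_pos.ne' Nat.card_pos.ne']
      intro q hq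
      haveI : Fact q.Prime := ⟨hq⟩
      obtain ⟨S, hS⟩ := exists_invariant_sylow P N₀ hPN₀ hcopPN₀ (Or.inl hsolvP) q
      have hSle : (S : Subgroup N₀).map N₀.subtype ≤ N₀ := by
        rintro _ ⟨s, -, rfl⟩; exact s.2
      have hSne : (S : Subgroup N₀).map N₀.subtype ≠ N₀ := by
        intro heq
        apply hno q hq
        have htop : (S : Subgroup N₀) = ⊤ := by
          apply Subgroup.map_injective N₀.subtype_injective
          rw [heq, ← MonoidHom.range_eq_map, Subgroup.range_subtype]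
        obtain ⟨m, hm⟩ := IsPGroup.iff_card.mp S.isPGroup'
        rw [htop, Subgroup.card_top] at hm
        exact IsPGroup.of_card hm
      have hcS := hmin' _ (lt_of_le_of_ne hSle hSne) hS
      have hSF : (S : Subgroup N₀).map N₀.subtype ≤ N₀ ⊓ Subgroup.centralizer (P : Set G) :=
        le_inf hSle (Subgroup.le_centralizer_iff.mp hcS)
      have hdvd := Subgroup.card_dvd_of_le hSF
      rw [Subgroup.card_map_of_injective N₀.subtype_injective, Sylow.card_eq_multiplicity] at hdvd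
      exact (hq.pow_dvd_iff_le_factorization Nat.card_pos.ne').mp hdvd
    exact Subgroup.le_centralizer_iff.mp (hF ▸ inf_le_right)
  obtain ⟨q, hqp, hN₀q⟩ := hq
  haveI : Fact q.Prime := ⟨hqp⟩
  have hN₀ne : N₀ ≠ ⊥ := by
    rintro rfl
    apply hnc
    intro y _
    rw [Subgroup.mem_centralizer_iff]
    intro g hg
    rw [Subgroup.mem_bot.mp hg]; simp
  haveI : Nontrivial ↥N₀ := (Subgroup.nontrivial_iff_ne_bot N₀).mpr hN₀ne
  haveI : Group.IsNilpotent ↥N₀ := hN₀q.isNilpotent
  have hclt : commutator ↥N₀ < ⊤ := Group.IsSolvable.commutator_lt_top_of_nontrivial (G := ↥N₀)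
  have hVcard : 1 < Nat.card (Abelianization ↥N₀) := by
    by_contra hle
    have h0 := Nat.card_pos (α := Abelianization ↥N₀)
    have h1 : Nat.card (Abelianization ↥N₀) = 1 := by omega
    have h2 : (commutator ↥N₀).index = 1 := by rw [Subgroup.index_eq_card]; exact h1
    exact hclt.ne (Subgroup.index_eq_one.mp h2)
  have hVdvd : Nat.card (Abelianization ↥N₀) ∣ Nat.card N₀ :=
    Subgroup.card_quotient_dvd_card _
  have hsurj := of_surj N₀
  obtain ⟨ρ, hρ⟩ : ∃ ρ : ↥P →* MulAut (Abelianization ↥N₀),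
      ρ = (rho N₀).comp (Subgroup.inclusion hPN₀) := ⟨_, rfl⟩
  have hρof : ∀ (y : ↥P) (n : ↥N₀), ρ y (Abelianization.of n)
      = Abelianization.of ⟨(y : G) * n * (y : G)⁻¹,
          conj_mem_of_mem_normalizer (hPN₀ y.2) n.2⟩ := by
    intro y n
    rw [hρ]
    exact rho_of N₀ _ n
  -- the fixed points of P on V are trivial
  have hCV : ∀ v : Abelianization ↥N₀, (∀ y : ↥P, ρ y v = v) → v = 1 := by
    intro v hv
    haveI : Fintype ↥P := Fintype.ofFinite _
    obtain ⟨ν, hν⟩ : ∃ ν : Abelianization ↥N₀ →* Abelianization ↥N₀,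
        ν = ∏ y : ↥P, (ρ y).toMonoidHom := ⟨_, rfl⟩
    have hνapp : ∀ u, ν u = ∏ y : ↥P, ρ y u := by
      intro u; rw [hν, MonoidHom.finset_prod_apply]; rfl
    have hνρ : ∀ (y : ↥P) u, ν (ρ y u) = ν u := by
      intro y u
      rw [hνapp, hνapp]
      refine Fintype.prod_equiv (Equiv.mulRight y) _ _ (fun z => ?_)
      simp [map_mul]
    have hker : ∀ n : ↥N₀, ν (Abelianization.of n) = 1 := by
      have hle : ⁅N₀, P⁆ ≤ ((ν.comp Abelianization.of).ker).map N₀.subtype := by
        rw [Subgroup.commutator_le]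
        intro n hn y hy
        refine ⟨⟨n, hn⟩ * (⟨y * n * y⁻¹, conj_mem_of_mem_normalizer (hPN₀ hy) hn⟩ : ↥N₀)⁻¹,
          ?_, ?_⟩
        · have h1 : ρ ⟨y, hy⟩ (Abelianization.of ⟨n, hn⟩)
              = Abelianization.of ⟨y * n * y⁻¹, conj_mem_of_mem_normalizer (hPN₀ hy) hn⟩ :=
            hρof ⟨y, hy⟩ ⟨n, hn⟩
          rw [SetLike.mem_coe, MonoidHom.mem_ker, MonoidHom.comp_apply, map_mul, map_mul,
            map_inv, map_inv, ← h1, hνρ, mul_inv_cancel]
        · simp [commutatorElement_def, mul_assoc]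
      intro n
      have hn : (n : G) ∈ ((ν.comp Abelianization.of).ker).map N₀.subtype :=
        hle (hW.symm ▸ n.2)
      obtain ⟨m, hm, hmn⟩ := hn
      have : m = n := Subtype.ext hmn
      subst this
      exact hm
    obtain ⟨n, rfl⟩ := hsurj v
    have h1 : (Abelianization.of n) ^ Nat.card P = 1 := by
      rw [← hker n, hνapp, Finset.prod_congr rfl (fun y _ => hv y), Finset.prod_const,
        Finset.card_univ, Nat.card_eq_fintype_card]
    have h2 : orderOf (Abelianization.of n) ∣ Nat.card P := orderOf_dvd_of_pow_eq_one h1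
    have h3 : orderOf (Abelianization.of n) ∣ Nat.card (Abelianization ↥N₀) :=
      orderOf_dvd_natCard _
    have h4 : orderOf (Abelianization.of n) = 1 :=
      Nat.Coprime.eq_one_of_dvd
        (Nat.Coprime.coprime_dvd_left h2 (Nat.Coprime.coprime_dvd_right hVdvd hcopPN₀)) h3
    exact orderOf_eq_one_iff.mp h4
  -- central elements act fixed-point-freely or trivially
  have hA' : ∀ z : ↥P, (∀ y : ↥P, ρ z * ρ y = ρ y * ρ z) → ρ z ≠ 1 →
      ∀ v : Abelianization ↥N₀, ρ z v = v → v = 1 := by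
    intro z hz hz1 v hv
    obtain ⟨F, hF⟩ : ∃ F : Subgroup (Abelianization ↥N₀), ∀ u, u ∈ F ↔ ρ z u = u :=
      ⟨{ carrier := {u | ρ z u = u}
         mul_mem' := fun {a b} ha hb => by
           show ρ z (a * b) = a * b
           rw [map_mul, show ρ z a = a from ha, show ρ z b = b from hb]
         one_mem' := map_one _
         inv_mem' := fun {a} ha => by
           show ρ z a⁻¹ = a⁻¹
           rw [map_inv, show ρ z a = a from ha] }, fun u => Iff.rfl⟩
    obtain ⟨Nz, hNz⟩ : ∃ Nz : Subgroup G, Nz = (F.comap Abelianization.of).map N₀.subtype :=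
      ⟨_, rfl⟩
    have hmemNz : ∀ n : ↥N₀, (n : G) ∈ Nz ↔
        ρ z (Abelianization.of n) = Abelianization.of n := by
      intro n
      rw [hNz]
      constructor
      · rintro ⟨m, hm, hmn⟩
        have : m = n := Subtype.ext hmn
        subst this
        exact (hF _).mp hm
      · intro h
        exact ⟨n, (hF _).mpr h, rfl⟩
    have hNzle : Nz ≤ N₀ := by
      rw [hNz]; rintro _ ⟨m, -, rfl⟩; exact m.2
    have hNzP : P ≤ Subgroup.normalizer (Nz : Set G) := by
      apply Cfsg.Agent.S3734.le_normalizer_of_conj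
      intro y hy g hg
      have hgN : g ∈ N₀ := hNzle hg
      have h1 := (hmemNz ⟨g, hgN⟩).mp hg
      have h2 : ((⟨y * g * y⁻¹, conj_mem_of_mem_normalizer (hPN₀ hy) hgN⟩ : ↥N₀) : G) ∈ Nz := by
        rw [hmemNz]
        have h3 : Abelianization.of
            (⟨y * g * y⁻¹, conj_mem_of_mem_normalizer (hPN₀ hy) hgN⟩ : ↥N₀)
            = ρ ⟨y, hy⟩ (Abelianization.of ⟨g, hgN⟩) := (hρof ⟨y, hy⟩ ⟨g, hgN⟩).symm
        rw [h3]
        have h4 : ρ z (ρ ⟨y, hy⟩ (Abelianization.of ⟨g, hgN⟩))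
            = ρ ⟨y, hy⟩ (ρ z (Abelianization.of ⟨g, hgN⟩)) := by
          have := congrArg (fun e : MulAut (Abelianization ↥N₀) =>
            e (Abelianization.of ⟨g, hgN⟩)) (hz ⟨y, hy⟩)
          simpa [MulAut.mul_apply] using this
        rw [h4, h1]
      exact h2
    by_cases hNzeq : Nz = N₀
    · exfalso
      apply hz1
      ext u
      obtain ⟨n, rfl⟩ := hsurj u
      rw [MulAut.one_apply]
      exact (hmemNz n).mp (hNzeq ▸ n.2)
    · have hc := hmin' Nz (lt_of_le_of_ne hNzle hNzeq) hNzP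
      apply hCV v
      intro y
      obtain ⟨n, rfl⟩ := hsurj v
      have hn : (n : G) ∈ Nz := (hmemNz n).mpr hv
      have hcomm := (Subgroup.mem_centralizer_iff.mp (hc y.2)) n hn
      rw [hρof]
      congr 1
      apply Subtype.ext
      show (y : G) * n * (y : G)⁻¹ = n
      rw [← hcomm, mul_inv_cancel_right]
  -- the decomposition
  have hdec : ∀ c : ↥P, (c : G) ∈ C → ∀ d : ↥P, (d : G) ∈ D →
      Nat.card (Abelianization ↥N₀) ≤ Nat.card {v : Abelianization ↥N₀ // ρ c v = v} *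
        Nat.card {v : Abelianization ↥N₀ // ρ d v = v} := by
    intro c hc d hd
    rw [← Nat.card_prod]
    apply Nat.card_le_card_of_surjective
      (fun ab : {v : Abelianization ↥N₀ // ρ c v = v} × {v : Abelianization ↥N₀ // ρ d v = v} =>
        (ab.1 : Abelianization ↥N₀) * ab.2)
    intro v
    obtain ⟨n, rfl⟩ := hsurj v
    obtain ⟨w, hw, hwd, hwc⟩ := split_of_pgroup p P N₀ hP hPN₀ hcop₀ n c d n.2 c.2 d.2
      (h n (hN₀N n.2) c hc d hd)
    have hu : w⁻¹ * (n : G) ∈ N₀ := N₀.mul_mem (N₀.inv_mem hw) n.2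
    refine ⟨(⟨Abelianization.of ⟨w⁻¹ * n, hu⟩, ?_⟩, ⟨Abelianization.of ⟨w, hw⟩, ?_⟩), ?_⟩
    · rw [hρof]; congr 1; apply Subtype.ext
      show (c : G) * (w⁻¹ * n) * (c : G)⁻¹ = w⁻¹ * n
      rw [← hwc, mul_inv_cancel_right]
    · rw [hρof]; congr 1; apply Subtype.ext
      show (d : G) * w * (d : G)⁻¹ = w
      rw [← hwd, mul_inv_cancel_right]
    · show Abelianization.of ⟨w⁻¹ * n, hu⟩ * Abelianization.of ⟨w, hw⟩ = Abelianization.of n
      rw [mul_comm, ← map_mul]
      congr 1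
      apply Subtype.ext
      show w * (w⁻¹ * n) = n
      rw [mul_inv_cancel_left]
  have hfixone : ∀ e : MulAut (Abelianization ↥N₀), (∀ v, e v = v → v = 1) →
      Nat.card {v : Abelianization ↥N₀ // e v = v} = 1 := by
    intro e he
    rw [Nat.card_eq_one_iff_unique]
    exact ⟨⟨fun a b => Subtype.ext (by rw [he a a.2, he b b.2])⟩, ⟨⟨1, map_one e⟩⟩⟩
  have hfixall : ∀ e : MulAut (Abelianization ↥N₀),
      Nat.card (Abelianization ↥N₀) ≤ Nat.card {v : Abelianization ↥N₀ // e v = v} → e = 1 := by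
    intro e he
    have hinj : Function.Injective
        (Subtype.val : {v : Abelianization ↥N₀ // e v = v} → Abelianization ↥N₀) :=
      Subtype.val_injective
    have hle : Nat.card {v : Abelianization ↥N₀ // e v = v} ≤ Nat.card (Abelianization ↥N₀) :=
      Nat.card_le_card_of_injective _ hinj
    have hbij := (Nat.bijective_iff_injective_and_card _).mpr ⟨hinj, le_antisymm hle he⟩
    ext u
    obtain ⟨⟨u', hu'⟩, rfl⟩ := hbij.2 u
    exact hu'
  have hnontriv : ∀ (E : Set G), Subgroup.closure E = P →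
      (∀ c : ↥P, (c : G) ∈ E → ρ c = 1) → False := by
    intro E hE hall
    have hall' : ∀ y : ↥P, ρ y = 1 := fun y =>
      MonoidHom.mem_ker.mp (gen_all hE ρ.ker (fun c hc => MonoidHom.mem_ker.mpr (hall c hc)) y)
    have hv1 : ∀ v : Abelianization ↥N₀, v = 1 := fun v =>
      hCV v (fun y => by rw [hall' y]; rfl)
    have hsub : Subsingleton (Abelianization ↥N₀) := ⟨fun a b => by rw [hv1 a, hv1 b]⟩
    have := Finite.card_le_one_iff_subsingleton.mpr hsub
    omega
  by_cases hab : ∀ y z : ↥P, ρ y * ρ z = ρ z * ρ y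
  · by_cases hCtriv : ∀ c : ↥P, (c : G) ∈ C → ρ c = 1
    · exact hnontriv C hC hCtriv
    · push_neg at hCtriv
      obtain ⟨c₀, hc₀C, hc₀⟩ := hCtriv
      have hf := hfixone (ρ c₀) (hA' c₀ (fun y => hab c₀ y) hc₀)
      apply hnontriv D hD
      intro d hd
      apply hfixall
      have := hdec c₀ hc₀C d hd
      rw [hf, one_mul] at this
      exact this
  · push_neg at hab
    obtain ⟨y₀, z₀, hyz⟩ := hab
    have hex : ∃ x : ↥P, (¬ ∀ z : ↥P, ρ x * ρ z = ρ z * ρ x) ∧
        ∀ y z : ↥P, ρ (x * y * x⁻¹ * y⁻¹) * ρ z = ρ z * ρ (x * y * x⁻¹ * y⁻¹) := by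
      have hexn : ∃ n : ℕ, ∃ x ∈ Subgroup.upperCentralSeries ↥P n,
          ¬ ∀ z : ↥P, ρ x * ρ z = ρ z * ρ x := by
        obtain ⟨n, hn⟩ := Group.IsNilpotent.nilpotent ↥P
        exact ⟨n, y₀, hn ▸ Subgroup.mem_top y₀, fun hall => hyz (hall z₀)⟩
      obtain ⟨x, hxmem, hxnc⟩ := Nat.find_spec hexn
      have hminn := fun m (hm : m < Nat.find hexn) => Nat.find_min hexn hm
      cases hfind : Nat.find hexn with
      | zero =>
        exfalso
        rw [hfind, Subgroup.upperCentralSeries_zero, Subgroup.mem_bot] at hxmem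
        apply hxnc
        intro z
        rw [hxmem, map_one, one_mul, mul_one]
      | succ j =>
        refine ⟨x, hxnc, ?_⟩
        intro y z
        rw [hfind, Subgroup.mem_upperCentralSeries_succ_iff] at hxmem
        have h1 := hxmem y
        have h2 := hminn j (by omega)
        push_neg at h2
        exact h2 _ h1 z
    obtain ⟨x, hxnc, hxcen⟩ := hex
    have hexC : ∀ (E : Set G), Subgroup.closure E = P →
        ∃ c : ↥P, (c : G) ∈ E ∧ ρ x * ρ c ≠ ρ c * ρ x := by
      intro E hE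
      by_contra hno
      push_neg at hno
      apply hxnc
      intro z
      have := gen_all hE ((Subgroup.centralizer {ρ x}).comap ρ) (fun c hc => by
        rw [Subgroup.mem_comap, Subgroup.mem_centralizer_iff]
        intro e he
        rw [Set.mem_singleton_iff.mp he]
        exact hno c hc) z
      rw [Subgroup.mem_comap, Subgroup.mem_centralizer_iff] at this
      exact this (ρ x) rfl
    have hcube : ∀ c : ↥P, ρ x * ρ c ≠ ρ c * ρ x →
        Nat.card {v : Abelianization ↥N₀ // ρ c v = v} ^ 3 ≤ Nat.card (Abelianization ↥N₀) := by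
      intro c hxc
      obtain ⟨w, hw⟩ : ∃ w : ↥P, w = x * c * x⁻¹ * c⁻¹ := ⟨_, rfl⟩
      have hαcen : ∀ z : ↥P, ρ w * ρ z = ρ z * ρ w := fun z => hw ▸ hxcen c z
      have hα1 : ρ w ≠ 1 := by
        intro h1
        apply hxc
        rw [hw, map_mul, map_mul, map_mul, map_inv, map_inv] at h1
        exact mul_inv_eq_iff_eq_mul.mp (mul_inv_eq_one.mp h1)
      have hα2 : ρ (w * w) ≠ 1 := by
        intro h2
        apply hα1
        obtain ⟨j, hj⟩ := hP w
        have h3 : (ρ w) ^ (p ^ j) = 1 := by rw [← map_pow, hj, map_one]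
        have h4 : (ρ w) ^ 2 = 1 := by rw [pow_two, ← map_mul]; exact h2
        have h5 : orderOf (ρ w) ∣ Nat.gcd (p ^ j) 2 :=
          Nat.dvd_gcd (orderOf_dvd_of_pow_eq_one h3) (orderOf_dvd_of_pow_eq_one h4)
        have h6 : Nat.gcd (p ^ j) 2 = 1 := by
          apply Nat.Coprime.pow_left
          rw [Nat.coprime_primes hpp Nat.prime_two]; omega
        rw [h6, Nat.dvd_one, orderOf_eq_one_iff] at h5
        exact h5
      have hfix1 := hA' w hαcen hα1
      have hfix2 := hA' (w * w) (fun z => by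
        rw [map_mul, mul_assoc, hαcen z, ← mul_assoc, hαcen z, mul_assoc]) hα2
      have hcomminv : ∀ (z : ↥P) u, ρ z ((ρ w)⁻¹ u) = (ρ w)⁻¹ (ρ z u) := by
        intro z u
        have h1 : ρ z * (ρ w)⁻¹ = (ρ w)⁻¹ * ρ z := by
          rw [eq_inv_mul_iff_mul_eq, ← mul_assoc, hαcen z, mul_inv_cancel_right]
        exact congrArg (fun e : MulAut (Abelianization ↥N₀) => e u) h1
      have hrel : ∀ v, ρ c (ρ x v) = (ρ w)⁻¹ (ρ x (ρ c v)) := by
        intro v
        have h1 : ρ w * ρ c * ρ x = ρ x * ρ c := by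
          rw [hw, map_mul, map_mul, map_mul, map_inv, map_inv]; group
        have h2 := congrArg (fun e : MulAut (Abelianization ↥N₀) => (ρ w)⁻¹ (e v)) h1
        simpa [MulAut.mul_apply] using h2
      rw [show Nat.card {v : Abelianization ↥N₀ // ρ c v = v} ^ 3
          = Nat.card ({v : Abelianization ↥N₀ // ρ c v = v} ×
              {v : Abelianization ↥N₀ // ρ c v = v} × {v : Abelianization ↥N₀ // ρ c v = v}) by
        rw [Nat.card_prod, Nat.card_prod]; ring]
      apply Nat.card_le_card_of_injective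
        (fun u : {v : Abelianization ↥N₀ // ρ c v = v} ×
            {v : Abelianization ↥N₀ // ρ c v = v} × {v : Abelianization ↥N₀ // ρ c v = v} =>
          (u.1 : Abelianization ↥N₀) * ρ x u.2.1 * ρ x (ρ x u.2.2))
      rintro ⟨⟨a0, ha0⟩, ⟨a1, ha1⟩, ⟨a2, ha2⟩⟩ ⟨⟨b0, hb0⟩, ⟨b1, hb1⟩, ⟨b2, hb2⟩⟩ hab
      have hab' : a0 * ρ x a1 * ρ x (ρ x a2) = b0 * ρ x b1 * ρ x (ρ x b2) := hab
      have hd1 : ρ c (a1 / b1) = a1 / b1 := by rw [map_div, ha1, hb1]
      have hd2 : ρ c (a2 / b2) = a2 / b2 := by rw [map_div, ha2, hb2]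
      have key := three_indep_mul (fun v => (ρ w)⁻¹ v) (fun v => ρ c v)
        (fun a b => map_mul _ a b) (fun a b => map_mul _ a b) ((ρ w)⁻¹).injective
        (fun v => hcomminv c v)
        (fun v hv => hfix1 v (by
          have := congrArg (fun u => ρ w u) hv
          simpa using this.symm))
        (fun v hv => hfix2 v (by
          rw [map_mul, MulAut.mul_apply]
          have := congrArg (fun u => ρ w (ρ w u)) hv
          simpa using this.symm))
        (a0 / b0) (ρ x (a1 / b1)) (ρ x (ρ x (a2 / b2)))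
        (by show ρ c (a0 / b0) = a0 / b0; rw [map_div, ha0, hb0])
        (by show ρ c (ρ x (a1 / b1)) = (ρ w)⁻¹ (ρ x (a1 / b1)); rw [hrel, hd1])
        (by
          show ρ c (ρ x (ρ x (a2 / b2))) = (ρ w)⁻¹ ((ρ w)⁻¹ (ρ x (ρ x (a2 / b2))))
          rw [hrel, hrel, hd2, hcomminv])
        (by
          rw [map_div, map_div, map_div, div_mul_div_comm, div_mul_div_comm, hab', div_self'])
      obtain ⟨k0, k1, k2⟩ := key
      obtain rfl : a0 = b0 := div_eq_one.mp k0
      obtain rfl : a1 = b1 := div_eq_one.mp ((MulEquiv.map_eq_one_iff (ρ x)).mp k1)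
      obtain rfl : a2 = b2 := div_eq_one.mp
        ((MulEquiv.map_eq_one_iff (ρ x)).mp ((MulEquiv.map_eq_one_iff (ρ x)).mp k2))
      rfl
    obtain ⟨c, hcC, hxc⟩ := hexC C hC
    obtain ⟨d, hdD, hxd⟩ := hexC D hD
    have h1 := hcube c hxc
    have h2 := hcube d hxd
    have h3 := hdec c hcC d hdD
    have h4 : Nat.card (Abelianization ↥N₀) ^ 3 ≤ Nat.card (Abelianization ↥N₀) ^ 2 := by
      calc Nat.card (Abelianization ↥N₀) ^ 3
          ≤ (Nat.card {v : Abelianization ↥N₀ // ρ c v = v} *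
              Nat.card {v : Abelianization ↥N₀ // ρ d v = v}) ^ 3 := Nat.pow_le_pow_left h3 3
        _ = Nat.card {v : Abelianization ↥N₀ // ρ c v = v} ^ 3 *
              Nat.card {v : Abelianization ↥N₀ // ρ d v = v} ^ 3 := mul_pow _ _ _
        _ ≤ Nat.card (Abelianization ↥N₀) * Nat.card (Abelianization ↥N₀) :=
            Nat.mul_le_mul h1 h2
        _ = Nat.card (Abelianization ↥N₀) ^ 2 := (sq _).symm
    have h5 := Nat.pow_lt_pow_right hVcard (show 2 < 3 by norm_num)
    omega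

/-- Let p ≥ 3 be prime and G a finite group with a Sylow p-subgroup P and a normal p-complement N (N normal, of order prime to p, with NP = G). Suppose P is generated by a subset C and also by a subset D, and that ⟨x c x⁻¹, d⟩ is a p-group for all x ∈ N, c ∈ C, d ∈ D. Then P centralizes N, so that G = N × P. -/
theorem result {G : Type*} [Group G] [Finite G] (p : ℕ) [Fact p.Prime] (hp3 : 3 ≤ p) (P : Sylow p G)
    (N : Subgroup G) [N.Normal] (hN : (Nat.card N).Coprime p) (hNP : N ⊔ (P : Subgroup G) = ⊤)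
    (C D : Set G) (hC : Subgroup.closure C = (P : Subgroup G)) (hD : Subgroup.closure D = (P : Subgroup G))
    (h : ∀ x ∈ N, ∀ c ∈ C, ∀ d ∈ D, IsPGroup p ↥(Subgroup.closure ({x * c * x⁻¹, d} : Set G))) :
    ⁅(P : Subgroup G), N⁆ = ⊥ := by
  rw [Subgroup.commutator_eq_bot_iff_le_centralizer]
  exact core p hp3 P N P.isPGroup' (by rw [Subgroup.normalizer_eq_top]; exact le_top) hN C D hC hD h

end Cfsg.Agent.S2277
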