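import Mathlib
import Cfsg.Statements.S2466

set_option autoImplicit false
open Cfsg

namespace Cfsg.Agent.S2466

theorem prime_dvd_lcm {p : ℕ} (hp : p.Prime) (m : Multiset ℕ) (h : p ∣ m.lcm) : ∃ a ∈ m, p ∣ a := by
  induction m using Multiset.induction_on with
  | empty =>
    simp at h
    exact absurd h hp.one_lt.ne'
  | cons a t ih =>
    rw [Multiset.lcm_cons] at h
    have h1 : p ∣ a * t.lcm := dvd_trans h (Nat.lcm_dvd_mul a t.lcm)
    rcases (hp.dvd_mul).mp h1 with h2 | h2
    · exact ⟨a, Multiset.mem_cons_self a t, h2⟩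
    · obtain ⟨b, hb, hb2⟩ := ih h2
      exact ⟨b, Multiset.mem_cons_of_mem hb, hb2⟩

/-- a cycle type with even `sum + card` is realised in the alternating group -/
theorem exists_alt (n : ℕ) (m : Multiset ℕ) (hsum : m.sum ≤ n) (h2 : ∀ a ∈ m, 2 ≤ a)
    (heven : Even (m.sum + Multiset.card m)) :
    m.lcm ∈ Set.range (orderOf : alternatingGroup (Fin n) → ℕ) := by
  obtain ⟨g, hg⟩ := (Equiv.Perm.exists_with_cycleType_iff (α := Fin n) (m := m)).mpr
    ⟨by simpa using hsum, h2⟩
  have hmem : g ∈ alternatingGroup (Fin n) := by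
    rw [Equiv.Perm.mem_alternatingGroup, Equiv.Perm.sign_of_cycleType, hg]
    exact heven.neg_one_pow
  refine ⟨⟨g, hmem⟩, ?_⟩
  rw [← Subgroup.orderOf_coe, ← Equiv.Perm.lcm_cycleType, hg]

/-- facts on the cycle type of an even permutation -/
theorem cycle_facts (n : ℕ) (g : alternatingGroup (Fin n)) :
    ∃ m : Multiset ℕ, m.lcm = orderOf g ∧ m.sum ≤ n ∧ (∀ a ∈ m, 2 ≤ a) ∧
      Even (m.sum + Multiset.card m) := by
  refine ⟨(g : Equiv.Perm (Fin n)).cycleType, ?_, ?_, ?_, ?_⟩
  · rw [Equiv.Perm.lcm_cycleType, Subgroup.orderOf_coe]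
  · have := Equiv.Perm.sum_cycleType_le (g : Equiv.Perm (Fin n))
    simpa using this
  · intro a ha
    exact Equiv.Perm.two_le_of_mem_cycleType ha
  · have h1 := Equiv.Perm.mem_alternatingGroup.mp g.2
    rw [Equiv.Perm.sign_of_cycleType] at h1
    exact (neg_one_pow_eq_one_iff_even (by decide)).mp h1

/-- Adjacency of odd primes in the prime graph of the alternating groups: let r ≠ s be odd primes at most n. The alternating group of degree n has an element of order r·s if and only if r + s ≤ n. -/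
theorem result (n r s : ℕ) (hr : r.Prime) (hs : s.Prime) (hr2 : r ≠ 2) (hs2 : s ≠ 2) (hrs : r ≠ s) (hrn : r ≤ n) (hsn : s ≤ n) :
    (r * s ∈ Set.range (orderOf : alternatingGroup (Fin n) → ℕ)) ↔ r + s ≤ n := by
  have hro : Odd r := hr.odd_of_ne_two hr2
  have hso : Odd s := hs.odd_of_ne_two hs2
  constructor
  · rintro ⟨g, hg⟩
    obtain ⟨m, hm1, hm2, hm3, -⟩ := cycle_facts n g
    rw [hg] at hm1
    obtain ⟨a, ha, hra⟩ := prime_dvd_lcm hr m (hm1 ▸ Dvd.intro _ rfl)
    obtain ⟨b, hb, hsb⟩ := prime_dvd_lcm hs m (hm1 ▸ Dvd.intro_left _ rfl)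
    have ha2 := hm3 a ha
    have hb2 := hm3 b hb
    by_cases hab : a = b
    · subst hab
      have h1 : r * s ∣ a := (Nat.coprime_primes hr hs).mpr hrs |>.mul_dvd_of_dvd_of_dvd hra hsb
      have h2 : r * s ≤ a := Nat.le_of_dvd (by omega) h1
      have h3 : a ≤ m.sum := Multiset.le_sum_of_mem ha
      have h4 : r + s ≤ r * s := by
        have := hr.two_le
        have := hs.two_le
        nlinarith
      omega
    · obtain ⟨t, rfl⟩ := Multiset.exists_cons_of_mem ha
      have hbt : b ∈ t := by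
        rcases Multiset.mem_cons.mp hb with h | h
        · exact absurd h.symm hab
        · exact h
      have h3 : b ≤ t.sum := Multiset.le_sum_of_mem hbt
      rw [Multiset.sum_cons] at hm2
      have h5 : r ≤ a := Nat.le_of_dvd (by omega) hra
      have h6 : s ≤ b := Nat.le_of_dvd (by omega) hsb
      omega
  · intro h
    have hl : ({r, s} : Multiset ℕ).lcm = r * s := by
      have : ({r, s} : Multiset ℕ) = r ::ₘ {s} := rfl
      rw [this, Multiset.lcm_cons, Multiset.lcm_singleton]
      simp only [normalize_eq]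
      exact ((Nat.coprime_primes hr hs).mpr hrs).lcm_eq_mul
    rw [← hl]
    apply exists_alt
    · have : ({r, s} : Multiset ℕ) = r ::ₘ {s} := rfl
      rw [this, Multiset.sum_cons, Multiset.sum_singleton]
      exact h
    · intro a ha
      have : ({r, s} : Multiset ℕ) = r ::ₘ {s} := rfl
      rw [this, Multiset.mem_cons, Multiset.mem_singleton] at ha
      rcases ha with rfl | rfl
      · exact hr.two_le
      · exact hs.two_le
    · have : ({r, s} : Multiset ℕ) = r ::ₘ {s} := rfl
      rw [this, Multiset.sum_cons, Multiset.sum_singleton, Multiset.card_cons, Multiset.card_singleton]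
      obtain ⟨i, hi⟩ := hro
      obtain ⟨j, hj⟩ := hso
      exact ⟨i + j + 2, by omega⟩

end Cfsg.Agent.S2466
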