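import Mathlib
import Cfsg.Statements.S2467
import Cfsg.Agent.S2466

set_option autoImplicit false
open Cfsg

namespace Cfsg.Agent.S2467

theorem eq_zero_of_sum_lt_two (t : Multiset ℕ) (h2 : ∀ a ∈ t, 2 ≤ a) (h : t.sum < 2) : t = 0 := by
  by_contra hne
  obtain ⟨a, ha⟩ := Multiset.exists_mem_of_ne_zero hne
  have := Multiset.le_sum_of_mem ha
  have := h2 a ha
  omega

/-- Adjacency of 2 and an odd prime in the prime graph of the alternating groups: let r be an odd prime at most n, with n ≥ 4. The alternating group of degree n has an element of order 2r if and only if r + 4 ≤ n. -/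
theorem result (n r : ℕ) (hn : 4 ≤ n) (hr : r.Prime) (hr2 : r ≠ 2) (hrn : r ≤ n) :
    (2 * r ∈ Set.range (orderOf : alternatingGroup (Fin n) → ℕ)) ↔ r + 4 ≤ n := by
  have hro : Odd r := hr.odd_of_ne_two hr2
  have hr3 : 3 ≤ r := by
    have := hr.two_le
    omega
  constructor
  · rintro ⟨g, hg⟩
    obtain ⟨m, hm1, hm2, hm3, hm4⟩ := Cfsg.Agent.S2466.cycle_facts n g
    rw [hg] at hm1
    by_contra hlt
    push_neg at hlt
    have hdvd : ∀ a ∈ m, a ∣ 2 * r := fun a ha => hm1 ▸ Multiset.dvd_lcm ha
    obtain ⟨a, ha, hra⟩ := Cfsg.Agent.S2466.prime_dvd_lcm hr m (hm1 ▸ Dvd.intro_left _ rfl)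
    obtain ⟨b, hb, h2b⟩ := Cfsg.Agent.S2466.prime_dvd_lcm Nat.prime_two m (hm1 ▸ Dvd.intro _ rfl)
    -- a = r or a = 2r
    have ha' : a = r ∨ a = 2 * r := by
      obtain ⟨k, hk⟩ := hra
      have h1 := hdvd a ha
      rw [hk, mul_comm 2 r] at h1
      have h2 : k ∣ 2 := Nat.dvd_of_mul_dvd_mul_left (by omega) h1
      have h3 : k ≤ 2 := Nat.le_of_dvd (by norm_num) h2
      interval_cases k
      · simp at h2
      · left; omega
      · right; omega
    obtain ⟨t, rfl⟩ := Multiset.exists_cons_of_mem ha
    rw [Multiset.sum_cons] at hm2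
    rw [Multiset.sum_cons, Multiset.card_cons] at hm4
    have ht2 : ∀ c ∈ t, 2 ≤ c := fun c hc => hm3 c (Multiset.mem_cons_of_mem hc)
    rcases ha' with rfl | rfl
    · -- a = r : b is in t
      have hbt : b ∈ t := by
        rcases Multiset.mem_cons.mp hb with h | h
        · exfalso
          rw [h] at h2b
          obtain ⟨i, hi⟩ := hro
          omega
        · exact h
      obtain ⟨t', rfl⟩ := Multiset.exists_cons_of_mem hbt
      rw [Multiset.sum_cons] at hm2
      rw [Multiset.sum_cons, Multiset.card_cons] at hm4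
      have hb2 := ht2 b (Multiset.mem_cons_self b t')
      have hb3 : b = 2 := by
        obtain ⟨k, hk⟩ := h2b
        omega
      have ht' : t' = 0 := by
        apply eq_zero_of_sum_lt_two t' (fun c hc => ht2 c (Multiset.mem_cons_of_mem hc))
        omega
      subst ht'
      simp only [Multiset.sum_zero, Multiset.card_zero] at hm4
      obtain ⟨i, hi⟩ := hro
      obtain ⟨j, hj⟩ := hm4
      omega
    · -- a = 2r
      have ht : t = 0 := by
        apply eq_zero_of_sum_lt_two t ht2
        omega
      subst ht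
      simp only [Multiset.sum_zero, Multiset.card_zero] at hm4
      obtain ⟨j, hj⟩ := hm4
      omega
  · intro h
    have hm : ({r, 2, 2} : Multiset ℕ) = r ::ₘ 2 ::ₘ {2} := rfl
    have hl : ({r, 2, 2} : Multiset ℕ).lcm = 2 * r := by
      rw [hm, Multiset.lcm_cons, Multiset.lcm_cons, Multiset.lcm_singleton]
      simp only [normalize_eq]
      have h1 : GCDMonoid.lcm 2 2 = 2 := by simp
      rw [h1]
      have h2 : Nat.Coprime r 2 := by
        rw [Nat.coprime_comm, Nat.coprime_primes Nat.prime_two hr]
        exact fun h => hr2 h.symm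
      have := h2.lcm_eq_mul
      rw [mul_comm 2 r]
      exact this
    rw [← hl]
    apply Cfsg.Agent.S2466.exists_alt
    · rw [hm, Multiset.sum_cons, Multiset.sum_cons, Multiset.sum_singleton]
      omega
    · intro a ha
      rw [hm, Multiset.mem_cons, Multiset.mem_cons, Multiset.mem_singleton] at ha
      rcases ha with rfl | rfl | rfl <;> omega
    · rw [hm, Multiset.sum_cons, Multiset.sum_cons, Multiset.sum_singleton, Multiset.card_cons,
        Multiset.card_cons, Multiset.card_singleton]
      obtain ⟨i, hi⟩ := hro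
      exact ⟨i + 4, by omega⟩

end Cfsg.Agent.S2467
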