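import Mathlib
import Cfsg.Statements.S2477
import Cfsg.Agent.S2467

set_option autoImplicit false
open Cfsg

namespace Cfsg.Agent.S2477

/-- the list of admissible orders -/
def ords : List ℕ := [1, 2, 3, 4, 5, 6, 7, 8, 9, 10, 12, 15, 21]

/-- exhaustive search over cycle types: `B` remaining budget, `L` lcm so far, `c` = sum + card so far -/
def chk : ℕ → ℕ → ℕ → ℕ → Bool
  | 0, B, L, c => decide (B < 2) && (decide (c % 2 = 1) || decide (L ∈ ords))
  | f + 1, B, L, c => (decide (c % 2 = 1) || decide (L ∈ ords)) &&
      (List.range (B + 1)).all (fun a => decide (a < 2) || chk f (B - a) (Nat.lcm L a) (c + a + 1))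

theorem chk_sound (f : ℕ) : ∀ (B L c : ℕ), chk f B L c = true →
    ∀ t : Multiset ℕ, (∀ a ∈ t, 2 ≤ a) → t.sum ≤ B → Even (c + t.sum + Multiset.card t) →
      Nat.lcm L t.lcm ∈ ords := by
  induction f with
  | zero =>
    intro B L c h t ht hsum hev
    simp only [chk, Bool.and_eq_true, Bool.or_eq_true, decide_eq_true_eq] at h
    have ht0 : t = 0 := Cfsg.Agent.S2467.eq_zero_of_sum_lt_two t ht (by omega)
    subst ht0
    simp only [Multiset.sum_zero, Multiset.card_zero, add_zero] at hev
    rcases h.2 with h2 | h2
    · exfalso
      obtain ⟨k, hk⟩ := hev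
      omega
    · simpa using h2
  | succ f ih =>
    intro B L c h t ht hsum hev
    simp only [chk, Bool.and_eq_true, Bool.or_eq_true, decide_eq_true_eq, List.all_eq_true,
      List.mem_range] at h
    induction t using Multiset.induction_on with
    | empty =>
      simp only [Multiset.sum_zero, Multiset.card_zero, add_zero] at hev
      rcases h.1 with h2 | h2
      · exfalso
        obtain ⟨k, hk⟩ := hev
        omega
      · simpa using h2
    | cons a t' _ =>
      rw [Multiset.sum_cons] at hsum
      rw [Multiset.sum_cons, Multiset.card_cons] at hev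
      have ha2 : 2 ≤ a := ht a (Multiset.mem_cons_self a t')
      have h3 := h.2 a (by omega)
      rcases h3 with h3 | h3
      · omega
      · have h4 := ih (B - a) (Nat.lcm L a) (c + a + 1) h3 t'
          (fun b hb => ht b (Multiset.mem_cons_of_mem hb)) (by omega)
          (by
            have : c + a + 1 + t'.sum + Multiset.card t' = c + (a + t'.sum) + (Multiset.card t' + 1) := by
              ring
            rw [this]; exact hev)
        rw [Multiset.lcm_cons]
        have h5 : Nat.lcm L (GCDMonoid.lcm a t'.lcm) = Nat.lcm (Nat.lcm L a) t'.lcm :=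
          (Nat.lcm_assoc L a t'.lcm).symm
        rw [h5]; exact h4

theorem chk10 : chk 5 10 1 0 = true := by decide

/-- The set of element orders of the alternating group of degree 10 is {1, 2, 3, 4, 5, 6, 7, 8, 9, 10, 12, 15, 21}. -/
theorem result : Set.range (orderOf : alternatingGroup (Fin 10) → ℕ) = {1, 2, 3, 4, 5, 6, 7, 8, 9, 10, 12, 15, 21} := by
  apply Set.eq_of_subset_of_subset
  · rintro x ⟨g, rfl⟩
    obtain ⟨m, hm1, hm2, hm3, hm4⟩ := Cfsg.Agent.S2466.cycle_facts 10 g
    have h := chk_sound 5 10 1 0 chk10 m hm3 hm2 (by simpa using hm4)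
    rw [Nat.lcm_one_left, hm1] at h
    simpa [ords] using h
  · intro x hx
    simp only [Set.mem_insert_iff, Set.mem_singleton_iff] at hx
    have key : ∀ m : Multiset ℕ, m.sum ≤ 10 → (∀ a ∈ m, 2 ≤ a) → Even (m.sum + Multiset.card m) →
        m.lcm ∈ Set.range (orderOf : alternatingGroup (Fin 10) → ℕ) :=
      fun m h1 h2 h3 => Cfsg.Agent.S2466.exists_alt 10 m h1 h2 h3
    rcases hx with rfl | rfl | rfl | rfl | rfl | rfl | rfl | rfl | rfl | rfl | rfl | rfl | rfl
    · exact key 0 (by decide) (by decide) (by decide)
    · exact key {2, 2} (by decide) (by decide) (by decide)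
    · exact key {3} (by decide) (by decide) (by decide)
    · exact key {4, 2} (by decide) (by decide) (by decide)
    · exact key {5} (by decide) (by decide) (by decide)
    · exact key {3, 2, 2} (by decide) (by decide) (by decide)
    · exact key {7} (by decide) (by decide) (by decide)
    · exact key {8, 2} (by decide) (by decide) (by decide)
    · exact key {9} (by decide) (by decide) (by decide)
    · exact key {5, 2, 2} (by decide) (by decide) (by decide)
    · exact key {4, 3, 2} (by decide) (by decide) (by decide)
    · exact key {5, 3} (by decide) (by decide) (by decide)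
    · exact key {7, 3} (by decide) (by decide) (by decide)

end Cfsg.Agent.S2477
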