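import Mathlib
import Cfsg.Statements.S2610
import Cfsg.Agent.S2613

set_option autoImplicit false
open Cfsg

namespace Cfsg.Agent.S2610

open Matrix
open Cfsg.Agent.S5754 (rfl0 rfl0_apply rfl0_self)
open Cfsg.Agent.S0792 (app app_cons)
open Cfsg.Agent.S0786 (appL appL_apply rfl_fix)
open Cfsg.Agent.S2630 (Act)
open Cfsg.Agent.S2613 (exists_act)

section
variable {F V : Type*} [Field F] [AddCommGroup V] [Module F V] (Q : QuadraticForm F V)

theorem app_basis {κ : Type*} [DecidableEq κ] (v : κ → V) (hQv : ∀ i, Q (v i) ≠ 0)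
    (ho : ∀ i j, i ≠ j → QuadraticMap.polar Q (v i) (v j) = 0) (j : κ) :
    ∀ L : List κ, L.Nodup → app Q (L.map v) (v j) = if j ∈ L then -(v j) else v j := by
  intro L
  induction L with
  | nil => intro _; rfl
  | cons a L ih =>
    intro hnd
    rw [List.nodup_cons] at hnd
    rw [List.map_cons, app_cons, ih hnd.2]
    by_cases hja : j = a
    · subst hja
      rw [if_neg hnd.1, rfl0_self Q (v j) (hQv j), if_pos List.mem_cons_self]
    · have hfix : rfl0 Q (v a) (v j) = v j :=
        rfl_fix Q (v a) (v j) (ho a j (fun h => hja h.symm))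
      by_cases hj : j ∈ L
      · rw [if_pos hj, if_pos (List.mem_cons_of_mem _ hj), map_neg, hfix]
      · rw [if_neg hj, if_neg (fun h => by
          rcases List.mem_cons.1 h with h | h
          · exact hja h
          · exact hj h), hfix]

end

/-- For a quadratic form Q on F^n with non-degenerate polar form, F finite of odd order and n ≥ 2 even, the isometry −1 lies in Ω (the commutator subgroup of the orthogonal group) if and only if the discriminant of Q (the determinant of the Gram matrix of its polar form) is a square. -/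
theorem result {F : Type*} [Field F] [Fintype F] (h2 : (2 : F) ≠ 0) {n : ℕ} (hn : 2 ≤ n) (he : Even n) (Q : QuadraticForm F (Fin n → F)) (hQ : (QuadraticMap.polarBilin Q).Nondegenerate) : (∃ g : ↥(Cfsg.isometryGroup F ⇑Q), g ∈ Cfsg.Omega F ⇑Q ∧ ((g : Matrix.GeneralLinearGroup (Fin n) F) : Matrix (Fin n) (Fin n) F) = -1) ↔ IsSquare (Matrix.of (fun i j : Fin n => QuadraticMap.polar ⇑Q (Pi.single i 1) (Pi.single j 1))).det := by
  classical
  have hV : Module.finrank F (Fin n → F) = n := by
    rw [Module.finrank_fintype_fun_eq_card, Fintype.card_fin]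
  have : Invertible (2 : F) := invertibleOfNonzero h2
  have hsymm : (QuadraticMap.polarBilin Q).IsSymm := ⟨fun x y => QuadraticMap.polar_comm _ _ _⟩
  obtain ⟨v0, hv0⟩ := LinearMap.BilinForm.exists_orthogonal_basis hsymm
  obtain ⟨v, ho⟩ : ∃ v : Module.Basis (Fin n) F (Fin n → F),
      ∀ i j, i ≠ j → QuadraticMap.polar (⇑Q) (v i) (v j) = 0 := by
    refine ⟨v0.reindex (finCongr hV), fun i j hij => ?_⟩
    have h1 : QuadraticMap.polarBilin Q (v0 ((finCongr hV).symm i)) (v0 ((finCongr hV).symm j)) = 0 :=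
      hv0 (fun h => hij ((finCongr hV).symm.injective h))
    rw [Module.Basis.reindex_apply, Module.Basis.reindex_apply]
    exact h1
  have hQv : ∀ i, Q (v i) ≠ 0 := by
    intro i hi
    have h1 : QuadraticMap.polarBilin Q (v i) (v i) ≠ 0 :=
      LinearMap.IsOrthoᵢ.not_isOrtho_basis_self_of_separatingLeft (B := QuadraticMap.polarBilin Q)
        (v := v) (fun a b hab => ho a b hab) hQ.1 i
    apply h1
    show QuadraticMap.polar (⇑Q) (v i) (v i) = 0
    rw [QuadraticMap.polar_self, hi, smul_zero]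
  obtain ⟨l, hl⟩ : ∃ l : List (Fin n → F), l = (List.finRange n).map v := ⟨_, rfl⟩
  have hne : ∀ d ∈ l, Q d ≠ 0 := by
    intro d hd
    rw [hl, List.mem_map] at hd
    obtain ⟨i, -, rfl⟩ := hd
    exact hQv i
  have happ : ∀ x, app Q l x = -x := by
    have h1 : appL Q l = -LinearMap.id := by
      apply v.ext
      intro j
      rw [appL_apply, hl, app_basis Q v hQv ho j _ (List.nodup_finRange n),
        if_pos (List.mem_finRange j)]
      rfl
    intro x
    rw [← appL_apply, h1]
    rfl
  obtain ⟨g0, hact⟩ := exists_act Q l hne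
  have hmat : ((g0 : Matrix.GeneralLinearGroup (Fin n) F) : Matrix (Fin n) (Fin n) F) = -1 := by
    apply Matrix.toLin'.injective
    apply LinearMap.ext
    intro x
    rw [Matrix.toLin'_apply, hact x, happ, Matrix.toLin'_apply, Matrix.neg_mulVec,
      Matrix.one_mulVec]
  have hc := Cfsg.Agent.S2609.crit Q h2 hQ (by rw [hV]; exact hn) g0 l hne hact
  have hlen : l.length = n := by rw [hl, List.length_map, List.length_finRange]
  have hprod : (l.map (fun d => Q d)).prod = ∏ i, Q (v i) := by
    rw [hl, List.map_map, ← List.ofFn_eq_map, List.prod_ofFn]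
    rfl
  rw [hlen, hprod] at hc
  obtain ⟨G, hGd⟩ : ∃ G : Matrix (Fin n) (Fin n) F,
      G = Matrix.of (fun i j : Fin n => QuadraticMap.polar ⇑Q (Pi.single i 1) (Pi.single j 1)) :=
    ⟨_, rfl⟩
  rw [← hGd]
  have hG : G = LinearMap.BilinForm.toMatrix (Pi.basisFun F (Fin n)) (QuadraticMap.polarBilin Q) := by
    rw [LinearMap.BilinForm.toMatrix_basisFun, hGd]
    ext i j
    rw [LinearMap.BilinForm.toMatrix'_apply]
    rfl
  have hD : LinearMap.BilinForm.toMatrix v (QuadraticMap.polarBilin Q) =
      Matrix.diagonal (fun i => 2 * Q (v i)) := by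
    ext i j
    rw [LinearMap.BilinForm.toMatrix_apply]
    by_cases hij : i = j
    · subst hij
      rw [Matrix.diagonal_apply_eq]
      show QuadraticMap.polar (⇑Q) (v i) (v i) = _
      rw [QuadraticMap.polar_self, two_nsmul, two_mul]
    · rw [Matrix.diagonal_apply_ne _ hij]
      exact ho i j hij
  have hE := LinearMap.BilinForm.toMatrix_mul_basis_toMatrix (Pi.basisFun F (Fin n)) v
    (QuadraticMap.polarBilin Q)
  have hdet := congrArg Matrix.det hE
  rw [Matrix.det_mul, Matrix.det_mul, Matrix.det_transpose, hD, Matrix.det_diagonal, ← hG] at hdet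
  have hP : ((Pi.basisFun F (Fin n)).toMatrix v).det ≠ 0 := by
    have h3 := congrArg Matrix.det (Module.Basis.toMatrix_mul_toMatrix_flip (Pi.basisFun F (Fin n)) v)
    rw [Matrix.det_mul, Matrix.det_one] at h3
    intro h
    rw [h, zero_mul] at h3
    exact zero_ne_one h3
  have hprod2 : ∏ i, 2 * Q (v i) = 2 ^ n * ∏ i, Q (v i) := by
    rw [Finset.prod_mul_distrib, Finset.prod_const, Finset.card_univ, Fintype.card_fin]
  have he' : Even n := he
  obtain ⟨k, hk⟩ := he'
  have h2n : (2 : F) ^ n = 2 ^ k * 2 ^ k := by rw [hk, pow_add]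
  have h2k : (2 : F) ^ k ≠ 0 := pow_ne_zero _ h2
  rw [hprod2, h2n] at hdet
  have hiff : IsSquare (∏ i, Q (v i)) ↔ IsSquare G.det := by
    constructor
    · rintro ⟨t, ht⟩
      refine ⟨2 ^ k * t / ((Pi.basisFun F (Fin n)).toMatrix v).det, ?_⟩
      rw [div_mul_div_comm, eq_div_iff (mul_ne_zero hP hP)]
      rw [ht] at hdet
      linear_combination hdet
    · rintro ⟨s, hs⟩
      refine ⟨((Pi.basisFun F (Fin n)).toMatrix v).det * s / 2 ^ k, ?_⟩
      rw [div_mul_div_comm, eq_div_iff (mul_ne_zero h2k h2k)]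
      rw [hs] at hdet
      linear_combination -hdet
  have hc' : g0 ∈ Cfsg.Omega F ⇑Q ↔ IsSquare G.det :=
    hc.trans ⟨fun h => hiff.1 h.2, fun h => ⟨he, hiff.2 h⟩⟩
  rw [← hc']
  constructor
  · rintro ⟨g, hg, hgm⟩
    have : g = g0 := by
      apply Subtype.ext
      apply Units.ext
      rw [hgm, hmat]
    rw [← this]; exact hg
  · intro h
    exact ⟨g0, h, hmat⟩

end Cfsg.Agent.S2610
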