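import Mathlib
import Cfsg.Statements.S2611
import Cfsg.Agent.S2613

set_option autoImplicit false
open Cfsg

namespace Cfsg.Agent.S2611

open Matrix
open Cfsg.Agent.S5754 (rfl0 rfl0_apply rfl0_invol rfl0_iso)
open Cfsg.Agent.S0792 (app app_cons)
open Cfsg.Agent.S2630 (Act)
open Cfsg.Agent.S2628 (mem_iso_iff exists_invol)
open Cfsg.Agent.S0790 (uv polar_uv Q_uv)
open Cfsg.Agent.S2613 (exists_act)
open Cfsg.Agent.S0788 (chi ker_eq)

section
variable {F : Type*} [Field F] {m : ℕ}

theorem blk_mul (A B : Matrix (Fin m) (Fin m) F) :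
    fromBlocks A 0 0 (A⁻¹)ᵀ * fromBlocks B 0 0 (B⁻¹)ᵀ = fromBlocks (A * B) 0 0 ((A * B)⁻¹)ᵀ := by
  rw [Matrix.fromBlocks_multiply]
  simp only [Matrix.mul_zero, Matrix.zero_mul, add_zero, zero_add]
  rw [Matrix.mul_inv_rev, Matrix.transpose_mul]

theorem exists_blk (Qf : (Fin m ⊕ Fin m → F) → F)
    (hq : ∀ v, Qf v = dotProduct (v ∘ Sum.inl) (v ∘ Sum.inr))
    (M : Matrix (Fin m) (Fin m) F) (hM : M.det ≠ 0) :
    ∃ g : ↥(Cfsg.isometryGroup F Qf),
      ((g : Matrix.GeneralLinearGroup (Fin m ⊕ Fin m) F) : Matrix (Fin m ⊕ Fin m) (Fin m ⊕ Fin m) F) =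
        fromBlocks M 0 0 (M⁻¹)ᵀ := by
  have hu : IsUnit M.det := isUnit_iff_ne_zero.2 hM
  have h1 : M * M⁻¹ = 1 := Matrix.mul_nonsing_inv M hu
  have h2 : M⁻¹ * M = 1 := Matrix.nonsing_inv_mul M hu
  have e1 : fromBlocks M 0 0 (M⁻¹)ᵀ * fromBlocks M⁻¹ 0 0 Mᵀ = 1 := by
    rw [Matrix.fromBlocks_multiply]
    simp only [Matrix.mul_zero, Matrix.zero_mul, add_zero, zero_add]
    rw [h1, ← Matrix.transpose_mul, h1, Matrix.transpose_one, Matrix.fromBlocks_one]
  have e2 : fromBlocks M⁻¹ 0 0 Mᵀ * fromBlocks M 0 0 (M⁻¹)ᵀ = 1 := by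
    rw [Matrix.fromBlocks_multiply]
    simp only [Matrix.mul_zero, Matrix.zero_mul, add_zero, zero_add]
    rw [h2, ← Matrix.transpose_mul, h2, Matrix.transpose_one, Matrix.fromBlocks_one]
  refine ⟨⟨⟨_, _, e1, e2⟩, ?_⟩, rfl⟩
  rw [mem_iso_iff]
  intro u
  show Qf (fromBlocks M 0 0 (M⁻¹)ᵀ *ᵥ u) = Qf u
  rw [Matrix.fromBlocks_mulVec]
  simp only [Matrix.zero_mulVec, add_zero, zero_add]
  rw [hq, hq]
  have e3 : (Sum.elim (M *ᵥ (u ∘ Sum.inl)) ((M⁻¹)ᵀ *ᵥ (u ∘ Sum.inr))) ∘ Sum.inl =
      M *ᵥ (u ∘ Sum.inl) := rfl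
  have e4 : (Sum.elim (M *ᵥ (u ∘ Sum.inl)) ((M⁻¹)ᵀ *ᵥ (u ∘ Sum.inr))) ∘ Sum.inr =
      (M⁻¹)ᵀ *ᵥ (u ∘ Sum.inr) := rfl
  rw [e3, e4, Matrix.dotProduct_mulVec, Matrix.vecMul_transpose, Matrix.mulVec_mulVec, h2,
    Matrix.one_mulVec]

variable (Qp : QuadraticForm F (Fin m ⊕ Fin m → F)) (hQp : ⇑Qp = Cfsg.quadFormPlus m F)
include hQp

theorem pair_d (d : F) (hd : d ≠ 0) (j : Fin m) (x : Fin m ⊕ Fin m → F) :
    rfl0 Qp (uv 1 j) (rfl0 Qp (uv d j) x) =
      Sum.elim (fun i => if i = j then d * x (Sum.inl i) else x (Sum.inl i))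
        (fun i => if i = j then d⁻¹ * x (Sum.inr i) else x (Sum.inr i)) := by
  have hp : ∀ e y, QuadraticMap.polar (⇑Qp) e y = QuadraticMap.polar (Cfsg.quadFormPlus m F) e y := by
    intro e y; rw [hQp]
  have hq : ∀ e, Qp e = Cfsg.quadFormPlus m F e := by
    intro e; rw [hQp]
  have e1 : ∀ y, rfl0 Qp (uv 1 j) y = y - (y (Sum.inr j) + y (Sum.inl j)) • uv 1 j := by
    intro y
    rw [rfl0_apply, hp, hq, polar_uv, Q_uv, inv_one, one_mul, one_mul]
  have e2 : ∀ y, rfl0 Qp (uv d j) y =
      y - (d⁻¹ * (y (Sum.inr j) + d * y (Sum.inl j))) • uv d j := by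
    intro y
    rw [rfl0_apply, hp, hq, polar_uv, Q_uv]
  rw [e1, e2]
  funext i
  rcases i with i | i
  · by_cases hij : i = j
    · subst hij
      simp [uv]
      field_simp
      ring
    · simp [uv, hij]
  · by_cases hij : i = j
    · subst hij
      simp [uv]
      field_simp
      ring
    · simp [uv, hij]

/-- reflection list for the diagonal element -/
def lstD (D : Fin m → F) (L : List (Fin m)) : List (Fin m ⊕ Fin m → F) :=
  L.flatMap (fun j => [uv 1 j, uv (D j) j])

omit hQp in
theorem lstD_cons (D : Fin m → F) (a : Fin m) (L : List (Fin m)) :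
    lstD D (a :: L) = uv 1 a :: uv (D a) a :: lstD D L := by
  unfold lstD
  rw [List.flatMap_cons]
  rfl

omit hQp in
theorem lstD_len (D : Fin m → F) (L : List (Fin m)) : (lstD D L).length = 2 * L.length := by
  induction L with
  | nil => rfl
  | cons a L ih => rw [lstD_cons, List.length_cons, List.length_cons, ih, List.length_cons]; ring

theorem lstD_prod (D : Fin m → F) (L : List (Fin m)) :
    ((lstD D L).map (fun v => Qp v)).prod = (L.map D).prod := by
  induction L with
  | nil => simp [lstD]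
  | cons a L ih =>
    rw [lstD_cons, List.map_cons, List.map_cons, List.prod_cons, List.prod_cons, ih,
      List.map_cons, List.prod_cons, hQp, Q_uv, Q_uv, one_mul]

theorem lstD_ne (D : Fin m → F) (hD : ∀ j, D j ≠ 0) (L : List (Fin m)) :
    ∀ d ∈ lstD D L, Qp d ≠ 0 := by
  intro d hd
  unfold lstD at hd
  rw [List.mem_flatMap] at hd
  obtain ⟨j, -, hj⟩ := hd
  rw [hQp]
  simp only [List.mem_cons, List.not_mem_nil, or_false] at hj
  rcases hj with rfl | rfl
  · rw [Q_uv]; exact one_ne_zero
  · rw [Q_uv]; exact hD j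

theorem lstD_app (D : Fin m → F) (hD : ∀ j, D j ≠ 0) (L : List (Fin m))
    (x : Fin m ⊕ Fin m → F) :
    app Qp (lstD D L) x = Sum.elim (fun i => D i ^ L.count i * x (Sum.inl i))
      (fun i => (D i)⁻¹ ^ L.count i * x (Sum.inr i)) := by
  induction L with
  | nil =>
    funext i
    rcases i with i | i
    · simp [lstD, app]
    · simp [lstD, app]
  | cons a L ih =>
    rw [lstD_cons, app_cons, app_cons, ih, pair_d Qp hQp (D a) (hD a)]
    funext i
    rcases i with i | i
    · simp only [Sum.elim_inl]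
      by_cases hi : i = a
      · rw [if_pos hi, hi, List.count_cons_self, pow_succ]; ring
      · rw [if_neg hi, List.count_cons_of_ne (fun h => hi h.symm)]
    · simp only [Sum.elim_inr]
      by_cases hi : i = a
      · rw [if_pos hi, hi, List.count_cons_self, pow_succ]; ring
      · rw [if_neg hi, List.count_cons_of_ne (fun h => hi h.symm)]

end

theorem sqmul {F : Type*} [Field F] [Fintype F] (h2 : (2 : F) ≠ 0) (x y : F) (hx : x ≠ 0)
    (hy : y ≠ 0) : IsSquare (x * y) ↔ (IsSquare x ↔ IsSquare y) := by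
  classical
  have hchar : ringChar F ≠ 2 := fun h => h2 (by
    have := CharP.cast_eq_zero F (ringChar F)
    rw [h] at this
    exact_mod_cast this)
  rw [← quadraticChar_one_iff_isSquare (mul_ne_zero hx hy), ← quadraticChar_one_iff_isSquare hx,
    ← quadraticChar_one_iff_isSquare hy, map_mul]
  rcases quadraticChar_dichotomy hx with h | h <;> rcases quadraticChar_dichotomy hy with h' | h' <;>
    rw [h, h'] <;> norm_num

/-- For the hyperbolic quadratic form Σ x_i y_i on F^(2m) (F finite, m ≥ 1, excluding m = 2 over the field of two elements) and an invertible m × m matrix A, the block-diagonal isometry diag(A, (A⁻¹)ᵀ), which stabilises the two maximal totally singular subspaces x = 0 and y = 0, lies in Ω⁺_2m(F) (the commutator subgroup of the orthogonal group) if and only if det A is a square in F. -/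
theorem result {F : Type*} [Field F] [Fintype F] {m : ℕ} (hm : 1 ≤ m) (h : Fintype.card F ≠ 2 ∨ m ≠ 2) (A : GL (Fin m) F) : (∃ g : ↥(Cfsg.isometryGroup F (Cfsg.quadFormPlus m F)), g ∈ Cfsg.Omega F (Cfsg.quadFormPlus m F) ∧ ((g : Matrix.GeneralLinearGroup (Fin m ⊕ Fin m) F) : Matrix (Fin m ⊕ Fin m) (Fin m ⊕ Fin m) F) = Matrix.fromBlocks (A : Matrix (Fin m) (Fin m) F) 0 0 ((A : Matrix (Fin m) (Fin m) F)⁻¹).transpose) ↔ IsSquare (A : Matrix (Fin m) (Fin m) F).det := by
  classical
  have hAdet : (A : Matrix (Fin m) (Fin m) F).det ≠ 0 := (Matrix.isUnits_det_units A).ne_zero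
  by_cases h2 : (2 : F) = 0
  · -- characteristic 2
    have hcp : CharP F 2 := CharTwo.of_one_ne_zero_of_two_eq_zero one_ne_zero h2
    have hsq : IsSquare (A : Matrix (Fin m) (Fin m) F).det :=
      FiniteField.isSquare_of_char_two (CharP.ringChar_of_prime_eq_zero Nat.prime_two h2) _
    refine ⟨fun _ => hsq, fun _ => ?_⟩
    obtain ⟨g, hg⟩ := exists_blk (Cfsg.quadFormPlus m F) (fun v => rfl)
      (A : Matrix (Fin m) (Fin m) F) hAdet
    refine ⟨g, ?_, hg⟩
    rw [← Cfsg.Agent.S2630.result hm h g]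
    have hV : Module.finrank F (Fin m ⊕ Fin m → F) = 2 * m := by
      rw [Module.finrank_fintype_fun_eq_card, Fintype.card_sum, Fintype.card_fin]; ring
    have hsurj : LinearMap.range (LinearMap.funLeft F F (Sum.inr : Fin m → Fin m ⊕ Fin m)) = ⊤ := by
      rw [LinearMap.range_eq_top]
      intro x
      exact ⟨Sum.elim 0 x, by funext i; rfl⟩
    have hU₀f : Module.finrank F
        ↥(LinearMap.ker (LinearMap.funLeft F F (Sum.inr : Fin m → Fin m ⊕ Fin m))) = m := by
      have h3 := LinearMap.finrank_range_add_finrank_ker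
        (LinearMap.funLeft F F (Sum.inr : Fin m → Fin m ⊕ Fin m))
      rw [hsurj, finrank_top, Module.finrank_fintype_fun_eq_card, Fintype.card_fin, hV] at h3
      omega
    have hle : (LinearMap.ker (LinearMap.funLeft F F (Sum.inr : Fin m → Fin m ⊕ Fin m))).map
        (Matrix.mulVecLin ((g : Matrix.GeneralLinearGroup (Fin m ⊕ Fin m) F) : Matrix (Fin m ⊕ Fin m) (Fin m ⊕ Fin m) F)) ≤
        LinearMap.ker (LinearMap.funLeft F F (Sum.inr : Fin m → Fin m ⊕ Fin m)) := by
      rintro _ ⟨v, hv, rfl⟩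
      rw [SetLike.mem_coe, LinearMap.mem_ker] at hv
      rw [LinearMap.mem_ker, Matrix.mulVecLin_apply, hg, Matrix.fromBlocks_mulVec]
      have hv' : v ∘ Sum.inr = 0 := hv
      rw [hv']
      funext i
      simp
    have hinj : Function.Injective (Matrix.mulVecLin ((g : Matrix.GeneralLinearGroup (Fin m ⊕ Fin m) F) : Matrix (Fin m ⊕ Fin m) (Fin m ⊕ Fin m) F)) := by
      rw [Matrix.coe_mulVecLin, Matrix.mulVec_injective_iff_isUnit]
      exact Units.isUnit g.1
    have hfr := (Submodule.equivMapOfInjective _ hinj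
      (LinearMap.ker (LinearMap.funLeft F F (Sum.inr : Fin m → Fin m ⊕ Fin m)))).finrank_eq
    rw [inf_eq_right.2 hle, ← hfr, hU₀f, Nat.sub_self]
    exact Even.zero
  · -- odd characteristic
    obtain ⟨Qp, hQp, hnd⟩ := Cfsg.Agent.S2169.exists_Qp (F := F) m
    have key : ∀ (Qf : (Fin m ⊕ Fin m → F) → F), ⇑Qp = Qf →
        ((∃ g : ↥(Cfsg.isometryGroup F Qf), g ∈ Cfsg.Omega F Qf ∧ ((g : Matrix.GeneralLinearGroup (Fin m ⊕ Fin m) F) : Matrix (Fin m ⊕ Fin m) (Fin m ⊕ Fin m) F) = Matrix.fromBlocks (A : Matrix (Fin m) (Fin m) F) 0 0 ((A : Matrix (Fin m) (Fin m) F)⁻¹).transpose) ↔ IsSquare (A : Matrix (Fin m) (Fin m) F).det) := by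
      rintro _ rfl
      have hq : ∀ v, Qp v = dotProduct (v ∘ Sum.inl) (v ∘ Sum.inr) := fun v => by
        rw [hQp]; rfl
      have hV : Module.finrank F (Fin m ⊕ Fin m → F) = m + m := by
        rw [Module.finrank_fintype_fun_eq_card, Fintype.card_sum, Fintype.card_fin]
      have htop : (⊤ : Submodule F (Fin m ⊕ Fin m → F)) ⊓
          LinearMap.BilinForm.orthogonal (QuadraticMap.polarBilin Qp) ⊤ = ⊥ := by
        rw [eq_bot_iff]
        rintro x ⟨-, hx⟩
        rw [Submodule.mem_bot]
        apply hnd.1 x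
        intro y
        show QuadraticMap.polar Qp x y = 0
        rw [QuadraticMap.polar_comm]
        exact hx y Submodule.mem_top
      obtain ⟨a₀, -, b₀, -, hQa₀, hQb₀, hab₀⟩ := Cfsg.Agent.S2632.exists_aniso2 Qp h2 ⊤ htop
        (by rw [finrank_top, hV]; omega)
      obtain ⟨a, -, b, -, hQa, hQb, hns⟩ := Cfsg.Agent.S2632.exists_other Qp h2 ⊤ a₀ b₀
        Submodule.mem_top Submodule.mem_top hQa₀ hQb₀ hab₀
      obtain ⟨ta, hta2, hta⟩ := exists_invol ⇑Qp (rfl0 Qp a) (rfl0_invol Qp a hQa)
        (rfl0_iso Qp a hQa)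
      obtain ⟨tb, htb2, htb⟩ := exists_invol ⇑Qp (rfl0 Qp b) (rfl0_invol Qp b hQb)
        (rfl0_iso Qp b hQb)
      obtain ⟨-, hker⟩ := ker_eq Qp h2 hnd a b hQa hQb hns ta tb (fun x => hta x)
        (fun x => htb x) hta2 htb2
      -- the induction over transvections and diagonal matrices
      have hP : ∀ M : Matrix (Fin m) (Fin m) F, M.det ≠ 0 →
          ∃ g : ↥(Cfsg.isometryGroup F ⇑Qp),
            ((g : Matrix.GeneralLinearGroup (Fin m ⊕ Fin m) F) : Matrix (Fin m ⊕ Fin m) (Fin m ⊕ Fin m) F) = fromBlocks M 0 0 (M⁻¹)ᵀ ∧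
            chi Qp (Qp a) g = chi Qp (Qp b) g ∧ (chi Qp (Qp a) g = 1 ↔ IsSquare M.det) := by
        intro M hM
        refine Matrix.diagonal_transvection_induction_of_det_ne_zero
          (fun M => ∃ g : ↥(Cfsg.isometryGroup F ⇑Qp),
            ((g : Matrix.GeneralLinearGroup (Fin m ⊕ Fin m) F) : Matrix (Fin m ⊕ Fin m) (Fin m ⊕ Fin m) F) = fromBlocks M 0 0 (M⁻¹)ᵀ ∧
            chi Qp (Qp a) g = chi Qp (Qp b) g ∧ (chi Qp (Qp a) g = 1 ↔ IsSquare M.det)) M hM ?_ ?_ ?_
        · -- diagonal
          intro D hdet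
          have hD : ∀ j, D j ≠ 0 := by
            intro j hj
            apply hdet
            rw [Matrix.det_diagonal]
            exact Finset.prod_eq_zero (Finset.mem_univ j) hj
          have hne := lstD_ne Qp hQp D hD (List.finRange m)
          obtain ⟨g, hact⟩ := exists_act Qp (lstD D (List.finRange m)) hne
          have hinv : ((Matrix.diagonal D)⁻¹)ᵀ = Matrix.diagonal (fun i => (D i)⁻¹) := by
            have h1 : (Matrix.diagonal D)⁻¹ = Matrix.diagonal (fun i => (D i)⁻¹) := by
              apply Matrix.inv_eq_right_inv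
              rw [Matrix.diagonal_mul_diagonal]
              have : (fun i => D i * (D i)⁻¹) = fun _ => (1 : F) := by
                funext i; exact mul_inv_cancel₀ (hD i)
              rw [this]; exact Matrix.diagonal_one
            rw [h1, Matrix.diagonal_transpose]
          have hprodD : ((List.finRange m).map D).prod = ∏ j, D j := by
            rw [← List.ofFn_eq_map, List.prod_ofFn]
          have hz : ∀ c : F, c ≠ 0 → ((chi Qp c g : ℤˣ) : ℤ) = quadraticChar F (∏ j, D j) := by
            intro c hc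
            have h3 := Cfsg.Agent.S2609.chiZ Qp h2 c hc _ hne g hact
            rw [lstD_len, lstD_prod Qp hQp, List.length_finRange, hprodD] at h3
            have h4 : (-quadraticChar F c) ^ (2 * m) = 1 := by
              rw [pow_mul, neg_sq, quadraticChar_sq_one hc, one_pow]
            rw [h4, one_mul] at h3
            exact h3
          refine ⟨g, ?_, Units.ext ((hz _ hQa).trans (hz _ hQb).symm), ?_⟩
          · apply Matrix.toLin'.injective
            apply LinearMap.ext
            intro x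
            rw [Matrix.toLin'_apply, hact x, lstD_app Qp hQp D hD, Matrix.toLin'_apply,
              Matrix.fromBlocks_mulVec, hinv, Matrix.zero_mulVec, Matrix.zero_mulVec, add_zero,
              zero_add]
            funext k
            rcases k with k | k
            · simp only [Sum.elim_inl]
              rw [List.count_eq_one_of_mem (List.nodup_finRange m) (List.mem_finRange _), pow_one,
                Matrix.mulVec_diagonal]
              rfl
            · simp only [Sum.elim_inr]
              rw [List.count_eq_one_of_mem (List.nodup_finRange m) (List.mem_finRange _), pow_one,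
                Matrix.mulVec_diagonal]
              rfl
          · rw [Matrix.det_diagonal]
            have hpne : (∏ j, D j) ≠ 0 := Finset.prod_ne_zero_iff.2 (fun j _ => hD j)
            rw [← quadraticChar_one_iff_isSquare hpne, ← hz _ hQa]
            constructor
            · intro h; rw [h]; rfl
            · intro h; exact Units.ext h
        · -- transvections
          intro t
          have hne2 : NeZero (2 : F) := ⟨h2⟩
          have hdet1 : (Matrix.transvection t.i t.j (t.c / 2)).det ≠ 0 := by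
            rw [Matrix.det_transvection_of_ne _ _ t.hij]; exact one_ne_zero
          obtain ⟨h0, hh0⟩ := exists_blk (⇑Qp) hq (Matrix.transvection t.i t.j (t.c / 2)) hdet1
          have hT : Matrix.transvection t.i t.j (t.c / 2) * Matrix.transvection t.i t.j (t.c / 2) =
              t.toMatrix := by
            rw [Matrix.transvection_mul_transvection_same (h := t.hij), add_halves]
            rfl
          refine ⟨h0 * h0, ?_, ?_, ?_⟩
          · rw [Subgroup.coe_mul, Units.val_mul, hh0, blk_mul, hT]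
          · rw [map_mul, map_mul, Int.units_mul_self, Int.units_mul_self]
          · rw [map_mul, Int.units_mul_self]
            have : t.toMatrix.det = 1 := Matrix.det_transvection_of_ne _ _ t.hij _
            rw [this]
            exact ⟨fun _ => ⟨1, by ring⟩, fun _ => rfl⟩
        · -- products
          rintro M N hMd hNd ⟨g, hg, hgab, hgsq⟩ ⟨g', hg', hgab', hgsq'⟩
          refine ⟨g * g', ?_, ?_, ?_⟩
          · rw [Subgroup.coe_mul, Units.val_mul, hg, hg', blk_mul]
          · rw [map_mul, map_mul, hgab, hgab']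
          · rw [map_mul, Matrix.det_mul, sqmul h2 _ _ hMd hNd, ← hgsq, ← hgsq']
            rcases Int.units_eq_one_or (chi Qp (Qp a) g) with e | e <;>
              rcases Int.units_eq_one_or (chi Qp (Qp a) g') with e' | e' <;>
              rw [e, e'] <;> decide
      obtain ⟨g0, hmat, hab, hsq⟩ := hP (A : Matrix (Fin m) (Fin m) F) hAdet
      have hc' : g0 ∈ Cfsg.Omega F ⇑Qp ↔ IsSquare (A : Matrix (Fin m) (Fin m) F).det := by
        rw [← hsq]
        refine (hker g0).trans ⟨fun h => h.1, fun h => ⟨h, ?_⟩⟩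
        rw [← hab]; exact h
      rw [← hc']
      constructor
      · rintro ⟨g, hg, hgm⟩
        have : g = g0 := by
          apply Subtype.ext
          apply Units.ext
          rw [hgm, hmat]
        rw [← this]; exact hg
      · intro h
        exact ⟨g0, h, hmat⟩
    exact key _ hQp

end Cfsg.Agent.S2611
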