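import Mathlib
import Cfsg.Statements.S2629
import Cfsg.Agent.S2169

set_option autoImplicit false
open Cfsg

namespace Cfsg.Agent.S2629

open Matrix
open Cfsg.Agent.S5754 (rfl0 rfl0_apply rfl0_invol rfl0_iso)
open Cfsg.Agent.S0792 (app)
open Cfsg.Agent.S0786 (appL appL_apply)
open Cfsg.Agent.S2630 (class_parity)
open Cfsg.Agent.S2628 (mem_iso_iff)

section gen
variable {F : Type*} [Field F] {ι : Type} [Fintype ι] [DecidableEq ι]
  (Q : QuadraticForm F (ι → F))

theorem pv_dot (d x : ι → F) :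
    (fun j => QuadraticMap.polar Q d (Pi.single j 1)) ⬝ᵥ x = QuadraticMap.polar Q d x := by
  have h := LinearMap.pi_apply_eq_sum_univ (QuadraticMap.polarBilin Q d) x
  simp only [QuadraticMap.polarBilin_apply_apply] at h
  rw [h]
  unfold dotProduct
  refine Finset.sum_congr rfl fun i _ => ?_
  rw [smul_eq_mul, mul_comm]
  have e : (fun j => if i = j then (1 : F) else 0) = Pi.single i 1 := by
    ext j
    simp [Pi.single_apply, eq_comm]
  rw [e]

theorem det_rfl (d : ι → F) (hd : Q d ≠ 0) : LinearMap.det (rfl0 Q d) = -1 := by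
  rw [← LinearMap.det_toMatrix']
  have e : LinearMap.toMatrix' (rfl0 Q d) =
      1 + vecMulVec ((-(Q d)⁻¹) • d) (fun j => QuadraticMap.polar Q d (Pi.single j 1)) := by
    apply Cfsg.Agent.Lib.Helper5.matrix_ext_mulVec
    intro x
    rw [LinearMap.toMatrix'_mulVec, rfl0_apply, Matrix.add_mulVec, Matrix.one_mulVec,
      Matrix.vecMulVec_mulVec, pv_dot, op_smul_eq_smul, smul_smul, sub_eq_add_neg, ← neg_smul]
    congr 2
    ring
  rw [e, Cfsg.Agent.Lib.Helper5.det_one_add_vecMulVec, dotProduct_smul, pv_dot,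
    QuadraticMap.polar_self, smul_eq_mul]
  have h3 : (Q d)⁻¹ * (2 • Q d) = 2 := by
    rw [nsmul_eq_mul]; field_simp
    norm_num
  rw [neg_mul, h3]; norm_num

theorem det_appL (l : List (ι → F)) (hl : ∀ d ∈ l, Q d ≠ 0) :
    LinearMap.det (appL Q l) = (-1) ^ l.length := by
  induction l with
  | nil =>
    show LinearMap.det (LinearMap.id : (ι → F) →ₗ[F] (ι → F)) = _
    simp
  | cons d l ih =>
    have e : appL Q (d :: l) = (rfl0 Q d).comp (appL Q l) := rfl
    rw [e, LinearMap.det_comp, det_rfl Q d (hl d List.mem_cons_self),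
      ih (fun d' hd' => hl d' (List.mem_cons_of_mem _ hd')), List.length_cons, pow_succ]
    ring

end gen

/-- For the hyperbolic form Σ x_i y_i on F^(2m) over a finite field of odd order (m ≥ 1), an isometry g preserves the class of the maximal totally singular subspace U₀ = {y = 0} (that is, m − dim(U₀ ∩ gU₀) is even) if and only if det g = 1: the stabiliser of each of the two classes of maximal totally singular subspaces is SO. -/
theorem result {F : Type*} [Field F] [Fintype F] (h2 : (2 : F) ≠ 0) {m : ℕ} (hm : 1 ≤ m) (g : ↥(Cfsg.isometryGroup F (Cfsg.quadFormPlus m F))) : Even (m - Module.finrank F ↥(LinearMap.ker (LinearMap.funLeft F F (Sum.inr : Fin m → Fin m ⊕ Fin m)) ⊓ (LinearMap.ker (LinearMap.funLeft F F (Sum.inr : Fin m → Fin m ⊕ Fin m))).map (Matrix.mulVecLin ((g : Matrix.GeneralLinearGroup (Fin m ⊕ Fin m) F) : Matrix (Fin m ⊕ Fin m) (Fin m ⊕ Fin m) F)))) ↔ ((g : Matrix.GeneralLinearGroup (Fin m ⊕ Fin m) F) : Matrix (Fin m ⊕ Fin m) (Fin m ⊕ Fin m)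 F).det = 1 := by
  classical
  obtain ⟨Qp, hQp, hQpnd⟩ := Cfsg.Agent.S2169.exists_Qp (F := F) m
  have hV : Module.finrank F (Fin m ⊕ Fin m → F) = 2 * m := by
    rw [Module.finrank_fintype_fun_eq_card, Fintype.card_sum, Fintype.card_fin]; ring
  obtain ⟨U₀, hU₀def⟩ : ∃ U₀ : Submodule F (Fin m ⊕ Fin m → F),
      U₀ = LinearMap.ker (LinearMap.funLeft F F (Sum.inr : Fin m → Fin m ⊕ Fin m)) := ⟨_, rfl⟩
  have hπa : ∀ (v : Fin m ⊕ Fin m → F) (i : Fin m),
      (LinearMap.funLeft F F (Sum.inr : Fin m → Fin m ⊕ Fin m)) v i = v (Sum.inr i) :=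
    fun v i => rfl
  have hsurj : LinearMap.range (LinearMap.funLeft F F (Sum.inr : Fin m → Fin m ⊕ Fin m)) = ⊤ := by
    rw [LinearMap.range_eq_top]
    intro x
    exact ⟨Sum.elim 0 x, by funext i; rfl⟩
  have hU₀f : Module.finrank F U₀ = m := by
    have h3 := LinearMap.finrank_range_add_finrank_ker
      (LinearMap.funLeft F F (Sum.inr : Fin m → Fin m ⊕ Fin m))
    rw [hsurj, finrank_top, Module.finrank_fintype_fun_eq_card, Fintype.card_fin, hV,
      ← hU₀def] at h3
    omega
  have hU₀ : ∀ x ∈ U₀, Qp x = 0 := by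
    intro w hw
    rw [hU₀def, LinearMap.mem_ker] at hw
    rw [hQp]
    simp only [Cfsg.quadFormPlus]
    apply Finset.sum_eq_zero
    intro i _
    have h3 := congrFun hw i
    rw [hπa] at h3
    rw [h3]; simp
  rw [← hU₀def]
  revert g
  rw [← hQp]
  intro g
  have hiso := (mem_iso_iff ⇑Qp g.1).1 g.2
  obtain ⟨l, hl, hl2⟩ := Cfsg.Agent.S0792.cd h2 _ (Fin m ⊕ Fin m → F) Qp hQpnd rfl
    (Matrix.toLin' g.1.1) (fun v => by rw [Matrix.toLin'_apply]; exact hiso v)
  have hmapL : Matrix.toLin' g.1.1 = appL Qp l :=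
    LinearMap.ext (fun x => by rw [hl2 x, appL_apply])
  have hmap : Matrix.mulVecLin g.1.1 = appL Qp l := by rw [← hmapL]; rfl
  rw [hmap]
  obtain ⟨hp, -, -⟩ := class_parity Qp hQpnd m hV U₀ hU₀f hU₀ l hl
  have hle : Module.finrank F ↥(U₀ ⊓ U₀.map (appL Qp l)) ≤ m := by
    have h3 := Submodule.finrank_mono (inf_le_left : U₀ ⊓ U₀.map (appL Qp l) ≤ U₀)
    omega
  have hdet : g.1.1.det = (-1) ^ l.length := by
    rw [← det_appL Qp l hl, ← hmapL, LinearMap.det_toLin']
  rw [hdet]
  obtain ⟨k, hk | hk⟩ := Nat.even_or_odd' l.length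
  · constructor
    · intro _
      rw [hk, pow_mul]; simp
    · intro _
      rw [Nat.even_iff]; omega
  · constructor
    · intro he
      exfalso
      rw [Nat.even_iff] at he
      omega
    · intro h1
      exfalso
      have h3 : ((-1 : F)) ^ (2 * k + 1) = -1 := by rw [pow_succ, pow_mul]; simp
      rw [hk, h3] at h1
      apply h2
      linear_combination -h1

end Cfsg.Agent.S2629
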