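import Mathlib
import Cfsg.Statements.S2612
import Cfsg.Agent.S2629

set_option autoImplicit false
open Cfsg

namespace Cfsg.Agent.S2612

open Matrix
open scoped commutatorElement
open Cfsg.Agent.S0792 (app)
open Cfsg.Agent.S0786 (appL appL_apply)
open Cfsg.Agent.S2630 (Act act_list comm_even class_parity)
open Cfsg.Agent.S2628 (mem_iso_iff exists_invol)

/-- coordinate-permutation isometries -/
theorem perm_elt {F : Type*} [Field F] {ι : Type} [Fintype ι] [DecidableEq ι] (Q : (ι → F) → F)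
    (σ : ι → ι) (hσ : ∀ j, σ (σ j) = j) (hQ : ∀ v, Q (v ∘ σ) = Q v) :
    ∃ h : ↥(Cfsg.isometryGroup F Q), h * h = 1 ∧ ∀ x : ι → F, h.1.1 *ᵥ x = x ∘ σ := by
  obtain ⟨h, h1, h2⟩ := exists_invol Q (LinearMap.funLeft F F σ) (fun x => by
    funext j
    show x (σ (σ j)) = x j
    rw [hσ]) (fun x => hQ x)
  exact ⟨h, h1, fun x => h2 x⟩

theorem swap_mem {F : Type*} [Field F] (k : ℕ) :
    ∃ g : ↥(Cfsg.isometryGroup F (Cfsg.quadFormPlus (k + k) F)),
      g ∈ commutator ↥(Cfsg.isometryGroup F (Cfsg.quadFormPlus (k + k) F)) ∧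
      ∀ x : Fin (k + k) ⊕ Fin (k + k) → F, g.1.1 *ᵥ x = x ∘ Sum.swap := by
  classical
  obtain ⟨e, -⟩ : ∃ e : Fin k ⊕ Fin k ≃ Fin (k + k), True := ⟨finSumFinEquiv, trivial⟩
  obtain ⟨τ, hτ⟩ : ∃ τ : Fin (k + k) → Fin (k + k), ∀ i, τ i = e (Sum.swap (e.symm i)) :=
    ⟨fun i => e (Sum.swap (e.symm i)), fun i => rfl⟩
  have hττ : ∀ i, τ (τ i) = i := by
    intro i
    rw [hτ, hτ]; simp
  obtain ⟨σP, hσP⟩ : ∃ σP : Fin (k + k) ⊕ Fin (k + k) → Fin (k + k) ⊕ Fin (k + k),
      ∀ j, σP j = Sum.map τ τ j := ⟨Sum.map τ τ, fun j => rfl⟩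
  obtain ⟨σA, hσA⟩ : ∃ σA : Fin (k + k) ⊕ Fin (k + k) → Fin (k + k) ⊕ Fin (k + k),
      ∀ j, σA j = Sum.elim (fun i => if (e.symm i).isLeft = true then Sum.inr i else Sum.inl i)
        (fun i => if (e.symm i).isLeft = true then Sum.inl i else Sum.inr i) j :=
    ⟨_, fun j => rfl⟩
  have hAl : ∀ i, σA (Sum.inl i) = if (e.symm i).isLeft = true then Sum.inr i else Sum.inl i :=
    fun i => hσA _
  have hAr : ∀ i, σA (Sum.inr i) = if (e.symm i).isLeft = true then Sum.inl i else Sum.inr i :=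
    fun i => hσA _
  have hPl : ∀ i, σP (Sum.inl i) = Sum.inl (τ i) := fun i => hσP _
  have hPr : ∀ i, σP (Sum.inr i) = Sum.inr (τ i) := fun i => hσP _
  have hτL : ∀ i, (e.symm (τ i)).isLeft = !(e.symm i).isLeft := by
    intro i
    rw [hτ, Equiv.symm_apply_apply]
    cases e.symm i <;> rfl
  have hAA : ∀ j, σA (σA j) = j := by
    rintro (i | i)
    · rw [hAl]
      by_cases hi : (e.symm i).isLeft = true
      · rw [if_pos hi, hAr, if_pos hi]
      · rw [if_neg hi, hAl, if_neg hi]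
    · rw [hAr]
      by_cases hi : (e.symm i).isLeft = true
      · rw [if_pos hi, hAl, if_pos hi]
      · rw [if_neg hi, hAr, if_neg hi]
  have hPP : ∀ j, σP (σP j) = j := by
    rintro (i | i)
    · rw [hPl, hPl, hττ]
    · rw [hPr, hPr, hττ]
  have hcomp : ∀ j, σP (σA (σP (σA j))) = Sum.swap j := by
    rintro (i | i)
    · by_cases hi : (e.symm i).isLeft = true
      · have hi' : ¬ (e.symm (τ i)).isLeft = true := by rw [hτL, hi]; simp
        rw [hAl, if_pos hi, hPr, hAr, if_neg hi', hPr, hττ]; rfl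
      · have hi' : (e.symm (τ i)).isLeft = true := by rw [hτL]; simpa using hi
        rw [hAl, if_neg hi, hPl, hAl, if_pos hi', hPr, hττ]; rfl
    · by_cases hi : (e.symm i).isLeft = true
      · have hi' : ¬ (e.symm (τ i)).isLeft = true := by rw [hτL, hi]; simp
        rw [hAr, if_pos hi, hPl, hAl, if_neg hi', hPl, hττ]; rfl
      · have hi' : (e.symm (τ i)).isLeft = true := by rw [hτL]; simpa using hi
        rw [hAr, if_neg hi, hPr, hAr, if_pos hi', hPl, hττ]; rfl
  have hQA : ∀ v : Fin (k + k) ⊕ Fin (k + k) → F,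
      Cfsg.quadFormPlus (k + k) F (v ∘ σA) = Cfsg.quadFormPlus (k + k) F v := by
    intro v
    simp only [Cfsg.quadFormPlus, Function.comp_apply]
    apply Finset.sum_congr rfl
    intro i _
    rw [hAl, hAr]
    by_cases hi : (e.symm i).isLeft = true
    · rw [if_pos hi, if_pos hi, mul_comm]
    · rw [if_neg hi, if_neg hi]
  have hQP : ∀ v : Fin (k + k) ⊕ Fin (k + k) → F,
      Cfsg.quadFormPlus (k + k) F (v ∘ σP) = Cfsg.quadFormPlus (k + k) F v := by
    intro v
    simp only [Cfsg.quadFormPlus, Function.comp_apply, hPl, hPr]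
    exact Equiv.sum_comp (Function.Involutive.toPerm τ hττ)
      (fun i => v (Sum.inl i) * v (Sum.inr i))
  obtain ⟨A, hA2, hA⟩ := perm_elt (Cfsg.quadFormPlus (k + k) F) σA hAA hQA
  obtain ⟨P, hP2, hP⟩ := perm_elt (Cfsg.quadFormPlus (k + k) F) σP hPP hQP
  refine ⟨A * P * A * P, ?_, ?_⟩
  · have e1 : A * P * A * P = ⁅A, P⁆ := by
      rw [commutatorElement_def, inv_eq_of_mul_eq_one_right hA2, inv_eq_of_mul_eq_one_right hP2]
    rw [e1]
    exact Subgroup.commutator_mem_commutator (Subgroup.mem_top A) (Subgroup.mem_top P)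
  · intro x
    rw [Subgroup.coe_mul, Subgroup.coe_mul, Subgroup.coe_mul, Units.val_mul, Units.val_mul,
      Units.val_mul, ← Matrix.mulVec_mulVec, ← Matrix.mulVec_mulVec, ← Matrix.mulVec_mulVec,
      hP, hA, hP, hA]
    funext j
    show x (σP (σA (σP (σA j)))) = x (Sum.swap j)
    rw [hcomp]

theorem even_of_interchange {F : Type*} [Field F] [Fintype F] {m : ℕ}
    (h : Fintype.card F ≠ 2 ∨ m ≠ 2)
    (g : ↥(Cfsg.isometryGroup F (Cfsg.quadFormPlus m F)))
    (hg : g ∈ Cfsg.Omega F (Cfsg.quadFormPlus m F))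
    (h1 : ∀ v : Fin m ⊕ Fin m → F, (∀ i, v (Sum.inr i) = 0) → ∀ i, (((g : Matrix.GeneralLinearGroup (Fin m ⊕ Fin m) F) : Matrix (Fin m ⊕ Fin m) (Fin m ⊕ Fin m) F).mulVec v) (Sum.inl i) = 0) :
    Even m := by
  classical
  obtain ⟨Qp, hQp, hQpnd⟩ := Cfsg.Agent.S2169.exists_Qp (F := F) m
  have hV : Module.finrank F (Fin m ⊕ Fin m → F) = 2 * m := by
    rw [Module.finrank_fintype_fun_eq_card, Fintype.card_sum, Fintype.card_fin]; ring
  obtain ⟨U₀, hU₀def⟩ : ∃ U₀ : Submodule F (Fin m ⊕ Fin m → F),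
      U₀ = LinearMap.ker (LinearMap.funLeft F F (Sum.inr : Fin m → Fin m ⊕ Fin m)) := ⟨_, rfl⟩
  have hU₀mem : ∀ v : Fin m ⊕ Fin m → F, v ∈ U₀ ↔ ∀ i, v (Sum.inr i) = 0 := by
    intro v
    rw [hU₀def, LinearMap.mem_ker]
    constructor
    · intro h3 i
      exact congrFun h3 i
    · intro h3
      funext i
      exact h3 i
  have hsurj : LinearMap.range (LinearMap.funLeft F F (Sum.inr : Fin m → Fin m ⊕ Fin m)) = ⊤ := by
    rw [LinearMap.range_eq_top]
    intro x
    exact ⟨Sum.elim 0 x, by funext i; rfl⟩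
  have hU₀f : Module.finrank F U₀ = m := by
    have h3 := LinearMap.finrank_range_add_finrank_ker
      (LinearMap.funLeft F F (Sum.inr : Fin m → Fin m ⊕ Fin m))
    rw [hsurj, finrank_top, Module.finrank_fintype_fun_eq_card, Fintype.card_fin, hV,
      ← hU₀def] at h3
    omega
  have hU₀ : ∀ x ∈ U₀, Qp x = 0 := by
    intro w hw
    rw [hU₀mem] at hw
    rw [hQp]
    simp only [Cfsg.quadFormPlus]
    apply Finset.sum_eq_zero
    intro i _
    rw [hw i, mul_zero]
  revert g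
  rw [← hQp]
  intro g hg h1
  have hex : ∃ l : List (Fin m ⊕ Fin m → F), (∀ d ∈ l, Qp d ≠ 0) ∧ l.length % 2 = 0 ∧
      Act Qp g l := by
    by_cases h2 : (2 : F) = 0
    · have hc : (∃ s : F, s ≠ 0 ∧ s ≠ 1) ∨ Module.finrank F (Fin m ⊕ Fin m → F) ≠ 4 := by
        rcases h with h | h
        · left
          by_contra hcon
          push Not at hcon
          apply h
          have huniv : (Finset.univ : Finset F) = {0, 1} := by
            ext s
            simp only [Finset.mem_univ, Finset.mem_insert, Finset.mem_singleton, true_iff]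
            by_cases hs : s = 0
            · exact Or.inl hs
            · exact Or.inr (hcon s hs)
          rw [← Finset.card_univ, huniv, Finset.card_pair zero_ne_one]
        · right
          rw [hV]; omega
      exact comm_even Qp h2 hQpnd hc g hg
    · have hiso := (mem_iso_iff ⇑Qp g.1).1 g.2
      obtain ⟨l, hl, hl2⟩ := Cfsg.Agent.S0792.cd h2 _ (Fin m ⊕ Fin m → F) Qp hQpnd rfl
        (Matrix.toLin' g.1.1) (fun v => by rw [Matrix.toLin'_apply]; exact hiso v)
      have hmapL : Matrix.toLin' g.1.1 = appL Qp l :=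
        LinearMap.ext (fun x => by rw [hl2 x, appL_apply])
      have hdet : g.1.1.det = (-1) ^ l.length := by
        rw [← Cfsg.Agent.S2629.det_appL Qp l hl, ← hmapL, LinearMap.det_toLin']
      have hdet1 : g.1.1.det = 1 := by
        have hk := Abelianization.commutator_subset_ker
          (Matrix.GeneralLinearGroup.det.comp (Subgroup.subtype (Cfsg.isometryGroup F ⇑Qp))) hg
        have h3 := congrArg Units.val (MonoidHom.mem_ker.1 hk)
        simpa using h3
      refine ⟨l, hl, ?_, fun x => by rw [← hl2 x, Matrix.toLin'_apply]⟩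
      obtain ⟨k, hk | hk⟩ := Nat.even_or_odd' l.length
      · omega
      · exfalso
        have h3 : ((-1 : F)) ^ (2 * k + 1) = -1 := by rw [pow_succ, pow_mul]; simp
        rw [hdet, hk, h3] at hdet1
        apply h2
        linear_combination -hdet1
  obtain ⟨l, hl, hpar, hact⟩ := hex
  have hmap : Matrix.toLin' g.1.1 = appL Qp l :=
    LinearMap.ext (fun x => by rw [Matrix.toLin'_apply, hact x, appL_apply])
  obtain ⟨hp, -, -⟩ := class_parity Qp hQpnd m hV U₀ hU₀f hU₀ l hl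
  have hbot : U₀ ⊓ U₀.map (appL Qp l) = ⊥ := by
    rw [eq_bot_iff]
    intro w hw
    obtain ⟨hw0, hw1⟩ := Submodule.mem_inf.1 hw
    obtain ⟨v, hv, rfl⟩ := Submodule.mem_map.1 hw1
    rw [Submodule.mem_bot]
    have hgv := h1 v ((hU₀mem v).1 hv)
    rw [← hmap, Matrix.toLin'_apply] at hw0 ⊢
    funext j
    rcases j with i | i
    · exact hgv i
    · exact (hU₀mem _).1 hw0 i
  rw [hbot, finrank_bot] at hp
  rw [Nat.even_iff]; omega

/-- For the hyperbolic quadratic form Σ x_i y_i on F^(2m) (F finite, m ≥ 1, excluding m = 2 over the field of two elements), Ω⁺_2m(F) (the commutator subgroup of the orthogonal group) contains an element interchanging the two complementary maximal totally singular subspaces {y = 0} and {x = 0} if and only if m is even (dimension divisible by 4). -/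
theorem result {F : Type*} [Field F] [Fintype F] {m : ℕ} (hm : 1 ≤ m) (h : Fintype.card F ≠ 2 ∨ m ≠ 2) : (∃ g : ↥(Cfsg.isometryGroup F (Cfsg.quadFormPlus m F)), g ∈ Cfsg.Omega F (Cfsg.quadFormPlus m F) ∧ (∀ v : Fin m ⊕ Fin m → F, (∀ i, v (Sum.inr i) = 0) → ∀ i, (((g : Matrix.GeneralLinearGroup (Fin m ⊕ Fin m) F) : Matrix (Fin m ⊕ Fin m) (Fin m ⊕ Fin m) F).mulVec v) (Sum.inl i) = 0) ∧ (∀ v : Fin m ⊕ Fin m → F, (∀ i, v (Sum.inl i) = 0) → ∀ i, (((g : Matrix.GeneralLinearGroup (Fin m ⊕ Fin m) F) : Matrix (Fin m ⊕ Fin m) (Fin m ⊕ Fin m) F).mulVec v) (Sum.inr i) = 0)) ↔ Even m := by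
  constructor
  · rintro ⟨g, hg, h1, -⟩
    exact even_of_interchange h g hg h1
  · rintro ⟨k, rfl⟩
    obtain ⟨g, hg, hact⟩ := swap_mem (F := F) k
    refine ⟨g, hg, ?_, ?_⟩
    · intro v hv i
      rw [hact]; exact hv i
    · intro v hv i
      rw [hact]; exact hv i

end Cfsg.Agent.S2612
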