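import Mathlib
import Cfsg.Statements.S2614
import Cfsg.Agent.S2613

set_option autoImplicit false
open Cfsg

namespace Cfsg.Agent.S2614

open Matrix
open Cfsg.Agent.S5754 (rfl0 rfl0_apply)
open Cfsg.Agent.S0792 (app app_cons)
open Cfsg.Agent.S2630 (Act)
open Cfsg.Agent.S0790 (uv polar_uv Q_uv nt)
open Cfsg.Agent.S2613 (firstL firstL_len firstL_count exists_act)

section
variable {F : Type*} [Field F] {m : ℕ}

/-- the vector `e_j + s f_j` in the odd-dimensional space -/
def uvO (s : F) (j : Fin m) : Unit ⊕ (Fin m ⊕ Fin m) → F := Sum.elim 0 (uv s j)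

theorem qodd_eq (v : Unit ⊕ (Fin m ⊕ Fin m) → F) :
    Cfsg.quadFormOdd m F v = v (Sum.inl ()) ^ 2 + Cfsg.quadFormPlus m F (v ∘ Sum.inr) := rfl

theorem polar_odd (d x : Unit ⊕ (Fin m ⊕ Fin m) → F) :
    QuadraticMap.polar (Cfsg.quadFormOdd m F) d x = 2 * d (Sum.inl ()) * x (Sum.inl ()) +
      QuadraticMap.polar (Cfsg.quadFormPlus m F) (d ∘ Sum.inr) (x ∘ Sum.inr) := by
  unfold QuadraticMap.polar
  rw [qodd_eq, qodd_eq, qodd_eq]
  have e : (d + x) ∘ Sum.inr = d ∘ Sum.inr + x ∘ Sum.inr := rfl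
  rw [e, Pi.add_apply]
  ring

theorem Q_uvO (s : F) (j : Fin m) : Cfsg.quadFormOdd m F (uvO s j) = s := by
  rw [qodd_eq]
  have e : uvO s j ∘ Sum.inr = uv s j := rfl
  rw [e, Q_uv]
  simp [uvO]

theorem polar_uvO (s : F) (j : Fin m) (x : Unit ⊕ (Fin m ⊕ Fin m) → F) :
    QuadraticMap.polar (Cfsg.quadFormOdd m F) (uvO s j) x =
      x (Sum.inr (Sum.inr j)) + s * x (Sum.inr (Sum.inl j)) := by
  rw [polar_odd]
  have e : uvO s j ∘ Sum.inr = uv s j := rfl
  rw [e, polar_uv]
  simp [uvO]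

theorem exists_Qo (h2 : (2 : F) ≠ 0) (m : ℕ) :
    ∃ Qo : QuadraticForm F (Unit ⊕ (Fin m ⊕ Fin m) → F),
      ⇑Qo = Cfsg.quadFormOdd m F ∧ (QuadraticMap.polarBilin Qo).Nondegenerate := by
  classical
  obtain ⟨Qp, hQp, -⟩ := Cfsg.Agent.S2169.exists_Qp (F := F) m
  have hQo : ∃ Qo : QuadraticForm F (Unit ⊕ (Fin m ⊕ Fin m) → F),
      ⇑Qo = Cfsg.quadFormOdd m F := by
    refine ⟨(QuadraticMap.sq (R := F) (A := F)).comp (LinearMap.proj (Sum.inl ())) +
      Qp.comp (LinearMap.funLeft F F Sum.inr), ?_⟩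
    funext v
    rw [qodd_eq, ← hQp]
    simp only [_root_.add_apply, QuadraticMap.comp_apply, QuadraticMap.sq_apply,
      LinearMap.proj_apply]
    rw [sq]
    rfl
  obtain ⟨Qo, hQo⟩ := hQo
  refine ⟨Qo, hQo, ?_⟩
  have key : ∀ u : Unit ⊕ (Fin m ⊕ Fin m) → F,
      (∀ v, QuadraticMap.polar (Cfsg.quadFormOdd m F) u v = 0) → u = 0 := by
    intro u hu
    have hr : ∀ j, u (Sum.inr (Sum.inr j)) = 0 := by
      intro j
      have h1 := hu (uvO 0 j)
      rw [QuadraticMap.polar_comm, polar_uvO, zero_mul, add_zero] at h1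
      exact h1
    have hl : ∀ j, u (Sum.inr (Sum.inl j)) = 0 := by
      intro j
      have h1 := hu (uvO 1 j)
      rw [QuadraticMap.polar_comm, polar_uvO, hr j, one_mul, zero_add] at h1
      exact h1
    have h0 : u (Sum.inl ()) = 0 := by
      have h1 := hu (Sum.elim 1 0)
      rw [polar_odd] at h1
      have e : (Sum.elim 1 0 : Unit ⊕ (Fin m ⊕ Fin m) → F) ∘ Sum.inr = 0 := rfl
      rw [e] at h1
      have e2 : QuadraticMap.polar (Cfsg.quadFormPlus m F) (u ∘ Sum.inr) 0 = 0 := by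
        rw [← hQp]; exact QuadraticMap.polar_zero_right _ _
      rw [e2, add_zero] at h1
      simp only [Sum.elim_inl, Pi.one_apply, mul_one] at h1
      rcases mul_eq_zero.1 h1 with h | h
      · exact absurd h h2
      · exact h
    funext k
    rcases k with ⟨⟩ | k | k
    · exact h0
    · exact hl k
    · exact hr k
  constructor
  · intro u hu
    exact key u (fun v => by rw [← hQo]; exact hu v)
  · intro v hv
    exact key v (fun a => by rw [QuadraticMap.polar_comm, ← hQo]; exact hv a)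

variable (Qo : QuadraticForm F (Unit ⊕ (Fin m ⊕ Fin m) → F)) (hQo : ⇑Qo = Cfsg.quadFormOdd m F)
include hQo

theorem neg_jO (j : Fin m) (x : Unit ⊕ (Fin m ⊕ Fin m) → F) :
    rfl0 Qo (uvO 1 j) (rfl0 Qo (uvO (-1) j) x) =
      Sum.elim (fun _ => x (Sum.inl ()))
        (fun k => if Sum.elim id id k = j then - x (Sum.inr k) else x (Sum.inr k)) := by
  have hp : ∀ d y, QuadraticMap.polar (⇑Qo) d y = QuadraticMap.polar (Cfsg.quadFormOdd m F) d y := by
    intro d y; rw [hQo]
  have hq : ∀ d, Qo d = Cfsg.quadFormOdd m F d := by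
    intro d; rw [hQo]
  have e1 : ∀ y, rfl0 Qo (uvO 1 j) y =
      y - (y (Sum.inr (Sum.inr j)) + y (Sum.inr (Sum.inl j))) • uvO 1 j := by
    intro y
    rw [rfl0_apply, hp, hq, polar_uvO, Q_uvO, inv_one, one_mul, one_mul]
  have e2 : ∀ y, rfl0 Qo (uvO (-1) j) y =
      y + (y (Sum.inr (Sum.inr j)) - y (Sum.inr (Sum.inl j))) • uvO (-1) j := by
    intro y
    rw [rfl0_apply, hp, hq, polar_uvO, Q_uvO]
    have : ((-1 : F))⁻¹ = -1 := by rw [inv_neg, inv_one]
    rw [this, sub_eq_add_neg, ← neg_smul]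
    congr 2
    ring
  rw [e1, e2]
  funext i
  rcases i with ⟨⟩ | i | i
  · simp [uvO]
  · by_cases hij : i = j
    · subst hij
      simp [uvO, uv]
    · simp [uvO, uv, hij]
  · by_cases hij : i = j
    · subst hij
      simp [uvO, uv]
    · simp [uvO, uv, hij]

/-- the list of reflections whose product is `-1` on the hyperbolic pairs in `L` -/
def lstO (L : List (Fin m)) : List (Unit ⊕ (Fin m ⊕ Fin m) → F) :=
  L.flatMap (fun j => [uvO 1 j, uvO (-1) j])

omit hQo in
theorem lstO_cons (a : Fin m) (L : List (Fin m)) :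
    lstO (F := F) (a :: L) = uvO 1 a :: uvO (-1) a :: lstO L := by
  unfold lstO
  rw [List.flatMap_cons]
  rfl

omit hQo in
theorem lstO_len (L : List (Fin m)) : (lstO (F := F) L).length = 2 * L.length := by
  induction L with
  | nil => rfl
  | cons a L ih => rw [lstO_cons, List.length_cons, List.length_cons, ih, List.length_cons]; ring

theorem lstO_prod (L : List (Fin m)) :
    ((lstO (F := F) L).map (fun v => Qo v)).prod = (-1) ^ L.length := by
  induction L with
  | nil => simp [lstO]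
  | cons a L ih =>
    rw [lstO_cons, List.map_cons, List.map_cons, List.prod_cons, List.prod_cons, ih,
      List.length_cons, hQo, Q_uvO, Q_uvO, pow_succ]
    ring

theorem lstO_ne (L : List (Fin m)) : ∀ d ∈ lstO (F := F) L, Qo d ≠ 0 := by
  intro d hd
  unfold lstO at hd
  rw [List.mem_flatMap] at hd
  obtain ⟨j, -, hj⟩ := hd
  rw [hQo]
  simp only [List.mem_cons, List.not_mem_nil, or_false] at hj
  rcases hj with rfl | rfl
  · rw [Q_uvO]; exact one_ne_zero
  · rw [Q_uvO]; exact neg_ne_zero.2 one_ne_zero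

theorem lstO_app (L : List (Fin m)) (x : Unit ⊕ (Fin m ⊕ Fin m) → F) :
    app Qo (lstO L) x = Sum.elim (fun _ => x (Sum.inl ()))
      (fun k => (-1) ^ (L.count (Sum.elim id id k)) * x (Sum.inr k)) := by
  induction L with
  | nil =>
    funext i
    rcases i with ⟨⟩ | i
    · simp [lstO, app]
    · simp [lstO, app]
  | cons a L ih =>
    rw [lstO_cons, app_cons, app_cons, ih, neg_jO Qo hQo]
    funext i
    rcases i with ⟨⟩ | i
    · rfl
    · simp only [Sum.elim_inr, Sum.elim_inl]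
      by_cases hi : Sum.elim id id i = a
      · rw [if_pos hi, hi, List.count_cons_self, pow_succ]; ring
      · rw [if_neg hi, List.count_cons_of_ne (fun h => hi h.symm)]

end

/-- For the form x_0² + Σ x_j y_j on F^(2m+1), F finite with q elements, q odd, and 1 ≤ i ≤ m: the involution of determinant one negating the first i hyperbolic pairs (and fixing x_0 and the other pairs) lies in Ω_(2m+1)(q) (commutator subgroup of the orthogonal group) if and only if q^i ≡ 1 (mod 4); its (−1)-eigenspace is a hyperbolic 2i-space. -/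
theorem result {F : Type*} [Field F] [Fintype F] {q : ℕ} (hF : Fintype.card F = q) (hq : Odd q) {m : ℕ} (i : ℕ) (hi : 1 ≤ i) (him : i ≤ m) : (∃ g : ↥(Cfsg.isometryGroup F (Cfsg.quadFormOdd m F)), g ∈ Cfsg.Omega F (Cfsg.quadFormOdd m F) ∧ ((g : Matrix.GeneralLinearGroup (Unit ⊕ (Fin m ⊕ Fin m)) F) : Matrix (Unit ⊕ (Fin m ⊕ Fin m)) (Unit ⊕ (Fin m ⊕ Fin m)) F) = Matrix.diagonal (fun k : Unit ⊕ (Fin m ⊕ Fin m) => if (Sum.elim (fun _ : Unit => i) (Sum.elim (fun j : Fin m => (j : ℕ)) (fun j : Fin m => (j : ℕ))) k) < i then (-1 : F) else 1)) ↔ q ^ i % 4 = 1 := by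
  classical
  have h2 : (2 : F) ≠ 0 := by
    intro h
    have h3 : ringChar F = 2 := CharP.ringChar_of_prime_eq_zero Nat.prime_two h
    have h4 := FiniteField.even_card_iff_char_two.1 h3
    rw [hF] at h4
    obtain ⟨k, rfl⟩ := hq
    omega
  obtain ⟨Qo, hQo, hnd⟩ := exists_Qo (F := F) h2 m
  have key : ∀ (Qf : (Unit ⊕ (Fin m ⊕ Fin m) → F) → F), ⇑Qo = Qf →
      ((∃ g : ↥(Cfsg.isometryGroup F Qf), g ∈ Cfsg.Omega F Qf ∧ ((g : Matrix.GeneralLinearGroup (Unit ⊕ (Fin m ⊕ Fin m)) F) : Matrix (Unit ⊕ (Fin m ⊕ Fin m)) (Unit ⊕ (Fin m ⊕ Fin m)) F) = Matrix.diagonal (fun k : Unit ⊕ (Fin m ⊕ Fin m) => if (Sum.elim (fun _ : Unit => i) (Sum.elim (fun j : Fin m => (j : ℕ)) (fun j : Fin m => (j : ℕ))) k) < i then (-1 : F) else 1)) ↔ q ^ i % 4 = 1) := by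
    rintro _ rfl
    obtain ⟨g0, hact⟩ := exists_act Qo (lstO (firstL i him)) (lstO_ne Qo hQo _)
    have hmat : ((g0 : Matrix.GeneralLinearGroup (Unit ⊕ (Fin m ⊕ Fin m)) F) :
        Matrix (Unit ⊕ (Fin m ⊕ Fin m)) (Unit ⊕ (Fin m ⊕ Fin m)) F) = Matrix.diagonal (fun k : Unit ⊕ (Fin m ⊕ Fin m) => if (Sum.elim (fun _ : Unit => i) (Sum.elim (fun j : Fin m => (j : ℕ)) (fun j : Fin m => (j : ℕ))) k) < i then (-1 : F) else 1) := by
      apply Matrix.toLin'.injective
      apply LinearMap.ext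
      intro x
      rw [Matrix.toLin'_apply, hact x, lstO_app Qo hQo, Matrix.toLin'_apply]
      funext k
      rw [Matrix.mulVec_diagonal]
      rcases k with ⟨⟩ | k | k
      · simp
      · simp only [Sum.elim_inr, id, firstL_count]
        by_cases hk : (k : ℕ) < i <;> simp [hk]
      · simp only [Sum.elim_inr, id, firstL_count]
        by_cases hk : (k : ℕ) < i <;> simp [hk]
    have hV : Module.finrank F (Unit ⊕ (Fin m ⊕ Fin m) → F) = 1 + (m + m) := by
      rw [Module.finrank_fintype_fun_eq_card, Fintype.card_sum, Fintype.card_sum, Fintype.card_fin,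
        Fintype.card_unit]
    have hc := Cfsg.Agent.S2609.crit Qo h2 hnd (by rw [hV]; omega) g0 (lstO (firstL i him))
      (lstO_ne Qo hQo _) hact
    rw [lstO_len, lstO_prod Qo hQo, firstL_len] at hc
    have hc' : g0 ∈ Cfsg.Omega F ⇑Qo ↔ IsSquare ((-1 : F) ^ i) :=
      hc.trans ⟨fun h => h.2, fun h => ⟨even_two_mul i, h⟩⟩
    rw [← nt hF hq i, ← hc']
    constructor
    · rintro ⟨g, hg, hgm⟩
      have : g = g0 := by
        apply Subtype.ext
        apply Units.ext
        rw [hgm, hmat]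
      rw [← this]; exact hg
    · intro h
      exact ⟨g0, h, hmat⟩
  exact key _ hQo

end Cfsg.Agent.S2614
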