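import Cfsg.Statements.S2626
-- import your own Cfsg.Agent.* helpers here

set_option autoImplicit false
open Cfsg

namespace Cfsg.Agent.S2626


section
variable {F : Type*} [Field F]

/-- Block embedding `A ↦ diag(A, 1)`. -/
def blkL (F : Type*) [Field F] (k l : ℕ) : Matrix (Fin k) (Fin k) F →* Matrix (Fin k ⊕ Fin l) (Fin k ⊕ Fin l) F where
  toFun A := Matrix.fromBlocks A 0 0 1
  map_one' := Matrix.fromBlocks_one
  map_mul' A B := by
    rw [Matrix.fromBlocks_multiply]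
    simp

/-- Block embedding `A ↦ diag(1, A)`. -/
def blkR (F : Type*) [Field F] (k l : ℕ) : Matrix (Fin l) (Fin l) F →* Matrix (Fin k ⊕ Fin l) (Fin k ⊕ Fin l) F where
  toFun A := Matrix.fromBlocks 1 0 0 A
  map_one' := Matrix.fromBlocks_one
  map_mul' A B := by
    rw [Matrix.fromBlocks_multiply]
    simp

theorem map_comm_le {G H : Type*} [Group G] [Group H] (f : G →* H) :
    Subgroup.map f (commutator G) ≤ commutator H := by
  rw [commutator_def, Subgroup.map_commutator, commutator_def]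
  exact Subgroup.commutator_mono le_top le_top

theorem blkL_val (k l : ℕ) (x : Matrix.GeneralLinearGroup (Fin k) F) :
    ((Units.map (blkL F k l) x : Matrix.GeneralLinearGroup (Fin k ⊕ Fin l) F) :
      Matrix (Fin k ⊕ Fin l) (Fin k ⊕ Fin l) F) =
      Matrix.fromBlocks (x : Matrix (Fin k) (Fin k) F) 0 0 1 := rfl

theorem blkR_val (k l : ℕ) (x : Matrix.GeneralLinearGroup (Fin l) F) :
    ((Units.map (blkR F k l) x : Matrix.GeneralLinearGroup (Fin k ⊕ Fin l) F) :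
      Matrix (Fin k ⊕ Fin l) (Fin k ⊕ Fin l) F) =
      Matrix.fromBlocks 1 0 0 (x : Matrix (Fin l) (Fin l) F) := rfl

theorem mem_iso_iff {ι : Type} [Fintype ι] [DecidableEq ι] (Q : (ι → F) → F)
    (g : Matrix.GeneralLinearGroup ι F) :
    g ∈ Cfsg.isometryGroup F Q ↔ ∀ u, Q (Matrix.mulVec (g : Matrix ι ι F) u) = Q u :=
  ⟨fun h u => h u u, fun h u _ => h u⟩

theorem mem_isoL (k l : ℕ) (Q₁ : (Fin k → F) → F) (Q₂ : (Fin l → F) → F)
    (x : Matrix.GeneralLinearGroup (Fin k) F) (hx : x ∈ Cfsg.isometryGroup F Q₁) :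
    Units.map (blkL F k l) x ∈ Cfsg.isometryGroup F
      (fun v : Fin k ⊕ Fin l → F => Q₁ (v ∘ Sum.inl) + Q₂ (v ∘ Sum.inr)) := by
  rw [mem_iso_iff]
  intro u
  rw [blkL_val, Matrix.fromBlocks_mulVec]
  simp only [Sum.elim_comp_inl, Sum.elim_comp_inr, Matrix.zero_mulVec, add_zero, zero_add,
    Matrix.one_mulVec]
  rw [(mem_iso_iff _ _).mp hx]

theorem mem_isoR (k l : ℕ) (Q₁ : (Fin k → F) → F) (Q₂ : (Fin l → F) → F)
    (x : Matrix.GeneralLinearGroup (Fin l) F) (hx : x ∈ Cfsg.isometryGroup F Q₂) :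
    Units.map (blkR F k l) x ∈ Cfsg.isometryGroup F
      (fun v : Fin k ⊕ Fin l → F => Q₁ (v ∘ Sum.inl) + Q₂ (v ∘ Sum.inr)) := by
  rw [mem_iso_iff]
  intro u
  rw [blkR_val, Matrix.fromBlocks_mulVec]
  simp only [Sum.elim_comp_inl, Sum.elim_comp_inr, Matrix.zero_mulVec, add_zero, zero_add,
    Matrix.one_mulVec]
  rw [(mem_iso_iff _ _).mp hx]

/-- The embedding of the isometry group of `Q₁` into that of `Q₁ ⊕ Q₂`. -/
def isoL (k l : ℕ) (Q₁ : (Fin k → F) → F) (Q₂ : (Fin l → F) → F) :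
    ↥(Cfsg.isometryGroup F Q₁) →* ↥(Cfsg.isometryGroup F
      (fun v : Fin k ⊕ Fin l → F => Q₁ (v ∘ Sum.inl) + Q₂ (v ∘ Sum.inr))) where
  toFun x := ⟨Units.map (blkL F k l) x.1, mem_isoL k l Q₁ Q₂ x.1 x.2⟩
  map_one' := Subtype.ext (map_one (Units.map (blkL F k l)))
  map_mul' x y := Subtype.ext (map_mul (Units.map (blkL F k l)) x.1 y.1)

/-- The embedding of the isometry group of `Q₂` into that of `Q₁ ⊕ Q₂`. -/
def isoR (k l : ℕ) (Q₁ : (Fin k → F) → F) (Q₂ : (Fin l → F) → F) :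
    ↥(Cfsg.isometryGroup F Q₂) →* ↥(Cfsg.isometryGroup F
      (fun v : Fin k ⊕ Fin l → F => Q₁ (v ∘ Sum.inl) + Q₂ (v ∘ Sum.inr))) where
  toFun x := ⟨Units.map (blkR F k l) x.1, mem_isoR k l Q₁ Q₂ x.1 x.2⟩
  map_one' := Subtype.ext (map_one (Units.map (blkR F k l)))
  map_mul' x y := Subtype.ext (map_mul (Units.map (blkR F k l)) x.1 y.1)

theorem isoL_val (k l : ℕ) (Q₁ : (Fin k → F) → F) (Q₂ : (Fin l → F) → F)
    (x : ↥(Cfsg.isometryGroup F Q₁)) :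
    ((isoL k l Q₁ Q₂ x : Matrix.GeneralLinearGroup (Fin k ⊕ Fin l) F) :
      Matrix (Fin k ⊕ Fin l) (Fin k ⊕ Fin l) F) =
      Matrix.fromBlocks ((x : Matrix.GeneralLinearGroup (Fin k) F) :
        Matrix (Fin k) (Fin k) F) 0 0 1 := rfl

theorem isoR_val (k l : ℕ) (Q₁ : (Fin k → F) → F) (Q₂ : (Fin l → F) → F)
    (x : ↥(Cfsg.isometryGroup F Q₂)) :
    ((isoR k l Q₁ Q₂ x : Matrix.GeneralLinearGroup (Fin k ⊕ Fin l) F) :
      Matrix (Fin k ⊕ Fin l) (Fin k ⊕ Fin l) F) =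
      Matrix.fromBlocks 1 0 0 ((x : Matrix.GeneralLinearGroup (Fin l) F) :
        Matrix (Fin l) (Fin l) F) := rfl

end

/-- Ω of an orthogonal direct sum contains the product of the Ω's: for quadratic forms Q₁ on F^k and Q₂ on F^l with non-degenerate polar forms (F finite) and Q = Q₁ ⊕ Q₂ on F^(k+l), if g₁ lies in Ω(Q₁) and g₂ in Ω(Q₂) (commutator subgroups of the orthogonal groups) then the block-diagonal isometry diag(g₁, g₂) lies in Ω(Q). -/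
theorem result {F : Type*} [Field F] [Fintype F] {k l : ℕ} (Q₁ : QuadraticForm F (Fin k → F)) (Q₂ : QuadraticForm F (Fin l → F)) (h₁ : (QuadraticMap.polarBilin Q₁).Nondegenerate) (h₂ : (QuadraticMap.polarBilin Q₂).Nondegenerate) (g₁ : ↥(Cfsg.isometryGroup F ⇑Q₁)) (g₂ : ↥(Cfsg.isometryGroup F ⇑Q₂)) (hg₁ : g₁ ∈ Cfsg.Omega F ⇑Q₁) (hg₂ : g₂ ∈ Cfsg.Omega F ⇑Q₂) : ∃ g : ↥(Cfsg.isometryGroup F (fun v : Fin k ⊕ Fin l → F => Q₁ (v ∘ Sum.inl) + Q₂ (v ∘ Sum.inr))), g ∈ Cfsg.Omega F (fun v : Fin k ⊕ Fin l → F => Q₁ (v ∘ Sum.inl) + Q₂ (v ∘ Sum.inr)) ∧ ((g : Matrix.GeneralLinearGroup (Fin k ⊕ Fin l) F) : Matrix (Fin k ⊕ Fin l) (Fin k ⊕ Fin l) F) = Matrix.fromBlocks ((g₁ : Matrix.GeneralLinearGroup (Fin k) F) : Matrix (Fin k) (Fin k) F) 0 0 ((g₂ : Matrix.GeneralLinearGroup (Fin l) F) : Matrix (Fin l) (Fin l) F) := by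
  refine ⟨isoL k l ⇑Q₁ ⇑Q₂ g₁ * isoR k l ⇑Q₁ ⇑Q₂ g₂, ?_, ?_⟩
  · exact Subgroup.mul_mem _ (map_comm_le (isoL k l ⇑Q₁ ⇑Q₂) ⟨g₁, hg₁, rfl⟩)
      (map_comm_le (isoR k l ⇑Q₁ ⇑Q₂) ⟨g₂, hg₂, rfl⟩)
  · rw [Subgroup.coe_mul, Units.val_mul, isoL_val, isoR_val, Matrix.fromBlocks_multiply]
    simp

end Cfsg.Agent.S2626
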