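import Mathlib
import Cfsg.Statements.S2627
import Cfsg.Agent.S2613

set_option autoImplicit false
open Cfsg

namespace Cfsg.Agent.S2627

open Matrix
open Cfsg.Agent.S5754 (rfl0 rfl0_apply)
open Cfsg.Agent.S0792 (app app_cons)
open Cfsg.Agent.S2630 (Act act_list even_mem_gen odd_not_mem)
open Cfsg.Agent.S2613 (exists_act)

section
variable {F : Type*} [Field F] {k l : ℕ} (Q₁ : QuadraticForm F (Fin k → F))
  (Q₂ : QuadraticForm F (Fin l → F))

/-- orthogonal sum of two quadratic forms -/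
noncomputable def Qs : QuadraticForm F (Fin k ⊕ Fin l → F) :=
  Q₁.comp (LinearMap.funLeft F F Sum.inl) + Q₂.comp (LinearMap.funLeft F F Sum.inr)

theorem Qs_apply (v : Fin k ⊕ Fin l → F) :
    Qs Q₁ Q₂ v = Q₁ (v ∘ Sum.inl) + Q₂ (v ∘ Sum.inr) := rfl

theorem polar_Qs (x y : Fin k ⊕ Fin l → F) :
    QuadraticMap.polar (⇑(Qs Q₁ Q₂)) x y =
      QuadraticMap.polar (⇑Q₁) (x ∘ Sum.inl) (y ∘ Sum.inl) +
      QuadraticMap.polar (⇑Q₂) (x ∘ Sum.inr) (y ∘ Sum.inr) := by
  unfold QuadraticMap.polar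
  rw [Qs_apply, Qs_apply, Qs_apply]
  have e1 : (x + y) ∘ Sum.inl = x ∘ Sum.inl + y ∘ Sum.inl := rfl
  have e2 : (x + y) ∘ Sum.inr = x ∘ Sum.inr + y ∘ Sum.inr := rfl
  rw [e1, e2]
  ring

theorem Qs_nondeg (h₁ : (QuadraticMap.polarBilin Q₁).Nondegenerate)
    (h₂ : (QuadraticMap.polarBilin Q₂).Nondegenerate) :
    (QuadraticMap.polarBilin (Qs Q₁ Q₂)).Nondegenerate := by
  have key : ∀ u : Fin k ⊕ Fin l → F,
      (∀ v, QuadraticMap.polar (⇑(Qs Q₁ Q₂)) u v = 0) → u = 0 := by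
    intro u hu
    have hl : u ∘ Sum.inl = 0 := by
      apply h₁.1
      intro y
      have h3 := hu (Sum.elim y 0)
      rw [polar_Qs] at h3
      have e1 : (Sum.elim y 0 : Fin k ⊕ Fin l → F) ∘ Sum.inl = y := rfl
      have e2 : (Sum.elim y 0 : Fin k ⊕ Fin l → F) ∘ Sum.inr = 0 := rfl
      rw [e1, e2, QuadraticMap.polar_zero_right, add_zero] at h3
      exact h3
    have hr : u ∘ Sum.inr = 0 := by
      apply h₂.1
      intro y
      have h3 := hu (Sum.elim 0 y)
      rw [polar_Qs] at h3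
      have e1 : (Sum.elim 0 y : Fin k ⊕ Fin l → F) ∘ Sum.inl = 0 := rfl
      have e2 : (Sum.elim 0 y : Fin k ⊕ Fin l → F) ∘ Sum.inr = y := rfl
      rw [e1, e2, QuadraticMap.polar_zero_right, zero_add] at h3
      exact h3
    funext i
    rcases i with i | i
    · exact congrFun hl i
    · exact congrFun hr i
  constructor
  · intro u hu
    exact key u hu
  · intro v hv
    exact key v (fun a => by rw [QuadraticMap.polar_comm]; exact hv a)

/-- lift a vector of the first summand -/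
def lift (d : Fin k → F) : Fin k ⊕ Fin l → F := Sum.elim d 0

theorem Qs_lift (d : Fin k → F) : Qs Q₁ Q₂ (lift d) = Q₁ d := by
  rw [Qs_apply]
  have e1 : (lift d : Fin k ⊕ Fin l → F) ∘ Sum.inl = d := rfl
  have e2 : (lift d : Fin k ⊕ Fin l → F) ∘ Sum.inr = 0 := rfl
  rw [e1, e2, map_zero, add_zero]

theorem rfl_lift (d : Fin k → F) (x : Fin k ⊕ Fin l → F) :
    rfl0 (Qs Q₁ Q₂) (lift d) x = Sum.elim (rfl0 Q₁ d (x ∘ Sum.inl)) (x ∘ Sum.inr) := by
  rw [rfl0_apply, rfl0_apply, Qs_lift, polar_Qs]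
  have e1 : (lift d : Fin k ⊕ Fin l → F) ∘ Sum.inl = d := rfl
  have e2 : (lift d : Fin k ⊕ Fin l → F) ∘ Sum.inr = 0 := rfl
  rw [e1, e2, QuadraticMap.polar_zero_left, add_zero]
  funext i
  rcases i with i | i
  · simp [lift]
  · simp [lift]

theorem app_lift (L : List (Fin k → F)) (x : Fin k ⊕ Fin l → F) :
    app (Qs Q₁ Q₂) (L.map lift) x = Sum.elim (app Q₁ L (x ∘ Sum.inl)) (x ∘ Sum.inr) := by
  induction L with
  | nil =>
    funext i
    rcases i with i | i <;> rfl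
  | cons d L ih =>
    rw [List.map_cons, app_cons, ih, rfl_lift, app_cons]
    rfl

end

theorem det_one_of_mem {F : Type*} [Field F] {ι : Type} [Fintype ι] [DecidableEq ι]
    (Qf : (ι → F) → F) (g : ↥(Cfsg.isometryGroup F Qf))
    (hg : g ∈ commutator ↥(Cfsg.isometryGroup F Qf)) :
    ((g : Matrix.GeneralLinearGroup ι F) : Matrix ι ι F).det = 1 := by
  have h1 := Abelianization.commutator_subset_ker
    ((Matrix.GeneralLinearGroup.det (n := ι) (R := F)).comp (Subgroup.subtype _)) hg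
  rw [MonoidHom.mem_ker] at h1
  have h2 := congrArg Units.val h1
  exact h2

/-- For an orthogonal direct sum Q = Q₁ ⊕ Q₂ of quadratic forms with non-degenerate polar forms over a finite field, an isometry g₁ of Q₁ extended by the identity on the second summand lies in Ω(Q) (the commutator subgroup of the orthogonal group of Q) if and only if g₁ lies in Ω(Q₁). (Excluded: the field of two elements when the first summand or the whole space has dimension 4, where the commutator subgroup of O⁺₄(2) is smaller than the group usually called Ω.) -/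
theorem result {F : Type*} [Field F] [Fintype F] {k l : ℕ} (h : Fintype.card F ≠ 2 ∨ (k ≠ 4 ∧ k + l ≠ 4)) (Q₁ : QuadraticForm F (Fin k → F)) (Q₂ : QuadraticForm F (Fin l → F)) (h₁ : (QuadraticMap.polarBilin Q₁).Nondegenerate) (h₂ : (QuadraticMap.polarBilin Q₂).Nondegenerate) (g₁ : ↥(Cfsg.isometryGroup F ⇑Q₁)) : (∃ g : ↥(Cfsg.isometryGroup F (fun v : Fin k ⊕ Fin l → F => Q₁ (v ∘ Sum.inl) + Q₂ (v ∘ Sum.inr))), g ∈ Cfsg.Omega F (fun v : Fin k ⊕ Fin l → F => Q₁ (v ∘ Sum.inl) + Q₂ (v ∘ Sum.inr)) ∧ ((g : Matrix.GeneralLinearGroup (Fin k ⊕ Fin l) F) : Matrix (Fin k ⊕ Fin l) (Fin k ⊕ Fin l) F) = Matrix.fromBlocks ((g₁ : Matrix.GeneralLinearGroup (Fin k) F) : Matrix (Fin k) (Fin k) F) 0 0 1) ↔ g₁ ∈ Cfsg.Omega F ⇑Q₁ := by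
  classical
  show (∃ g : ↥(Cfsg.isometryGroup F ⇑(Qs Q₁ Q₂)), g ∈ Cfsg.Omega F ⇑(Qs Q₁ Q₂) ∧ ((g : Matrix.GeneralLinearGroup (Fin k ⊕ Fin l) F) : Matrix (Fin k ⊕ Fin l) (Fin k ⊕ Fin l) F) = Matrix.fromBlocks ((g₁ : Matrix.GeneralLinearGroup (Fin k) F) : Matrix (Fin k) (Fin k) F) 0 0 1) ↔ g₁ ∈ Cfsg.Omega F ⇑Q₁
  have hnd := Qs_nondeg Q₁ Q₂ h₁ h₂
  have hV1 : Module.finrank F (Fin k → F) = k := by
    rw [Module.finrank_fintype_fun_eq_card, Fintype.card_fin]
  have hVs : Module.finrank F (Fin k ⊕ Fin l → F) = k + l := by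
    rw [Module.finrank_fintype_fun_eq_card, Fintype.card_sum, Fintype.card_fin, Fintype.card_fin]
  have hiso := (Cfsg.Agent.S2628.mem_iso_iff ⇑Q₁ g₁.1).1 g₁.2
  -- the element is determined by its matrix
  have huniq : ∀ g0 : ↥(Cfsg.isometryGroup F ⇑(Qs Q₁ Q₂)),
      ((g0 : Matrix.GeneralLinearGroup (Fin k ⊕ Fin l) F) : Matrix (Fin k ⊕ Fin l) (Fin k ⊕ Fin l) F) = Matrix.fromBlocks ((g₁ : Matrix.GeneralLinearGroup (Fin k) F) : Matrix (Fin k) (Fin k) F) 0 0 1 →
      ((∃ g : ↥(Cfsg.isometryGroup F ⇑(Qs Q₁ Q₂)), g ∈ Cfsg.Omega F ⇑(Qs Q₁ Q₂) ∧ ((g : Matrix.GeneralLinearGroup (Fin k ⊕ Fin l) F) : Matrix (Fin k ⊕ Fin l) (Fin k ⊕ Fin l) F) = Matrix.fromBlocks ((g₁ : Matrix.GeneralLinearGroup (Fin k) F) : Matrix (Fin k) (Fin k) F) 0 0 1) ↔ g0 ∈ Cfsg.Omega F ⇑(Qs Q₁ Q₂)) := by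
    intro g0 hmat
    constructor
    · rintro ⟨g, hg, hgm⟩
      have : g = g0 := by
        apply Subtype.ext
        apply Units.ext
        rw [hgm, hmat]
      rw [← this]; exact hg
    · intro h
      exact ⟨g0, h, hmat⟩
  -- lifting a list
  have hlift : ∀ l₁ : List (Fin k → F), (∀ d ∈ l₁, Q₁ d ≠ 0) → Act Q₁ g₁ l₁ →
      ∃ g0 : ↥(Cfsg.isometryGroup F ⇑(Qs Q₁ Q₂)), Act (Qs Q₁ Q₂) g0 (l₁.map lift) ∧
        (∀ d ∈ l₁.map (lift (l := l)), Qs Q₁ Q₂ d ≠ 0) ∧
        ((g0 : Matrix.GeneralLinearGroup (Fin k ⊕ Fin l) F) : Matrix (Fin k ⊕ Fin l) (Fin k ⊕ Fin l) F) = Matrix.fromBlocks ((g₁ : Matrix.GeneralLinearGroup (Fin k) F) : Matrix (Fin k) (Fin k) F) 0 0 1 := by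
    intro l₁ hl₁ hact₁
    have hne : ∀ d ∈ l₁.map (lift (l := l)), Qs Q₁ Q₂ d ≠ 0 := by
      intro d hd
      rw [List.mem_map] at hd
      obtain ⟨d', hd', rfl⟩ := hd
      rw [Qs_lift]; exact hl₁ d' hd'
    obtain ⟨g0, hact0⟩ := exists_act (Qs Q₁ Q₂) (l₁.map lift) hne
    refine ⟨g0, hact0, hne, ?_⟩
    apply Matrix.toLin'.injective
    apply LinearMap.ext
    intro x
    rw [Matrix.toLin'_apply, hact0 x, app_lift, Matrix.toLin'_apply, Matrix.fromBlocks_mulVec,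
      ← hact₁ (x ∘ Sum.inl), Matrix.zero_mulVec, Matrix.zero_mulVec, Matrix.one_mulVec, add_zero,
      zero_add]
  by_cases h2 : (2 : F) = 0
  · -- characteristic 2
    have : CharP F 2 := CharTwo.of_one_ne_zero_of_two_eq_zero one_ne_zero h2
    have hs : Fintype.card F ≠ 2 → ∃ s : F, s ≠ 0 ∧ s ≠ 1 := by
      intro h
      by_contra hcon
      push Not at hcon
      apply h
      have huniv : (Finset.univ : Finset F) = {0, 1} := by
        ext s
        simp only [Finset.mem_univ, Finset.mem_insert, Finset.mem_singleton, true_iff]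
        by_cases hs : s = 0
        · exact Or.inl hs
        · exact Or.inr (hcon s hs)
      rw [← Finset.card_univ, huniv, Finset.card_pair zero_ne_one]
    have hc1 : (∃ s : F, s ≠ 0 ∧ s ≠ 1) ∨ Module.finrank F (Fin k → F) ≠ 4 := by
      rcases h with h | h
      · exact Or.inl (hs h)
      · right; rw [hV1]; exact h.1
    have hcs : (∃ s : F, s ≠ 0 ∧ s ≠ 1) ∨ Module.finrank F (Fin k ⊕ Fin l → F) ≠ 4 := by
      rcases h with h | h
      · exact Or.inl (hs h)
      · right; rw [hVs]; exact h.2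
    obtain ⟨l₁, hl₁, hact₁⟩ := act_list Q₁ h2 h₁ hc1 g₁
    obtain ⟨g0, hact0, hne, hmat⟩ := hlift l₁ hl₁ hact₁
    rw [huniq g0 hmat]
    rcases Nat.even_or_odd l₁.length with ⟨j, hj⟩ | ⟨j, hj⟩
    · have m1 : g₁ ∈ Cfsg.Omega F ⇑Q₁ := even_mem_gen Q₁ h₁ j l₁ (by omega) hl₁ g₁ hact₁
      have m2 : g0 ∈ Cfsg.Omega F ⇑(Qs Q₁ Q₂) :=
        even_mem_gen (Qs Q₁ Q₂) hnd j (l₁.map lift) (by rw [List.length_map]; omega) hne g0 hact0
      exact ⟨fun _ => m1, fun _ => m2⟩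
    · have m1 : g₁ ∉ Cfsg.Omega F ⇑Q₁ := odd_not_mem Q₁ h2 h₁ hc1 g₁ l₁ hl₁ (by omega) hact₁
      have m2 : g0 ∉ Cfsg.Omega F ⇑(Qs Q₁ Q₂) :=
        odd_not_mem (Qs Q₁ Q₂) h2 hnd hcs g0 (l₁.map lift) hne (by rw [List.length_map]; omega)
          hact0
      exact ⟨fun h => absurd h m2, fun h => absurd h m1⟩
  · -- odd characteristic
    obtain ⟨l₁, hl₁, hact₁⟩ : ∃ l₁ : List (Fin k → F), (∀ d ∈ l₁, Q₁ d ≠ 0) ∧ Act Q₁ g₁ l₁ := by
      obtain ⟨l', hl1, hl2⟩ := Cfsg.Agent.S0792.cd h2 k (Fin k → F) Q₁ h₁ hV1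
        (Matrix.toLin' ((g₁ : Matrix.GeneralLinearGroup (Fin k) F) : Matrix (Fin k) (Fin k) F))
        (fun v => by rw [Matrix.toLin'_apply]; exact hiso v)
      exact ⟨l', hl1, fun x => by rw [← hl2 x, Matrix.toLin'_apply]⟩
    obtain ⟨g0, hact0, hne, hmat⟩ := hlift l₁ hl₁ hact₁
    rw [huniq g0 hmat]
    have hmapQ : ((l₁.map (lift (l := l))).map (fun v => Qs Q₁ Q₂ v)) = l₁.map (fun v => Q₁ v) := by
      rw [List.map_map]
      apply List.map_congr_left
      intro d _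
      exact Qs_lift Q₁ Q₂ d
    by_cases hk2 : 2 ≤ k
    · have c1 := Cfsg.Agent.S2609.crit Q₁ h2 h₁ (by rw [hV1]; exact hk2) g₁ l₁ hl₁ hact₁
      have c2 := Cfsg.Agent.S2609.crit (Qs Q₁ Q₂) h2 hnd (by rw [hVs]; omega) g0 (l₁.map lift) hne
        hact0
      rw [List.length_map, hmapQ] at c2
      exact c2.trans c1.symm
    · -- k ≤ 1: the group of Q₁ is commutative, and determinants decide
      have hcomm : ∀ a b : Matrix (Fin k) (Fin k) F, a * b = b * a := by
        intro a b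
        have hk1 : k = 0 ∨ k = 1 := by omega
        rcases hk1 with rfl | rfl
        · exact Subsingleton.elim _ _
        · ext i j
          fin_cases i; fin_cases j
          simp [Matrix.mul_apply, mul_comm]
      have hbot : ∀ x : ↥(Cfsg.isometryGroup F ⇑Q₁), x ∈ Cfsg.Omega F ⇑Q₁ → x = 1 := by
        intro x hx
        have h3 : commutator ↥(Cfsg.isometryGroup F ⇑Q₁) ≤ ⊥ := by
          rw [commutator_def, Subgroup.commutator_le]
          intro a _ b _
          rw [Subgroup.mem_bot, commutatorElement_eq_one_iff_commute]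
          apply Subtype.ext
          apply Units.ext
          exact hcomm _ _
        exact Subgroup.mem_bot.1 (h3 hx)
      have hdet : ((g₁ : Matrix.GeneralLinearGroup (Fin k) F) : Matrix (Fin k) (Fin k) F).det = 1 →
          g₁ = 1 := by
        intro hd
        apply Subtype.ext
        apply Units.ext
        have hk1 : k = 0 ∨ k = 1 := by omega
        rcases hk1 with rfl | rfl
        · exact Subsingleton.elim _ _
        · ext i j
          fin_cases i; fin_cases j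
          rw [Matrix.det_unique] at hd
          simpa using hd
      constructor
      · intro hg0
        have h3 := det_one_of_mem _ g0 hg0
        rw [hmat, Matrix.det_fromBlocks_zero₂₁, Matrix.det_one, mul_one] at h3
        rw [hdet h3]
        exact Subgroup.one_mem _
      · intro hg1
        have e1 : g₁ = 1 := hbot g₁ hg1
        have e0 : g0 = 1 := by
          apply Subtype.ext
          apply Units.ext
          rw [hmat, e1]
          show Matrix.fromBlocks (1 : Matrix (Fin k) (Fin k) F) 0 0 1 = 1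
          exact Matrix.fromBlocks_one
        rw [e0]
        exact Subgroup.one_mem _

end Cfsg.Agent.S2627
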