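import Mathlib
import Cfsg.Statements.S3835
import Cfsg.Agent.Lib.Helper4.SymSylow
import Cfsg.Agent.Lib.Helper6.QdFree

set_option autoImplicit false
open Cfsg

namespace Cfsg.Agent.S3835

open Matrix

variable {p : ℕ} [Fact p.Prime]

/-- last row `(0,0,1)` -/
def Row (M : Matrix (Fin 3) (Fin 3) (ZMod p)) : Prop := M 2 0 = 0 ∧ M 2 1 = 0 ∧ M 2 2 = 1

theorem row_mul (M N : Matrix (Fin 3) (Fin 3) (ZMod p)) (hM : Row M) (hN : Row N) :
    Row (M * N) := by
  obtain ⟨h1, h2, h3⟩ := hM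
  obtain ⟨k1, k2, k3⟩ := hN
  refine ⟨?_, ?_, ?_⟩ <;> simp [Matrix.mul_apply, Fin.sum_univ_three, h1, h2, h3, k1, k2, k3]

theorem row_one : Row (1 : Matrix (Fin 3) (Fin 3) (ZMod p)) := by
  refine ⟨?_, ?_, ?_⟩ <;> simp

theorem row_pow (M : SpecialLinearGroup (Fin 3) (ZMod p)) (hM : Row M.1) (k : ℕ) :
    Row (M ^ k).1 := by
  induction k with
  | zero => rw [pow_zero]; exact row_one
  | succ k ih => rw [pow_succ]; exact row_mul _ _ ih hM

theorem row_of_mem (M : SpecialLinearGroup (Fin 3) (ZMod p)) (hM : M ∈ Cfsg.qd p) :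
    Row M.1 := by
  unfold Cfsg.qd at hM
  induction hM using Subgroup.closure_induction with
  | mem x hx => exact hx
  | one => exact row_one
  | mul x y _ _ hx hy => exact row_mul _ _ hx hy
  | inv x _ hx =>
    haveI : Finite (SpecialLinearGroup (Fin 3) (ZMod p)) :=
      Finite.of_injective (fun M : SpecialLinearGroup (Fin 3) (ZMod p) => M.1)
        Subtype.val_injective
    have h1 : x ^ Nat.card (SpecialLinearGroup (Fin 3) (ZMod p)) = 1 := pow_card_eq_one'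
    have h2 : x⁻¹ = x ^ (Nat.card (SpecialLinearGroup (Fin 3) (ZMod p)) - 1) := by
      apply inv_eq_of_mul_eq_one_right
      rw [← pow_succ', Nat.sub_add_cancel Nat.card_pos, h1]
    rw [h2]
    exact row_pow x hx _

/-- affine action of a matrix on the plane -/
def act (M : Matrix (Fin 3) (Fin 3) (ZMod p)) (v : ZMod p × ZMod p) : ZMod p × ZMod p :=
  (M 0 0 * v.1 + M 0 1 * v.2 + M 0 2, M 1 0 * v.1 + M 1 1 * v.2 + M 1 2)

theorem act_one (v : ZMod p × ZMod p) : act (1 : Matrix (Fin 3) (Fin 3) (ZMod p)) v = v := by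
  simp [act]

theorem act_mul (M N : Matrix (Fin 3) (Fin 3) (ZMod p)) (hN : Row N) (v : ZMod p × ZMod p) :
    act (M * N) v = act M (act N v) := by
  obtain ⟨k1, k2, k3⟩ := hN
  simp only [act, Matrix.mul_apply, Fin.sum_univ_three, k1, k2, k3]
  refine Prod.ext ?_ ?_ <;> simp <;> ring

instance qdAction : MulAction ↥(Cfsg.qd p) (ZMod p × ZMod p) where
  smul g v := act g.1.1 v
  one_smul v := act_one v
  mul_smul g h v := act_mul g.1.1 h.1.1 (row_of_mem h.1 h.2) v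

theorem smul_def' (g : ↥(Cfsg.qd p)) (v : ZMod p × ZMod p) : g • v = act g.1.1 v := rfl

/-- the permutation representation -/
def psi : ↥(Cfsg.qd p) →* Equiv.Perm (ZMod p × ZMod p) :=
  MulAction.toPermHom ↥(Cfsg.qd p) (ZMod p × ZMod p)

theorem psi_apply (g : ↥(Cfsg.qd p)) (v : ZMod p × ZMod p) : psi g v = act g.1.1 v := rfl

theorem psi_injective : Function.Injective (psi (p := p)) := by
  rw [injective_iff_map_eq_one]
  intro g hg
  have h0 := congrArg (fun σ : Equiv.Perm (ZMod p × ZMod p) => σ (0, 0)) hg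
  have h1 := congrArg (fun σ : Equiv.Perm (ZMod p × ZMod p) => σ (1, 0)) hg
  have h2 := congrArg (fun σ : Equiv.Perm (ZMod p × ZMod p) => σ (0, 1)) hg
  simp only [psi_apply, act, Equiv.Perm.coe_one, id_eq, Prod.mk.injEq, mul_zero, mul_one,
    zero_add, add_zero] at h0 h1 h2
  obtain ⟨r0, r1, r2⟩ := row_of_mem g.1 g.2
  obtain ⟨e02, e12⟩ := h0
  rw [e02, e12, add_zero, add_zero] at h1 h2
  obtain ⟨e00, e10⟩ := h1
  obtain ⟨e01, e11⟩ := h2
  apply Subtype.ext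
  apply Subtype.ext
  ext i j
  fin_cases i <;> fin_cases j <;> simp [e00, e01, e02, e10, e11, e12, r0, r1, r2]

theorem decomp {F : Type*} [Field F] (a b c d e f x y : F) (hc : c ≠ 0) (hx : x * c = a - 1)
    (hy : y * c = d - 1) (hdet : a * d - b * c = 1) :
    (!![1, 0, e; 0, 1, f; 0, 0, 1] * !![1, x, 0; 0, 1, 0; 0, 0, 1] *
      !![1, 0, 0; c, 1, 0; 0, 0, 1] * !![1, y, 0; 0, 1, 0; 0, 0, 1] : Matrix (Fin 3) (Fin 3) F) =
      !![a, b, e; c, d, f; 0, 0, 1] := by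
  ext i j
  fin_cases i <;> fin_cases j <;> simp [Matrix.mul_apply, Fin.sum_univ_three]
  · linear_combination hx
  · have h : ((1 + x * c) * y + x) * c = b * c := by
      linear_combination (1 + x * c) * hy + d * hx + hdet
    exact mul_right_cancel₀ hc h
  · linear_combination hy

section gens
variable (p)

/-- translation -/
def Tm (e f : ZMod p) : SpecialLinearGroup (Fin 3) (ZMod p) :=
  ⟨!![1, 0, e; 0, 1, f; 0, 0, 1], by simp [Matrix.det_fin_three]⟩

/-- upper elementary matrix -/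
def Um (t : ZMod p) : SpecialLinearGroup (Fin 3) (ZMod p) :=
  ⟨!![1, t, 0; 0, 1, 0; 0, 0, 1], by simp [Matrix.det_fin_three]⟩

/-- lower elementary matrix -/
def Lm (t : ZMod p) : SpecialLinearGroup (Fin 3) (ZMod p) :=
  ⟨!![1, 0, 0; t, 1, 0; 0, 0, 1], by simp [Matrix.det_fin_three]⟩

/-- the Weyl element -/
def Wm : SpecialLinearGroup (Fin 3) (ZMod p) :=
  ⟨!![0, 1, 0; -1, 0, 0; 0, 0, 1], by simp [Matrix.det_fin_three]⟩

theorem Tm_mem (e f : ZMod p) : Tm p e f ∈ Cfsg.qd p :=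
  Subgroup.subset_closure ⟨by simp [Tm], by simp [Tm], by simp [Tm]⟩

theorem Um_mem (t : ZMod p) : Um p t ∈ Cfsg.qd p :=
  Subgroup.subset_closure ⟨by simp [Um], by simp [Um], by simp [Um]⟩

theorem Lm_mem (t : ZMod p) : Lm p t ∈ Cfsg.qd p :=
  Subgroup.subset_closure ⟨by simp [Lm], by simp [Lm], by simp [Lm]⟩

theorem Wm_mem : Wm p ∈ Cfsg.qd p :=
  Subgroup.subset_closure ⟨by simp [Wm], by simp [Wm], by simp [Wm]⟩

end gens

theorem sign_of_pow (hp : p ≠ 2) (g : ↥(Cfsg.qd p)) (h : g ^ p = 1) :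
    Equiv.Perm.sign (psi g) = 1 := by
  apply Cfsg.Agent.Lib.Helper4.h4_sign_of_pow p hp (psi g) 1
  rw [pow_one, ← map_pow, h, map_one]

theorem Tm_pow (hp : p ≠ 2) (e f : ZMod p) :
    (⟨Tm p e f, Tm_mem p e f⟩ : ↥(Cfsg.qd p)) ^ p = 1 := by
  apply Subtype.ext
  apply Subtype.ext
  simpa using Cfsg.Agent.Lib.Helper6.qf_pow hp (Tm p e f).1 ⟨by simp [Tm], by simp [Tm], by simp [Tm], by simp [Tm], by simp [Tm], by simp [Tm]⟩

theorem Um_pow (hp : p ≠ 2) (t : ZMod p) :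
    (⟨Um p t, Um_mem p t⟩ : ↥(Cfsg.qd p)) ^ p = 1 := by
  apply Subtype.ext
  apply Subtype.ext
  simpa using Cfsg.Agent.Lib.Helper6.qf_pow hp (Um p t).1 ⟨by simp [Um], by simp [Um], by simp [Um], by simp [Um], by simp [Um], by simp [Um]⟩

theorem Lm_sign (hp : p ≠ 2) (t : ZMod p) :
    Equiv.Perm.sign (psi (⟨Lm p t, Lm_mem p t⟩ : ↥(Cfsg.qd p))) = 1 := by
  have e : (⟨Lm p t, Lm_mem p t⟩ : ↥(Cfsg.qd p)) * ⟨Wm p, Wm_mem p⟩ =
      ⟨Wm p, Wm_mem p⟩ * ⟨Um p (-t), Um_mem p _⟩ := by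
    apply Subtype.ext
    apply Subtype.ext
    show (Lm p t).1 * (Wm p).1 = (Wm p).1 * (Um p (-t)).1
    ext i j
    fin_cases i <;> fin_cases j <;> simp [Lm, Wm, Um, Matrix.mul_apply, Fin.sum_univ_three]
  have h1 := congrArg (fun g => Equiv.Perm.sign (psi g)) e
  simp only [map_mul] at h1
  rw [sign_of_pow hp _ (Um_pow hp (-t)), mul_one] at h1
  exact mul_right_cancel (h1.trans (one_mul _).symm)

theorem sign_case1 (hp : p ≠ 2) (g : ↥(Cfsg.qd p)) (hc : g.1.1 1 0 ≠ 0) :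
    Equiv.Perm.sign (psi g) = 1 := by
  obtain ⟨r0, r1, r2⟩ := row_of_mem g.1 g.2
  have hdet : g.1.1 0 0 * g.1.1 1 1 - g.1.1 0 1 * g.1.1 1 0 = 1 := by
    have h := g.1.2
    rw [Matrix.det_fin_three, r0, r1, r2] at h
    linear_combination h
  have hmat : g.1.1 = !![g.1.1 0 0, g.1.1 0 1, g.1.1 0 2; g.1.1 1 0, g.1.1 1 1, g.1.1 1 2;
      0, 0, 1] := by
    ext i j
    fin_cases i <;> fin_cases j <;> simp [r0, r1, r2]
  have e : g = ⟨Tm p (g.1.1 0 2) (g.1.1 1 2), Tm_mem p _ _⟩ *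
      ⟨Um p ((g.1.1 0 0 - 1) / g.1.1 1 0), Um_mem p _⟩ *
      ⟨Lm p (g.1.1 1 0), Lm_mem p _⟩ *
      ⟨Um p ((g.1.1 1 1 - 1) / g.1.1 1 0), Um_mem p _⟩ := by
    apply Subtype.ext
    apply Subtype.ext
    show g.1.1 = (Tm p (g.1.1 0 2) (g.1.1 1 2)).1 * (Um p ((g.1.1 0 0 - 1) / g.1.1 1 0)).1 *
      (Lm p (g.1.1 1 0)).1 * (Um p ((g.1.1 1 1 - 1) / g.1.1 1 0)).1
    rw [hmat]
    exact (decomp _ _ _ _ _ _ _ _ hc (div_mul_cancel₀ _ hc) (div_mul_cancel₀ _ hc) hdet).symm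
  rw [e, map_mul, map_mul, map_mul, map_mul, map_mul, map_mul,
    sign_of_pow hp _ (Tm_pow hp _ _), sign_of_pow hp _ (Um_pow hp _), Lm_sign hp,
    sign_of_pow hp _ (Um_pow hp _)]
  simp

theorem sign_all (hp : p ≠ 2) (g : ↥(Cfsg.qd p)) : Equiv.Perm.sign (psi g) = 1 := by
  by_cases hc : g.1.1 1 0 = 0
  · obtain ⟨r0, r1, r2⟩ := row_of_mem g.1 g.2
    have hdet : g.1.1 0 0 * g.1.1 1 1 = 1 := by
      have h := g.1.2
      rw [Matrix.det_fin_three, r0, r1, r2, hc] at h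
      linear_combination h
    have ha : g.1.1 0 0 ≠ 0 := by
      intro h
      rw [h, zero_mul] at hdet
      exact zero_ne_one hdet
    have hc' : ((⟨Lm p 1, Lm_mem p 1⟩ : ↥(Cfsg.qd p)) * g).1.1 1 0 ≠ 0 := by
      show ((Lm p 1).1 * g.1.1) 1 0 ≠ 0
      simp [Lm, Matrix.mul_apply, Fin.sum_univ_three, hc, r0]
      exact ha
    have h1 := sign_case1 hp _ hc'
    rw [map_mul, map_mul, Lm_sign hp, one_mul] at h1
    exact h1
  · exact sign_case1 hp g hc

theorem sign_via {α : Type*} [Fintype α] [DecidableEq α] (n : ℕ) (ι : α ↪ Fin n)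
    (σ : Equiv.Perm α) :
    Equiv.Perm.sign (Equiv.Perm.viaEmbeddingHom ι σ) = Equiv.Perm.sign σ := by
  classical
  rw [Equiv.Perm.viaEmbeddingHom_apply, Equiv.Perm.viaEmbedding]
  exact @Equiv.Perm.sign_extendDomain _ _ _ _ _ _ σ _ (fun a => Classical.propDecidable _) _

theorem pab_alt (n : ℕ) (hn : n < p ^ 2) :
    Cfsg.Agent.Lib.Helper6.qfPAb p ↥(alternatingGroup (Fin n)) := by
  intro Q hQ a ha b hb
  apply Subtype.ext
  exact Cfsg.Agent.Lib.Helper4.h4_perm_pgroup_comm n p hn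
    (Q.map (alternatingGroup (Fin n)).subtype) (hQ.map _) a.1 b.1 ⟨a, ha, rfl⟩ ⟨b, hb, rfl⟩

/-- Let p be an odd prime and n a natural number. The alternating group of degree n has a subgroup isomorphic to Qd(p) (the natural semidirect product of an elementary abelian group of order p² by SL₂(p)) if and only if n ≥ p²; and if n < p² then Qd(p) is not even involved in it. -/
theorem result {p : ℕ} [Fact p.Prime] (hp : p ≠ 2) (n : ℕ) : ((∃ H : Subgroup (alternatingGroup (Fin n)), Nonempty (↥H ≃* ↥(Cfsg.qd p))) ↔ p ^ 2 ≤ n) ∧ (n < p ^ 2 → ¬ Cfsg.Involves ↥(Cfsg.qd p) ↥(alternatingGroup (Fin n))) := by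
  classical
  refine ⟨⟨?_, ?_⟩, ?_⟩
  · rintro ⟨H, ⟨e⟩⟩
    by_contra hlt
    push_neg at hlt
    have h1 := pab_alt (p := p) n hlt
    have h2 : Cfsg.Agent.Lib.Helper6.qfPAb p ↥H :=
      Cfsg.Agent.Lib.Helper6.qf_inj H.subtype H.subtype_injective h1
    have h3 : Cfsg.Agent.Lib.Helper6.qfPAb p ↥(Cfsg.qd p) :=
      Cfsg.Agent.Lib.Helper6.qf_inj e.symm.toMonoidHom e.symm.injective h2
    exact Cfsg.Agent.Lib.Helper6.qf_qd hp h3
  · intro hle
    have hcard : Fintype.card (ZMod p × ZMod p) ≤ Fintype.card (Fin n) := by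
      rw [Fintype.card_prod, ZMod.card, Fintype.card_fin, ← pow_two]; exact hle
    obtain ⟨ι⟩ := Function.Embedding.nonempty_of_card_le hcard
    have hmem : ∀ g : ↥(Cfsg.qd p),
        ((Equiv.Perm.viaEmbeddingHom ι).comp psi) g ∈ alternatingGroup (Fin n) := by
      intro g
      rw [Equiv.Perm.mem_alternatingGroup]
      show Equiv.Perm.sign (Equiv.Perm.viaEmbeddingHom ι (psi g)) = 1
      rw [sign_via, sign_all hp]
    have hinj : Function.Injective
        (((Equiv.Perm.viaEmbeddingHom ι).comp psi).codRestrict (alternatingGroup (Fin n))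
          hmem) := by
      intro g h hgh
      have h1 : ((Equiv.Perm.viaEmbeddingHom ι).comp psi) g =
          ((Equiv.Perm.viaEmbeddingHom ι).comp psi) h := congrArg Subtype.val hgh
      exact psi_injective (Equiv.Perm.viaEmbeddingHom_injective ι h1)
    exact ⟨_, ⟨(MonoidHom.ofInjective hinj).symm⟩⟩
  · rintro hlt ⟨K, R, hn, ⟨e⟩⟩
    have h1 := pab_alt (p := p) n hlt
    have h2 : Cfsg.Agent.Lib.Helper6.qfPAb p ↥K :=
      Cfsg.Agent.Lib.Helper6.qf_inj K.subtype K.subtype_injective h1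
    have h3 : Cfsg.Agent.Lib.Helper6.qfPAb p (↥K ⧸ R.subgroupOf K) :=
      Cfsg.Agent.Lib.Helper6.qf_surj (QuotientGroup.mk' _) (QuotientGroup.mk'_surjective _) h2
    have h4 : Cfsg.Agent.Lib.Helper6.qfPAb p ↥(Cfsg.qd p) :=
      Cfsg.Agent.Lib.Helper6.qf_inj e.symm.toMonoidHom e.symm.injective h3
    exact Cfsg.Agent.Lib.Helper6.qf_qd hp h4

end Cfsg.Agent.S3835
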