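import Mathlib
import Cfsg.Statements.S2761
import Cfsg.Agent.S3835

set_option autoImplicit false
open Cfsg

namespace Cfsg.Agent.S2761

open Matrix

instance fact2 : Fact (Nat.Prime 2) := ⟨Nat.prime_two⟩

/-- the matrix of the affine map swapping `u` and `v` -/
def swM (u v : ZMod 2 × ZMod 2) : Matrix (Fin 3) (Fin 3) (ZMod 2) :=
  !![1 + (u.1 + v.1) * (u.2 + v.2), u.1 + v.1,
      (1 + (u.2 + v.2) * u.1 + (u.1 + v.1) * u.2) * (u.1 + v.1);
    u.2 + v.2, 1 + (u.1 + v.1) * (u.2 + v.2),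
      (1 + (u.2 + v.2) * u.1 + (u.1 + v.1) * u.2) * (u.2 + v.2);
    0, 0, 1]

theorem swM_det : ∀ u v : ZMod 2 × ZMod 2, (swM u v).det = 1 := by
  decide

theorem swM_act : ∀ u v x : ZMod 2 × ZMod 2, u ≠ v →
    Cfsg.Agent.S3835.act (swM u v) x = Equiv.swap u v x := by
  decide

theorem swM_row (u v : ZMod 2 × ZMod 2) :
    swM u v 2 0 = 0 ∧ swM u v 2 1 = 0 ∧ swM u v 2 2 = 1 := ⟨rfl, rfl, rfl⟩

theorem psi_surj : Function.Surjective (Cfsg.Agent.S3835.psi (p := 2)) := by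
  rw [← MonoidHom.range_eq_top, eq_top_iff, ← Equiv.Perm.closure_isSwap, Subgroup.closure_le]
  rintro σ ⟨u, v, huv, rfl⟩
  refine ⟨⟨⟨swM u v, swM_det u v⟩, Subgroup.subset_closure (swM_row u v)⟩, ?_⟩
  apply Equiv.ext
  intro x
  rw [Cfsg.Agent.S3835.psi_apply]
  exact swM_act u v x huv

/-- The group Qd(2), the natural semidirect product of an elementary abelian group of order 4 by SL₂(2) (realised as the affine subgroup of SL₃(2)), is isomorphic to the symmetric group of degree 4. -/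
theorem result : Nonempty (↥(Cfsg.qd 2) ≃* Equiv.Perm (Fin 4)) := by
  have hbij : Function.Bijective (Cfsg.Agent.S3835.psi (p := 2)) :=
    ⟨Cfsg.Agent.S3835.psi_injective, psi_surj⟩
  have hcard : Fintype.card (ZMod 2 × ZMod 2) = 4 := by decide
  exact ⟨(MulEquiv.ofBijective _ hbij).trans
    (Equiv.permCongrHom (Fintype.equivFinOfCardEq hcard))⟩

end Cfsg.Agent.S2761
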