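import Cfsg.Statements.S2809
import Cfsg.Agent.Lib.Helper6.PAction

set_option autoImplicit false
open Cfsg

namespace Cfsg.Agent.S2809

/-- Let H be a finite group, p a prime, R a p-subgroup of H with C_H(R) ≤ R, and L a subgroup of N_H(R) acting nilpotently on R (some iterated commutator [R, L, …, L] is trivial). Then L is a p-group. -/
theorem result {H : Type*} [Group H] [Finite H] {p : ℕ} [Fact p.Prime] (R : Subgroup H) (hR : IsPGroup p ↥R) (hC : Subgroup.centralizer (R : Set H) ≤ R) (L : Subgroup H) (hL : L ≤ Subgroup.normalizer (R : Set H)) (hnil : ∃ n : ℕ, Cfsg.iterCommutator R L n = ⊥) : IsPGroup p ↥L := by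
  obtain ⟨n, hn⟩ := hnil
  apply Cfsg.Agent.Lib.Helper6.pa_isPGroup_of_coprime_trivial
  intro x hxL hx
  have key : ∀ k ≤ n, ∀ r ∈ Cfsg.iterCommutator R L (n - k), Commute x r := by
    intro k
    induction k with
    | zero =>
      intro _ r hr
      rw [Nat.sub_zero, hn, Subgroup.mem_bot] at hr
      rw [hr]; exact Commute.one_right x
    | succ k ih =>
      intro hk r hr
      have hk' : k ≤ n := by omega
      have heq : n - k = (n - (k + 1)) + 1 := by omega
      apply Cfsg.Agent.Lib.Helper6.pa_centralizes_step x hx (Cfsg.iterCommutator R L (n - (k + 1)))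
        (Cfsg.iterCommutator R L (n - k))
        (hR.to_le (Cfsg.Agent.Lib.Helper6.pa_iterCommutator_le R L hL _)) (ih hk') ?_ r hr
      intro r hr
      rw [heq]
      exact Cfsg.Agent.Lib.Helper6.pa_comm_mem hxL hr
  have hxc : x ∈ Subgroup.centralizer (R : Set H) := by
    rw [Subgroup.mem_centralizer_iff]
    intro r hr
    have := key n (le_refl n) r (by rw [Nat.sub_self]; exact hr)
    exact this.eq.symm
  exact Cfsg.Agent.Lib.Helper6.pa_eq_one_of_mem_pgroup_coprime hR (hC hxc) hx

end Cfsg.Agent.S2809
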