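import Cfsg.Statements.S2810
import Cfsg.Agent.Lib.Helper6.PAction

set_option autoImplicit false
open Cfsg

namespace Cfsg.Agent.S2810

/-- Let H be a finite group of characteristic p and L a subgroup of H centralizing every factor of some H-invariant chain 1 = A₀ ≤ A₁ ≤ … ≤ Aₙ = O_p(H) of normal subgroups (that is, [A_{i+1}, L] ≤ Aᵢ for each i). Then L ≤ O_p(H). -/
theorem result {H : Type*} [Group H] [Finite H] {p : ℕ} [Fact p.Prime] (hchar : Subgroup.centralizer (Cfsg.pCore p H : Set H) ≤ Cfsg.pCore p H) (L : Subgroup H) (n : ℕ) (A : Fin (n + 1) → Subgroup H) (h0 : A 0 = ⊥) (hn : A (Fin.last n) = Cfsg.pCore p H) (hmono : Monotone A) (hnorm : ∀ i, (A i).Normal) (hcent : ∀ i : Fin n, ⁅A i.succ, L⁆ ≤ A i.castSucc) : L ≤ Cfsg.pCore p H := by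
  classical
  let K : Subgroup H :=
    { carrier := {g | ∀ i : Fin n, ∀ r ∈ A i.succ, g * r * g⁻¹ * r⁻¹ ∈ A i.castSucc}
      mul_mem' := by
        intro g h hg hh i r hr
        have h1 : g * (h * r * h⁻¹ * r⁻¹) * g⁻¹ ∈ A i.castSucc :=
          (hnorm i.castSucc).conj_mem _ (hh i r hr) g
        have h2 := (A i.castSucc).mul_mem h1 (hg i r hr)
        have : g * h * r * (g * h)⁻¹ * r⁻¹ = g * (h * r * h⁻¹ * r⁻¹) * g⁻¹ * (g * r * g⁻¹ * r⁻¹) := by
          group
        rw [this]; exact h2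
      one_mem' := by
        intro i r hr
        simp
      inv_mem' := by
        intro g hg i r hr
        have h1 : g⁻¹ * (g * r * g⁻¹ * r⁻¹)⁻¹ * g⁻¹⁻¹ ∈ A i.castSucc :=
          (hnorm i.castSucc).conj_mem _ ((A i.castSucc).inv_mem (hg i r hr)) g⁻¹
        have : g⁻¹ * r * g⁻¹⁻¹ * r⁻¹ = g⁻¹ * (g * r * g⁻¹ * r⁻¹)⁻¹ * g⁻¹⁻¹ := by group
        rw [this]; exact h1 }
  have hKn : K.Normal := by
    constructor
    intro g hg h i r hr
    have hr' : h⁻¹ * r * h⁻¹⁻¹ ∈ A i.succ := (hnorm i.succ).conj_mem _ hr h⁻¹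
    have h1 := (hnorm i.castSucc).conj_mem _ (hg i _ hr') h
    have : h * g * h⁻¹ * r * (h * g * h⁻¹)⁻¹ * r⁻¹
        = h * (g * (h⁻¹ * r * h⁻¹⁻¹) * g⁻¹ * (h⁻¹ * r * h⁻¹⁻¹)⁻¹) * h⁻¹ := by group
    rw [this]; exact h1
  have hpc : IsPGroup p (Cfsg.pCore p H) :=
    Sylow.sSup_of_normal _ (fun _ h => h.2) (fun _ h => h.1)
  have hKp : IsPGroup p K := by
    apply Cfsg.Agent.Lib.Helper6.pa_isPGroup_of_coprime_trivial
    intro x hxK hx
    have key : ∀ i : Fin (n + 1), ∀ r ∈ A i, Commute x r := by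
      intro i
      induction i using Fin.induction with
      | zero =>
        intro r hr
        rw [h0, Subgroup.mem_bot] at hr
        rw [hr]; exact Commute.one_right x
      | succ i ih =>
        have hle : A i.castSucc ≤ Cfsg.pCore p H := by
          rw [← hn]; exact hmono (Fin.le_last _)
        exact Cfsg.Agent.Lib.Helper6.pa_centralizes_step x hx (A i.succ) (A i.castSucc)
          (hpc.to_le hle) ih (hxK i)
    have hxc : x ∈ Subgroup.centralizer (Cfsg.pCore p H : Set H) := by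
      rw [Subgroup.mem_centralizer_iff]
      intro r hr
      have := key (Fin.last n) r (by rw [hn]; exact hr)
      exact this.eq.symm
    exact Cfsg.Agent.Lib.Helper6.pa_eq_one_of_mem_pgroup_coprime hpc (hchar hxc) hx
  have hK : K ≤ Cfsg.pCore p H := le_sSup ⟨hKn, hKp⟩
  refine le_trans ?_ hK
  intro g hg i r hr
  exact hcent i (Cfsg.Agent.Lib.Helper6.pa_comm_mem hg hr)

end Cfsg.Agent.S2810
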