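import Cfsg.Statements.S2813
import Cfsg.Agent.Lib.Helper6.PCore

set_option autoImplicit false
open Cfsg

namespace Cfsg.Agent.S2813

/-- Let K be a subgroup of the finite group H with O_p(K) = 1 and Y a p-subgroup of N_H(K) with [K, Y, Y] = 1. Then [K, Y] = 1. -/
theorem result {H : Type*} [Group H] [Finite H] {p : ℕ} [Fact p.Prime] (K : Subgroup H) (hO : Cfsg.pCore p ↥K = ⊥) (Y : Subgroup H) (hY : IsPGroup p ↥Y) (hYK : Y ≤ Subgroup.normalizer (K : Set H)) (hq : ⁅⁅K, Y⁆, Y⁆ = ⊥) : ⁅K, Y⁆ = ⊥ := by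
  set W : Subgroup H := ⁅K, Y⁆ with hW
  have hWK : W ≤ K := Subgroup.le_normalizer_iff_commutator_le_left.1 hYK
  have hKW : K ≤ Subgroup.normalizer (W : Set H) := Subgroup.normalizer_commutator_ge_left K Y
  have h3 : ⁅⁅W, K⁆, Y⁆ = ⊥ := by
    rw [eq_bot_iff, ← hq]
    exact Subgroup.commutator_mono (Subgroup.le_normalizer_iff_commutator_le_left.1 hKW) (le_refl Y)
  have h4 : ⁅⁅Y, W⁆, K⁆ = ⊥ := by
    rw [Subgroup.commutator_comm Y W, hq, Subgroup.commutator_bot_left]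
  have h5 : ⁅W, W⁆ = ⊥ := Subgroup.commutator_commutator_eq_bot_of_rotate h4 h3
  have hWc : ∀ a ∈ W, ∀ b ∈ W, Commute a b := by
    intro a ha b hb
    have := Subgroup.commutator_eq_bot_iff_le_centralizer.1 h5 ha
    rw [Subgroup.mem_centralizer_iff] at this
    exact (this b hb).symm
  have hWY : ∀ w ∈ W, ∀ y ∈ Y, Commute y w := by
    intro w hw y hy
    have := Subgroup.commutator_eq_bot_iff_le_centralizer.1 hq hw
    rw [Subgroup.mem_centralizer_iff] at this
    exact this y hy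
  have hgen : ∀ w ∈ W, ∃ j : ℕ, w ^ (p ^ j) = 1 := by
    intro w hw
    induction hw using Subgroup.closure_induction with
    | mem x hx =>
      obtain ⟨k, hk, y, hy, rfl⟩ := hx
      obtain ⟨j, hj⟩ := hY ⟨y, hy⟩
      have hj' : y ^ (p ^ j) = 1 := by
        have := congrArg Subtype.val hj
        simpa using this
      refine ⟨j, ?_⟩
      have hmem : k * y * k⁻¹ * y⁻¹ ∈ W := Subgroup.commutator_mem_commutator hk hy
      have hc : Commute (k * y * k⁻¹ * y⁻¹) y := (hWY _ hmem y hy).symm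
      have h1 : (k * y * k⁻¹ * y⁻¹ * y) ^ (p ^ j) = (k * y * k⁻¹ * y⁻¹) ^ (p ^ j) * y ^ (p ^ j) :=
        hc.mul_pow _
      have h2 : k * y * k⁻¹ * y⁻¹ * y = k * y * k⁻¹ := by group
      rw [h2, hj', mul_one] at h1
      change (k * y * k⁻¹ * y⁻¹) ^ (p ^ j) = 1
      rw [← h1, conj_pow, hj']
      group
    | one => exact ⟨0, by simp⟩
    | mul a b ha hb iha ihb =>
      obtain ⟨j1, h1⟩ := iha
      obtain ⟨j2, h2⟩ := ihb
      refine ⟨j1 + j2, ?_⟩
      rw [(hWc a ha b hb).mul_pow, pow_add, pow_mul, h1, one_pow, mul_comm (p ^ j1), pow_mul, h2,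
        one_pow, one_mul]
    | inv a ha iha =>
      obtain ⟨j, hj⟩ := iha
      exact ⟨j, by rw [inv_pow, hj, inv_one]⟩
  have hWp : IsPGroup p W := by
    intro w
    obtain ⟨j, hj⟩ := hgen w w.2
    exact ⟨j, by ext; simpa using hj⟩
  exact Cfsg.Agent.Lib.Helper6.pc_eq_bot_of_pCore_eq_bot hWK hKW hWp hO

end Cfsg.Agent.S2813
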