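import Mathlib
import Cfsg.Statements.S2814
import Cfsg.Agent.S0064
import Cfsg.Agent.S1900
import Cfsg.Agent.Lib.Helper2.PResidual
import Cfsg.Agent.Lib.Helper7.Coprime
import Cfsg.Agent.Lib.Helper7.Coprime2

set_option autoImplicit false
open Cfsg
open scoped commutatorElement

namespace Cfsg.Agent.S2814

theorem sc_mem {H : Type*} [Group H] [Finite H] (A : Subgroup H) :
    A ≤ Cfsg.subnormalClosure A ∧ (Cfsg.subnormalClosure A).IsSubnormal := by
  obtain ⟨K₀, -, hK₀⟩ := Finite.exists_le_minimal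
    (p := fun K : Subgroup H => A ≤ K ∧ K.IsSubnormal) (a := ⊤)
    ⟨le_top, Subgroup.IsSubnormal.top⟩
  have h1 : ∀ K' : Subgroup H, A ≤ K' → K'.IsSubnormal → K₀ ≤ K' := by
    intro K' hA hK'
    have h2 : A ≤ K₀ ⊓ K' ∧ (K₀ ⊓ K').IsSubnormal := ⟨le_inf hK₀.1.1 hA, hK₀.1.2.inf hK'⟩
    have h3 := hK₀.2 h2 inf_le_left
    exact h3.trans inf_le_right
  have h4 : Cfsg.subnormalClosure A = K₀ := by
    apply le_antisymm
    · exact sInf_le hK₀.1
    · apply le_sInf
      intro K' hK'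
      exact h1 K' hK'.1 hK'.2
  rw [h4]; exact hK₀.1

/-- Let A be a subgroup of the finite group H and K the subnormal closure of A (intersection of the subnormal subgroups containing A). Then K is the normal closure of A inside K and N_H(A) ≤ N_H(K); K = A·O^p(K), O^p(K) being generated by the elements of K of order prime to p; and if A is a p-group, O^p(K) = [O^p(K), A]. -/
theorem result {H : Type*} [Group H] [Finite H] {p : ℕ} [Fact p.Prime] (A : Subgroup H) (K : Subgroup H) (hK : K = Cfsg.subnormalClosure A) : (Subgroup.normalClosure ((A.subgroupOf K : Subgroup ↥K) : Set ↥K)).map K.subtype = K ∧ Subgroup.normalizer (A : Set H) ≤ Subgroup.normalizer (K : Set H) ∧ A ⊔ (Cfsg.pResidual p ↥K).map K.subtype = K ∧ (IsPGroup p ↥A → ⁅(Cfsg.pResidual p ↥K).map K.subtype, A⁆ = (Cfsg.pResidual p ↥K).map K.subtype) := by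
  obtain ⟨hAK, hKsn⟩ : A ≤ K ∧ K.IsSubnormal := by rw [hK]; exact sc_mem A
  have hmin : ∀ K' : Subgroup H, A ≤ K' → K'.IsSubnormal → K ≤ K' := by
    intro K' h1 h2; rw [hK]; exact sInf_le ⟨h1, h2⟩
  clear hK
  haveI hRn : (Cfsg.pResidual p ↥K).Normal := Cfsg.Agent.Lib.Helper2.pResidual_normal p ↥K
  obtain ⟨R', hR'⟩ : ∃ R' : Subgroup H, R' = (Cfsg.pResidual p ↥K).map K.subtype := ⟨_, rfl⟩
  rw [← hR']
  have hR'K : R' ≤ K := by rw [hR']; exact Subgroup.map_subtype_le _
  have hKR' : K ≤ Subgroup.normalizer (R' : Set H) := by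
    intro k hk
    apply Cfsg.Agent.S1900.mem_normalizer_of_conj_mem
    intro r hr
    rw [hR'] at hr ⊢
    obtain ⟨r', hr', rfl⟩ := hr
    exact ⟨⟨k, hk⟩ * r' * ⟨k, hk⟩⁻¹, hRn.conj_mem r' hr' ⟨k, hk⟩, rfl⟩
  have h3 : A ⊔ R' = K := by
    apply le_antisymm (sup_le hAK hR'K)
    have hQp : IsPGroup p (↥K ⧸ Cfsg.pResidual p ↥K) :=
      Cfsg.Agent.Lib.Helper2.isPGroup_quotient_pResidual p ↥K
    haveI : Group.IsNilpotent (↥K ⧸ Cfsg.pResidual p ↥K) := hQp.isNilpotent
    have hsn1 : ((A.subgroupOf K).map (QuotientGroup.mk' (Cfsg.pResidual p ↥K))).IsSubnormal :=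
      Cfsg.Agent.S0064.result.mp inferInstance _
    have hsn2 := hsn1.comap (QuotientGroup.mk' (Cfsg.pResidual p ↥K))
    rw [QuotientGroup.comap_map_mk'] at hsn2
    have hsn3 := hsn2.trans' hKsn
    rw [Subgroup.map_sup, Subgroup.map_subgroupOf_eq_of_le hAK, ← hR'] at hsn3
    exact hmin _ le_sup_right hsn3 |>.trans (le_of_eq (sup_comm _ _))
  refine ⟨?_, ?_, h3, ?_⟩
  · apply le_antisymm (Subgroup.map_subtype_le _)
    have hsn : ((Subgroup.normalClosure ((A.subgroupOf K : Subgroup ↥K) : Set ↥K)).map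
        K.subtype).IsSubnormal :=
      (Subgroup.normalClosure_normal.isSubnormal).trans' hKsn
    apply hmin _ ?_ hsn
    intro a ha
    exact ⟨⟨a, hAK ha⟩, Subgroup.subset_normalClosure (Subgroup.mem_subgroupOf.mpr ha), rfl⟩
  · intro n hn
    have key : ∀ m ∈ Subgroup.normalizer (A : Set H), ∀ k ∈ K, m⁻¹ * k * m ∈ K := by
      intro m hm k hk
      have hsn : (K.map (MulAut.conj m).toMonoidHom).IsSubnormal :=
        hKsn.map (MulAut.conj m).surjective
      have hA' : A ≤ K.map (MulAut.conj m).toMonoidHom := by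
        intro a ha
        have h1 : m⁻¹ * a * m ∈ A := by
          have := (Subgroup.mem_normalizer_iff.mp (inv_mem hm) a).mp ha
          simpa using this
        refine ⟨m⁻¹ * a * m, hAK h1, ?_⟩
        show m * (m⁻¹ * a * m) * m⁻¹ = a
        group
      have h2 := hmin _ hA' hsn hk
      obtain ⟨k', hk', hkk'⟩ := h2
      have h4 : m * k' * m⁻¹ = k := hkk'
      rw [← h4]
      have e : m⁻¹ * (m * k' * m⁻¹) * m = k' := by group
      rw [e]; exact hk'
    apply Cfsg.Agent.S1900.mem_normalizer_of_conj_mem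
    intro k hk
    have := key n⁻¹ (inv_mem hn) k hk
    simpa using this
  · intro hAp
    obtain ⟨R₀, hR₀⟩ : ∃ R₀ : Subgroup H, R₀ = ⁅R', A⁆ := ⟨_, rfl⟩
    rw [← hR₀]
    have hAR' : A ≤ Subgroup.normalizer (R' : Set H) := hAK.trans hKR'
    have hR₀R' : R₀ ≤ R' := by
      rw [hR₀]; exact Cfsg.Agent.Lib.Helper7.commutator_le_of_le_normalizer hAR'
    have hR'N : R' ≤ Subgroup.normalizer (R₀ : Set H) := by
      rw [hR₀]; exact Cfsg.Agent.Lib.Helper7.le_normalizer_commutator_left _ _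
    have hAN : A ≤ Subgroup.normalizer (R₀ : Set H) := by
      rw [hR₀]; exact Cfsg.Agent.Lib.Helper7.le_normalizer_commutator_right _ _
    have hKN : K ≤ Subgroup.normalizer (R₀ : Set H) := by
      rw [← h3]; exact sup_le hAN hR'N
    have hKN2 : K ≤ Subgroup.normalizer ((A ⊔ R₀ : Subgroup H) : Set H) := by
      rw [← h3]
      apply sup_le
      · exact le_sup_left.trans Subgroup.le_normalizer
      · intro r hr
        apply Cfsg.Agent.S1900.mem_normalizer_of_conj_mem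
        intro y hy
        rw [sup_comm] at hy
        obtain ⟨r₀, hr₀, a, ha, rfl⟩ := Cfsg.Agent.Lib.Helper7.exists_mul_of_mem_sup hAN hy
        have h1 : r * r₀ * r⁻¹ ∈ R₀ := (Subgroup.mem_normalizer_iff.mp (hR'N hr) r₀).mp hr₀
        have h2 : ⁅r, a⁆ ∈ R₀ := by rw [hR₀]; exact Subgroup.commutator_mem_commutator hr ha
        have e : r * (r₀ * a) * r⁻¹ = (r * r₀ * r⁻¹) * ⁅r, a⁆ * a := by
          rw [commutatorElement_def]; group
        rw [e]
        exact mul_mem (mul_mem (Subgroup.mem_sup_right h1) (Subgroup.mem_sup_right h2))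
          (Subgroup.mem_sup_left ha)
    have hAR₀K : A ⊔ R₀ ≤ K := sup_le hAK (hR₀R'.trans hR'K)
    have hsn : (A ⊔ R₀).IsSubnormal := by
      apply Subgroup.IsSubnormal.trans hAR₀K ?_ hKsn
      exact ((Subgroup.normal_subgroupOf_iff_le_normalizer hAR₀K).mpr hKN2).isSubnormal
    have hKeq : K ≤ A ⊔ R₀ := hmin _ le_sup_left hsn
    haveI hR₀n : (R₀.subgroupOf K).Normal :=
      (Subgroup.normal_subgroupOf_iff_le_normalizer (hR₀R'.trans hR'K)).mpr hKN
    have hQp : IsPGroup p (↥K ⧸ R₀.subgroupOf K) := by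
      intro q
      obtain ⟨k, rfl⟩ := QuotientGroup.mk'_surjective _ q
      have hk : (k : H) ∈ R₀ ⊔ A := by rw [sup_comm]; exact hKeq k.2
      obtain ⟨r₀, hr₀, a, ha, hka⟩ := Cfsg.Agent.Lib.Helper7.exists_mul_of_mem_sup hAN hk
      obtain ⟨m, hm⟩ := hAp ⟨a, ha⟩
      refine ⟨m, ?_⟩
      have hr₀K : r₀ ∈ K := hR'K (hR₀R' hr₀)
      have hk' : k = ⟨r₀, hr₀K⟩ * ⟨a, hAK ha⟩ := Subtype.ext hka
      have h1 : QuotientGroup.mk' (R₀.subgroupOf K) (⟨r₀, hr₀K⟩ : ↥K) = 1 :=
        (QuotientGroup.eq_one_iff _).mpr (Subgroup.mem_subgroupOf.mpr hr₀)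
      rw [hk', map_mul, h1, one_mul, ← map_pow]
      have h2 : (⟨a, hAK ha⟩ : ↥K) ^ p ^ m = 1 := by
        apply Subtype.ext
        have := congrArg Subtype.val hm
        simpa using this
      rw [h2, map_one]
    have h5 := Cfsg.Agent.Lib.Helper2.pResidual_le_ker (QuotientGroup.mk' (R₀.subgroupOf K)) hQp
    rw [QuotientGroup.ker_mk'] at h5
    apply le_antisymm hR₀R'
    rw [hR']
    rintro _ ⟨r, hr, rfl⟩
    exact Subgroup.mem_subgroupOf.mp (h5 hr)

end Cfsg.Agent.S2814
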