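import Cfsg.Statements.S2818
import Cfsg.Agent.Lib.Helper6.Frattini
import Cfsg.Agent.Lib.Helper6.PAction

set_option autoImplicit false
open Cfsg

namespace Cfsg.Agent.S2818

/-- Let P be a finite p-subgroup of a group G and H a subgroup of N_G(P) with [P, H] ≤ Ω₁(Z(P)) (the elements of order dividing p in the centre of P). Then H centralizes the Frattini subgroup of P. -/
theorem result {G : Type*} [Group G] [Finite G] {p : ℕ} [Fact p.Prime] (P : Subgroup G) (hP : IsPGroup p ↥P) (H : Subgroup G) (hH : H ≤ Subgroup.normalizer (P : Set G)) (h : ⁅P, H⁆ ≤ Cfsg.omegaOne p (P ⊓ Subgroup.centralizer (P : Set G))) : ⁅(frattini ↥P).map P.subtype, H⁆ = ⊥ := by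
  rw [Subgroup.commutator_eq_bot_iff_le_centralizer]
  intro f hf
  rw [Subgroup.mem_centralizer_iff]
  intro x hx
  exact Cfsg.Agent.Lib.Helper6.fr_centralizes_frattini P x
    (fun a ha => h (Cfsg.Agent.Lib.Helper6.pa_comm_mem hx ha)) f hf

end Cfsg.Agent.S2818
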