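import Cfsg.Statements.S2819
import Cfsg.Agent.Lib.Helper6.Frattini
import Cfsg.Agent.Lib.Helper6.PAction
import Cfsg.Agent.Lib.Helper6.GenLemmas2

set_option autoImplicit false
open Cfsg

namespace Cfsg.Agent.S2819

/-- Let P be a finite p-subgroup of a group G, H a subgroup of N_G(P), and Y a subgroup of H centralizing the derived subgroup P' such that [P, Y] is elementary abelian. Then O^p(⟨Y^H⟩), the subgroup of the normal closure of Y in H generated by its elements of order prime to p, centralizes the Frattini subgroup of P. -/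
theorem result {G : Type*} [Group G] [Finite G] {p : ℕ} [Fact p.Prime] (P : Subgroup G) (hP : IsPGroup p ↥P) (H : Subgroup G) (hH : H ≤ Subgroup.normalizer (P : Set G)) (Y : Subgroup G) (hYH : Y ≤ H) (hYc : Y ≤ Subgroup.centralizer ((⁅P, P⁆ : Subgroup G) : Set G)) (hel : Cfsg.IsElementaryAbelian p ⁅P, Y⁆) (NY : Subgroup G) (hNY : NY = (Subgroup.normalClosure ((Y.subgroupOf H : Subgroup ↥H) : Set ↥H)).map H.subtype) : (Cfsg.pResidual p ↥NY).map NY.subtype ≤ Subgroup.centralizer (((frattini ↥P).map P.subtype : Subgroup G) : Set G) := by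
  classical
  have hDP : ⁅P, P⁆ ≤ P := Subgroup.commutator_le_self P
  have hDp : IsPGroup p ↥⁅P, P⁆ := hP.to_le hDP
  have hHD : H ≤ Subgroup.normalizer ((⁅P, P⁆ : Subgroup G) : Set G) :=
    hH.trans (Cfsg.Agent.Lib.Helper6.gl_normalizer_commutator_self P)
  have hHΦ : H ≤ Subgroup.normalizer (((frattini ↥P).map P.subtype : Subgroup G) : Set G) :=
    hH.trans (Cfsg.Agent.Lib.Helper6.gl_char_normalizer P (frattini ↥P) inferInstance)
  have hPD : P ≤ Subgroup.normalizer ((⁅P, P⁆ : Subgroup G) : Set G) :=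
    Subgroup.le_normalizer.trans (Cfsg.Agent.Lib.Helper6.gl_normalizer_commutator_self P)
  have cent_conj : ∀ g d : G, g ∈ Subgroup.centralizer ((⁅P, P⁆ : Subgroup G) : Set G) →
      d ∈ ⁅P, P⁆ → g * d * g⁻¹ = d := by
    intro g d hg hd
    have := (Subgroup.mem_centralizer_iff.1 hg) d hd
    rw [← this, mul_inv_cancel_right]
  let K : Subgroup G :=
    { carrier := {g | g ∈ Subgroup.centralizer ((⁅P, P⁆ : Subgroup G) : Set G) ∧
        ∀ r ∈ (frattini ↥P).map P.subtype, g * r * g⁻¹ * r⁻¹ ∈ ⁅P, P⁆}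
      mul_mem' := by
        rintro g₁ g₂ ⟨h1c, h1r⟩ ⟨h2c, h2r⟩
        refine ⟨Subgroup.mul_mem _ h1c h2c, ?_⟩
        intro r hr
        have e : g₁ * g₂ * r * (g₁ * g₂)⁻¹ * r⁻¹ =
            g₁ * (g₂ * r * g₂⁻¹ * r⁻¹) * g₁⁻¹ * (g₁ * r * g₁⁻¹ * r⁻¹) := by group
        rw [e, cent_conj g₁ _ h1c (h2r r hr)]
        exact Subgroup.mul_mem _ (h2r r hr) (h1r r hr)
      one_mem' := by
        refine ⟨Subgroup.one_mem _, ?_⟩
        intro r hr
        simp
      inv_mem' := by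
        rintro g ⟨hc, hr⟩
        refine ⟨Subgroup.inv_mem _ hc, ?_⟩
        intro r hrr
        have e : g⁻¹ * r * g⁻¹⁻¹ * r⁻¹ = g⁻¹ * (g * r * g⁻¹ * r⁻¹)⁻¹ * g⁻¹⁻¹ := by group
        rw [e, cent_conj g⁻¹ _ (Subgroup.inv_mem _ hc) (Subgroup.inv_mem _ (hr r hrr))]
        exact Subgroup.inv_mem _ (hr r hrr) }
  have hYK : Y ≤ K := by
    intro y hy
    have hyc : y ∈ Subgroup.centralizer ((⁅P, P⁆ : Subgroup G) : Set G) := hYc hy
    refine ⟨hyc, ?_⟩
    let Dy : Subgroup ↥P :=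
      { carrier := {r : ↥P | y * (r : G) * y⁻¹ * (r : G)⁻¹ ∈ ⁅P, P⁆}
        mul_mem' := by
          intro r s hr hs
          have e : y * ((r * s : ↥P) : G) * y⁻¹ * ((r * s : ↥P) : G)⁻¹ =
              (y * (r : G) * y⁻¹ * (r : G)⁻¹) *
                ((r : G) * (y * (s : G) * y⁻¹ * (s : G)⁻¹) * (r : G)⁻¹) := by
            rw [Subgroup.coe_mul]; group
          show y * ((r * s : ↥P) : G) * y⁻¹ * ((r * s : ↥P) : G)⁻¹ ∈ ⁅P, P⁆
          rw [e]
          exact Subgroup.mul_mem _ hr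
            (Cfsg.Agent.Lib.Helper6.gl_mem_normalizer_conj (hPD r.2) hs)
        one_mem' := by
          show y * ((1 : ↥P) : G) * y⁻¹ * ((1 : ↥P) : G)⁻¹ ∈ ⁅P, P⁆
          simp
        inv_mem' := by
          intro r hr
          have e : y * ((r⁻¹ : ↥P) : G) * y⁻¹ * ((r⁻¹ : ↥P) : G)⁻¹ =
              (r : G)⁻¹ * (y * (r : G) * y⁻¹ * (r : G)⁻¹)⁻¹ * (r : G) := by
            rw [Subgroup.coe_inv]; group
          show y * ((r⁻¹ : ↥P) : G) * y⁻¹ * ((r⁻¹ : ↥P) : G)⁻¹ ∈ ⁅P, P⁆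
          rw [e]
          exact Cfsg.Agent.Lib.Helper6.gl_mem_normalizer_inv (hPD r.2) (Subgroup.inv_mem _ hr) }
    have hfr : frattini ↥P ≤ Dy := by
      apply Cfsg.Agent.Lib.Helper6.fr_le_of_elem_quotient (p := p)
      · intro a b
        have hc : ((a * b * a⁻¹ * b⁻¹ : ↥P) : G) ∈ ⁅P, P⁆ := by
          have : ((a * b * a⁻¹ * b⁻¹ : ↥P) : G) = (a : G) * b * (a : G)⁻¹ * (b : G)⁻¹ := by
            simp
          rw [this]
          exact Subgroup.commutator_mem_commutator a.2 b.2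
        show y * ((a * b * a⁻¹ * b⁻¹ : ↥P) : G) * y⁻¹ * ((a * b * a⁻¹ * b⁻¹ : ↥P) : G)⁻¹ ∈ ⁅P, P⁆
        rw [cent_conj y _ hyc hc, mul_inv_cancel]
        exact Subgroup.one_mem _
      · intro a
        show y * ((a ^ p : ↥P) : G) * y⁻¹ * ((a ^ p : ↥P) : G)⁻¹ ∈ ⁅P, P⁆
        have hcm : y * (a : G) * y⁻¹ * (a : G)⁻¹ ∈ ⁅P, Y⁆ :=
          Cfsg.Agent.Lib.Helper6.pa_comm_mem hy a.2
        have hcP : y * (a : G) * y⁻¹ * (a : G)⁻¹ ∈ P :=
          (Subgroup.le_normalizer_iff_commutator_le_left.1 (hYH.trans hH)) hcm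
        have hcp : (y * (a : G) * y⁻¹ * (a : G)⁻¹) ^ p = 1 := hel.2 _ hcm
        have h1 := Cfsg.Agent.Lib.Helper6.gl_mul_pow_mod_comm P _ (a : G) hcP a.2 p
        rw [hcp, one_mul] at h1
        have e : y * ((a ^ p : ↥P) : G) * y⁻¹ = (y * (a : G) * y⁻¹ * (a : G)⁻¹ * (a : G)) ^ p := by
          rw [Subgroup.coe_pow, ← conj_pow]
          congr 1
          group
        rw [e, Subgroup.coe_pow]
        exact h1
    rintro _ ⟨f, hf, rfl⟩
    exact hfr hf
  have hHK : H ≤ Subgroup.normalizer (K : Set G) := by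
    rw [Subgroup.le_normalizer_iff]
    rintro h hh g ⟨hgc, hgr⟩
    refine ⟨?_, ?_⟩
    · rw [Subgroup.mem_centralizer_iff]
      intro d hd
      have hd' : h⁻¹ * d * h ∈ ⁅P, P⁆ :=
        Cfsg.Agent.Lib.Helper6.gl_mem_normalizer_inv (hHD hh) hd
      have h1 := (Subgroup.mem_centralizer_iff.1 hgc) _ hd'
      have e1 : d * (h * g * h⁻¹) = h * ((h⁻¹ * d * h) * g) * h⁻¹ := by group
      have e2 : h * g * h⁻¹ * d = h * (g * (h⁻¹ * d * h)) * h⁻¹ := by group
      rw [e1, e2, h1]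
    · intro r hr
      have hr' : h⁻¹ * r * h ∈ (frattini ↥P).map P.subtype :=
        Cfsg.Agent.Lib.Helper6.gl_mem_normalizer_inv (hHΦ hh) hr
      have e : h * g * h⁻¹ * r * (h * g * h⁻¹)⁻¹ * r⁻¹ =
          h * (g * (h⁻¹ * r * h) * g⁻¹ * (h⁻¹ * r * h)⁻¹) * h⁻¹ := by group
      rw [e]
      exact Cfsg.Agent.Lib.Helper6.gl_mem_normalizer_conj (hHD hh) (hgr _ hr')
  have hNYK : NY ≤ K := by
    rw [hNY, Subgroup.map_le_iff_le_comap]
    have hn : (Subgroup.comap H.subtype K).Normal :=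
      Subgroup.normal_subgroupOf_of_le_normalizer hHK
    apply Subgroup.normalClosure_le_normal
    intro x hx
    exact hYK hx
  rw [Subgroup.map_le_iff_le_comap]
  unfold Cfsg.pResidual
  rw [Subgroup.closure_le]
  intro g hg
  have hx' : (orderOf (g : G)).Coprime p := by rw [Subgroup.orderOf_coe]; exact hg
  obtain ⟨hxc, hxr⟩ := hNYK g.2
  have hcent := Cfsg.Agent.Lib.Helper6.pa_centralizes_step (g : G) hx'
    ((frattini ↥P).map P.subtype) ⁅P, P⁆ hDp
    (fun b hb => ((Subgroup.mem_centralizer_iff.1 hxc) b hb).symm) hxr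
  show (g : G) ∈ Subgroup.centralizer (((frattini ↥P).map P.subtype : Subgroup G) : Set G)
  rw [Subgroup.mem_centralizer_iff]
  intro r hr
  exact (hcent r hr).eq.symm

end Cfsg.Agent.S2819
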