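import Mathlib
import Cfsg.Statements.S2830
import Cfsg.Agent.S2828
import Cfsg.Agent.Lib.Helper6.PIrred
import Cfsg.Agent.Lib.Helper7.PCore

set_option autoImplicit false
open Cfsg

namespace Cfsg.Agent.S2830

/-- Let H act by conjugation on the elementary abelian p-subgroup V of a finite group G (H ≤ N(V)), with H p-irreducible and O^p(H) not centralizing V. Then C_H(V) is p-closed and C_T(V) ≤ O_p(H) for every p-subgroup T of H. If in addition O_p(H) centralizes V, then C_T(V) = T ∩ O_p(H) for every p-subgroup T of H, and V is p-reduced for H: O_p(H/C_H(V)) = 1. -/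
theorem result {G : Type*} [Group G] [Finite G] {p : ℕ} [Fact p.Prime] (V H : Subgroup G) (hV : Cfsg.IsElementaryAbelian p V) (hHV : H ≤ Subgroup.normalizer (V : Set G)) (hH : Cfsg.IsPIrreducible p ↥H) (hnc : ¬ (Cfsg.pResidual p ↥H).map H.subtype ≤ Subgroup.centralizer (V : Set G)) [hn : ((Subgroup.centralizer (V : Set G)).subgroupOf H).Normal] : Cfsg.IsPClosed p ↥(H ⊓ Subgroup.centralizer (V : Set G)) ∧ (∀ T : Subgroup G, T ≤ H → IsPGroup p ↥T → T ⊓ Subgroup.centralizer (V : Set G) ≤ Cfsg.pCoreOf p H) ∧ (Cfsg.pCoreOf p H ≤ Subgroup.centralizer (V : Set G) → (∀ T : Subgroup G, T ≤ H → IsPGroup p ↥T → T ⊓ Subgroup.centralizer (V : Set G) = T ⊓ Cfsg.pCoreOf p H) ∧ Cfsg.pCore p (↥H ⧸ (Subgroup.centralizer (V : Set G)).subgroupOf H) = ⊥) := by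
  obtain ⟨hncl, hirr⟩ := hH
  generalize hC' : (Subgroup.centralizer (V : Set G)).subgroupOf H = C' at hn ⊢
  haveI := hn
  have hnc' : ¬ pResidual p ↥H ≤ C' := by
    intro h
    apply hnc
    rintro _ ⟨x, hx, rfl⟩
    have := h hx
    rw [← hC'] at this
    exact Subgroup.mem_subgroupOf.mp this
  have hCcl : IsPClosed p ↥C' := by
    by_contra h
    exact hnc' (hirr C' hn h)
  have hkey : ∀ Y : Subgroup ↥H, Y ≤ C' → IsPGroup p ↥Y → Y ≤ pCore p ↥H := by
    intro Y hYC hYp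
    by_contra hY
    exact Cfsg.Agent.Lib.Helper6.pi_not_pclosed_of_not_le_pcore C' Y hYC hYp hY hCcl
  have h1 : IsPClosed p ↥(H ⊓ Subgroup.centralizer (V : Set G)) := by
    have h3 : IsPClosed p ↥((H ⊓ Subgroup.centralizer (V : Set G)).subgroupOf H) := by
      rw [Subgroup.inf_subgroupOf_left, hC']; exact hCcl
    have e := Subgroup.subgroupOfEquivOfLe
      (inf_le_left : H ⊓ Subgroup.centralizer (V : Set G) ≤ H)
    refine (Cfsg.Agent.S2828.pclosed_iff e.toMonoidHom e.surjective ?_).mp h3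
    have hk : e.toMonoidHom.ker = ⊥ := (MonoidHom.ker_eq_bot_iff _).mpr e.injective
    rw [hk]
    exact IsPGroup.of_bot
  have h2 : ∀ T : Subgroup G, T ≤ H → IsPGroup p ↥T →
      T ⊓ Subgroup.centralizer (V : Set G) ≤ pCoreOf p H := by
    intro T hTH hTp x hx
    obtain ⟨hxT, hxC⟩ := Subgroup.mem_inf.mp hx
    have h3 := hkey ((T ⊓ Subgroup.centralizer (V : Set G)).subgroupOf H) (by
      intro y hy
      rw [Subgroup.mem_subgroupOf] at hy
      rw [← hC', Subgroup.mem_subgroupOf]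
      exact (Subgroup.mem_inf.mp hy).2) ((hTp.to_le inf_le_left).comap_subtype)
    exact ⟨⟨x, hTH hxT⟩, h3 (Subgroup.mem_subgroupOf.mpr hx), rfl⟩
  refine ⟨h1, h2, ?_⟩
  intro hOC
  refine ⟨fun T hTH hTp => le_antisymm (le_inf inf_le_left (h2 T hTH hTp))
    (inf_le_inf_left T hOC), ?_⟩
  rw [eq_bot_iff]
  have hOn : (pCore p (↥H ⧸ C')).Normal := Cfsg.Agent.Lib.Helper7.pCore_normal p _
  have hOp : IsPGroup p ↥(pCore p (↥H ⧸ C')) := Cfsg.Agent.Lib.Helper7.pCore_isPGroup p _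
  obtain ⟨K, hK⟩ : ∃ K : Subgroup ↥H,
      K = (pCore p (↥H ⧸ C')).comap (QuotientGroup.mk' C') := ⟨_, rfl⟩
  have hKn : K.Normal := by rw [hK]; exact hOn.comap _
  have hpow : ∀ k ∈ K, ∃ j : ℕ, k ^ p ^ j ∈ C' := by
    intro k hk
    rw [hK] at hk
    obtain ⟨j, hj⟩ := hOp ⟨_, hk⟩
    refine ⟨j, ?_⟩
    have h3 : (QuotientGroup.mk' C' k) ^ p ^ j = 1 := congrArg Subtype.val hj
    rw [← map_pow] at h3
    exact (QuotientGroup.eq_one_iff _).mp h3
  have hpp : ∀ k ∈ K, (orderOf k).Coprime p → k ∈ C' := by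
    intro k hk hc
    obtain ⟨j, hj⟩ := hpow k hk
    exact Cfsg.Agent.Lib.Helper6.gl_mem_of_coprime_pow C' hc hj
  have hKcl : IsPClosed p ↥K := by
    by_contra h
    apply hnc'
    have h3 := hirr K hKn h
    show Subgroup.closure _ ≤ _
    rw [Subgroup.closure_le]
    intro y hy
    exact hpp y (h3 (Subgroup.subset_closure hy)) hy
  have hOC' : pCore p ↥H ≤ C' := by
    intro x hx
    rw [← hC', Subgroup.mem_subgroupOf]
    exact hOC ⟨x, hx, rfl⟩
  have hpsub : ∀ Y : Subgroup ↥H, Y ≤ K → IsPGroup p ↥Y → Y ≤ C' := by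
    intro Y hYK hYp
    haveI := hKn
    by_contra hY
    exact Cfsg.Agent.Lib.Helper6.pi_not_pclosed_of_not_le_pcore K Y hYK hYp
      (fun h => hY (h.trans hOC')) hKcl
  have hKC : K ≤ C' := by
    intro k hk
    have hp : p.Prime := Fact.out
    obtain ⟨e, n', hn', hord⟩ :=
      Nat.exists_eq_pow_mul_and_not_dvd (orderOf_pos k).ne' p hp.ne_one
    have hcop : Nat.Coprime (p ^ e) n' :=
      Nat.Coprime.pow_left e ((Nat.Prime.coprime_iff_not_dvd hp).mpr hn')
    have hw : k ^ p ^ e ∈ C' := by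
      apply hpp _ (K.pow_mem hk _)
      have h3 : orderOf (k ^ p ^ e) ∣ n' := by
        apply orderOf_dvd_of_pow_eq_one
        rw [← pow_mul, ← hord, pow_orderOf_eq_one]
      exact Nat.Coprime.coprime_dvd_left h3
        ((Nat.Prime.coprime_iff_not_dvd hp).mpr hn').symm
    have hu : k ^ n' ∈ C' := by
      have h3 : (k ^ n') ^ p ^ e = 1 := by
        rw [← pow_mul, mul_comm, ← hord, pow_orderOf_eq_one]
      have h4 : IsPGroup p ↥(Subgroup.zpowers (k ^ n')) := by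
        obtain ⟨j, -, hj⟩ := (Nat.dvd_prime_pow hp).mp (orderOf_dvd_of_pow_eq_one h3)
        exact IsPGroup.of_card (n := j) (by rw [Nat.card_zpowers, hj])
      exact hpsub _ (by rw [Subgroup.zpowers_le]; exact K.pow_mem hk _) h4
        (Subgroup.mem_zpowers _)
    have hb := Nat.gcd_eq_gcd_ab (p ^ e) n'
    rw [hcop.gcd_eq_one] at hb
    have h5 : k = (k ^ p ^ e) ^ (Nat.gcdA (p ^ e) n') * (k ^ n') ^ (Nat.gcdB (p ^ e) n') := by
      rw [← zpow_natCast k (p ^ e), ← zpow_natCast k n', ← zpow_mul, ← zpow_mul, ← zpow_add,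
        ← hb]
      simp
    rw [h5]
    exact C'.mul_mem (C'.zpow_mem hw _) (C'.zpow_mem hu _)
  intro x hx
  obtain ⟨y, rfl⟩ := QuotientGroup.mk'_surjective C' x
  have hy : y ∈ K := by rw [hK]; exact hx
  rw [Subgroup.mem_bot]
  exact (QuotientGroup.eq_one_iff _).mpr (hKC hy)

end Cfsg.Agent.S2830
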