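import Mathlib
import Cfsg.Statements.S2833
import Cfsg.Agent.S1900
import Cfsg.Agent.Lib.Helper7.Coprime
import Cfsg.Agent.Lib.Helper7.Coprime2

set_option autoImplicit false
open Cfsg
open scoped commutatorElement

namespace Cfsg.Agent.S2833

/-- `X` normalizes `[V, X] [V, Y]` when `X` and `Y` normalize `V` -/
theorem norm_join {G : Type*} [Group G] [Finite G] (V X Y : Subgroup G)
    (hY : Y ≤ Subgroup.normalizer (V : Set G)) :
    X ≤ Subgroup.normalizer ((⁅V, X⁆ ⊔ ⁅V, Y⁆ : Subgroup G) : Set G) := by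
  intro x hx
  apply Cfsg.Agent.S1900.mem_normalizer_of_conj_mem
  have hYV : ⁅V, Y⁆ ≤ V := Cfsg.Agent.Lib.Helper7.commutator_le_of_le_normalizer hY
  have key : ⁅V, X⁆ ⊔ ⁅V, Y⁆ ≤ (⁅V, X⁆ ⊔ ⁅V, Y⁆).comap (MulAut.conj x).toMonoidHom := by
    apply sup_le
    · intro w hw
      rw [Subgroup.mem_comap]
      have h1 := Cfsg.Agent.Lib.Helper7.le_normalizer_commutator_right V X hx
      have h2 : x * w * x⁻¹ ∈ ⁅V, X⁆ := (Subgroup.mem_normalizer_iff.mp h1 w).mp hw
      exact Subgroup.mem_sup_left h2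
    · intro w hw
      rw [Subgroup.mem_comap]
      have h1 : ⁅x, w⁆ ∈ ⁅V, X⁆ := by
        rw [Subgroup.commutator_comm]
        exact Subgroup.commutator_mem_commutator hx (hYV hw)
      have e : (MulAut.conj x).toMonoidHom w = ⁅x, w⁆ * w := by
        show x * w * x⁻¹ = ⁅x, w⁆ * w
        rw [commutatorElement_def]; group
      rw [e]
      exact mul_mem (Subgroup.mem_sup_left h1) (Subgroup.mem_sup_right hw)
  intro j hj
  exact key hj

/-- Let V be a subgroup of a finite group G normalized by the subgroup L, let X ≤ L and g ∈ L with [V, X, X] = 1 and L generated by X and gXg⁻¹. Put W = [V, L]. Then W = [V, X]·[V, gXg⁻¹], C_W(X) = [V, X], and C_W(L) = [V, X] ∩ [V, gXg⁻¹]. -/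
theorem result {G : Type*} [Group G] [Finite G] (V L : Subgroup G) (hLV : L ≤ Subgroup.normalizer (V : Set G)) (X : Subgroup G) (hX : X ≤ L) (g : G) (hg : g ∈ L) (hq : ⁅⁅V, X⁆, X⁆ = ⊥) (hgen : X ⊔ X.map (MulAut.conj g).toMonoidHom = L) (W : Subgroup G) (hW : W = ⁅V, L⁆) : ⁅V, X⁆ ⊔ ⁅V, X.map (MulAut.conj g).toMonoidHom⁆ = W ∧ W ⊓ Subgroup.centralizer (X : Set G) = ⁅V, X⁆ ∧ W ⊓ Subgroup.centralizer (L : Set G) = ⁅V, X⁆ ⊓ ⁅V, X.map (MulAut.conj g).toMonoidHom⁆ := by
  obtain ⟨Y, hY⟩ : ∃ Y : Subgroup G, Y = X.map (MulAut.conj g).toMonoidHom := ⟨_, rfl⟩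
  rw [← hY] at hgen ⊢
  have hXV : X ≤ Subgroup.normalizer (V : Set G) := hX.trans hLV
  have hYL : Y ≤ L := by rw [← hgen]; exact le_sup_right
  have hYV : Y ≤ Subgroup.normalizer (V : Set G) := hYL.trans hLV
  have hgV : V.map (MulAut.conj g).toMonoidHom = V :=
    Subgroup.mem_normalizer_iff_map_conj_eq.mp (hLV hg)
  -- `[V, Y] = g [V, X] g⁻¹`
  have hVY : ⁅V, Y⁆ = (⁅V, X⁆).map (MulAut.conj g).toMonoidHom := by
    rw [Subgroup.map_commutator, hgV, hY]
  have hqY : ⁅⁅V, Y⁆, Y⁆ = ⊥ := by
    have h1 : (⁅⁅V, X⁆, X⁆).map (MulAut.conj g).toMonoidHom = ⁅⁅V, Y⁆, Y⁆ := by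
      rw [Subgroup.map_commutator, ← hVY, hY]
    rw [← h1, hq, Subgroup.map_bot]
  obtain ⟨J, hJ⟩ : ∃ J : Subgroup G, J = ⁅V, X⁆ ⊔ ⁅V, Y⁆ := ⟨_, rfl⟩
  rw [← hJ]
  have hXJ : X ≤ Subgroup.normalizer (J : Set G) := by rw [hJ]; exact norm_join V X Y hYV
  have hYJ : Y ≤ Subgroup.normalizer (J : Set G) := by
    rw [hJ, sup_comm]; exact norm_join V Y X hXV
  have hLJ : L ≤ Subgroup.normalizer (J : Set G) := by rw [← hgen]; exact sup_le hXJ hYJ
  have hXc : ⁅V, X⁆ ≤ Subgroup.centralizer (X : Set G) :=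
    Subgroup.commutator_eq_bot_iff_le_centralizer.mp hq
  have hYc : ⁅V, Y⁆ ≤ Subgroup.centralizer (Y : Set G) :=
    Subgroup.commutator_eq_bot_iff_le_centralizer.mp hqY
  -- `J = W`
  have hJW : J = W := by
    apply le_antisymm
    · rw [hJ, hW]
      exact sup_le (Subgroup.commutator_mono le_rfl hX) (Subgroup.commutator_mono le_rfl hYL)
    · rw [hW]
      -- the subgroup of elements `l` of `N(J)` with `[V, l] ⊆ J`
      let T : Subgroup G :=
        { carrier := {l | l ∈ Subgroup.normalizer (J : Set G) ∧ ∀ v ∈ V, ⁅v, l⁆ ∈ J}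
          one_mem' := by
            refine ⟨one_mem _, fun v _ => ?_⟩
            rw [commutatorElement_one_right]; exact one_mem _
          mul_mem' := by
            rintro a b ⟨ha1, ha2⟩ ⟨hb1, hb2⟩
            refine ⟨mul_mem ha1 hb1, fun v hv => ?_⟩
            have e : ⁅v, a * b⁆ = ⁅v, a⁆ * (a * ⁅v, b⁆ * a⁻¹) := by
              simp only [commutatorElement_def]; group
            rw [e]
            exact mul_mem (ha2 v hv) ((Subgroup.mem_normalizer_iff.mp ha1 _).mp (hb2 v hv))
          inv_mem' := by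
            rintro a ⟨ha1, ha2⟩
            refine ⟨inv_mem ha1, fun v hv => ?_⟩
            have e : ⁅v, a⁻¹⁆ = a⁻¹ * (⁅v, a⁆)⁻¹ * a⁻¹⁻¹ := by
              simp only [commutatorElement_def]; group
            rw [e]
            exact (Subgroup.mem_normalizer_iff.mp (inv_mem ha1) _).mp (inv_mem (ha2 v hv)) }
      have hXT : X ≤ T := by
        intro x hx
        refine ⟨hXJ hx, fun v hv => ?_⟩
        rw [hJ]; exact Subgroup.mem_sup_left (Subgroup.commutator_mem_commutator hv hx)
      have hYT : Y ≤ T := by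
        intro y hy
        refine ⟨hYJ hy, fun v hv => ?_⟩
        rw [hJ]; exact Subgroup.mem_sup_right (Subgroup.commutator_mem_commutator hv hy)
      have hLT : L ≤ T := by rw [← hgen]; exact sup_le hXT hYT
      rw [Subgroup.commutator_le]
      intro v hv l hl
      exact (hLT hl).2 v hv
  -- elements of `J` centralized by `X` lie in `[V, X]`
  have hcent : ∀ w ∈ J, w ∈ Subgroup.centralizer (X : Set G) → w ∈ ⁅V, X⁆ := by
    intro w hw hwX
    have hn : ⁅V, Y⁆ ≤ Subgroup.normalizer ((⁅V, X⁆ : Subgroup G) : Set G) :=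
      (Cfsg.Agent.Lib.Helper7.commutator_le_of_le_normalizer hYV).trans
        (Cfsg.Agent.Lib.Helper7.le_normalizer_commutator_left V X)
    rw [hJ] at hw
    obtain ⟨a, ha, b, hb, rfl⟩ := Cfsg.Agent.Lib.Helper7.exists_mul_of_mem_sup hn hw
    have hbX : b ∈ Subgroup.centralizer (X : Set G) := by
      have h1 := mul_mem (inv_mem (hXc ha)) hwX
      have e : a⁻¹ * (a * b) = b := by group
      rw [e] at h1; exact h1
    have hbY : b ∈ Subgroup.centralizer (Y : Set G) := hYc hb
    -- `b` commutes with `g`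
    have hbg : g * b = b * g := by
      have h1 : X ⊔ Y ≤ Subgroup.centralizer ({b} : Set G) := by
        apply sup_le
        · intro x hx
          rw [Subgroup.mem_centralizer_iff]
          intro z hz
          rw [Set.mem_singleton_iff] at hz
          rw [hz]
          exact (Subgroup.mem_centralizer_iff.mp hbX x hx).symm
        · intro y hy
          rw [Subgroup.mem_centralizer_iff]
          intro z hz
          rw [Set.mem_singleton_iff] at hz
          rw [hz]
          exact (Subgroup.mem_centralizer_iff.mp hbY y hy).symm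
      rw [hgen] at h1
      exact (Subgroup.mem_centralizer_iff.mp (h1 hg) b rfl).symm
    rw [hVY] at hb
    obtain ⟨a', ha', ha'b⟩ := hb
    have h2 : g * a' * g⁻¹ = b := ha'b
    have h3 : a' = b := by
      have e : a' = g⁻¹ * (g * a' * g⁻¹) * g := by group
      rw [e, h2, mul_assoc, ← hbg]; group
    rw [← h3]
    exact mul_mem ha ha'
  rw [← hJW]
  refine ⟨rfl, ?_, ?_⟩
  · apply le_antisymm
    · intro w hw
      rw [Subgroup.mem_inf] at hw
      exact hcent w hw.1 hw.2
    · apply le_inf _ hXc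
      rw [hJ]; exact le_sup_left
  · apply le_antisymm
    · intro w hw
      rw [Subgroup.mem_inf] at hw
      have hwX : w ∈ Subgroup.centralizer (X : Set G) :=
        Subgroup.centralizer_le hX hw.2
      have h1 := hcent w hw.1 hwX
      rw [Subgroup.mem_inf]
      refine ⟨h1, ?_⟩
      rw [hVY]
      refine ⟨w, h1, ?_⟩
      show g * w * g⁻¹ = w
      have h2 : g * w = w * g := Subgroup.mem_centralizer_iff.mp hw.2 g hg
      rw [h2]; group
    · intro w hw
      rw [Subgroup.mem_inf] at hw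
      rw [Subgroup.mem_inf]
      refine ⟨by rw [hJ]; exact Subgroup.mem_sup_left hw.1, ?_⟩
      have hwX := hXc hw.1
      have hwY := hYc hw.2
      have h1 : X ⊔ Y ≤ Subgroup.centralizer ({w} : Set G) := by
        apply sup_le
        · intro x hx
          rw [Subgroup.mem_centralizer_iff]
          intro z hz
          rw [Set.mem_singleton_iff] at hz
          rw [hz]
          exact (Subgroup.mem_centralizer_iff.mp hwX x hx).symm
        · intro y hy
          rw [Subgroup.mem_centralizer_iff]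
          intro z hz
          rw [Set.mem_singleton_iff] at hz
          rw [hz]
          exact (Subgroup.mem_centralizer_iff.mp hwY y hy).symm
      rw [hgen] at h1
      rw [Subgroup.mem_centralizer_iff]
      intro l hl
      exact (Subgroup.mem_centralizer_iff.mp (h1 hl) w rfl).symm

end Cfsg.Agent.S2833
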