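import Mathlib
import Cfsg.Statements.S2835
import Cfsg.Agent.S1900
import Cfsg.Agent.Lib.Helper3.ZJ3
import Cfsg.Agent.Lib.Helper7.PCore

set_option autoImplicit false
open Cfsg

namespace Cfsg.Agent.S2835

/-- Let L be a finite group, L₀ a maximal subgroup, T a Sylow p-subgroup of L₀ and Y ≤ T, and suppose L is Y-minimal (generated by the conjugates of Y, with Y in exactly one maximal subgroup, necessarily L₀). Then N_L(T) ≤ L₀, O_p(L) ≤ L₀ and T is a Sylow p-subgroup of L; N_L(L₀) = L₀; L = ⟨Y, gYg⁻¹⟩ for each g ∈ L outside L₀; and if Y is abelian then Y ∩ gYg⁻¹ = C_Y(L) for each such g. -/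
theorem result {L : Type*} [Group L] [Finite L] {p : ℕ} [Fact p.Prime] (L₀ : Subgroup L) (hL₀ : IsCoatom L₀) (T : Sylow p ↥L₀) (Y : Subgroup L) (hYT : Y ≤ (T : Subgroup ↥L₀).map L₀.subtype) (hmin : Cfsg.IsMinimalOver Y) : Subgroup.normalizer (((T : Subgroup ↥L₀).map L₀.subtype : Subgroup L) : Set L) ≤ L₀ ∧ Cfsg.pCore p L ≤ L₀ ∧ (∃ P : Sylow p L, (P : Subgroup L) = (T : Subgroup ↥L₀).map L₀.subtype) ∧ Subgroup.normalizer (L₀ : Set L) = L₀ ∧ (∀ g : L, g ∉ L₀ → Y ⊔ Y.map (MulAut.conj g).toMonoidHom = ⊤) ∧ (IsMulCommutative ↥Y → ∀ g : L, g ∉ L₀ → Y ⊓ Y.map (MulAut.conj g).toMonoidHom = Y ⊓ Subgroup.center L) := by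
  obtain ⟨hnc, M, ⟨hM1, hM2⟩, huniq⟩ := hmin
  obtain ⟨T', hT'⟩ : ∃ T' : Subgroup L, T' = (T : Subgroup ↥L₀).map L₀.subtype := ⟨_, rfl⟩
  rw [← hT'] at hYT ⊢
  have hT'L₀ : T' ≤ L₀ := by rw [hT']; exact Subgroup.map_subtype_le _
  have hT'p : IsPGroup p ↥T' := by rw [hT']; exact T.isPGroup'.map _
  have hYL₀ : Y ≤ L₀ := hYT.trans hT'L₀
  have hML₀ : M = L₀ := (huniq L₀ ⟨hL₀, hYL₀⟩).symm
  have hu : ∀ X : Subgroup L, Y ≤ X → X ≠ ⊤ → X ≤ L₀ := by
    intro X hYX hX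
    obtain ⟨M', hM', hXM'⟩ := (eq_top_or_exists_le_coatom X).resolve_left hX
    have : M' = M := huniq M' ⟨hM', hYX.trans hXM'⟩
    rw [this, hML₀] at hXM'
    exact hXM'
  have hnn : ∀ X : Subgroup L, X.Normal → Y ≤ X → X = ⊤ := by
    intro X hXn hYX
    haveI := hXn
    rw [eq_top_iff, ← hnc]
    exact Subgroup.normalClosure_le_normal hYX
  have h1 : Subgroup.normalizer (T' : Set L) ≤ L₀ := by
    apply hu _ (hYT.trans Subgroup.le_normalizer)
    intro h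
    have hTn : T'.Normal := Subgroup.normalizer_eq_top_iff.mp h
    have := hnn T' hTn hYT
    apply hL₀.1
    rw [eq_top_iff, ← this]
    exact hT'L₀
  have h4 : Subgroup.normalizer (L₀ : Set L) = L₀ := by
    rcases hL₀.le_iff.mp (Subgroup.le_normalizer (H := L₀)) with h | h
    · exact absurd (hnn L₀ (Subgroup.normalizer_eq_top_iff.mp h) hYL₀) hL₀.1
    · exact h
  have h2 : pCore p L ≤ L₀ := by
    haveI hRn : (pCore p L).Normal := Cfsg.Agent.Lib.Helper7.pCore_normal p L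
    have hRp : IsPGroup p ↥(pCore p L) := Cfsg.Agent.Lib.Helper7.pCore_isPGroup p L
    have hYp : IsPGroup p ↥Y := hT'p.to_le hYT
    have hX : IsPGroup p ↥(Y ⊔ pCore p L) := hYp.to_sup_of_normal_right hRp
    by_cases htop : Y ⊔ pCore p L = ⊤
    · exfalso
      have hLp : IsPGroup p L := by
        intro g
        obtain ⟨k, hk⟩ := hX ⟨g, by rw [htop]; trivial⟩
        exact ⟨k, congrArg Subtype.val hk⟩
      haveI : Group.IsNilpotent L := hLp.isNilpotent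
      have hn : L₀.Normal :=
        Subgroup.NormalizerCondition.normal_of_coatom L₀ Group.normalizerCondition_of_isNilpotent hL₀
      exact hL₀.1 (hnn L₀ hn hYL₀)
    · exact le_sup_right.trans (hu _ le_sup_left htop)
  have h3 : ∃ P : Sylow p L, (P : Subgroup L) = T' := by
    obtain ⟨P, hP⟩ := hT'p.exists_le_sylow
    refine ⟨P, ?_⟩
    by_contra hne
    have hlt : T' < (P : Subgroup L) := lt_of_le_of_ne hP (fun h => hne h.symm)
    obtain ⟨x, hxP, hxN, hxT⟩ :=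
      Cfsg.Agent.Lib.Helper3.exists_mem_normalizer_not_mem P.isPGroup' hlt
    have hxL₀ : x ∈ L₀ := h1 hxN
    have hQp : IsPGroup p ↥(((P : Subgroup L) ⊓ L₀).subgroupOf L₀) :=
      (P.isPGroup'.to_le inf_le_left).comap_subtype
    have hTQ : (T : Subgroup ↥L₀) ≤ ((P : Subgroup L) ⊓ L₀).subgroupOf L₀ := by
      intro t ht
      rw [Subgroup.mem_subgroupOf, Subgroup.mem_inf]
      refine ⟨hP ?_, t.2⟩
      rw [hT']
      exact ⟨t, ht, rfl⟩
    have hQT := T.is_maximal' hQp hTQ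
    apply hxT
    have hxQ : (⟨x, hxL₀⟩ : ↥L₀) ∈ ((P : Subgroup L) ⊓ L₀).subgroupOf L₀ := by
      rw [Subgroup.mem_subgroupOf, Subgroup.mem_inf]
      exact ⟨hxP, hxL₀⟩
    rw [hQT] at hxQ
    rw [hT']
    exact ⟨⟨x, hxL₀⟩, hxQ, rfl⟩
  have h5 : ∀ g : L, g ∉ L₀ → Y ⊔ Y.map (MulAut.conj g).toMonoidHom = ⊤ := by
    intro g hg
    by_contra hne
    have hle := hu _ le_sup_left hne
    have hYg : Y.map (MulAut.conj g).toMonoidHom ≤ L₀ := le_sup_right.trans hle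
    apply hg
    obtain ⟨φ, hφ⟩ : ∃ φ : L ≃* L, ∀ x, φ x = g⁻¹ * x * g⁻¹⁻¹ :=
      ⟨MulAut.conj g⁻¹, fun _ => rfl⟩
    have hco : IsCoatom (φ.mapSubgroup L₀) := (OrderIso.isCoatom_iff φ.mapSubgroup L₀).mpr hL₀
    have hY' : Y ≤ φ.mapSubgroup L₀ := by
      intro y hy
      refine ⟨g * y * g⁻¹, hYg ⟨y, hy, rfl⟩, ?_⟩
      show φ (g * y * g⁻¹) = y
      rw [hφ]; group
    have he : φ.mapSubgroup L₀ = L₀ := by rw [huniq _ ⟨hco, hY'⟩, hML₀]
    have hgn : g⁻¹ ∈ Subgroup.normalizer (L₀ : Set L) := by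
      apply Cfsg.Agent.S1900.mem_normalizer_of_conj_mem
      intro h hh
      have : φ h ∈ φ.mapSubgroup L₀ := ⟨h, hh, rfl⟩
      rw [he, hφ] at this
      exact this
    rw [h4] at hgn
    have := L₀.inv_mem hgn
    simpa using this
  refine ⟨h1, h2, h3, h4, h5, ?_⟩
  intro hcomm g hg
  apply le_antisymm
  · rintro x hx
    obtain ⟨hxY, hxYg⟩ := Subgroup.mem_inf.mp hx
    refine Subgroup.mem_inf.mpr ⟨hxY, ?_⟩
    rw [Subgroup.mem_center_iff]
    have hcent : Y ⊔ Y.map (MulAut.conj g).toMonoidHom ≤ Subgroup.centralizer {x} := by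
      apply sup_le
      · intro y hy
        rw [Subgroup.mem_centralizer_iff]
        rintro _ rfl
        have := hcomm.is_comm.comm ⟨_, hxY⟩ ⟨y, hy⟩
        exact congrArg Subtype.val this
      · rintro _ ⟨y, hy, rfl⟩
        obtain ⟨x', hx', hxx⟩ := hxYg
        rw [Subgroup.mem_centralizer_iff]
        rintro _ rfl
        have h6 : x' * y = y * x' := congrArg Subtype.val (hcomm.is_comm.comm ⟨x', hx'⟩ ⟨y, hy⟩)
        rw [← hxx]
        show g * x' * g⁻¹ * (g * y * g⁻¹) = g * y * g⁻¹ * (g * x' * g⁻¹)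
        calc g * x' * g⁻¹ * (g * y * g⁻¹) = g * (x' * y) * g⁻¹ := by group
          _ = g * (y * x') * g⁻¹ := by rw [h6]
          _ = g * y * g⁻¹ * (g * x' * g⁻¹) := by group
    intro z
    have hz : z ∈ Subgroup.centralizer {x} := hcent (by rw [h5 g hg]; trivial)
    rw [Subgroup.mem_centralizer_iff] at hz
    exact (hz x rfl).symm
  · rintro x hx
    obtain ⟨hxY, hxZ⟩ := Subgroup.mem_inf.mp hx
    refine Subgroup.mem_inf.mpr ⟨hxY, ⟨x, hxY, ?_⟩⟩
    show g * x * g⁻¹ = x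
    rw [Subgroup.mem_center_iff] at hxZ
    rw [hxZ g]
    group

end Cfsg.Agent.S2835
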