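import Cfsg.Statements.S2836
import Cfsg.Agent.S2835
import Cfsg.Agent.Lib.Helper3.SubnSylow
import Cfsg.Agent.Lib.Helper3.ClassSize2
import Cfsg.Agent.Lib.Helper3.EA
import Cfsg.Agent.Lib.Helper3.ZJ
import Cfsg.Agent.Lib.Helper7.PCore

set_option autoImplicit false
open Cfsg

namespace Cfsg.Agent.S2836

open Cfsg.Agent.Lib.Helper3

theorem coatom_comap {G H : Type*} [Group G] [Group H] (f : G →* H)
    (hf : Function.Surjective f) {M : Subgroup H} (hM : IsCoatom M) : IsCoatom (M.comap f) := by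
  constructor
  · intro h
    apply hM.1
    rw [← Subgroup.map_comap_eq_self_of_surjective hf M, h, Subgroup.map_top_of_surjective f hf]
  · intro X hX
    have h1 : M ≤ X.map f := by
      rw [← Subgroup.map_comap_eq_self_of_surjective hf M]; exact Subgroup.map_mono hX.le
    have hker : f.ker ≤ X := by
      refine le_trans ?_ hX.le
      intro x hx
      rw [Subgroup.mem_comap, MonoidHom.mem_ker.mp hx]; exact M.one_mem
    have h2 : (X.map f).comap f = X := by rw [Subgroup.comap_map_eq, sup_of_le_left hker]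
    rcases eq_or_lt_of_le h1 with h3 | h3
    · exfalso; apply hX.ne; rw [← h2, ← h3]
    · have h4 := hM.2 _ h3
      rw [← h2, h4, Subgroup.comap_top]

theorem coatom_map {G H : Type*} [Group G] [Group H] (f : G →* H)
    (hf : Function.Surjective f) {M : Subgroup G} (hM : IsCoatom M) (hker : f.ker ≤ M) :
    IsCoatom (M.map f) := by
  have h0 : (M.map f).comap f = M := by rw [Subgroup.comap_map_eq, sup_of_le_left hker]
  constructor
  · intro h
    apply hM.1
    rw [← h0, h, Subgroup.comap_top]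
  · intro X hX
    have h1 : M ≤ X.comap f := by rw [← h0]; exact Subgroup.comap_mono hX.le
    rcases eq_or_lt_of_le h1 with h3 | h3
    · exfalso; apply hX.ne; rw [← Subgroup.map_comap_eq_self_of_surjective hf X, ← h3]
    · have h4 := hM.2 _ h3
      rw [← Subgroup.map_comap_eq_self_of_surjective hf X, h4,
        Subgroup.map_top_of_surjective f hf]

/-- Let L be a finite group, L₀ a maximal subgroup, T a Sylow p-subgroup of L₀, Y ≤ T, and suppose L is Y-minimal. Let D be the intersection of the conjugates of L₀ (the core of L₀). Then D contains O_p(L) and D/O_p(L) is the Frattini subgroup of L/O_p(L), so D is p-closed; and every normal subgroup N of L contained in L₀ is p-closed with N/O_p(N) a nilpotent group of order prime to p. -/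
theorem result {L : Type*} [Group L] [Finite L] {p : ℕ} [Fact p.Prime] (L₀ : Subgroup L) (hL₀ : IsCoatom L₀) (T : Sylow p ↥L₀) (Y : Subgroup L) (hYT : Y ≤ (T : Subgroup ↥L₀).map L₀.subtype) (hmin : Cfsg.IsMinimalOver Y) : (Cfsg.pCore p L ≤ L₀.normalCore ∧ (L₀.normalCore).map (QuotientGroup.mk' (Cfsg.pCore p L)) = frattini (L ⧸ Cfsg.pCore p L) ∧ Cfsg.IsPClosed p ↥(L₀.normalCore)) ∧ ∀ (N : Subgroup L) [N.Normal], N ≤ L₀ → Cfsg.IsPClosed p ↥N ∧ Group.IsNilpotent (↥N ⧸ Cfsg.pCore p ↥N) ∧ (Nat.card (↥N ⧸ Cfsg.pCore p ↥N)).Coprime p := by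
  classical
  have hpp : p.Prime := Fact.out
  obtain ⟨-, hOpL₀, ⟨P, hP⟩, -, -, -⟩ := Cfsg.Agent.S2835.result L₀ hL₀ T Y hYT hmin
  have hYP : Y ≤ (P : Subgroup L) := hP ▸ hYT
  obtain ⟨hgen, M₀, ⟨hM₀c, hYM₀⟩, huniq⟩ := hmin
  have hPL₀ : (P : Subgroup L) ≤ L₀ := by rw [hP]; exact Subgroup.map_subtype_le _
  have hU : ∀ M : Subgroup L, IsCoatom M → Y ≤ M → M = L₀ := by
    intro M hM hYM
    rw [huniq M ⟨hM, hYM⟩, huniq L₀ ⟨hL₀, hYP.trans hPL₀⟩]
  have hK : ∀ X : Subgroup L, Y ≤ X → X ≠ ⊤ → X ≤ L₀ := by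
    intro X hYX hX
    rcases eq_top_or_exists_le_coatom X with h | ⟨M, hM, hXM⟩
    · exact absurd h hX
    · rw [← hU M hM (hYX.trans hXM)]; exact hXM
  have hOpn : (Cfsg.pCore p L).Normal := Cfsg.Agent.Lib.Helper7.pCore_normal p L
  have hOpp : IsPGroup p (Cfsg.pCore p L) := Cfsg.Agent.Lib.Helper7.pCore_isPGroup p L
  have hOpP : Cfsg.pCore p L ≤ (P : Subgroup L) := by
    have h1 : IsPGroup p ↥(Cfsg.pCore p L ⊔ (P : Subgroup L)) :=
      IsPGroup.to_sup_of_normal_left hOpp P.isPGroup'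
    have h2 := P.is_maximal' h1 le_sup_right
    rw [← h2]; exact le_sup_left
  -- Frattini argument
  have hF : ∀ (N : Subgroup L) [N.Normal], N ≤ L₀ → ((P : Subgroup L) ⊓ N).Normal := by
    intro N hNn hNL
    obtain ⟨S, hS⟩ := exists_sylow_subgroupOf_subnormal P (H := N)
      (Subgroup.Normal.isSubnormal hNn)
    have h1 := Sylow.normalizer_sup_eq_top S
    rw [hS, Subgroup.subgroupOf_map_subtype, inf_assoc, inf_idem] at h1
    have hYn : Y ≤ Subgroup.normalizer (((P : Subgroup L) ⊓ N : Subgroup L) : Set L) := by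
      intro y hy
      rw [Subgroup.mem_normalizer_iff]
      intro x
      have hyP := hYP hy
      constructor
      · intro hx
        have hx1 := Subgroup.mem_inf.mp hx
        exact Subgroup.mem_inf.mpr ⟨(P : Subgroup L).mul_mem ((P : Subgroup L).mul_mem hyP hx1.1)
          ((P : Subgroup L).inv_mem hyP), hNn.conj_mem x hx1.2 y⟩
      · intro hx
        have hx1 := Subgroup.mem_inf.mp hx
        refine Subgroup.mem_inf.mpr ⟨?_, ?_⟩
        · have h2 := (P : Subgroup L).mul_mem ((P : Subgroup L).mul_mem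
            ((P : Subgroup L).inv_mem hyP) hx1.1) hyP
          have h3 : y⁻¹ * (y * x * y⁻¹) * y = x := by group
          rw [h3] at h2; exact h2
        · have h2 := hNn.conj_mem _ hx1.2 y⁻¹
          have h3 : y⁻¹ * (y * x * y⁻¹) * y⁻¹⁻¹ = x := by group
          rw [h3] at h2; exact h2
    by_contra hnn
    have hne : Subgroup.normalizer (((P : Subgroup L) ⊓ N : Subgroup L) : Set L) ≠ ⊤ :=
      fun h => hnn (Subgroup.normalizer_eq_top_iff.mp h)
    have h2 := hK _ hYn hne
    have h3 : (⊤ : Subgroup L) ≤ L₀ := h1 ▸ sup_le h2 hNL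
    exact hL₀.1 (top_le_iff.mp h3)
  obtain ⟨D, hDdef⟩ : ∃ D : Subgroup L, D = L₀.normalCore := ⟨_, rfl⟩
  have hDn : D.Normal := by rw [hDdef]; infer_instance
  have hDL : D ≤ L₀ := hDdef ▸ Subgroup.normalCore_le L₀
  have hOpD : Cfsg.pCore p L ≤ D := by
    rw [hDdef]; exact Subgroup.normal_le_normalCore.mpr hOpL₀
  have hPD : (P : Subgroup L) ⊓ D = Cfsg.pCore p L :=
    le_antisymm (Cfsg.Agent.Lib.Helper7.le_pCore (hF D hDL) (P.isPGroup'.to_le inf_le_left))
      (le_inf hOpP hOpD)
  have hcardPD : Nat.card ↥((P : Subgroup L) ⊓ D) = p ^ (Nat.card D).factorization p :=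
    card_sylow_inf_subnormal P (Subgroup.Normal.isSubnormal hDn)
  -- every maximal subgroup containing O_p(L) contains D
  have hkey : ∀ M : Subgroup L, IsCoatom M → Cfsg.pCore p L ≤ M → D ≤ M := by
    intro M hM hOpM
    by_contra hDM
    have hsup : M ⊔ D = ⊤ :=
      hM.2 _ (lt_of_le_of_ne le_sup_left (fun h => hDM (h ▸ le_sup_right)))
    have hcard := card_sup_mul_card_inf M D (by
      rw [Subgroup.normalizer_eq_top_iff.mpr hDn]; exact le_top)
    rw [hsup, Subgroup.card_top] at hcard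
    have hidx : ¬ p ∣ M.index := by
      intro hdvd
      have h1 : M.index * Nat.card M = Nat.card L := Subgroup.index_mul_card M
      have h2 : M.index * Nat.card ↥(M ⊓ D) = Nat.card D := by
        have h5 : Nat.card M * (M.index * Nat.card ↥(M ⊓ D)) = Nat.card M * Nat.card D := by
          rw [← hcard, ← h1]; ring
        exact Nat.eq_of_mul_eq_mul_left Nat.card_pos h5
      have h3 : p ^ (Nat.card D).factorization p ∣ Nat.card ↥(M ⊓ D) := by
        rw [← hcardPD]
        apply Subgroup.card_dvd_of_le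
        rw [hPD]; exact le_inf hOpM hOpD
      have h4 : p ^ ((Nat.card D).factorization p + 1) ∣ Nat.card D := by
        have h6 : p * p ^ (Nat.card D).factorization p ∣ M.index * Nat.card ↥(M ⊓ D) :=
          Nat.mul_dvd_mul hdvd h3
        rw [h2] at h6
        rw [pow_succ, mul_comm]; exact h6
      exact Nat.pow_succ_factorization_not_dvd Nat.card_pos.ne' hpp h4
    obtain ⟨S, hSM, -⟩ := exists_sylow_le_of_index M hidx 1 M.one_mem ⟨0, by simp⟩
    obtain ⟨g, hg⟩ := MulAction.exists_smul_eq L P S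
    have hM' : IsCoatom (M.comap (MulAut.conj g).toMonoidHom) :=
      coatom_comap _ (MulAut.conj g).surjective hM
    have hYM' : Y ≤ M.comap (MulAut.conj g).toMonoidHom := by
      intro y hy
      rw [Subgroup.mem_comap]
      apply hSM
      rw [← hg]
      apply (mem_sylow_smul_iff).mpr
      have h3 : g⁻¹ * ((MulAut.conj g).toMonoidHom y) * g = y := by
        show g⁻¹ * (g * y * g⁻¹) * g = y
        group
      rw [h3]; exact hYP hy
    have h5 := hU _ hM' hYM'
    apply hDM
    intro x hx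
    have h6 : g⁻¹ * x * g⁻¹⁻¹ ∈ L₀ := hDL (hDn.conj_mem x hx g⁻¹)
    rw [← h5, Subgroup.mem_comap] at h6
    have h7 : (MulAut.conj g).toMonoidHom (g⁻¹ * x * g⁻¹⁻¹) = x := by
      show g * (g⁻¹ * x * g⁻¹⁻¹) * g⁻¹ = x
      group
    rw [h7] at h6; exact h6
  -- the Frattini quotient
  have hsurj := QuotientGroup.mk'_surjective (Cfsg.pCore p L)
  have hkerf : (QuotientGroup.mk' (Cfsg.pCore p L)).ker = Cfsg.pCore p L := QuotientGroup.ker_mk' _
  have hfrat : D.map (QuotientGroup.mk' (Cfsg.pCore p L)) = frattini (L ⧸ Cfsg.pCore p L) := by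
    apply le_antisymm
    · show D.map (QuotientGroup.mk' (Cfsg.pCore p L)) ≤
        ⨅ a ∈ {a : Subgroup (L ⧸ Cfsg.pCore p L) | IsCoatom a}, a
      apply le_iInf₂
      intro Mb hMb
      rw [Subgroup.map_le_iff_le_comap]
      apply hkey _ (coatom_comap _ hsurj hMb)
      intro x hx
      rw [Subgroup.mem_comap]
      have h1 : (QuotientGroup.mk' (Cfsg.pCore p L)) x = 1 := (QuotientGroup.eq_one_iff x).mpr hx
      rw [h1]; exact Mb.one_mem
    · have hL₀c : IsCoatom (L₀.map (QuotientGroup.mk' (Cfsg.pCore p L))) :=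
        coatom_map _ hsurj hL₀ (by rw [hkerf]; exact hOpL₀)
      have hFle : frattini (L ⧸ Cfsg.pCore p L) ≤ L₀.map (QuotientGroup.mk' (Cfsg.pCore p L)) := by
        show (⨅ a ∈ {a : Subgroup (L ⧸ Cfsg.pCore p L) | IsCoatom a}, a) ≤ _
        exact iInf₂_le _ hL₀c
      have hFn : (frattini (L ⧸ Cfsg.pCore p L)).Normal := inferInstance
      have h1 : (frattini (L ⧸ Cfsg.pCore p L)).comap (QuotientGroup.mk' (Cfsg.pCore p L)) ≤ L₀ := by
        intro x hx
        have h2 : (QuotientGroup.mk' (Cfsg.pCore p L)) x ∈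
            L₀.map (QuotientGroup.mk' (Cfsg.pCore p L)) := hFle hx
        have h3 : x ∈ (L₀.map (QuotientGroup.mk' (Cfsg.pCore p L))).comap
            (QuotientGroup.mk' (Cfsg.pCore p L)) := h2
        rw [Subgroup.comap_map_eq, hkerf, sup_of_le_left hOpL₀] at h3
        exact h3
      have hcn : ((frattini (L ⧸ Cfsg.pCore p L)).comap
          (QuotientGroup.mk' (Cfsg.pCore p L))).Normal := hFn.comap _
      have h2 : (frattini (L ⧸ Cfsg.pCore p L)).comap (QuotientGroup.mk' (Cfsg.pCore p L)) ≤ D := by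
        rw [hDdef]; exact Subgroup.normal_le_normalCore.mpr h1
      calc frattini (L ⧸ Cfsg.pCore p L)
          = ((frattini (L ⧸ Cfsg.pCore p L)).comap (QuotientGroup.mk' (Cfsg.pCore p L))).map
              (QuotientGroup.mk' (Cfsg.pCore p L)) :=
            (Subgroup.map_comap_eq_self_of_surjective hsurj _).symm
        _ ≤ D.map (QuotientGroup.mk' (Cfsg.pCore p L)) := Subgroup.map_mono h2
  -- normal subgroups inside L₀
  have hN3 : ∀ (N : Subgroup L) [N.Normal], N ≤ L₀ → Cfsg.IsPClosed p ↥N ∧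
      Group.IsNilpotent (↥N ⧸ Cfsg.pCore p ↥N) ∧ (Nat.card (↥N ⧸ Cfsg.pCore p ↥N)).Coprime p := by
    intro N hNn hNL
    obtain ⟨S, hS⟩ := exists_sylow_subgroupOf_subnormal P (H := N)
      (Subgroup.Normal.isSubnormal hNn)
    have hSn : (S : Subgroup ↥N).Normal := by
      rw [hS]; exact (hF N hNL).subgroupOf N
    have huq : ∀ Q : Sylow p ↥N, Q = S := by
      intro Q
      have := Sylow.unique_of_normal S hSn
      exact Subsingleton.elim _ _
    have hcore : Cfsg.pCore p ↥N = (S : Subgroup ↥N) := by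
      apply le_antisymm
      · obtain ⟨Q, hQ⟩ := (Cfsg.Agent.Lib.Helper7.pCore_isPGroup p ↥N).exists_le_sylow
        rw [huq Q] at hQ; exact hQ
      · exact Cfsg.Agent.Lib.Helper7.le_pCore hSn S.isPGroup'
    have hND : N ≤ D := by rw [hDdef]; exact Subgroup.normal_le_normalCore.mpr hNL
    refine ⟨?_, ?_, ?_⟩
    · intro Q
      rw [huq Q]; exact hSn
    · obtain ⟨φ, hφ⟩ : ∃ φ : ↥N →* L ⧸ Cfsg.pCore p L,
          φ = (QuotientGroup.mk' (Cfsg.pCore p L)).comp N.subtype := ⟨_, rfl⟩
      have hφF : ∀ x, φ x ∈ frattini (L ⧸ Cfsg.pCore p L) := by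
        intro x
        rw [← hfrat, hφ]
        exact ⟨(x : L), hND x.2, rfl⟩
      obtain ⟨ψ, hψ⟩ : ∃ ψ : ↥N →* ↥(frattini (L ⧸ Cfsg.pCore p L)),
          ψ = φ.codRestrict (frattini (L ⧸ Cfsg.pCore p L)) hφF := ⟨_, rfl⟩
      have hker : ψ.ker = Cfsg.pCore p ↥N := by
        rw [hcore, hS]
        ext x
        rw [MonoidHom.mem_ker, Subgroup.mem_subgroupOf]
        have h1 : ψ x = 1 ↔ (x : L) ∈ Cfsg.pCore p L := by
          rw [hψ, Subtype.ext_iff]
          show φ x = 1 ↔ _
          rw [hφ]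
          exact QuotientGroup.eq_one_iff (x : L)
        rw [h1]
        constructor
        · intro hx
          exact Subgroup.mem_inf.mpr ⟨hOpP hx, x.2⟩
        · intro hx
          exact (Cfsg.Agent.Lib.Helper7.le_pCore (hF N hNL) (P.isPGroup'.to_le inf_le_left)) hx
      have hnil : Group.IsNilpotent ↥(frattini (L ⧸ Cfsg.pCore p L)) := frattini_nilpotent
      have hnil2 : Group.IsNilpotent ↥ψ.range := inferInstance
      have hnil3 : Group.IsNilpotent (↥N ⧸ ψ.ker) :=
        Group.nilpotent_of_mulEquiv (QuotientGroup.quotientKerEquivRange ψ).symm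
      exact Group.nilpotent_of_mulEquiv (QuotientGroup.quotientMulEquivOfEq hker)
    · have h1 : Nat.card (↥N ⧸ Cfsg.pCore p ↥N) = (Cfsg.pCore p ↥N).index :=
        (Subgroup.index_eq_card _).symm
      rw [h1, hcore]
      exact Nat.Coprime.symm ((Nat.Prime.coprime_iff_not_dvd hpp).mpr S.not_dvd_index)
  refine ⟨⟨?_, ?_, ?_⟩, fun N _ hNL => hN3 N hNL⟩
  · rw [← hDdef]; exact hOpD
  · rw [← hDdef]; exact hfrat
  · have h := (hN3 D hDL).1
    rw [hDdef] at h
    exact h

end Cfsg.Agent.S2836
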