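import Mathlib
import Cfsg.Statements.S2838
import Cfsg.Agent.S1900
import Cfsg.Agent.Lib.Helper3.WCChar
import Cfsg.Agent.Lib.Helper3.ZJ
import Cfsg.Agent.Lib.Helper3.ZJ3
import Cfsg.Agent.Lib.Helper3.Thompson

set_option autoImplicit false
open Cfsg
open scoped commutatorElement

namespace Cfsg.Agent.S2838

theorem comm_le_of_mutual {H : Type*} [Group H] {A B : Subgroup H}
    (h1 : A ≤ Subgroup.normalizer (B : Set H)) (h2 : B ≤ Subgroup.normalizer (A : Set H)) :
    ⁅A, B⁆ ≤ A ⊓ B := by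
  rw [Subgroup.commutator_le]
  intro a ha b hb
  rw [Subgroup.mem_inf]
  constructor
  · have h3 : b * a⁻¹ * b⁻¹ ∈ A := (Subgroup.mem_normalizer_iff.mp (h2 hb) a⁻¹).mp (inv_mem ha)
    have e : ⁅a, b⁆ = a * (b * a⁻¹ * b⁻¹) := by rw [commutatorElement_def]; group
    rw [e]; exact mul_mem ha h3
  · have h3 : a * b * a⁻¹ ∈ B := (Subgroup.mem_normalizer_iff.mp (h1 ha) b).mp hb
    have e : ⁅a, b⁆ = (a * b * a⁻¹) * b⁻¹ := by rw [commutatorElement_def]
    rw [e]; exact mul_mem h3 (inv_mem hb)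

theorem mutual_of_comm_le {H : Type*} [Group H] [Finite H] {A B : Subgroup H}
    (h : ⁅A, B⁆ ≤ A ⊓ B) :
    A ≤ Subgroup.normalizer (B : Set H) ∧ B ≤ Subgroup.normalizer (A : Set H) := by
  constructor
  · intro a ha
    apply Cfsg.Agent.S1900.mem_normalizer_of_conj_mem
    intro b hb
    have h1 : ⁅a, b⁆ ∈ B := (Subgroup.mem_inf.mp (h (Subgroup.commutator_mem_commutator ha hb))).2
    have e : a * b * a⁻¹ = ⁅a, b⁆ * b := by rw [commutatorElement_def]; group
    rw [e]; exact mul_mem h1 hb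
  · intro b hb
    apply Cfsg.Agent.S1900.mem_normalizer_of_conj_mem
    intro a ha
    have h1 : ⁅a, b⁆ ∈ A := (Subgroup.mem_inf.mp (h (Subgroup.commutator_mem_commutator ha hb))).1
    have e : b * a * b⁻¹ = (⁅a, b⁆)⁻¹ * a := by rw [commutatorElement_def]; group
    rw [e]; exact mul_mem (inv_mem h1) ha

/-- under condition (B), `Q` is normal in every `p`-subgroup containing it -/
theorem normal_of_B {H : Type*} [Group H] [Finite H] {p : ℕ} [Fact p.Prime] (Q : Subgroup H)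
    (hB : ∀ g : H, ⁅Q, Q.map (MulAut.conj g).toMonoidHom⁆ ≤ Q ⊓ Q.map (MulAut.conj g).toMonoidHom →
      Q.map (MulAut.conj g).toMonoidHom = Q)
    (R : Subgroup H) (hR : IsPGroup p ↥R) (hQR : Q ≤ R) :
    R ≤ Subgroup.normalizer (Q : Set H) := by
  by_contra hcon
  have hlt : R ⊓ Subgroup.normalizer (Q : Set H) < R := by
    refine lt_of_le_of_ne inf_le_left ?_
    intro h
    apply hcon
    rw [← h]; exact inf_le_right
  obtain ⟨x, hxR, hxN, hxn⟩ := Cfsg.Agent.Lib.Helper3.exists_mem_normalizer_not_mem hR hlt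
  have hQN : Q ≤ R ⊓ Subgroup.normalizer (Q : Set H) := le_inf hQR Subgroup.le_normalizer
  -- `Q^x ≤ N`
  have h1 : Q.map (MulAut.conj x).toMonoidHom ≤ R ⊓ Subgroup.normalizer (Q : Set H) := by
    rintro _ ⟨q, hq, rfl⟩
    exact (Subgroup.mem_normalizer_iff.mp hxN q).mp (hQN hq)
  have h2 : Q.map (MulAut.conj x).toMonoidHom ≤ Subgroup.normalizer (Q : Set H) :=
    h1.trans inf_le_right
  have h3 : Q ≤ Subgroup.normalizer ((Q.map (MulAut.conj x).toMonoidHom : Subgroup H) : Set H) := by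
    intro q hq
    have h4 : x⁻¹ * q * x ∈ R ⊓ Subgroup.normalizer (Q : Set H) := by
      have := (Subgroup.mem_normalizer_iff.mp (inv_mem hxN) q).mp (hQN hq)
      simpa using this
    have h5 := Cfsg.Agent.Lib.Helper3.map_conj_mem_normalizer x (Subgroup.mem_inf.mp h4).2
    have e : x * (x⁻¹ * q * x) * x⁻¹ = q := by group
    rw [e] at h5; exact h5
  have h6 := hB x (comm_le_of_mutual h3 h2)
  apply hxn
  rw [Subgroup.mem_inf]
  exact ⟨hxR, Subgroup.mem_normalizer_iff_map_conj_eq.mpr h6⟩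

/-- For a nontrivial p-subgroup Q of a finite group H the following are equivalent: Q is a weakly closed subgroup (it is the only H-conjugate of itself inside some Sylow p-subgroup containing it); Q = P for every conjugate P of Q with [Q, P] ≤ Q ∩ P; Q is normal in N_H(R) for every p-subgroup R of H containing Q. -/
theorem result {H : Type*} [Group H] [Finite H] {p : ℕ} [Fact p.Prime] (Q : Subgroup H) (hQp : IsPGroup p ↥Q) (hQ1 : Q ≠ ⊥) : (Cfsg.IsWeaklyClosedSubgroup p Q ↔ ∀ g : H, ⁅Q, ((Q : Subgroup H).map (MulAut.conj (g : H)).toMonoidHom)⁆ ≤ Q ⊓ ((Q : Subgroup H).map (MulAut.conj (g : H)).toMonoidHom) → ((Q : Subgroup H).map (MulAut.conj (g : H)).toMonoidHom) = Q) ∧ (Cfsg.IsWeaklyClosedSubgroup p Q ↔ ∀ R : Subgroup H, IsPGroup p ↥R → Q ≤ R → Subgroup.normalizer ((R : Subgroup H) : Set H) ≤ Subgroup.normalizer ((Q : Subgroup H) : Set H)) := by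
  classical
  obtain ⟨T₀, hT₀⟩ := hQp.exists_le_sylow
  refine ⟨⟨?_, ?_⟩, ⟨?_, ?_⟩⟩
  · -- weakly closed ⟹ (B)
    intro hwc g hcomm
    obtain ⟨h1, h2⟩ := mutual_of_comm_le hcomm
    have hR : IsPGroup p ↥(Q.map (MulAut.conj g).toMonoidHom ⊔ Q : Subgroup H) :=
      IsPGroup.to_sup_of_normal_right' (hQp.map _) hQp h2
    exact Cfsg.Agent.Lib.Helper3.wc_conj_eq hwc _ hR le_sup_right g le_sup_left
  · -- (B) ⟹ weakly closed
    intro hB
    refine ⟨T₀, hT₀, ?_⟩
    intro g hg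
    apply hB
    have h1 : (T₀ : Subgroup H) ≤ Subgroup.normalizer (Q : Set H) :=
      normal_of_B Q hB _ T₀.isPGroup' hT₀
    -- `T₀ ≤ N(Q^g)`
    have h2 : (T₀ : Subgroup H) ≤
        Subgroup.normalizer ((Q.map (MulAut.conj g).toMonoidHom : Subgroup H) : Set H) := by
      have hR' : IsPGroup p ↥((T₀ : Subgroup H).map (MulAut.conj g⁻¹).toMonoidHom) :=
        T₀.isPGroup'.map _
      have hQR' : Q ≤ (T₀ : Subgroup H).map (MulAut.conj g⁻¹).toMonoidHom := by
        intro q hq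
        refine ⟨g * q * g⁻¹, hg ⟨q, hq, rfl⟩, ?_⟩
        show g⁻¹ * (g * q * g⁻¹) * g⁻¹⁻¹ = q
        group
      have h3 := normal_of_B Q hB _ hR' hQR'
      intro t ht
      have h4 : g⁻¹ * t * g ∈ (T₀ : Subgroup H).map (MulAut.conj g⁻¹).toMonoidHom := by
        refine ⟨t, ht, ?_⟩
        show g⁻¹ * t * g⁻¹⁻¹ = g⁻¹ * t * g
        group
      have h5 := Cfsg.Agent.Lib.Helper3.map_conj_mem_normalizer g (h3 h4)
      have e : g * (g⁻¹ * t * g) * g⁻¹ = t := by group
      rw [e] at h5; exact h5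
    exact comm_le_of_mutual (hT₀.trans h2) (hg.trans h1)
  · -- weakly closed ⟹ (C)
    intro hwc R hR hQR x hx
    have h1 : Q.map (MulAut.conj x).toMonoidHom ≤ R := by
      rintro _ ⟨q, hq, rfl⟩
      exact (Subgroup.mem_normalizer_iff.mp hx q).mp (hQR hq)
    exact Subgroup.mem_normalizer_iff_map_conj_eq.mpr
      (Cfsg.Agent.Lib.Helper3.wc_conj_eq hwc R hR hQR x h1)
  · -- (C) ⟹ weakly closed
    intro hC
    refine ⟨T₀, hT₀, ?_⟩
    intro g hg
    have h1 : (T₀ : Subgroup H) ≤ Subgroup.normalizer (Q : Set H) :=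
      Subgroup.le_normalizer.trans (hC _ T₀.isPGroup' hT₀)
    -- the Sylow subgroup `g⁻¹ T₀ g` also contains `Q`
    have hQT' : Q ≤ ((g⁻¹ • T₀ : Sylow p H) : Subgroup H) := by
      intro q hq
      rw [Cfsg.Agent.Lib.Helper3.mem_sylow_smul_iff, inv_inv]
      exact hg ⟨q, hq, rfl⟩
    have h2 : ((g⁻¹ • T₀ : Sylow p H) : Subgroup H) ≤ Subgroup.normalizer (Q : Set H) :=
      Subgroup.le_normalizer.trans (hC _ (g⁻¹ • T₀).isPGroup' hQT')
    -- both are Sylow subgroups of `N(Q)`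
    obtain ⟨n, hn⟩ := MulAction.exists_smul_eq ↥(Subgroup.normalizer (Q : Set H))
      (T₀.subtype h1) ((g⁻¹ • T₀).subtype h2)
    rw [Sylow.smul_subtype h1 n] at hn
    have h3 : n • T₀ = g⁻¹ • T₀ := Sylow.subtype_injective hn
    have h4 : (g * (n : H)) • T₀ = T₀ := by
      rw [mul_smul]
      have : (n : H) • T₀ = g⁻¹ • T₀ := h3
      rw [this, smul_inv_smul]
    have h5 : g * (n : H) ∈ Subgroup.normalizer ((T₀ : Subgroup H) : Set H) :=
      Sylow.smul_eq_iff_mem_normalizer.mp h4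
    have h6 : g * (n : H) ∈ Subgroup.normalizer (Q : Set H) := hC _ T₀.isPGroup' hT₀ h5
    have h7 : g ∈ Subgroup.normalizer (Q : Set H) := by
      have e : g = g * (n : H) * (n : H)⁻¹ := by group
      rw [e]; exact mul_mem h6 (inv_mem n.2)
    exact Subgroup.mem_normalizer_iff_map_conj_eq.mp h7

end Cfsg.Agent.S2838
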