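import Mathlib
import Cfsg.Statements.S2955
import Cfsg.Agent.Lib.Helper3.ZJ

set_option autoImplicit false
open Cfsg

namespace Cfsg.Agent.S2955

theorem mem_scr {G : Type*} [Group G] (h x : G) (Y : Subgroup G) :
    x ∈ Cfsg.subgroupConjRight h Y ↔ h * x * h⁻¹ ∈ Y := by
  unfold Cfsg.subgroupConjRight
  rw [Subgroup.mem_map]
  constructor
  · rintro ⟨y, hy, rfl⟩
    have : h * ((MulAut.conj h⁻¹).toMonoidHom y) * h⁻¹ = y := by
      show h * (h⁻¹ * y * h⁻¹⁻¹) * h⁻¹ = y
      group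
    rw [this]; exact hy
  · intro hx
    refine ⟨h * x * h⁻¹, hx, ?_⟩
    show h⁻¹ * (h * x * h⁻¹) * h⁻¹⁻¹ = x
    group

theorem card_scr {G : Type*} [Group G] (h : G) (Y : Subgroup G) :
    Nat.card ↥(Cfsg.subgroupConjRight h Y) = Nat.card ↥Y := by
  unfold Cfsg.subgroupConjRight
  exact Subgroup.card_map_of_injective (MulAut.conj h⁻¹).injective

theorem sm_iff {G : Type*} [Group G] [Finite G] (p : ℕ) [Fact p.Prime] (X S : Subgroup G) :
    (∃ P : Sylow p ↥X, (P : Subgroup ↥X).map X.subtype = S ⊓ X) ↔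
      Nat.card ↥(S ⊓ X) = p ^ (Nat.card ↥X).factorization p := by
  constructor
  · rintro ⟨P, hP⟩
    rw [← hP, Subgroup.card_map_of_injective X.subtype_injective]
    exact P.card_eq_multiplicity
  · intro hc
    have h1 : Nat.card ↥((S ⊓ X).subgroupOf X) = p ^ (Nat.card ↥X).factorization p := by
      rw [← hc]
      exact Nat.card_congr (Subgroup.subgroupOfEquivOfLe inf_le_right).toEquiv
    refine ⟨Sylow.ofCard ((S ⊓ X).subgroupOf X) h1, ?_⟩
    rw [Sylow.coe_ofCard]
    exact Subgroup.map_subgroupOf_eq_of_le inf_le_right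

/-- members of `𝓕(hSh⁻¹)` lie in `H` when `h ∈ H` -/
theorem le_of_member {G : Type*} [Group G] [Finite G] (p : ℕ) [Fact p.Prime]
    (𝓕 : Set (Subgroup G)) (h𝓕 : Cfsg.IsNormalSet 𝓕) (S : Sylow p G) (H : Subgroup G)
    (hXH : ∀ X ∈ Cfsg.sylowMembers p 𝓕 (S : Subgroup G), X ≤ H) :
    ∀ h ∈ H, ∀ X ∈ Cfsg.sylowMembers p 𝓕 ((h • S : Sylow p G) : Subgroup G), X ≤ H := by
  intro h hh X hX
  have hX' : Cfsg.subgroupConjRight h X ∈ Cfsg.sylowMembers p 𝓕 (S : Subgroup G) := by
    refine ⟨h𝓕 X hX.1 h, ?_⟩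
    rw [sm_iff]
    have h1 := (sm_iff p X _).mp hX.2
    have h2 : (S : Subgroup G) ⊓ Cfsg.subgroupConjRight h X =
        Cfsg.subgroupConjRight h (((h • S : Sylow p G) : Subgroup G) ⊓ X) := by
      ext x
      rw [Subgroup.mem_inf, mem_scr, mem_scr, Subgroup.mem_inf,
        Cfsg.Agent.Lib.Helper3.mem_sylow_smul_iff]
      have : h⁻¹ * (h * x * h⁻¹) * h = x := by group
      rw [this]
    rw [h2, card_scr, card_scr, h1]
  have h3 := hXH _ hX'
  intro x hx
  have h4 : h⁻¹ * x * h ∈ Cfsg.subgroupConjRight h X := by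
    rw [mem_scr]
    have : h * (h⁻¹ * x * h) * h⁻¹ = x := by group
    rw [this]; exact hx
  have h5 := h3 h4
  have : x = h * (h⁻¹ * x * h) * h⁻¹ := by group
  rw [this]
  exact mul_mem (mul_mem hh h5) (inv_mem hh)

/-- one controlled step: an `H`-conjugate of `S` meeting `T'` nontrivially forces `T'` to be an
`H`-conjugate of `S` -/
theorem step {G : Type*} [Group G] [Finite G] (p : ℕ) [Fact p.Prime]
    (𝓕 : Set (Subgroup G)) (h𝓕 : Cfsg.IsNormalSet 𝓕) (hc : Cfsg.ControlsSylowIntersections p 𝓕)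
    (S : Sylow p G) (H : Subgroup G)
    (hXH : ∀ X ∈ Cfsg.sylowMembers p 𝓕 (S : Subgroup G), X ≤ H)
    (S' T' : Sylow p G) (hS' : ∃ h ∈ H, h • S = S') (hne : S' ≠ T')
    (hint : (S' : Subgroup G) ⊓ (T' : Subgroup G) ≠ ⊥) : ∃ h ∈ H, h • S = T' := by
  obtain ⟨n, c, X, x, hc0, hcn, hstep⟩ := hc S' T' hne hint
  have hall : ∀ i : Fin (n + 1), ∃ h ∈ H, h • S = c i := by
    intro i
    induction i using Fin.induction with
    | zero => rw [hc0]; exact hS'
    | succ i ih =>
      obtain ⟨h, hh, hhc⟩ := ih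
      obtain ⟨hX1, hX2, hx, hconj, -⟩ := hstep i
      rw [← hhc] at hX1
      have hxH : x i ∈ H := le_of_member p 𝓕 h𝓕 S H hXH h hh _ hX1 hx
      refine ⟨x i * h, mul_mem hxH hh, ?_⟩
      rw [mul_smul, hhc]
      apply Sylow.ext
      ext y
      rw [Cfsg.Agent.Lib.Helper3.mem_sylow_smul_iff, ← hconj, mem_scr]
      have : x i * ((x i)⁻¹ * y * x i) * (x i)⁻¹ = y := by group
      rw [this]
  rw [← hcn]; exact hall (Fin.last n)

/-- Let p be a prime dividing the order of the finite group G and 𝓕 a conjugation-closed family of subgroups that controls Sylow p-intersections in G. Suppose the Sylow p-subgroups of G are chain-connected: any two of them are joined by a chain of Sylow p-subgroups, consecutive ones distinct with nontrivial intersection, all containing the intersection of the two ends (equivalently, the graph on the Sylow p-subgroups whose edges are the distinct pairs meeting nontrivially is connected). Then for every Sylow p-subgroup S, G is generated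 by N_G(S) together with the members of 𝓕 that meet S in a Sylow p-subgroup of themselves. -/
theorem result {G : Type*} [Group G] [Finite G] (p : ℕ) [Fact p.Prime] (hdiv : p ∣ Nat.card G)
    (𝓕 : Set (Subgroup G)) (h𝓕 : Cfsg.IsNormalSet 𝓕) (hc : Cfsg.ControlsSylowIntersections p 𝓕)
    (hconn : Cfsg.IsSylowChainConnected p G) (S : Sylow p G) :
    (⨆ X ∈ Cfsg.sylowMembers p 𝓕 (S : Subgroup G), X) ⊔ Subgroup.normalizer ((S : Subgroup G) : Set G) = ⊤ := by
  classical
  obtain ⟨H, hHdef⟩ : ∃ H : Subgroup G, H = (⨆ X ∈ Cfsg.sylowMembers p 𝓕 (S : Subgroup G), X) ⊔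
      Subgroup.normalizer ((S : Subgroup G) : Set G) := ⟨_, rfl⟩
  rw [← hHdef]
  have hNH : Subgroup.normalizer ((S : Subgroup G) : Set G) ≤ H := by
    rw [hHdef]; exact le_sup_right
  have hXH : ∀ X ∈ Cfsg.sylowMembers p 𝓕 (S : Subgroup G), X ≤ H := by
    intro X hX
    rw [hHdef]
    exact le_sup_of_le_left (le_biSup (fun X => X) hX)
  have hR : ∀ T : Sylow p G, ∃ h ∈ H, h • S = T := by
    intro T
    obtain ⟨n, c, hc0, hcn, -, hstep⟩ := hconn S T
    have hall : ∀ i : Fin (n + 1), ∃ h ∈ H, h • S = c i := by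
      intro i
      induction i using Fin.induction with
      | zero => rw [hc0]; exact ⟨1, one_mem _, one_smul _ _⟩
      | succ i ih => exact step p 𝓕 h𝓕 hc S H hXH _ _ ih (hstep i).1 (hstep i).2
    rw [← hcn]; exact hall (Fin.last n)
  rw [eq_top_iff]
  intro g _
  obtain ⟨h, hh, hhg⟩ := hR (g • S)
  have h1 : (h⁻¹ * g) • S = S := by rw [mul_smul, ← hhg, inv_smul_smul]
  have h2 : h⁻¹ * g ∈ Subgroup.normalizer ((S : Subgroup G) : Set G) :=
    Sylow.smul_eq_iff_mem_normalizer.mp h1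
  have : g = h * (h⁻¹ * g) := by group
  rw [this]; exact mul_mem hh (hNH h2)

end Cfsg.Agent.S2955
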