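import Mathlib
import Cfsg.Statements.S2939
import Cfsg.Agent.S2955
import Cfsg.Agent.Lib.Helper3.ZJ

set_option autoImplicit false
open Cfsg

namespace Cfsg.Agent.S2939

theorem conj_member {G : Type*} [Group G] [Finite G] (p : ℕ) [Fact p.Prime]
    (𝓕 : Set (Subgroup G)) (h𝓕 : Cfsg.IsNormalSet 𝓕) (S : Sylow p G) (h : G) (X : Subgroup G)
    (hX : X ∈ Cfsg.sylowMembers p 𝓕 ((h • S : Sylow p G) : Subgroup G)) :
    Cfsg.subgroupConjRight h X ∈ Cfsg.sylowMembers p 𝓕 (S : Subgroup G) := by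
  refine ⟨h𝓕 X hX.1 h, ?_⟩
  rw [Cfsg.Agent.S2955.sm_iff]
  have h1 := (Cfsg.Agent.S2955.sm_iff p X _).mp hX.2
  have h2 : (S : Subgroup G) ⊓ Cfsg.subgroupConjRight h X =
      Cfsg.subgroupConjRight h (((h • S : Sylow p G) : Subgroup G) ⊓ X) := by
    ext x
    rw [Subgroup.mem_inf, Cfsg.Agent.S2955.mem_scr, Cfsg.Agent.S2955.mem_scr, Subgroup.mem_inf,
      Cfsg.Agent.Lib.Helper3.mem_sylow_smul_iff]
    have : h⁻¹ * (h * x * h⁻¹) * h = x := by group
    rw [this]
  rw [h2, Cfsg.Agent.S2955.card_scr, Cfsg.Agent.S2955.card_scr, h1]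

theorem conj_member' {G : Type*} [Group G] [Finite G] (p : ℕ) [Fact p.Prime]
    (𝓕 : Set (Subgroup G)) (h𝓕 : Cfsg.IsNormalSet 𝓕) (S : Sylow p G) (X : Subgroup G)
    (hX : X ∈ Cfsg.sylowMembers p 𝓕 (S : Subgroup G)) (h : G) :
    Cfsg.subgroupConjRight h⁻¹ X ∈ Cfsg.sylowMembers p 𝓕 ((h • S : Sylow p G) : Subgroup G) := by
  apply conj_member p 𝓕 h𝓕 (h • S) h⁻¹ X
  rw [inv_smul_smul]; exact hX

theorem smul_of_scr {G : Type*} [Group G] {p : ℕ} (P Q : Sylow p G) (x : G)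
    (h : Cfsg.subgroupConjRight x (Q : Subgroup G) = (P : Subgroup G)) : Q = x • P := by
  apply Sylow.ext
  ext y
  rw [Cfsg.Agent.Lib.Helper3.mem_sylow_smul_iff, ← h, Cfsg.Agent.S2955.mem_scr]
  have : x * (x⁻¹ * y * x) * x⁻¹ = y := by group
  rw [this]

theorem forward {G : Type*} [Group G] [Finite G] {p : ℕ} [Fact p.Prime] (𝓕 : Set (Subgroup G))
    (h𝓕 : Cfsg.IsNormalSet 𝓕) (hc : Cfsg.ControlsSylowIntersections p 𝓕) :
    Cfsg.FamilyStronglyControlsFusion p 𝓕 := by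
  intro S A g hAS hA1 hAg
  have hAT : A ⊆ (((g • S : Sylow p G) : Subgroup G) : Set G) := by
    intro a ha
    have h1 : g⁻¹ * a * g ∈ (S : Subgroup G) := hAg ⟨a, ha, rfl⟩
    exact Cfsg.Agent.Lib.Helper3.mem_sylow_smul_iff.mpr h1
  by_cases hST : S = g • S
  · refine ⟨0, Fin.elim0, Fin.elim0, g, ?_, fun i => i.elim0, ?_, fun i => i.elim0⟩
    · exact Sylow.smul_eq_iff_mem_normalizer.mp hST.symm
    · simp
  · have hint : (S : Subgroup G) ⊓ ((g • S : Sylow p G) : Subgroup G) ≠ ⊥ := by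
      obtain ⟨a, ha, ha1⟩ := hA1
      intro hbot
      have : a ∈ (S : Subgroup G) ⊓ ((g • S : Sylow p G) : Subgroup G) := ⟨hAS ha, hAT ha⟩
      rw [hbot, Subgroup.mem_bot] at this
      exact ha1 this
    obtain ⟨n, c, X, x, hc0, hcn, hstep⟩ := hc S (g • S) hST hint
    obtain ⟨u, hu0, husucc⟩ : ∃ u : ℕ → G, u 0 = 1 ∧
        ∀ k (h : k < n), u (k + 1) = x ⟨k, h⟩ * u k := by
      refine ⟨fun k => Nat.rec 1 (fun k acc => (if h : k < n then x ⟨k, h⟩ else 1) * acc) k,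
        rfl, ?_⟩
      intro k h
      show (if h : k < n then x ⟨k, h⟩ else 1) * _ = _
      rw [dif_pos h]
    have hck : ∀ k (hk : k < n + 1), c ⟨k, hk⟩ = u k • S := by
      intro k
      induction k with
      | zero => intro hk; rw [hu0, one_smul]; exact hc0
      | succ k ih =>
        intro hk
        have hk' : k < n := by omega
        obtain ⟨-, -, -, hconj, -⟩ := hstep ⟨k, hk'⟩
        have h1 := smul_of_scr _ _ _ hconj
        have h2 : (⟨k, hk'⟩ : Fin n).castSucc = ⟨k, by omega⟩ := rfl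
        have h3 : (⟨k, hk'⟩ : Fin n).succ = ⟨k + 1, hk⟩ := rfl
        rw [h2, h3, ih] at h1
        rw [h1, husucc k hk', mul_smul]
    obtain ⟨y, hy⟩ : ∃ y : Fin n → G, ∀ i, y i = (u i.val)⁻¹ * x i * u i.val := ⟨_, fun i => rfl⟩
    have hpp : ∀ k, k ≤ n → ((List.ofFn y).take k).prod = u k := by
      intro k
      induction k with
      | zero => intro _; rw [hu0]; simp
      | succ k ih =>
        intro hk
        have hlt : k < (List.ofFn y).length := by rw [List.length_ofFn]; omega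
        rw [List.prod_take_succ _ _ hlt, ih (by omega), List.getElem_ofFn, hy,
          husucc k (by omega)]
        group
    have hprod : (List.ofFn y).prod = u n := by
      have := hpp n le_rfl
      rwa [List.take_of_length_le (by rw [List.length_ofFn])] at this
    refine ⟨n, fun i => Cfsg.subgroupConjRight (u i.val) (X i), y, (u n)⁻¹ * g, ?_, ?_, ?_, ?_⟩
    · apply Sylow.smul_eq_iff_mem_normalizer.mp
      have h1 : c ⟨n, by omega⟩ = g • S := hcn
      rw [hck n (by omega)] at h1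
      rw [mul_smul, ← h1, inv_smul_smul]
    · intro i
      have h1 := (hstep i).1
      have h2 : c i.castSucc = u i.val • S := hck i.val (by omega)
      rw [h2] at h1
      refine ⟨conj_member p 𝓕 h𝓕 S _ _ h1, ?_⟩
      show y i ∈ Cfsg.subgroupConjRight (u i.val) (X i)
      rw [Cfsg.Agent.S2955.mem_scr, hy]
      have : u i.val * ((u i.val)⁻¹ * x i * u i.val) * (u i.val)⁻¹ = x i := by group
      rw [this]; exact (hstep i).2.2.1
    · rw [hprod]; group
    · intro i z hz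
      obtain ⟨a, ha, rfl⟩ := hz
      rw [hpp (i.val + 1) (by omega)]
      have haT := (hstep i).2.2.2.2 ⟨hAS ha, hAT ha⟩
      have h2 : c i.succ = u (i.val + 1) • S := hck (i.val + 1) (by omega)
      refine ⟨?_, ?_⟩
      · show (u (i.val + 1))⁻¹ * a * u (i.val + 1) ∈ (S : Subgroup G)
        have h3 := haT.1
        rw [h2] at h3
        exact Cfsg.Agent.Lib.Helper3.mem_sylow_smul_iff.mp h3
      · show (u (i.val + 1))⁻¹ * a * u (i.val + 1) ∈ Cfsg.subgroupConjRight (u i.val) (X i)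
        rw [Cfsg.Agent.S2955.mem_scr, husucc i.val i.2]
        have : u i.val * ((x i * u i.val)⁻¹ * a * (x i * u i.val)) * (u i.val)⁻¹ =
            (x i)⁻¹ * a * x i := by group
        rw [this]
        exact mul_mem (mul_mem (inv_mem (hstep i).2.2.1) haT.2) (hstep i).2.2.1

theorem backward {G : Type*} [Group G] [Finite G] {p : ℕ} [Fact p.Prime] (𝓕 : Set (Subgroup G))
    (h𝓕 : Cfsg.IsNormalSet 𝓕) (hf : Cfsg.FamilyStronglyControlsFusion p 𝓕) :
    Cfsg.ControlsSylowIntersections p 𝓕 := by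
  intro S T hne hint
  obtain ⟨g, hg⟩ := MulAction.exists_smul_eq G S T
  have hA1 : ∃ a ∈ (((S : Subgroup G) ⊓ (T : Subgroup G) : Subgroup G) : Set G), a ≠ 1 := by
    by_contra hcon
    push_neg at hcon
    apply hint
    rw [eq_bot_iff]
    intro a ha
    exact Subgroup.mem_bot.mpr (hcon a ha)
  have hAS : (((S : Subgroup G) ⊓ (T : Subgroup G) : Subgroup G) : Set G) ⊆ (S : Set G) :=
    fun a ha => ha.1
  have hAg : Cfsg.conjRight g (((S : Subgroup G) ⊓ (T : Subgroup G) : Subgroup G) : Set G) ⊆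
      (S : Set G) := by
    intro z hz
    obtain ⟨a, ha, rfl⟩ := hz
    have h1 : a ∈ ((g • S : Sylow p G) : Subgroup G) := by rw [hg]; exact ha.2
    exact Cfsg.Agent.Lib.Helper3.mem_sylow_smul_iff.mp h1
  obtain ⟨n, Y, y, y₀, hy₀, hY, hgprod, hsub⟩ := hf S _ g hAS hA1 hAg
  obtain ⟨pp, hpp⟩ : ∃ pp : ℕ → G, ∀ k, pp k = ((List.ofFn y).take k).prod := ⟨_, fun k => rfl⟩
  have hpp0 : pp 0 = 1 := by rw [hpp]; simp
  have hppsucc : ∀ i : Fin n, pp (i.val + 1) = pp i.val * y i := by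
    intro i
    have hlt : i.val < (List.ofFn y).length := by rw [List.length_ofFn]; exact i.2
    rw [hpp, hpp, List.prod_take_succ _ _ hlt, List.getElem_ofFn]
  have hppn : pp n = (List.ofFn y).prod := by
    rw [hpp, List.take_of_length_le (by rw [List.length_ofFn])]
  refine ⟨n, fun k => pp k.val • S, fun i => Cfsg.subgroupConjRight (pp (i.val + 1))⁻¹ (Y i),
    fun i => pp i.val * y i * (pp i.val)⁻¹, ?_, ?_, ?_⟩
  · show pp 0 • S = S
    rw [hpp0, one_smul]
  · show pp n • S = T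
    rw [hppn, ← hg]
    have h1 : y₀ • S = S := Sylow.smul_eq_iff_mem_normalizer.mpr hy₀
    conv_rhs => rw [hgprod, mul_smul, h1]
  · intro i
    have hXeq : Cfsg.subgroupConjRight (pp (i.val + 1))⁻¹ (Y i) =
        Cfsg.subgroupConjRight (pp i.val)⁻¹ (Y i) := by
      ext z
      rw [Cfsg.Agent.S2955.mem_scr, Cfsg.Agent.S2955.mem_scr, hppsucc i]
      have e1 : (pp i.val * y i)⁻¹ * z * (pp i.val * y i)⁻¹⁻¹ =
          (y i)⁻¹ * ((pp i.val)⁻¹ * z * (pp i.val)⁻¹⁻¹) * y i := by group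
      rw [e1]
      constructor
      · intro h
        have h' := mul_mem (mul_mem (hY i).2 h) (inv_mem (hY i).2)
        have e : y i * ((y i)⁻¹ * ((pp i.val)⁻¹ * z * (pp i.val)⁻¹⁻¹) * y i) * (y i)⁻¹ =
            (pp i.val)⁻¹ * z * (pp i.val)⁻¹⁻¹ := by group
        rw [e] at h'; exact h'
      · intro h
        exact mul_mem (mul_mem (inv_mem (hY i).2) h) (hY i).2
    refine ⟨?_, ?_, ?_, ?_, ?_⟩
    · show Cfsg.subgroupConjRight (pp (i.val + 1))⁻¹ (Y i) ∈
        Cfsg.sylowMembers p 𝓕 ((pp i.val • S : Sylow p G) : Subgroup G)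
      rw [hXeq]
      exact conj_member' p 𝓕 h𝓕 S _ (hY i).1 _
    · show Cfsg.subgroupConjRight (pp (i.val + 1))⁻¹ (Y i) ∈
        Cfsg.sylowMembers p 𝓕 ((pp (i.val + 1) • S : Sylow p G) : Subgroup G)
      exact conj_member' p 𝓕 h𝓕 S _ (hY i).1 _
    · show pp i.val * y i * (pp i.val)⁻¹ ∈ Cfsg.subgroupConjRight (pp (i.val + 1))⁻¹ (Y i)
      rw [hXeq, Cfsg.Agent.S2955.mem_scr]
      have : (pp i.val)⁻¹ * (pp i.val * y i * (pp i.val)⁻¹) * (pp i.val)⁻¹⁻¹ = y i := by group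
      rw [this]; exact (hY i).2
    · show Cfsg.subgroupConjRight (pp i.val * y i * (pp i.val)⁻¹)
        ((pp (i.val + 1) • S : Sylow p G) : Subgroup G) = ((pp i.val • S : Sylow p G) : Subgroup G)
      ext z
      rw [Cfsg.Agent.S2955.mem_scr, Cfsg.Agent.Lib.Helper3.mem_sylow_smul_iff,
        Cfsg.Agent.Lib.Helper3.mem_sylow_smul_iff, hppsucc i]
      have : (pp i.val * y i)⁻¹ * (pp i.val * y i * (pp i.val)⁻¹ * z *
          (pp i.val * y i * (pp i.val)⁻¹)⁻¹) * (pp i.val * y i) = (pp i.val)⁻¹ * z * pp i.val := by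
        group
      rw [this]
    · intro a ha
      have h1 : (pp (i.val + 1))⁻¹ * a * pp (i.val + 1) ∈ (S : Set G) ∩ (Y i : Set G) := by
        have := hsub i ⟨a, ha, rfl⟩
        rw [← hpp (i.val + 1)] at this
        exact this
      refine ⟨?_, ?_⟩
      · show a ∈ ((pp (i.val + 1) • S : Sylow p G) : Subgroup G)
        exact Cfsg.Agent.Lib.Helper3.mem_sylow_smul_iff.mpr h1.1
      · show a ∈ Cfsg.subgroupConjRight (pp (i.val + 1))⁻¹ (Y i)
        rw [Cfsg.Agent.S2955.mem_scr, inv_inv]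
        exact h1.2

/-- Let p be a prime dividing the order of the finite group G and 𝓕 a family of subgroups of G closed under conjugation, with conjugates taken as X^g = g⁻¹Xg. Then 𝓕 controls Sylow p-intersections in G (any two distinct Sylow p-subgroups S and T with S ∩ T ≠ 1 are joined by a chain S = S₀, S₁, …, Sₙ = T of Sylow p-subgroups where, for each i, some member Xᵢ of 𝓕 meets both S_{i-1} and Sᵢ in Sylow p-subgroups of Xᵢ, satisfies S ∩ T ≤ Sᵢ ∩ Xᵢ, and contains an element xᵢ with Sᵢ^{xᵢ} = S_{i-1}) if and only if 𝓕 strongly controls p-fusion in G (whenever A is a subset of a Sylow p-subgroup S, A contains an element other than 1, and A^g ⊆ S, the element g factorises as g = y₁⋯yₙy with y ∈ N_G(S) and each yᵢ in a member Yᵢ of 𝓕 that meets S in a Sylow p-subgroup of Yᵢ, with A^{y₁⋯yᵢ} ⊆ S ∩ Yᵢ for each i). -/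
theorem result {G : Type*} [Group G] [Finite G] {p : ℕ} [Fact p.Prime] (hdiv : p ∣ Nat.card G) (𝓕 : Set (Subgroup G)) (h𝓕 : Cfsg.IsNormalSet 𝓕) : Cfsg.ControlsSylowIntersections p 𝓕 ↔ Cfsg.FamilyStronglyControlsFusion p 𝓕 := by
  exact ⟨forward 𝓕 h𝓕, backward 𝓕 h𝓕⟩

end Cfsg.Agent.S2939
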