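import Cfsg.Statements.S2940
import Cfsg.Agent.Lib.Helper3.ZJ

set_option autoImplicit false
open Cfsg
open Cfsg.Agent.Lib.Helper3

namespace Cfsg.Agent.S2940

/-- Let S be a Sylow p-subgroup of the finite group G and G₁, G₂ subgroups containing S with G = G₁G₂. Then for every g ∈ G there is a Sylow p-subgroup U of G with S ∩ S^g ≤ U ≤ G₁ ∩ G₂^g (conjugates taken as X^g = g⁻¹Xg). -/
theorem result {G : Type*} [Group G] [Finite G] {p : ℕ} [Fact p.Prime] (S : Sylow p G) (G₁ G₂ : Subgroup G) (h1 : (S : Subgroup G) ≤ G₁) (h2 : (S : Subgroup G) ≤ G₂) (hfact : ∀ g : G, ∃ g₁ ∈ G₁, ∃ g₂ ∈ G₂, g = g₁ * g₂) (g : G) : ∃ U : Sylow p G, (S : Subgroup G) ⊓ Cfsg.subgroupConjRight g (S : Subgroup G) ≤ (U : Subgroup G) ∧ (U : Subgroup G) ≤ G₁ ⊓ Cfsg.subgroupConjRight g G₂ := by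
  obtain ⟨g₁, hg₁, g₂, hg₂, hgi⟩ := hfact g⁻¹
  have hg : g = g₂⁻¹ * g₁⁻¹ := by rw [← mul_inv_rev, ← hgi, inv_inv]
  have hS''D : ((g₁ • S : Sylow p G) : Subgroup G) ≤ G₁ ⊓ Cfsg.subgroupConjRight g G₂ := by
    intro y hy
    rw [mem_sylow_smul_iff] at hy
    refine ⟨?_, ?_⟩
    · have h3 := G₁.mul_mem (G₁.mul_mem hg₁ (h1 hy)) (G₁.inv_mem hg₁)
      rwa [show g₁ * (g₁⁻¹ * y * g₁) * g₁⁻¹ = y by group] at h3
    · refine ⟨g₂⁻¹ * (g₁⁻¹ * y * g₁) * g₂,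
        G₂.mul_mem (G₂.mul_mem (G₂.inv_mem hg₂) (h2 hy)) hg₂, ?_⟩
      show g⁻¹ * (g₂⁻¹ * (g₁⁻¹ * y * g₁) * g₂) * g⁻¹⁻¹ = y
      rw [hg]; group
  have hXD : (S : Subgroup G) ⊓ Cfsg.subgroupConjRight g (S : Subgroup G) ≤
      G₁ ⊓ Cfsg.subgroupConjRight g G₂ := inf_le_inf h1 (Subgroup.map_mono h2)
  have hXp : IsPGroup p ↥(((S : Subgroup G) ⊓ Cfsg.subgroupConjRight g (S : Subgroup G)).subgroupOf
      (G₁ ⊓ Cfsg.subgroupConjRight g G₂)) := (S.isPGroup'.to_le inf_le_left).comap_subtype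
  obtain ⟨Q, hQ⟩ := hXp.exists_le_sylow
  obtain ⟨m, hm⟩ := MulAction.exists_smul_eq ↥(G₁ ⊓ Cfsg.subgroupConjRight g G₂)
    ((g₁ • S : Sylow p G).subtype hS''D) Q
  refine ⟨(m : G) • (g₁ • S), ?_, ?_⟩
  · intro x hx
    rw [mem_sylow_smul_iff]
    have hxQ : (⟨x, hXD hx⟩ : ↥(G₁ ⊓ Cfsg.subgroupConjRight g G₂)) ∈ (Q : Subgroup _) :=
      hQ (Subgroup.mem_subgroupOf.mpr hx)
    rw [← hm, mem_sylow_smul_iff] at hxQ
    exact Subgroup.mem_subgroupOf.mp hxQ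
  · intro y hy
    rw [mem_sylow_smul_iff] at hy
    have h3 := hS''D hy
    have h4 := Subgroup.mul_mem _ (Subgroup.mul_mem _ m.2 h3) (Subgroup.inv_mem _ m.2)
    rwa [show (m : G) * ((m : G)⁻¹ * y * (m : G)) * (m : G)⁻¹ = y by group] at h4

end Cfsg.Agent.S2940
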