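import Mathlib
import Cfsg.Statements.S2957
import Cfsg.Agent.S2955
import Cfsg.Agent.S2939
import Cfsg.Agent.S2940
import Cfsg.Agent.Lib.Helper3.ZJ
import Cfsg.Agent.Lib.Helper3.Thompson

set_option autoImplicit false
open Cfsg

namespace Cfsg.Agent.S2957

/-- the link relation between Sylow subgroups of `G` for the family of normalizers `N_G(F)` -/
def Link {G : Type*} [Group G] (p : ℕ) (f : Subgroup G → Set (Subgroup G)) (D : Subgroup G)
    (P Q : Sylow p G) : Prop :=
  ∃ P₀ : Sylow p G, ∃ F ∈ f (P₀ : Subgroup G),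
    (P : Subgroup G) ≤ Subgroup.normalizer (F : Set G) ∧
    ∃ x ∈ Subgroup.normalizer (F : Set G), Q = x • P ∧
      D ≤ Subgroup.normalizer (F : Set G) ∧ D ≤ (Q : Subgroup G)

theorem link_mono {G : Type*} [Group G] {p : ℕ} {f : Subgroup G → Set (Subgroup G)}
    {D D' : Subgroup G} (h : D' ≤ D) {P Q : Sylow p G}
    (hL : Link p f D P Q) : Link p f D' P Q := by
  obtain ⟨P₀, F, hF, hP, x, hx, hQ, hDN, hDQ⟩ := hL
  exact ⟨P₀, F, hF, hP, x, hx, hQ, h.trans hDN, h.trans hDQ⟩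

theorem mem_map_conj {G : Type*} [Group G] (a z : G) (H : Subgroup G) :
    z ∈ H.map (MulAut.conj a).toMonoidHom ↔ a⁻¹ * z * a ∈ H := by
  rw [Subgroup.mem_map]
  constructor
  · rintro ⟨y, hy, rfl⟩
    have : a⁻¹ * ((MulAut.conj a).toMonoidHom y) * a = y := by
      show a⁻¹ * (a * y * a⁻¹) * a = y
      group
    rw [this]; exact hy
  · intro hz
    refine ⟨a⁻¹ * z * a, hz, ?_⟩
    show a * (a⁻¹ * z * a) * a⁻¹ = z
    group

theorem link_conj {G : Type*} [Group G] {p : ℕ} {f : Subgroup G → Set (Subgroup G)}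
    (hf : Cfsg.IsNormalizerFunctor p f) (a : G)
    {D : Subgroup G} {P Q : Sylow p G} (hL : Link p f D P Q) :
    Link p f (D.map (MulAut.conj a).toMonoidHom) (a • P) (a • Q) := by
  obtain ⟨P₀, F, hF, hP, x, hx, hQ, hDN, hDQ⟩ := hL
  have hN : Subgroup.normalizer ((F.map (MulAut.conj a).toMonoidHom : Subgroup G) : Set G) =
      (Subgroup.normalizer (F : Set G)).map (MulAut.conj a).toMonoidHom :=
    (Subgroup.map_equiv_normalizer_eq F (MulAut.conj a)).symm
  refine ⟨a • P₀, F.map (MulAut.conj a).toMonoidHom, ?_, ?_, a * x * a⁻¹, ?_, ?_, ?_, ?_⟩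
  · rw [Cfsg.Agent.Lib.Helper3.sylow_smul_coe, (hf _ P₀.isPGroup').2 a]
    exact Set.mem_image_of_mem _ hF
  · rw [hN, Cfsg.Agent.Lib.Helper3.sylow_smul_coe]
    exact Subgroup.map_mono hP
  · rw [hN, mem_map_conj]
    have : a⁻¹ * (a * x * a⁻¹) * a = x := by group
    rw [this]; exact hx
  · rw [hQ, ← mul_smul, ← mul_smul]
    congr 1
    group
  · rw [hN]; exact Subgroup.map_mono hDN
  · rw [Cfsg.Agent.Lib.Helper3.sylow_smul_coe]; exact Subgroup.map_mono hDQ

theorem exists_subtype {G : Type*} [Group G] [Finite G] {p : ℕ} [Fact p.Prime] (S : Sylow p G)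
    (M : Subgroup G) (hS : (S : Subgroup G) ≤ M) (R : Sylow p ↥M) :
    ∃ (P : Sylow p G) (h : (P : Subgroup G) ≤ M), R = P.subtype h := by
  obtain ⟨m, hm⟩ := MulAction.exists_smul_eq ↥M (S.subtype hS) R
  refine ⟨m • S, Sylow.smul_le hS m, ?_⟩
  rw [← hm]
  exact Sylow.smul_subtype hS m

theorem mem_sm_of_le {Γ : Type*} [Group Γ] {p : ℕ} (𝓕 : Set (Subgroup Γ)) (P : Sylow p Γ)
    (X : Subgroup Γ) (hX : X ∈ 𝓕) (hle : (P : Subgroup Γ) ≤ X) :
    X ∈ Cfsg.sylowMembers p 𝓕 (P : Subgroup Γ) := by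
  refine ⟨hX, P.subtype hle, ?_⟩
  rw [Sylow.coe_subtype, Subgroup.map_subgroupOf_eq_of_le hle, inf_eq_left.mpr hle]

theorem le_of_mem_sm {Γ : Type*} [Group Γ] [Finite Γ] {p : ℕ} [Fact p.Prime]
    (𝓕 : Set (Subgroup Γ)) (P P₀ : Sylow p Γ) (X : Subgroup Γ)
    (hX : X ∈ Cfsg.sylowMembers p 𝓕 (P : Subgroup Γ)) (h₀ : (P₀ : Subgroup Γ) ≤ X) :
    (P : Subgroup Γ) ≤ X := by
  have h1 := (Cfsg.Agent.S2955.sm_iff p X _).mp hX.2
  have h2 : Nat.card ↥(P₀ : Subgroup Γ) = p ^ (Nat.card ↥X).factorization p := by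
    have h3 := (P₀.subtype h₀).card_eq_multiplicity
    rw [← h3]
    exact (Nat.card_congr (Subgroup.subgroupOfEquivOfLe h₀).toEquiv).symm
  have h4 : Nat.card ↥(P₀ : Subgroup Γ) = Nat.card ↥(P : Subgroup Γ) := by
    rw [P₀.card_eq_multiplicity, P.card_eq_multiplicity]
  have h5 : (P : Subgroup Γ) ⊓ X = (P : Subgroup Γ) := by
    apply Subgroup.eq_of_le_of_card_ge inf_le_left
    rw [h1, ← h2, h4]
  rw [← h5]; exact inf_le_right

theorem chain_of_regular {G : Type*} [Group G] [Finite G] {p : ℕ} [Fact p.Prime]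
    (f : Subgroup G → Set (Subgroup G)) (hf : Cfsg.IsNormalizerFunctor p f) (S : Sylow p G)
    (M : Subgroup G) (hS : (S : Subgroup G) ≤ M) (hr : Cfsg.IsFunctorRegular p f M)
    (P Q : Sylow p G) (hP : (P : Subgroup G) ≤ M) (hQ : (Q : Subgroup G) ≤ M) (hne : P ≠ Q)
    (hint : (P : Subgroup G) ⊓ (Q : Subgroup G) ≠ ⊥) :
    Relation.ReflTransGen (Link p f ((P : Subgroup G) ⊓ (Q : Subgroup G))) P Q := by
  have hne' : P.subtype hP ≠ Q.subtype hQ := fun h => hne (Sylow.subtype_injective h)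
  have hDmem : ∀ d (hd : d ∈ (P : Subgroup G) ⊓ (Q : Subgroup G)),
      (⟨d, hP (Subgroup.mem_inf.mp hd).1⟩ : ↥M) ∈
      ((P.subtype hP : Sylow p ↥M) : Subgroup ↥M) ⊓ ((Q.subtype hQ : Sylow p ↥M) : Subgroup ↥M) := by
    intro d hd
    rw [Subgroup.mem_inf]
    refine ⟨?_, ?_⟩
    · rw [Sylow.coe_subtype, Subgroup.mem_subgroupOf]; exact (Subgroup.mem_inf.mp hd).1
    · rw [Sylow.coe_subtype, Subgroup.mem_subgroupOf]; exact (Subgroup.mem_inf.mp hd).2
  have hint' : ((P.subtype hP : Sylow p ↥M) : Subgroup ↥M) ⊓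
      ((Q.subtype hQ : Sylow p ↥M) : Subgroup ↥M) ≠ ⊥ := by
    intro hbot
    apply hint
    rw [eq_bot_iff]
    intro a ha
    have h1 := hDmem a ha
    rw [hbot, Subgroup.mem_bot] at h1
    rw [Subgroup.mem_bot]
    exact congrArg Subtype.val h1
  obtain ⟨n, c, X, x, hc0, hcn, hstep⟩ := hr (P.subtype hP) (Q.subtype hQ) hne' hint'
  have hall : ∀ i : Fin (n + 1), ∃ (R : Sylow p G) (h : (R : Subgroup G) ≤ M),
      c i = R.subtype h ∧
      Relation.ReflTransGen (Link p f ((P : Subgroup G) ⊓ (Q : Subgroup G))) P R := by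
    intro i
    induction i using Fin.induction with
    | zero => exact ⟨P, hP, hc0, Relation.ReflTransGen.refl⟩
    | succ i ih =>
      obtain ⟨R, hR, hcR, hchain⟩ := ih
      obtain ⟨R', hR', hcR'⟩ := exists_subtype S M hS (c i.succ)
      refine ⟨R', hR', hcR', Relation.ReflTransGen.tail hchain ?_⟩
      obtain ⟨hX1, hX2, hx, hconj, hD⟩ := hstep i
      obtain ⟨Xg, ⟨P₀₁, F, hF, hXg⟩, hXi⟩ := hX1.1
      obtain ⟨P₀, hP₀, hP₀₁⟩ := exists_subtype S M hS P₀₁
      have hP₀map : (P₀₁ : Subgroup ↥M).map M.subtype = (P₀ : Subgroup G) := by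
        rw [hP₀₁, Sylow.coe_subtype, Subgroup.map_subgroupOf_eq_of_le hP₀]
      rw [hP₀map] at hF
      have hFn := ((hf _ P₀.isPGroup').1 F hF).2
      have hP₀N : (P₀ : Subgroup G) ≤ Subgroup.normalizer (F : Set G) :=
        le_trans Subgroup.le_normalizer hFn
      have hXi' : X i = (M ⊓ Subgroup.normalizer (F : Set G)).subgroupOf M := by
        rw [← hXi, hXg]
      have hP₀X : (P₀₁ : Subgroup ↥M) ≤ X i := by
        rw [hXi', hP₀₁, Sylow.coe_subtype]
        intro y hy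
        rw [Subgroup.mem_subgroupOf] at hy ⊢
        exact ⟨y.2, hP₀N hy⟩
      have h1 : (c i.castSucc : Subgroup ↥M) ≤ X i := le_of_mem_sm _ _ P₀₁ _ hX1 hP₀X
      have hXmem : ∀ y : ↥M, y ∈ X i → (y : G) ∈ Subgroup.normalizer (F : Set G) := by
        intro y hy
        rw [hXi', Subgroup.mem_subgroupOf] at hy
        exact hy.2
      refine ⟨P₀, F, hF, ?_, (x i : G), hXmem _ hx, ?_, ?_, ?_⟩
      · intro y hy
        have : (⟨y, hR hy⟩ : ↥M) ∈ (c i.castSucc : Subgroup ↥M) := by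
          rw [hcR, Sylow.coe_subtype, Subgroup.mem_subgroupOf]; exact hy
        exact hXmem _ (h1 this)
      · have h3 := Cfsg.Agent.S2939.smul_of_scr _ _ _ hconj
        rw [hcR, hcR', Sylow.smul_subtype hR (x i)] at h3
        have h4 := Sylow.subtype_injective h3
        rw [h4]; rfl
      · intro d hd
        exact hXmem _ (Subgroup.mem_inf.mp (hD (hDmem d hd))).2
      · intro d hd
        have h5 := (Subgroup.mem_inf.mp (hD (hDmem d hd))).1
        rw [hcR', Sylow.coe_subtype, Subgroup.mem_subgroupOf] at h5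
        exact h5
  obtain ⟨R, hR, hcR, hchain⟩ := hall (Fin.last n)
  rw [hcn] at hcR
  have hQR : Q = R := Sylow.subtype_injective hcR
  rw [← hQR] at hchain
  exact hchain

theorem regular_top_of_chains {G : Type*} [Group G] [Finite G] {p : ℕ} [Fact p.Prime]
    (f : Subgroup G → Set (Subgroup G))
    (h : ∀ P Q : Sylow p G, P ≠ Q → (P : Subgroup G) ⊓ (Q : Subgroup G) ≠ ⊥ →
      Relation.ReflTransGen (Link p f ((P : Subgroup G) ⊓ (Q : Subgroup G))) P Q) :
    Cfsg.IsFunctorRegular p f ⊤ := by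
  intro S₁ T₁ hne hint
  obtain ⟨S⟩ := (inferInstance : Nonempty (Sylow p G))
  obtain ⟨P, hP, hS₁⟩ := exists_subtype S ⊤ le_top S₁
  obtain ⟨Q, hQ, hT₁⟩ := exists_subtype S ⊤ le_top T₁
  have hPQ : P ≠ Q := by
    intro h; apply hne; rw [hS₁, hT₁]; subst h; rfl
  have hDmem : ∀ y : ↥(⊤ : Subgroup G), y ∈ (S₁ : Subgroup ↥(⊤ : Subgroup G)) ⊓
      (T₁ : Subgroup ↥(⊤ : Subgroup G)) → (y : G) ∈ (P : Subgroup G) ⊓ (Q : Subgroup G) := by
    intro y hy
    rw [hS₁, hT₁, Subgroup.mem_inf, Sylow.coe_subtype, Sylow.coe_subtype,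
      Subgroup.mem_subgroupOf, Subgroup.mem_subgroupOf] at hy
    exact Subgroup.mem_inf.mpr hy
  have hint' : (P : Subgroup G) ⊓ (Q : Subgroup G) ≠ ⊥ := by
    intro hbot
    apply hint
    rw [eq_bot_iff]
    intro a ha
    have h1 := hDmem a ha
    rw [hbot, Subgroup.mem_bot] at h1
    rw [Subgroup.mem_bot]
    exact Subtype.ext h1
  have hchain := h P Q hPQ hint'
  have key : ∀ R : Sylow p G,
      Relation.ReflTransGen (Link p f ((P : Subgroup G) ⊓ (Q : Subgroup G))) P R →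
      ∃ (n : ℕ) (c : Fin (n + 1) → Sylow p ↥(⊤ : Subgroup G))
        (X : Fin n → Subgroup ↥(⊤ : Subgroup G)) (x : Fin n → ↥(⊤ : Subgroup G)),
        c 0 = S₁ ∧ c (Fin.last n) = R.subtype le_top ∧
        ∀ i : Fin n,
          X i ∈ Cfsg.sylowMembers p ((fun X : Subgroup G => X.subgroupOf (⊤ : Subgroup G)) ''
            Cfsg.functorFamily p f ⊤) (c i.castSucc : Subgroup ↥(⊤ : Subgroup G)) ∧
          X i ∈ Cfsg.sylowMembers p ((fun X : Subgroup G => X.subgroupOf (⊤ : Subgroup G)) ''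
            Cfsg.functorFamily p f ⊤) (c i.succ : Subgroup ↥(⊤ : Subgroup G)) ∧
          x i ∈ X i ∧ Cfsg.subgroupConjRight (x i) (c i.succ : Subgroup ↥(⊤ : Subgroup G)) =
            (c i.castSucc : Subgroup ↥(⊤ : Subgroup G)) ∧
          (S₁ : Subgroup ↥(⊤ : Subgroup G)) ⊓ (T₁ : Subgroup ↥(⊤ : Subgroup G)) ≤
            (c i.succ : Subgroup ↥(⊤ : Subgroup G)) ⊓ X i := by
    intro R hR
    induction hR with
    | refl => exact ⟨0, fun _ => S₁, Fin.elim0, Fin.elim0, rfl, hS₁, fun i => i.elim0⟩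
    | @tail b c' hab hbc ih =>
      obtain ⟨n, c, X, x, h0, hn, hstep⟩ := ih
      obtain ⟨P₀, F, hF, hbN, x₀, hx₀, hc', hDN, hDc'⟩ := hbc
      have hc'N : (c' : Subgroup G) ≤ Subgroup.normalizer (F : Set G) := by
        intro y hy
        rw [hc', Cfsg.Agent.Lib.Helper3.mem_sylow_smul_iff] at hy
        have h1 := mul_mem (mul_mem hx₀ (hbN hy)) (inv_mem hx₀)
        have e : x₀ * (x₀⁻¹ * y * x₀) * x₀⁻¹ = y := by group
        rw [e] at h1; exact h1
      obtain ⟨Xn, hXn⟩ : ∃ Xn : Subgroup ↥(⊤ : Subgroup G),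
          Xn = ((⊤ : Subgroup G) ⊓ Subgroup.normalizer (F : Set G)).subgroupOf ⊤ := ⟨_, rfl⟩
      have hXnmem : ∀ y : ↥(⊤ : Subgroup G), y ∈ Xn ↔
          (y : G) ∈ Subgroup.normalizer (F : Set G) := by
        intro y
        rw [hXn, Subgroup.mem_subgroupOf, Subgroup.mem_inf]
        exact ⟨fun h => h.2, fun h => ⟨Subgroup.mem_top _, h⟩⟩
      have hXn𝓕 : Xn ∈ (fun X : Subgroup G => X.subgroupOf (⊤ : Subgroup G)) ''
          Cfsg.functorFamily p f ⊤ := by
        refine ⟨(⊤ : Subgroup G) ⊓ Subgroup.normalizer (F : Set G),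
          ⟨P₀.subtype le_top, F, ?_, rfl⟩, hXn.symm⟩
        rw [Sylow.coe_subtype, Subgroup.map_subgroupOf_eq_of_le le_top]
        exact hF
      refine ⟨n + 1, Fin.snoc (α := fun _ => Sylow p ↥(⊤ : Subgroup G)) c (c'.subtype le_top),
        Fin.snoc (α := fun _ => Subgroup ↥(⊤ : Subgroup G)) X Xn,
        Fin.snoc (α := fun _ => ↥(⊤ : Subgroup G)) x ⟨x₀, Subgroup.mem_top _⟩, ?_, ?_, ?_⟩
      · have : (0 : Fin (n + 1 + 1)) = (0 : Fin (n + 1)).castSucc := rfl
        rw [this, Fin.snoc_castSucc]; exact h0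
      · rw [Fin.snoc_last]
      · intro i
        refine Fin.lastCases ?_ ?_ i
        · have e1 : (Fin.last n).castSucc = ((Fin.last n : Fin (n + 1))).castSucc := rfl
          rw [Fin.succ_last, Fin.snoc_last, Fin.snoc_last, Fin.snoc_last, Fin.snoc_castSucc, hn]
          refine ⟨?_, ?_, ?_, ?_, ?_⟩
          · apply mem_sm_of_le _ _ _ hXn𝓕
            intro y hy
            rw [Sylow.coe_subtype, Subgroup.mem_subgroupOf] at hy
            exact (hXnmem y).mpr (hbN hy)
          · apply mem_sm_of_le _ _ _ hXn𝓕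
            intro y hy
            rw [Sylow.coe_subtype, Subgroup.mem_subgroupOf] at hy
            exact (hXnmem y).mpr (hc'N hy)
          · exact (hXnmem _).mpr hx₀
          · ext y
            rw [Cfsg.Agent.S2955.mem_scr, Sylow.coe_subtype, Sylow.coe_subtype,
              Subgroup.mem_subgroupOf, Subgroup.mem_subgroupOf, hc',
              Cfsg.Agent.Lib.Helper3.mem_sylow_smul_iff]
            have e : x₀⁻¹ * ((⟨x₀, Subgroup.mem_top _⟩ * y * (⟨x₀, Subgroup.mem_top _⟩ :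
                ↥(⊤ : Subgroup G))⁻¹ : ↥(⊤ : Subgroup G)) : G) * x₀ = (y : G) := by
              show x₀⁻¹ * (x₀ * (y : G) * x₀⁻¹) * x₀ = (y : G)
              group
            rw [e]
          · intro y hy
            have h1 := hDmem y hy
            rw [Subgroup.mem_inf]
            refine ⟨?_, ?_⟩
            · rw [Sylow.coe_subtype, Subgroup.mem_subgroupOf]; exact hDc' h1
            · exact (hXnmem y).mpr (hDN h1)
        · intro j
          have e2 : (j.castSucc : Fin (n + 1)).succ = (j.succ : Fin (n + 1)).castSucc := rfl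
          rw [e2, Fin.snoc_castSucc, Fin.snoc_castSucc, Fin.snoc_castSucc, Fin.snoc_castSucc]
          exact hstep j
  obtain ⟨n, c, X, x, h0, hn, hstep⟩ := key Q hchain
  exact ⟨n, c, X, x, h0, by rw [hn, hT₁], hstep⟩

/-- Let p be a prime dividing the order of the finite group G, f an equivariant assignment of a set of subgroups f(P) of P to every p-subgroup P, each normalized by N_G(P), and S a Sylow p-subgroup. If G = G₁G₂ for subgroups G₁, G₂ both containing S and both regular for f (in each Gᵢ, the family of normalizers in Gᵢ of the members of f(P), P a Sylow p-subgroup of Gᵢ, controls Sylow p-intersections), then G itself is regular for f. -/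
theorem result {G : Type*} [Group G] [Finite G] (p : ℕ) [Fact p.Prime] (hdiv : p ∣ Nat.card G)
    (f : Subgroup G → Set (Subgroup G)) (hf : Cfsg.IsNormalizerFunctor p f) (S : Sylow p G)
    (G₁ G₂ : Subgroup G) (h₁ : (S : Subgroup G) ≤ G₁) (h₂ : (S : Subgroup G) ≤ G₂)
    (hprod : ∀ g : G, ∃ g₁ ∈ G₁, ∃ g₂ ∈ G₂, g = g₁ * g₂)
    (hr₁ : Cfsg.IsFunctorRegular p f G₁) (hr₂ : Cfsg.IsFunctorRegular p f G₂) :
    Cfsg.IsFunctorRegular p f ⊤ := by
  apply regular_top_of_chains f
  intro P Q hPQ hint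
  obtain ⟨a, ha⟩ := MulAction.exists_smul_eq G S P
  obtain ⟨b, hb⟩ := MulAction.exists_smul_eq G S Q
  obtain ⟨g, hg⟩ : ∃ g : G, g = b⁻¹ * a := ⟨_, rfl⟩
  obtain ⟨T, hT⟩ : ∃ T : Sylow p G, T = g⁻¹ • S := ⟨_, rfl⟩
  have hQT : Q = a • T := by
    rw [hT, hg, ← hb, ← mul_smul]; congr 1; group
  have hST : S ≠ T := by
    intro h; apply hPQ; rw [hQT, ← h, ha]
  have hconjD : ((S : Subgroup G) ⊓ (T : Subgroup G)).map (MulAut.conj a).toMonoidHom =
      (P : Subgroup G) ⊓ (Q : Subgroup G) := by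
    rw [Subgroup.map_inf _ _ _ (MulAut.conj a).injective,
      ← Cfsg.Agent.Lib.Helper3.sylow_smul_coe, ← Cfsg.Agent.Lib.Helper3.sylow_smul_coe, ha, ← hQT]
  have hintST : (S : Subgroup G) ⊓ (T : Subgroup G) ≠ ⊥ := by
    intro h; apply hint; rw [← hconjD, h, Subgroup.map_bot]
  have main : Relation.ReflTransGen (Link p f ((S : Subgroup G) ⊓ (T : Subgroup G))) S T := by
    obtain ⟨U, hU1, hU2⟩ := Cfsg.Agent.S2940.result S G₁ G₂ h₁ h₂ hprod g
    have hTscr : Cfsg.subgroupConjRight g (S : Subgroup G) = (T : Subgroup G) := by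
      rw [hT, Cfsg.Agent.Lib.Helper3.sylow_smul_coe]; rfl
    rw [hTscr] at hU1
    have hUG₁ : (U : Subgroup G) ≤ G₁ := hU2.trans inf_le_left
    have hgUG₂ : ((g • U : Sylow p G) : Subgroup G) ≤ G₂ := by
      intro y hy
      rw [Cfsg.Agent.Lib.Helper3.mem_sylow_smul_iff] at hy
      have h3 := (Subgroup.mem_inf.mp (hU2 hy)).2
      rw [Cfsg.Agent.S2955.mem_scr] at h3
      have e : g * (g⁻¹ * y * g) * g⁻¹ = y := by group
      rw [e] at h3; exact h3
    have hTmem : ∀ d : G, d ∈ (T : Subgroup G) ↔ g * d * g⁻¹ ∈ (S : Subgroup G) := by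
      intro d
      rw [hT, Cfsg.Agent.Lib.Helper3.mem_sylow_smul_iff, inv_inv]
    have c1 : Relation.ReflTransGen (Link p f ((S : Subgroup G) ⊓ (T : Subgroup G))) S U := by
      by_cases hSU : S = U
      · rw [← hSU]
      · have hi : (S : Subgroup G) ⊓ (U : Subgroup G) ≠ ⊥ := by
          intro hbot
          apply hintST
          rw [eq_bot_iff, ← hbot]
          exact le_inf inf_le_left hU1
        have h3 := chain_of_regular f hf S G₁ h₁ hr₁ S U h₁ hUG₁ hSU hi
        exact Relation.ReflTransGen.mono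
          (fun _ _ hL => link_mono (le_inf inf_le_left hU1) hL) _ _ h3
    have c2 : Relation.ReflTransGen (Link p f ((S : Subgroup G) ⊓ (T : Subgroup G))) U T := by
      by_cases hUS : g • U = S
      · have : U = T := by rw [hT, ← hUS, inv_smul_smul]
        rw [this]
      · have hDg : ∀ d ∈ (S : Subgroup G) ⊓ (T : Subgroup G),
            g * d * g⁻¹ ∈ ((g • U : Sylow p G) : Subgroup G) ⊓ (S : Subgroup G) := by
          intro d hd
          rw [Subgroup.mem_inf]
          refine ⟨?_, (hTmem d).mp (Subgroup.mem_inf.mp hd).2⟩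
          rw [Cfsg.Agent.Lib.Helper3.mem_sylow_smul_iff]
          have e : g⁻¹ * (g * d * g⁻¹) * g = d := by group
          rw [e]; exact hU1 hd
        have hi : ((g • U : Sylow p G) : Subgroup G) ⊓ (S : Subgroup G) ≠ ⊥ := by
          intro hbot
          apply hintST
          rw [eq_bot_iff]
          intro d hd
          have h1 := hDg d hd
          rw [hbot, Subgroup.mem_bot] at h1
          rw [Subgroup.mem_bot]
          have e : d = g⁻¹ * (g * d * g⁻¹) * g := by group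
          rw [e, h1]; group
        have h3 := chain_of_regular f hf S G₂ h₂ hr₂ (g • U) S hgUG₂ h₂ hUS hi
        have h4 : Relation.ReflTransGen (Link p f
            ((((g • U : Sylow p G) : Subgroup G) ⊓ (S : Subgroup G)).map
              (MulAut.conj g⁻¹).toMonoidHom)) (g⁻¹ • (g • U)) (g⁻¹ • S) :=
          Relation.ReflTransGen.lift (fun R : Sylow p G => g⁻¹ • R)
            (fun _ _ hL => link_conj hf g⁻¹ hL) _ _ h3
        rw [inv_smul_smul, ← hT] at h4
        refine Relation.ReflTransGen.mono (fun _ _ hL => link_mono ?_ hL) _ _ h4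
        intro d hd
        rw [mem_map_conj, inv_inv]
        exact hDg d hd
    exact c1.trans c2
  have h5 : Relation.ReflTransGen (Link p f
      (((S : Subgroup G) ⊓ (T : Subgroup G)).map (MulAut.conj a).toMonoidHom)) (a • S) (a • T) :=
    Relation.ReflTransGen.lift (fun R : Sylow p G => a • R)
      (fun _ _ hL => link_conj hf a hL) _ _ main
  rw [ha, ← hQT, hconjD] at h5
  exact h5

end Cfsg.Agent.S2957
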