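import Mathlib
import Cfsg.Statements.S2998
import Cfsg.Agent.S1900
import Cfsg.Agent.Lib.Helper3.ZJ
import Cfsg.Agent.Lib.Helper7.Coprime

set_option autoImplicit false
open Cfsg

namespace Cfsg.Agent.S2998

theorem conj_into {G : Type*} [Group G] [Finite G] {p : ℕ} [Fact p.Prime] (P : Sylow p G)
    (B : Subgroup G) (hPB : (P : Subgroup G) ≤ B) (H : Subgroup G) (hH : IsPGroup p H)
    (hHB : H ≤ B) : ∃ b ∈ B, ∀ h ∈ H, b⁻¹ * h * b ∈ (P : Subgroup G) := by
  have hH' : IsPGroup p (H.subgroupOf B) := hH.comap_subtype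
  obtain ⟨Q', hQ'⟩ := hH'.exists_le_sylow
  obtain ⟨b, hb⟩ := MulAction.exists_smul_eq ↥B (P.subtype hPB) Q'
  refine ⟨b, b.2, ?_⟩
  intro h hh
  have h2 : (⟨h, hHB hh⟩ : ↥B) ∈ (Q' : Subgroup _) :=
    hQ' (by rw [Subgroup.mem_subgroupOf]; exact hh)
  rw [← hb, Cfsg.Agent.Lib.Helper3.mem_sylow_smul_iff, Sylow.coe_subtype,
      Subgroup.mem_subgroupOf] at h2
  simpa using h2

/-- Let G be a finite group, p a prime, P a Sylow p-subgroup of G and x ∈ P an element such that N_G(R) ≤ C_G(x) for every nontrivial subgroup R of P. Then P ≤ C_G(x); every G-conjugate of x lying in P equals x (so g ∈ C_G(x) whenever g x g⁻¹ ∈ P); and for every normal subgroup N of G, the image of x in G ⧸ N has the same property with respect to the image of P: the normalizer of every nontrivial subgroup of the image of P centralizes the image of x. -/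
theorem result {G : Type*} [Group G] [Finite G] {p : ℕ} [Fact p.Prime] (P : Sylow p G) (x : G) (hxP : x ∈ (P : Subgroup G)) (hlc : ∀ R : Subgroup G, R ≤ (P : Subgroup G) → R ≠ ⊥ → Subgroup.normalizer (R : Set G) ≤ Subgroup.centralizer ({x} : Set G)) : (P : Subgroup G) ≤ Subgroup.centralizer ({x} : Set G) ∧ (∀ g : G, g * x * g⁻¹ ∈ (P : Subgroup G) → g * x * g⁻¹ = x) ∧ ∀ (N : Subgroup G) [N.Normal], ∀ R : Subgroup (G ⧸ N), R ≤ (P : Subgroup G).map (QuotientGroup.mk' N) → R ≠ ⊥ → Subgroup.normalizer (R : Set (G ⧸ N)) ≤ Subgroup.centralizer ({(QuotientGroup.mk x : G ⧸ N)} : Set (G ⧸ N)) := by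
  classical
  have hcen : ∀ c : G, c ∈ Subgroup.centralizer ({x} : Set G) ↔ x * c = c * x := by
    intro c
    rw [Subgroup.mem_centralizer_iff]
    constructor
    · intro h; exact h x rfl
    · intro h y hy; rw [Set.mem_singleton_iff] at hy; rw [hy]; exact h
  have h1 : (P : Subgroup G) ≤ Subgroup.centralizer ({x} : Set G) := by
    by_cases hP : (P : Subgroup G) = ⊥
    · rw [hP]; exact bot_le
    · exact le_trans Subgroup.le_normalizer (hlc _ le_rfl hP)
  have h2 : ∀ g : G, g * x * g⁻¹ ∈ (P : Subgroup G) →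
      g ∈ Subgroup.centralizer ({x} : Set G) := by
    intro g hg
    by_cases hx1 : x = 1
    · rw [hcen, hx1]; simp
    have hP : (P : Subgroup G) ≠ ⊥ := by
      intro h; rw [h, Subgroup.mem_bot] at hxP; exact hx1 hxP
    have hy1 : g * x * g⁻¹ ≠ 1 := by
      intro h
      apply hx1
      have : x = g⁻¹ * (g * x * g⁻¹) * g := by group
      rw [this, h]; group
    have hzy : Subgroup.zpowers (g * x * g⁻¹) ≤ (P : Subgroup G) := by
      rw [Subgroup.zpowers_le]; exact hg
    have hzy1 : Subgroup.zpowers (g * x * g⁻¹) ≠ ⊥ := by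
      rw [Ne, Subgroup.zpowers_eq_bot]; exact hy1
    have hCy : ∀ c : G, c * (g * x * g⁻¹) = (g * x * g⁻¹) * c →
        c ∈ Subgroup.centralizer ({x} : Set G) := by
      intro c hc
      apply hlc _ hzy hzy1
      apply Cfsg.Agent.S1900.mem_normalizer_of_conj_mem
      intro h hh
      obtain ⟨k, rfl⟩ := Subgroup.mem_zpowers_iff.mp hh
      have : c * (g * x * g⁻¹) ^ k * c⁻¹ = (g * x * g⁻¹) ^ k := by
        have hcomm : Commute c ((g * x * g⁻¹) ^ k) := (Commute.zpow_right hc k)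
        rw [hcomm.eq]; group
      rw [this]; exact hh
    have hgN : g ∈ Subgroup.normalizer
        ((Subgroup.centralizer ({x} : Set G) : Subgroup G) : Set G) := by
      apply Cfsg.Agent.S1900.mem_normalizer_of_conj_mem
      intro h hh
      apply hCy
      rw [hcen] at hh
      calc g * h * g⁻¹ * (g * x * g⁻¹) = g * (h * x) * g⁻¹ := by group
        _ = g * (x * h) * g⁻¹ := by rw [hh]
        _ = g * x * g⁻¹ * (g * h * g⁻¹) := by group
    have hgP : ((g • P : Sylow p G) : Subgroup G) ≤ Subgroup.centralizer ({x} : Set G) := by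
      intro z hz
      rw [Cfsg.Agent.Lib.Helper3.mem_sylow_smul_iff] at hz
      have h3 := h1 hz
      have h4 := (Subgroup.mem_normalizer_iff.mp hgN (g⁻¹ * z * g)).mp h3
      have : g * (g⁻¹ * z * g) * g⁻¹ = z := by group
      rw [this] at h4; exact h4
    obtain ⟨b, hb, hbP⟩ := conj_into P _ h1 _ (g • P).isPGroup' hgP
    have hbg : b⁻¹ * g ∈ Subgroup.normalizer ((P : Subgroup G) : Set G) := by
      apply Cfsg.Agent.S1900.mem_normalizer_of_conj_mem
      intro h hh
      have h5 : g * h * g⁻¹ ∈ ((g • P : Sylow p G) : Subgroup G) := by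
        rw [Cfsg.Agent.Lib.Helper3.mem_sylow_smul_iff]
        have : g⁻¹ * (g * h * g⁻¹) * g = h := by group
        rw [this]; exact hh
      have h6 := hbP _ h5
      have : b⁻¹ * g * h * (b⁻¹ * g)⁻¹ = b⁻¹ * (g * h * g⁻¹) * b := by group
      rw [this]; exact h6
    have h7 := hlc _ le_rfl hP hbg
    have : g = b * (b⁻¹ * g) := by group
    rw [this]; exact mul_mem hb h7
  refine ⟨h1, fun g hg => ?_, ?_⟩
  · have := (hcen g).mp (h2 g hg)
    rw [← this]; group
  · intro N _ R hR hR1 gb hgb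
    obtain ⟨g, rfl⟩ := QuotientGroup.mk'_surjective N gb
    obtain ⟨R₁, hR₁⟩ : ∃ R₁ : Subgroup G,
        R₁ = (P : Subgroup G) ⊓ R.comap (QuotientGroup.mk' N) := ⟨_, rfl⟩
    have hR₁P : R₁ ≤ (P : Subgroup G) := by rw [hR₁]; exact inf_le_left
    have hR₁1 : R₁ ≠ ⊥ := by
      intro h
      apply hR1
      rw [eq_bot_iff]
      intro r hr
      obtain ⟨s, hs, rfl⟩ := hR hr
      have : s ∈ R₁ := by rw [hR₁]; exact ⟨hs, hr⟩
      rw [h, Subgroup.mem_bot] at this
      rw [this, map_one]; exact Subgroup.mem_bot.mpr rfl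
    have hPB : (P : Subgroup G) ≤ N ⊔ (P : Subgroup G) := le_sup_right
    have hH : IsPGroup p (R₁.map (MulAut.conj g).toMonoidHom) :=
      (P.isPGroup'.to_le hR₁P).map _
    have hconjR : ∀ y ∈ R₁, QuotientGroup.mk' N (g * y * g⁻¹) ∈ R := by
      intro y hy
      rw [hR₁] at hy
      have hyR : QuotientGroup.mk' N y ∈ R := hy.2
      have := (Subgroup.mem_normalizer_iff.mp hgb _).mp hyR
      simpa using this
    have hHB : R₁.map (MulAut.conj g).toMonoidHom ≤ N ⊔ (P : Subgroup G) := by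
      rintro _ ⟨y, hy, rfl⟩
      obtain ⟨s, hs, hsy⟩ := hR (hconjR y hy)
      have h3 : s⁻¹ * (g * y * g⁻¹) ∈ N := QuotientGroup.eq.mp hsy
      have : (MulAut.conj g).toMonoidHom y = s * (s⁻¹ * (g * y * g⁻¹)) := by
        simp [MulAut.conj_apply]
      rw [this]
      exact mul_mem (Subgroup.mem_sup_right hs) (Subgroup.mem_sup_left h3)
    obtain ⟨b, hb, hbP⟩ := conj_into P _ hPB _ hH hHB
    have hnorm : (P : Subgroup G) ≤ Subgroup.normalizer (N : Set G) := by
      rw [Subgroup.normalizer_eq_top_iff.mpr inferInstance]; exact le_top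
    obtain ⟨n, hn, s, hs, hbns⟩ := Cfsg.Agent.Lib.Helper7.exists_mul_of_mem_sup hnorm hb
    have hn1 : QuotientGroup.mk' N n = 1 := (QuotientGroup.eq_one_iff n).mpr hn
    have hng : n⁻¹ * g ∈ Subgroup.normalizer (R₁ : Set G) := by
      apply Cfsg.Agent.S1900.mem_normalizer_of_conj_mem
      intro y hy
      have h5 := hbP _ (Subgroup.mem_map_of_mem _ hy)
      have h5' : b⁻¹ * (g * y * g⁻¹) * b ∈ (P : Subgroup G) := h5
      have h6 : n⁻¹ * g * y * (n⁻¹ * g)⁻¹ ∈ (P : Subgroup G) := by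
        have : n⁻¹ * g * y * (n⁻¹ * g)⁻¹ = s * (b⁻¹ * (g * y * g⁻¹) * b) * s⁻¹ := by
          rw [hbns]; group
        rw [this]
        exact mul_mem (mul_mem hs h5') (inv_mem hs)
      rw [hR₁]
      refine ⟨h6, ?_⟩
      show QuotientGroup.mk' N (n⁻¹ * g * y * (n⁻¹ * g)⁻¹) ∈ R
      have h7 : QuotientGroup.mk' N (n⁻¹ * g * y * (n⁻¹ * g)⁻¹) =
          QuotientGroup.mk' N (g * y * g⁻¹) := by
        simp only [map_mul, map_inv, mul_inv_rev, hn1, inv_one, one_mul, mul_one, inv_inv]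
      rw [h7]; exact hconjR y hy
    have h8 := (hcen _).mp (hlc _ hR₁P hR₁1 hng)
    rw [Subgroup.mem_centralizer_iff]
    intro z hz
    rw [Set.mem_singleton_iff] at hz
    rw [hz]
    have h9 := congrArg (QuotientGroup.mk' N) h8
    simp only [map_mul, map_inv, hn1, inv_one, one_mul] at h9
    exact h9

end Cfsg.Agent.S2998
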