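import Mathlib
import Cfsg.Statements.S2839
import Cfsg.Agent.S2998
import Cfsg.Agent.S2957
import Cfsg.Agent.Lib.Helper3.WCChar
import Cfsg.Agent.Lib.Helper6.PResidual
import Cfsg.Agent.Lib.Helper7.Coprime

set_option autoImplicit false
open Cfsg

namespace Cfsg.Agent.S2839

open Cfsg.Agent.Lib.Helper3

section
variable {H : Type*} [Group H] [Finite H] {p : ℕ} [Fact p.Prime]

theorem setup (Q : Subgroup H) (hQp : IsPGroup p ↥Q) (K : Subgroup H) (hQK : Q ≤ K) :
    ∃ T : Sylow p ↥K, Q.subgroupOf K ≤ (T : Subgroup ↥K) ∧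
      IsPGroup p ((T : Subgroup ↥K).map K.subtype) ∧ Q ≤ (T : Subgroup ↥K).map K.subtype := by
  have hp' : IsPGroup p (Q.subgroupOf K) := hQp.comap_subtype
  obtain ⟨T, hT⟩ := hp'.exists_le_sylow
  refine ⟨T, hT, T.isPGroup'.map _, ?_⟩
  intro q hq
  exact ⟨⟨q, hQK hq⟩, hT (by rw [Subgroup.mem_subgroupOf]; exact hq), rfl⟩

theorem part1 (Q : Subgroup H) (hwc : IsWeaklyClosedSubgroup p Q)
    (K : Subgroup H) (hQK : Q ≤ K) (T : Sylow p ↥K) (hT : Q.subgroupOf K ≤ (T : Subgroup ↥K))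
    (hTp : IsPGroup p ((T : Subgroup ↥K).map K.subtype))
    (hQT : Q ≤ (T : Subgroup ↥K).map K.subtype) :
    IsWeaklyClosedSubgroup p (Q.subgroupOf K) := by
  refine ⟨T, hT, ?_⟩
  intro k hk
  have h1 : Q.map (MulAut.conj (k : H)).toMonoidHom = Q := by
    apply wc_conj_eq hwc _ hTp hQT
    rintro _ ⟨q, hq, rfl⟩
    refine ⟨k * ⟨q, hQK hq⟩ * k⁻¹, ?_, rfl⟩
    apply hk
    exact ⟨⟨q, hQK hq⟩, by rw [SetLike.mem_coe, Subgroup.mem_subgroupOf]; exact hq, rfl⟩
  ext x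
  rw [Cfsg.Agent.S2957.mem_map_conj, Subgroup.mem_subgroupOf, Subgroup.mem_subgroupOf]
  have h2 := Cfsg.Agent.S2957.mem_map_conj (k : H) (x : H) Q
  rw [h1] at h2
  exact h2.symm

theorem part2 (Q : Subgroup H) (hQp : IsPGroup p ↥Q) (hwc : IsWeaklyClosedSubgroup p Q)
    (K : Subgroup H) (T : Sylow p ↥K)
    (hTp : IsPGroup p ((T : Subgroup ↥K).map K.subtype))
    (hQT : Q ≤ (T : Subgroup ↥K).map K.subtype) (g : H)
    (hg : Q.map (MulAut.conj g).toMonoidHom ≤ K) :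
    ∃ k ∈ K, Q.map (MulAut.conj g).toMonoidHom = Q.map (MulAut.conj k).toMonoidHom := by
  have hp' : IsPGroup p ((Q.map (MulAut.conj g).toMonoidHom).subgroupOf K) :=
    (hQp.map _).comap_subtype
  obtain ⟨T', hT'⟩ := hp'.exists_le_sylow
  obtain ⟨k, hk⟩ := MulAction.exists_smul_eq ↥K T' T
  have h1 : Q.map (MulAut.conj ((k : H) * g)).toMonoidHom = Q := by
    apply wc_conj_eq hwc _ hTp hQT
    rintro _ ⟨q, hq, rfl⟩
    have h2 : g * q * g⁻¹ ∈ K := hg ⟨q, hq, rfl⟩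
    have h3 : (⟨g * q * g⁻¹, h2⟩ : ↥K) ∈ (T' : Subgroup ↥K) :=
      hT' (by rw [Subgroup.mem_subgroupOf]; exact ⟨q, hq, rfl⟩)
    have h4 : k * ⟨g * q * g⁻¹, h2⟩ * k⁻¹ ∈ ((k • T' : Sylow p ↥K) : Subgroup ↥K) := by
      rw [mem_sylow_smul_iff]
      have : k⁻¹ * (k * ⟨g * q * g⁻¹, h2⟩ * k⁻¹) * k = ⟨g * q * g⁻¹, h2⟩ := by group
      rw [this]; exact h3
    rw [hk] at h4
    refine ⟨_, h4, ?_⟩
    show (k : H) * (g * q * g⁻¹) * (k : H)⁻¹ = (k : H) * g * q * ((k : H) * g)⁻¹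
    group
  refine ⟨(k : H)⁻¹, K.inv_mem k.2, ?_⟩
  ext x
  rw [Cfsg.Agent.S2957.mem_map_conj, Cfsg.Agent.S2957.mem_map_conj]
  have h2 := Cfsg.Agent.S2957.mem_map_conj ((k : H) * g) ((k : H) * x * (k : H)⁻¹) Q
  rw [h1] at h2
  have e1 : ((k : H) * g)⁻¹ * ((k : H) * x * (k : H)⁻¹) * ((k : H) * g) = g⁻¹ * x * g := by group
  have e2 : ((k : H)⁻¹)⁻¹ * x * (k : H)⁻¹ = (k : H) * x * (k : H)⁻¹ := by group
  rw [e1] at h2
  rw [e2]
  exact h2.symm

theorem part3 (Q : Subgroup H) (hwc : IsWeaklyClosedSubgroup p Q)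
    (K : Subgroup H) (T : Sylow p ↥K)
    (hTp : IsPGroup p ((T : Subgroup ↥K).map K.subtype))
    (hQT : Q ≤ (T : Subgroup ↥K).map K.subtype) :
    IsParabolic p ((Subgroup.normalizer (Q : Set H)).subgroupOf K) := by
  refine ⟨T, ?_⟩
  intro t ht
  rw [Subgroup.mem_subgroupOf]
  exact wc_le_normalizer hwc _ hTp hQT ⟨t, ht, rfl⟩

theorem part4 (Q : Subgroup H) (hQp : IsPGroup p ↥Q) (hwc : IsWeaklyClosedSubgroup p Q)
    (N' : Subgroup H) [N'.Normal] :
    (N' ⊓ Subgroup.normalizer (Q : Set H)) ⊔ (pResidual p ↥N').map N'.subtype = N' := by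
  apply le_antisymm
  · exact sup_le inf_le_left (Subgroup.map_subtype_le _)
  · intro n hn
    obtain ⟨T, hT, hTp, hQT⟩ := setup Q hQp (Q ⊔ N') le_sup_left
    have key : ∀ y : ↥(Q ⊔ N'), (orderOf y).Coprime p →
        (y : H) ∈ (pResidual p ↥N').map N'.subtype := by
      intro y hy
      have hyN : (y : H) ∈ N' := by
        have h1 : QuotientGroup.mk' N' (y : H) ∈ Q.map (QuotientGroup.mk' N') := by
          have h2 : QuotientGroup.mk' N' (y : H) ∈ (Q ⊔ N').map (QuotientGroup.mk' N') :=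
            ⟨y, y.2, rfl⟩
          rw [Subgroup.map_sup, QuotientGroup.map_mk'_self, sup_bot_eq] at h2
          exact h2
        obtain ⟨k, hk⟩ := (hQp.map (QuotientGroup.mk' N')) ⟨_, h1⟩
        have hk' : (QuotientGroup.mk' N' (y : H)) ^ p ^ k = 1 := congrArg Subtype.val hk
        have h3 : orderOf (QuotientGroup.mk' N' (y : H)) ∣ p ^ k := orderOf_dvd_of_pow_eq_one hk'
        have h4 : orderOf (QuotientGroup.mk' N' (y : H)) ∣ orderOf y := by
          rw [← Subgroup.orderOf_coe]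
          exact orderOf_map_dvd _ _
        have h5 : orderOf (QuotientGroup.mk' N' (y : H)) = 1 := by
          have hc : (orderOf y).Coprime (p ^ k) := Nat.Coprime.pow_right k hy
          have h6 := Nat.dvd_gcd h4 h3
          rw [hc.gcd_eq_one] at h6
          exact Nat.dvd_one.mp h6
        rw [orderOf_eq_one_iff] at h5
        exact (QuotientGroup.eq_one_iff _).mp h5
      refine ⟨⟨y, hyN⟩, Subgroup.subset_closure ?_, rfl⟩
      show (orderOf (⟨(y : H), hyN⟩ : ↥N')).Coprime p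
      rw [Subgroup.orderOf_mk, Subgroup.orderOf_coe]
      exact hy
    have hle : pResidual p ↥(Q ⊔ N') ≤
        ((pResidual p ↥N').map N'.subtype).subgroupOf (Q ⊔ N') := by
      show Subgroup.closure _ ≤ _
      rw [Subgroup.closure_le]
      intro y hy
      exact key y hy
    obtain ⟨r, hr, s, hs, hrs⟩ := Cfsg.Agent.Lib.Helper6.pres_exists_mul T
      (⟨n, Subgroup.mem_sup_right hn⟩ : ↥(Q ⊔ N'))
    have hr' : (r : H) ∈ (pResidual p ↥N').map N'.subtype := hle hr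
    have hrN : (r : H) ∈ N' := Subgroup.map_subtype_le _ hr'
    have hn' : n = (r : H) * (s : H) := congrArg Subtype.val hrs
    have hsN : (s : H) ∈ N' := by
      have : (s : H) = (r : H)⁻¹ * n := by rw [hn']; group
      rw [this]; exact N'.mul_mem (N'.inv_mem hrN) hn
    have hsQ : (s : H) ∈ Subgroup.normalizer (Q : Set H) :=
      wc_le_normalizer hwc _ hTp hQT ⟨s, hs, rfl⟩
    rw [hn']
    exact Subgroup.mul_mem _ (Subgroup.mem_sup_right hr')
      (Subgroup.mem_sup_left (Subgroup.mem_inf.mpr ⟨hsN, hsQ⟩))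

theorem part5 (Q : Subgroup H) (hQp : IsPGroup p ↥Q) (hwc : IsWeaklyClosedSubgroup p Q)
    (N' : Subgroup H) [N'.Normal] :
    IsWeaklyClosedSubgroup p (Q.map (QuotientGroup.mk' N')) := by
  obtain ⟨T, hT⟩ := hQp.exists_le_sylow
  refine ⟨T.mapSurjective (QuotientGroup.mk'_surjective N'), ?_, ?_⟩
  · rw [Sylow.coe_mapSurjective]; exact Subgroup.map_mono hT
  · intro gb hgb
    obtain ⟨g, rfl⟩ := QuotientGroup.mk'_surjective N' gb
    rw [Sylow.coe_mapSurjective] at hgb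
    have h1 : Q.map (MulAut.conj g).toMonoidHom ≤ N' ⊔ (T : Subgroup H) := by
      rintro _ ⟨q, hq, rfl⟩
      have h2 : QuotientGroup.mk' N' (g * q * g⁻¹) ∈
          (T : Subgroup H).map (QuotientGroup.mk' N') := by
        apply hgb
        refine ⟨QuotientGroup.mk' N' q, ⟨q, hq, rfl⟩, ?_⟩
        show QuotientGroup.mk' N' g * QuotientGroup.mk' N' q * (QuotientGroup.mk' N' g)⁻¹ = _
        rw [map_mul, map_mul, map_inv]
      have h3 : g * q * g⁻¹ ∈
          ((T : Subgroup H).map (QuotientGroup.mk' N')).comap (QuotientGroup.mk' N') := h2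
      rw [QuotientGroup.comap_map_mk'] at h3
      exact h3
    obtain ⟨b, hb, hbT⟩ := Cfsg.Agent.S2998.conj_into T (N' ⊔ (T : Subgroup H)) le_sup_right _
      (hQp.map _) h1
    obtain ⟨n, hn, t, ht, rfl⟩ := Cfsg.Agent.Lib.Helper7.exists_mul_of_mem_sup
      (N := N') (A := (T : Subgroup H)) (by rw [Subgroup.normalizer_eq_top]; exact le_top) hb
    have h4 : Q.map (MulAut.conj (n⁻¹ * g)).toMonoidHom = Q := by
      apply wc_conj_eq hwc _ T.isPGroup' hT
      rintro _ ⟨q, hq, rfl⟩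
      have h5 := hbT (g * q * g⁻¹) ⟨q, hq, rfl⟩
      have h6 : (MulAut.conj (n⁻¹ * g)).toMonoidHom q =
          t * ((n * t)⁻¹ * (g * q * g⁻¹) * (n * t)) * t⁻¹ := by
        show n⁻¹ * g * q * (n⁻¹ * g)⁻¹ = _
        group
      rw [h6]
      exact Subgroup.mul_mem _ (Subgroup.mul_mem _ ht h5) (Subgroup.inv_mem _ ht)
    have h7 : (Q.map (QuotientGroup.mk' N')).map
        (MulAut.conj (QuotientGroup.mk' N' g)).toMonoidHom =
        (Q.map (MulAut.conj (n⁻¹ * g)).toMonoidHom).map (QuotientGroup.mk' N') := by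
      rw [Subgroup.map_map, Subgroup.map_map]
      congr 1
      ext q
      show QuotientGroup.mk' N' g * QuotientGroup.mk' N' q * (QuotientGroup.mk' N' g)⁻¹ =
        QuotientGroup.mk' N' (n⁻¹ * g * q * (n⁻¹ * g)⁻¹)
      have hn1 : QuotientGroup.mk' N' n = 1 := (QuotientGroup.eq_one_iff n).mpr hn
      simp only [map_mul, map_inv, hn1]
      group
    rw [h7, h4]

end

/-- Let Q be a nontrivial p-subgroup of the finite group H that is a weakly closed subgroup, K a subgroup containing Q and N a normal subgroup of H. Then Q is a weakly closed subgroup of K; every H-conjugate of Q contained in K is a K-conjugate of Q; N_K(Q) contains a Sylow p-subgroup of K; N = N_N(Q)·O^p(N); and QN/N is a weakly closed subgroup of H/N. -/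
theorem result {H : Type*} [Group H] [Finite H] {p : ℕ} [Fact p.Prime] (Q : Subgroup H) (hQp : IsPGroup p ↥Q) (hQ1 : Q ≠ ⊥) (hwc : Cfsg.IsWeaklyClosedSubgroup p Q) (K : Subgroup H) (hQK : Q ≤ K) (N' : Subgroup H) [N'.Normal] : Cfsg.IsWeaklyClosedSubgroup p (Q.subgroupOf K) ∧ (∀ g : H, ((Q : Subgroup H).map (MulAut.conj (g : H)).toMonoidHom) ≤ K → ∃ k ∈ K, ((Q : Subgroup H).map (MulAut.conj (g : H)).toMonoidHom) = ((Q : Subgroup H).map (MulAut.conj (k : H)).toMonoidHom)) ∧ Cfsg.IsParabolic p ((Subgroup.normalizer ((Q : Subgroup H) : Set H)).subgroupOf K) ∧ (N' ⊓ Subgroup.normalizer ((Q : Subgroup H) : Set H)) ⊔ (Cfsg.pResidual p ↥N').map N'.subtype = N' ∧ Cfsg.IsWeaklyClosedSubgroup p (Q.map (QuotientGroup.mk' N')) := by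
  obtain ⟨T, hT, hTp, hQT⟩ := setup Q hQp K hQK
  exact ⟨part1 Q hwc K hQK T hT hTp hQT, fun g hg => part2 Q hQp hwc K T hTp hQT g hg,
    part3 Q hwc K T hTp hQT, part4 Q hQp hwc N', part5 Q hQp hwc N'⟩

end Cfsg.Agent.S2839
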