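import Mathlib
import Cfsg.Statements.S2840
import Cfsg.Agent.S2839
import Cfsg.Agent.S2814

set_option autoImplicit false
open Cfsg

namespace Cfsg.Agent.S2840

theorem conj_le_of_subnormal {G : Type*} [Group G] [Finite G] {p : ℕ} [Fact p.Prime]
    (A : Subgroup G) (hAp : IsPGroup p ↥A) (hwc : IsWeaklyClosedSubgroup p A)
    (M : Subgroup G) (hM : M.IsSubnormal) :
    A ≤ M → ∀ g : G, A.map (MulAut.conj g).toMonoidHom ≤ M := by
  induction hM with
  | top => intro _ g; exact le_top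
  | step M M' hle hsn hN ih =>
    intro hAM g
    have h1 := ih (hAM.trans hle) g
    obtain ⟨T, hT, hTp, hQT⟩ := Cfsg.Agent.S2839.setup A hAp M' (hAM.trans hle)
    obtain ⟨k, hk, hgk⟩ := Cfsg.Agent.S2839.part2 A hAp hwc M' T hTp hQT g h1
    rw [hgk]
    rintro _ ⟨a, ha, rfl⟩
    have h2 := hN.conj_mem ⟨a, hle (hAM ha)⟩ (Subgroup.mem_subgroupOf.mpr (hAM ha)) ⟨k, hk⟩
    rw [Subgroup.mem_subgroupOf] at h2
    exact h2

/-- Let Q be a nontrivial p-subgroup of the finite group H that is a weakly closed subgroup and K a subgroup containing Q; let K° be the weak closure of Q in K (generated by the H-conjugates of Q inside K). Then K° is generated by the K-conjugates of Q, and K° is the subnormal closure of Q in K. -/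
theorem result {H : Type*} [Group H] [Finite H] {p : ℕ} [Fact p.Prime] (Q : Subgroup H) (hQp : IsPGroup p ↥Q) (hQ1 : Q ≠ ⊥) (hwc : Cfsg.IsWeaklyClosedSubgroup p Q) (K : Subgroup H) (hQK : Q ≤ K) (Kc : Subgroup H) (hKc : Kc = Cfsg.weakClosure Q K) : Kc = ⨆ k : ↥K, ((Q : Subgroup H).map (MulAut.conj ((k : H) : H)).toMonoidHom) ∧ Kc = (Cfsg.subnormalClosure (Q.subgroupOf K)).map K.subtype := by
  obtain ⟨T, hT, hTp, hQT⟩ := Cfsg.Agent.S2839.setup Q hQp K hQK
  have hA : IsWeaklyClosedSubgroup p (Q.subgroupOf K) :=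
    Cfsg.Agent.S2839.part1 Q hwc K hQK T hT hTp hQT
  have hAp : IsPGroup p (Q.subgroupOf K) := hQp.comap_subtype
  have ha : Kc = ⨆ k : ↥K, Q.map (MulAut.conj (k : H)).toMonoidHom := by
    rw [hKc]
    apply le_antisymm
    · apply iSup_le
      rintro ⟨g, hg⟩
      obtain ⟨k, hk, hgk⟩ := Cfsg.Agent.S2839.part2 Q hQp hwc K T hTp hQT g hg
      show Q.map (MulAut.conj g).toMonoidHom ≤ _
      rw [hgk]
      exact le_iSup (fun k : ↥K => Q.map (MulAut.conj (k : H)).toMonoidHom) ⟨k, hk⟩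
    · apply iSup_le
      intro k
      have hk : Q.map (MulAut.conj (k : H)).toMonoidHom ≤ K := by
        rintro _ ⟨q, hq, rfl⟩
        exact K.mul_mem (K.mul_mem k.2 (hQK hq)) (K.inv_mem k.2)
      exact le_iSup (fun g : {g : H // Q.map (MulAut.conj g).toMonoidHom ≤ K} =>
        Q.map (MulAut.conj (g : H)).toMonoidHom) ⟨k, hk⟩
  refine ⟨ha, ?_⟩
  rw [ha]
  obtain ⟨hAS, hSsn⟩ := Cfsg.Agent.S2814.sc_mem (Q.subgroupOf K)
  have hconj := conj_le_of_subnormal (Q.subgroupOf K) hAp hA _ hSsn hAS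
  apply le_antisymm
  · apply iSup_le
    intro k
    rintro _ ⟨q, hq, rfl⟩
    exact ⟨k * ⟨q, hQK hq⟩ * k⁻¹,
      hconj k ⟨⟨q, hQK hq⟩, Subgroup.mem_subgroupOf.mpr hq, rfl⟩, rfl⟩
  · have h1 : subnormalClosure (Q.subgroupOf K) ≤
        Subgroup.normalClosure ((Q.subgroupOf K : Subgroup ↥K) : Set ↥K) :=
      sInf_le ⟨Subgroup.le_normalClosure, Subgroup.normalClosure_normal.isSubnormal⟩
    refine (Subgroup.map_mono h1).trans ?_
    rw [Subgroup.map_le_iff_le_comap]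
    show Subgroup.closure (Group.conjugatesOfSet _) ≤ _
    rw [Subgroup.closure_le]
    intro x hx
    rw [Group.mem_conjugatesOfSet_iff] at hx
    obtain ⟨a, ha', hax⟩ := hx
    rw [isConj_iff] at hax
    obtain ⟨c, rfl⟩ := hax
    show ((c * a * c⁻¹ : ↥K) : H) ∈ ⨆ k : ↥K, Q.map (MulAut.conj (k : H)).toMonoidHom
    exact Subgroup.mem_iSup_of_mem c ⟨(a : H), Subgroup.mem_subgroupOf.mp ha', rfl⟩

end Cfsg.Agent.S2840
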