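import Cfsg.Statements.S2841
import Mathlib
import Cfsg.Agent.Lib.Helper1.StronglyEmb3
import Cfsg.Agent.Lib.Helper1.StronglyEmb2
import Cfsg.Agent.Lib.Helper8.CoprimeSylow
import Cfsg.Agent.Lib.Helper6.FixedPts
import Cfsg.Agent.Lib.Helper7.Coprime2

set_option autoImplicit false
open Cfsg

namespace Cfsg.Agent.S2841

open Cfsg.Agent.Lib.Helper1 Cfsg.Agent.Lib.Helper8 Cfsg.Agent.Lib.Helper7

theorem wc_step {H : Type*} [Group H] [Finite H] {p : ℕ} [Fact p.Prime] (Q : Subgroup H)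
    (hQp : IsPGroup p ↥Q) (T : Sylow p H) (hW : Cfsg.IsWeaklyClosed Q (T : Subgroup H))
    (N : Subgroup H) (n : H) (hn : n ∈ N) :
    ∃ c ∈ ⁅N, Q⁆, c * n ∈ Subgroup.normalizer (Q : Set H) := by
  classical
  set C := ⁅N, Q⁆ with hC
  have hQC : Q ≤ Subgroup.normalizer (C : Set H) := le_normalizer_commutator_right N Q
  set M := C ⊔ Q with hM
  have hQM : Q ≤ M := le_sup_right
  have hnQ : Q.map (MulAut.conj n).toMonoidHom ≤ M := by
    rintro _ ⟨q, hq, rfl⟩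
    have h1 : n * q * n⁻¹ = (n * q * n⁻¹ * q⁻¹) * q := by group
    show n * q * n⁻¹ ∈ M
    rw [h1]
    exact Subgroup.mul_mem _ (Subgroup.mem_sup_left (comm_mem_commutator hn hq))
      (Subgroup.mem_sup_right hq)
  obtain ⟨P, hQP, hPM, hPp, hPidx⟩ := exists_rel_sylow_ge hQM hQp
  obtain ⟨m, hmM, hm⟩ := h8_exists_conj_le_of_relIndex hPM hnQ hPp (hQp.map _) hPidx
  have hidx : ¬ p ∣ (T : Subgroup H).relIndex ⊤ := by
    rw [Subgroup.relIndex_top_right]; exact T.not_dvd_index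
  obtain ⟨l, -, hl⟩ := h8_exists_conj_le_of_relIndex (le_top : (T : Subgroup H) ≤ ⊤)
    (le_top : P ≤ ⊤) T.isPGroup' hPp hidx
  have e1 : Q.map (MulAut.conj l).toMonoidHom = Q := hW.2 l ((Subgroup.map_mono hQP).trans hl)
  have e2 : Q.map (MulAut.conj (l * m * n)).toMonoidHom = Q := by
    apply hW.2
    rintro _ ⟨a, ha, rfl⟩
    have h1 : (MulAut.conj m) ((MulAut.conj n) a) ∈ P := hm ⟨_, ⟨a, ha, rfl⟩, rfl⟩
    have h2 : (MulAut.conj l) ((MulAut.conj m) ((MulAut.conj n) a)) ∈ (T : Subgroup H) :=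
      hl ⟨_, h1, rfl⟩
    simpa [MulAut.conj_apply, mul_assoc] using h2
  have n1 : l ∈ Subgroup.normalizer (Q : Set H) := by
    apply Cfsg.Agent.Lib.Helper6.sy_mem_normalizer_of_conj_le
    intro a ha
    have : (MulAut.conj l) a ∈ Q.map (MulAut.conj l).toMonoidHom := ⟨a, ha, rfl⟩
    rw [e1] at this
    exact this
  have n2 : l * m * n ∈ Subgroup.normalizer (Q : Set H) := by
    apply Cfsg.Agent.Lib.Helper6.sy_mem_normalizer_of_conj_le
    intro a ha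
    have : (MulAut.conj (l * m * n)) a ∈ Q.map (MulAut.conj (l * m * n)).toMonoidHom :=
      ⟨a, ha, rfl⟩
    rw [e2] at this
    exact this
  have n3 : m * n ∈ Subgroup.normalizer (Q : Set H) := by
    have : m * n = l⁻¹ * (l * m * n) := by group
    rw [this]; exact Subgroup.mul_mem _ (Subgroup.inv_mem _ n1) n2
  obtain ⟨c, hc, q, hq, hcq⟩ := exists_mul_of_mem_sup hQC (Subgroup.inv_mem _ hmM)
  refine ⟨c⁻¹, Subgroup.inv_mem _ hc, ?_⟩
  have h4 : c⁻¹ * n = q * (m * n) := by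
    have : m = q⁻¹ * c⁻¹ := by rw [← mul_inv_rev, ← hcq, inv_inv]
    rw [this]; group
  rw [h4]
  exact Subgroup.mul_mem _ (Subgroup.le_normalizer hq) n3

/-- Let Q be a nontrivial p-subgroup of the finite group H that is a weakly closed subgroup and N a normal subgroup of H. Then N = N_N(Q)·[N, Q] and [N, Q] = (Q ∩ [N, Q])·[N, Q, Q]. -/
theorem result {H : Type*} [Group H] [Finite H] {p : ℕ} [Fact p.Prime] (Q : Subgroup H) (hQp : IsPGroup p ↥Q) (hQ1 : Q ≠ ⊥) (hwc : Cfsg.IsWeaklyClosedSubgroup p Q) (N' : Subgroup H) [N'.Normal] : (∀ n : H, n ∈ N' → ∃ a ∈ N' ⊓ Subgroup.normalizer ((Q : Subgroup H) : Set H), ∃ b ∈ ⁅N', Q⁆, n = a * b) ∧ (∀ c : H, c ∈ ⁅N', Q⁆ → ∃ a ∈ Q ⊓ ⁅N', Q⁆, ∃ b ∈ ⁅⁅N', Q⁆, Q⁆, c = a * b) := by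
  open Cfsg.Agent.Lib.Helper7 in
  classical
  obtain ⟨T, hW⟩ := hwc
  have hQN : Q ≤ Subgroup.normalizer (N' : Set H) := by
    rw [Subgroup.normalizer_eq_top_iff.mpr inferInstance]; exact le_top
  have hCN : ⁅N', Q⁆ ≤ N' := commutator_le_of_le_normalizer hQN
  have hQC : Q ≤ Subgroup.normalizer ((⁅N', Q⁆ : Subgroup H) : Set H) :=
    le_normalizer_commutator_right N' Q
  have hNC : N' ≤ Subgroup.normalizer ((⁅N', Q⁆ : Subgroup H) : Set H) :=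
    le_normalizer_commutator_left N' Q
  constructor
  · intro n hn
    obtain ⟨c, hc, hcn⟩ := wc_step Q hQp T hW N' n hn
    have haN : c * n ∈ N' := Subgroup.mul_mem _ (hCN hc) hn
    refine ⟨c * n, ⟨haN, hcn⟩, (c * n)⁻¹ * c⁻¹ * (c * n),
      conj_mem_of_mem_normalizer' (hNC haN) (Subgroup.inv_mem _ hc), ?_⟩
    group
  · have hDC : ⁅⁅N', Q⁆, Q⁆ ≤ ⁅N', Q⁆ := commutator_le_of_le_normalizer hQC
    have hQD : Q ≤ Subgroup.normalizer ((⁅⁅N', Q⁆, Q⁆ : Subgroup H) : Set H) :=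
      le_normalizer_commutator_right _ Q
    have hle : ⁅N', Q⁆ ≤ ⁅⁅N', Q⁆, Q⁆ ⊔ Q := by
      rw [Subgroup.commutator_le]
      intro n hn q hq
      obtain ⟨c₁, hc₁, ha⟩ := wc_step Q hQp T hW N' n hn
      have hq' : (c₁ * n) * q * (c₁ * n)⁻¹ ∈ Q := conj_mem_of_mem_normalizer ha hq
      have e : n * q * n⁻¹ * q⁻¹ = (c₁⁻¹ * ((c₁ * n) * q * (c₁ * n)⁻¹) * c₁⁻¹⁻¹ *
          ((c₁ * n) * q * (c₁ * n)⁻¹)⁻¹) * (((c₁ * n) * q * (c₁ * n)⁻¹) * q⁻¹) := by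
        group
      show n * q * n⁻¹ * q⁻¹ ∈ _
      rw [e]
      exact Subgroup.mul_mem _
        (Subgroup.mem_sup_left (comm_mem_commutator (Subgroup.inv_mem _ hc₁) hq'))
        (Subgroup.mem_sup_right (Subgroup.mul_mem _ hq' (Subgroup.inv_mem _ hq)))
    intro c hc
    obtain ⟨d, hd, q, hq, hdq⟩ := exists_mul_of_mem_sup hQD (Subgroup.inv_mem _ (hle hc))
    have hcq : c = q⁻¹ * d⁻¹ := by rw [← mul_inv_rev, ← hdq, inv_inv]
    refine ⟨q⁻¹, ⟨Subgroup.inv_mem _ hq, ?_⟩, d⁻¹, Subgroup.inv_mem _ hd, hcq⟩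
    have : q⁻¹ = c * d := by rw [hcq]; group
    rw [this]
    exact Subgroup.mul_mem _ hc (hDC hd)

end Cfsg.Agent.S2841
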