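import Cfsg.Statements.S2844
import Mathlib
import Cfsg.Agent.Lib.Helper3.Large

set_option autoImplicit false
open Cfsg
open Cfsg.Agent.Lib.Helper3

namespace Cfsg.Agent.S2844

/-- Let Q be a nontrivial large p-subgroup of the finite group H and Q• = O_p(N_H(Q)). Then for every g ∈ H outside N_H(Q): C_H(Q) ∩ C_H(gQg⁻¹) = 1, C_H(Q•) ∩ C_H(gQ•g⁻¹) = 1, Z(Q) ∩ Z(gQg⁻¹) = 1 and Z(Q•) ∩ Z(gQ•g⁻¹) = 1; moreover N_H(Q) = N_H(Q•) and Q• is large in H. -/
theorem result {H : Type*} [Group H] [Finite H] {p : ℕ} [Fact p.Prime] (Q : Subgroup H) (hQp : IsPGroup p ↥Q) (hQ1 : Q ≠ ⊥) (hL : Cfsg.IsLarge Q) (Qb : Subgroup H) (hQb : Qb = Cfsg.largeBullet p Q) : (∀ g : H, g ∉ Subgroup.normalizer ((Q : Subgroup H) : Set H) → Subgroup.centralizer ((Q : Subgroup H) : Set H) ⊓ Subgroup.centralizer ((((Q : Subgroup H).map (MulAut.conj (g : H)).toMonoidHom) : Subgroup H) : Set H) = ⊥ ∧ Subgroup.centralizer ((Qb : Subgroup H) : Set H) ⊓ Subgroup.centralizer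 ((((Qb : Subgroup H).map (MulAut.conj (g : H)).toMonoidHom) : Subgroup H) : Set H) = ⊥ ∧ (Q ⊓ Subgroup.centralizer ((Q : Subgroup H) : Set H)) ⊓ (((Q : Subgroup H).map (MulAut.conj (g : H)).toMonoidHom) ⊓ Subgroup.centralizer ((((Q : Subgroup H).map (MulAut.conj (g : H)).toMonoidHom) : Subgroup H) : Set H)) = ⊥ ∧ (Qb ⊓ Subgroup.centralizer ((Qb : Subgroup H) : Set H)) ⊓ (((Qb : Subgroup H).map (MulAut.conj (g : H)).toMonoidHom) ⊓ Subgroup.centralizer ((((Qb : Subgroup H).map (MulAut.conj (g : H)).toMonoidHom) : Subgroup H) : Set H)) = ⊥) ∧ Subgroup.normalizer ((Q : Subgroup H) : Set H) = Subgroup.normalizer ((Qb : Subgroup H) : Set H) ∧ Cfsg.IsLarge Qb := by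
  subst hQb
  have hQQb : Q ≤ Cfsg.largeBullet p Q := le_pCoreOf Subgroup.le_normalizer hQp le_rfl
  have hCb : Subgroup.centralizer ((Cfsg.largeBullet p Q : Subgroup H) : Set H)
      ≤ Subgroup.centralizer (Q : Set H) :=
    Subgroup.centralizer_le (SetLike.coe_subset_coe.mpr hQQb)
  have hQbp : IsPGroup p (Cfsg.largeBullet p Q) := pCoreOf_isPGroup p _
  have hQb1 : Cfsg.largeBullet p Q ≠ ⊥ := fun h => hQ1 (le_bot_iff.mp (h ▸ hQQb))
  have hNN : Subgroup.normalizer (Q : Set H)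
      = Subgroup.normalizer ((Cfsg.largeBullet p Q : Subgroup H) : Set H) := by
    apply le_antisymm
    · exact le_normalizer_pCoreOf p _
    · obtain ⟨z, hzP, hz1, hzc⟩ := pn_inf_center (Cfsg.largeBullet p Q) (Cfsg.largeBullet p Q)
        hQbp le_rfl
        (fun x hx d hd => Subgroup.mul_mem _ (Subgroup.mul_mem _ hx hd) (Subgroup.inv_mem _ hx))
        hQb1
      have hZ1 : Cfsg.largeBullet p Q ⊓
          Subgroup.centralizer ((Cfsg.largeBullet p Q : Subgroup H) : Set H) ≠ ⊥ := fun h =>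
        hz1 (Subgroup.mem_bot.mp (h ▸ Subgroup.mem_inf.mpr
          ⟨hzP, Subgroup.mem_centralizer_iff.mpr (fun x hx => hzc x hx)⟩))
      exact (normalizer_le_normalizer_center' _).trans (hL.2 _ (inf_le_right.trans hCb) hZ1)
  refine ⟨?_, hNN, ⟨hCb.trans (hL.1.trans hQQb),
    fun U hU hU1 => (hL.2 U (hU.trans hCb) hU1).trans hNN.le⟩⟩
  intro g hg
  have A1 := large_disjoint hQp hQ1 hL g hg
  have A2 : Subgroup.centralizer ((Cfsg.largeBullet p Q : Subgroup H) : Set H) ⊓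
      Subgroup.centralizer ((((Cfsg.largeBullet p Q : Subgroup H).map
        (MulAut.conj (g : H)).toMonoidHom) : Subgroup H) : Set H) = ⊥ := by
    rw [eq_bot_iff, ← A1]
    exact inf_le_inf hCb
      (Subgroup.centralizer_le (SetLike.coe_subset_coe.mpr (Subgroup.map_mono hQQb)))
  refine ⟨A1, A2, ?_, ?_⟩
  · rw [eq_bot_iff, ← A1]
    exact inf_le_inf inf_le_right inf_le_right
  · rw [eq_bot_iff, ← A2]
    exact inf_le_inf inf_le_right inf_le_right

end Cfsg.Agent.S2844
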