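import Cfsg.Statements.S2848
import Cfsg.Agent.Lib.Helper6.PReduced2
import Cfsg.Agent.Lib.Helper6.PCore
import Cfsg.Agent.Lib.Helper1.Layer
import Cfsg.Agent.Lib.Helper7.Coprime

set_option autoImplicit false
open Cfsg

namespace Cfsg.Agent.S2848

open Cfsg.Agent.Lib.Helper6

/-- Standing hypotheses: G a finite group, S a Sylow p-subgroup, Q a nontrivial large p-subgroup of G contained in S (C_G(Q) ≤ Q and N_G(U) ≤ N_G(Q) for all nontrivial U ≤ C_G(Q)), and M a subgroup containing S with the basic property (M ∈ 𝔐_G(S)); Y_M denotes the largest p-reduced normal subgroup of M and M† = M·C_G(Y_M). Then O_p(M) is a weakly closed subgroup of M† (for p): it is the only M†-conjugate of itself inside some Sylow p-subgroup of M† containing it. -/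
theorem result {G : Type*} [Group G] [Finite G] {p : ℕ} [Fact p.Prime] (S : Sylow p G) (Q : Subgroup G) (hQp : IsPGroup p ↥Q) (hQ1 : Q ≠ ⊥) (hQS : Q ≤ (S : Subgroup G)) (hQ : Cfsg.IsLarge Q) (M : Subgroup G) (hSM : (S : Subgroup G) ≤ M) (hM : Cfsg.IsInFrakM p M) : Cfsg.IsWeaklyClosedSubgroup p (((Cfsg.pCoreOf p M)).subgroupOf (M ⊔ Subgroup.centralizer (((Cfsg.largestPReducedOf p M) : Subgroup G) : Set G))) := by
  classical
  obtain ⟨Y, hY⟩ : ∃ Y : Subgroup G, Y = Cfsg.largestPReducedOf p M := ⟨_, rfl⟩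
  obtain ⟨O, hO⟩ : ∃ O : Subgroup G, O = Cfsg.pCoreOf p M := ⟨_, rfl⟩
  obtain ⟨-, -, -, -, hcl, -⟩ := hM
  rw [← hY] at hcl
  rw [← hY, ← hO]
  have hOS : O ≤ (S : Subgroup G) := by rw [hO]; exact gl_pCoreOf_le_sylow S M hSM
  have hOC : O ≤ Subgroup.centralizer (Y : Set G) := by
    rw [hO, hY]
    rintro _ ⟨q, hq, rfl⟩
    rw [Subgroup.mem_centralizer_iff]
    rintro _ ⟨y, hy, rfl⟩
    have h1 : Cfsg.largestPReduced p ↥M ≤ Subgroup.centralizer (Cfsg.pCore p ↥M : Set ↥M) := by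
      refine sSup_le (fun V hV => ?_)
      exact Subgroup.le_centralizer_iff.1 (pr_pcore_le_centralizer hV)
    have h2 := Subgroup.mem_centralizer_iff.mp (h1 hy) q hq
    exact (congrArg Subtype.val h2).symm
  have hMY : M ≤ Subgroup.normalizer (Y : Set G) := by
    rw [hY]; exact gl_le_normalizer_map_of_normal M _ (pr_largest_normal p)
  have hMC : M ≤ Subgroup.normalizer
      ((Subgroup.centralizer (Y : Set G) : Subgroup G) : Set G) :=
    hMY.trans (gl_normalizer_le_normalizer_centralizer Y)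
  have hMdC : M ⊔ Subgroup.centralizer (Y : Set G) ≤ Subgroup.normalizer
      ((Subgroup.centralizer (Y : Set G) : Subgroup G) : Set G) :=
    sup_le hMC Subgroup.le_normalizer
  obtain ⟨CM, hCM⟩ : ∃ CM : Subgroup G, CM = M ⊓ Subgroup.centralizer (Y : Set G) := ⟨_, rfl⟩
  rw [← hCM] at hcl
  have hSC : (S : Subgroup G) ⊓ Subgroup.centralizer (Y : Set G) ≤ O := by
    have hp1 : IsPGroup p
        ↥(((S : Subgroup G) ⊓ Subgroup.centralizer (Y : Set G)).subgroupOf CM) :=
      (S.isPGroup'.to_le inf_le_left).comap_subtype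
    obtain ⟨P, hP⟩ := hp1.exists_le_sylow
    have hPn : (P : Subgroup ↥CM).Normal := hcl P
    haveI : (P : Subgroup ↥CM).Characteristic := Sylow.characteristic_of_normal P hPn
    have hMCM : M ≤ Subgroup.normalizer (CM : Set G) := by
      rw [hCM, Subgroup.le_normalizer_iff]
      intro m hm x hx
      exact ⟨M.mul_mem (M.mul_mem hm hx.1) (M.inv_mem hm),
        Cfsg.Agent.Lib.Helper7.conj_mem_of_mem_normalizer (hMC hm) hx.2⟩
    have hP0n : M ≤ Subgroup.normalizer
        (((P : Subgroup ↥CM).map CM.subtype : Subgroup G) : Set G) :=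
      Cfsg.Agent.Lib.Helper1.le_normalizer_map_subtype_of_characteristic hMCM _
    have hP0M : (P : Subgroup ↥CM).map CM.subtype ≤ M :=
      (Subgroup.map_subtype_le _).trans (by rw [hCM]; exact inf_le_left)
    have hP0p : IsPGroup p ↥((P : Subgroup ↥CM).map CM.subtype) := P.isPGroup'.map _
    have h1 := pc_le_pCoreOf hP0M hP0n hP0p
    rw [hO]
    refine le_trans ?_ h1
    intro x hx
    have hxCM : x ∈ CM := by rw [hCM]; exact ⟨hSM hx.1, hx.2⟩
    exact ⟨⟨x, hxCM⟩, hP (Subgroup.mem_subgroupOf.mpr hx), rfl⟩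
  have hSMd : (S : Subgroup G) ≤ M ⊔ Subgroup.centralizer (Y : Set G) := hSM.trans le_sup_left
  unfold Cfsg.IsWeaklyClosedSubgroup Cfsg.IsWeaklyClosed
  refine ⟨S.subtype hSMd, ?_, ?_⟩
  · rw [Sylow.coe_subtype]
    intro x hx
    exact Subgroup.mem_subgroupOf.mpr (hOS (Subgroup.mem_subgroupOf.mp hx))
  · intro g hg
    rw [Sylow.coe_subtype] at hg
    have hle : (O.subgroupOf (M ⊔ Subgroup.centralizer (Y : Set G))).map
        (MulAut.conj g).toMonoidHom ≤ O.subgroupOf (M ⊔ Subgroup.centralizer (Y : Set G)) := by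
      rintro _ ⟨w, hw, rfl⟩
      have hwO : (w : G) ∈ O := Subgroup.mem_subgroupOf.mp hw
      have hz : (MulAut.conj g).toMonoidHom w ∈
          (S : Subgroup G).subgroupOf (M ⊔ Subgroup.centralizer (Y : Set G)) :=
        hg ⟨w, hw, rfl⟩
      have hzS : (g : G) * (w : G) * (g : G)⁻¹ ∈ (S : Subgroup G) :=
        Subgroup.mem_subgroupOf.mp hz
      have hzC : (g : G) * (w : G) * (g : G)⁻¹ ∈ Subgroup.centralizer (Y : Set G) :=
        Cfsg.Agent.Lib.Helper7.conj_mem_of_mem_normalizer (hMdC g.2) (hOC hwO)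
      exact Subgroup.mem_subgroupOf.mpr (hSC ⟨hzS, hzC⟩)
    refine Subgroup.eq_of_le_of_card_ge hle ?_
    exact le_of_eq (Subgroup.card_map_of_injective (MulAut.conj g).injective).symm

end Cfsg.Agent.S2848
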