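import Cfsg.Statements.S2849
import Cfsg.Agent.Lib.Helper6.PReduced7
import Cfsg.Agent.Lib.Helper6.PCore
import Cfsg.Agent.Lib.Helper7.Coprime

set_option autoImplicit false
open Cfsg

namespace Cfsg.Agent.S2849

open Cfsg.Agent.Lib.Helper6
open scoped commutatorElement

/-- A subgroup generated by pairwise commuting elements of order dividing `p` is abelian
of exponent dividing `p`. -/
theorem asy_closure {G : Type*} [Group G] {p : ℕ} (T : Set G)
    (hc : ∀ x ∈ T, ∀ y ∈ T, x * y = y * x) (hp : ∀ x ∈ T, x ^ p = 1) :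
    (∀ a ∈ Subgroup.closure T, ∀ b ∈ Subgroup.closure T, a * b = b * a) ∧
      ∀ a ∈ Subgroup.closure T, a ^ p = 1 := by
  have h1 : T ⊆ (Subgroup.centralizer T : Subgroup G) := fun x hx =>
    Subgroup.mem_centralizer_iff.2 (fun y hy => hc y hy x hx)
  have h2 : Subgroup.closure T ≤ Subgroup.centralizer T := (Subgroup.closure_le _).2 h1
  have h3 : T ⊆ (Subgroup.centralizer (Subgroup.closure T : Set G) : Subgroup G) := fun t ht =>
    Subgroup.mem_centralizer_iff.2
      (fun h hh => ((Subgroup.mem_centralizer_iff.1 (h2 hh)) t ht).symm)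
  have h4 : Subgroup.closure T ≤ Subgroup.centralizer (Subgroup.closure T : Set G) :=
    (Subgroup.closure_le _).2 h3
  have hcomm : ∀ a ∈ Subgroup.closure T, ∀ b ∈ Subgroup.closure T, a * b = b * a :=
    fun a ha b hb => (Subgroup.mem_centralizer_iff.1 (h4 hb)) a ha
  refine ⟨hcomm, ?_⟩
  intro a ha
  refine Subgroup.closure_induction (p := fun x _ => x ^ p = 1) ?_ ?_ ?_ ?_ ha
  · intro x hx; exact hp x hx
  · exact one_pow _
  · intro x y hx hy hx' hy'
    have hxy : Commute x y := hcomm x hx y hy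
    rw [hxy.mul_pow, hx', hy', one_mul]
  · intro x _ hx'
    rw [inv_pow, hx', inv_one]

/-- Standing hypotheses: G a finite group, S a Sylow p-subgroup, Q a nontrivial large p-subgroup of G contained in S (C_G(Q) ≤ Q and N_G(U) ≤ N_G(Q) for all nontrivial U ≤ C_G(Q)), and M a subgroup containing S with the basic property (M ∈ 𝔐_G(S)); Y_M denotes the largest p-reduced normal subgroup of M and M† = M·C_G(Y_M). Suppose Y_M is asymmetric in G. Then for every subgroup R with Y_M ≤ R ≤ M†, the normal closure of Y_M in N_G(R) is elementary abelian. -/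
theorem result {G : Type*} [Group G] [Finite G] {p : ℕ} [Fact p.Prime] (S : Sylow p G) (Q : Subgroup G) (hQp : IsPGroup p ↥Q) (hQ1 : Q ≠ ⊥) (hQS : Q ≤ (S : Subgroup G)) (hQ : Cfsg.IsLarge Q) (M : Subgroup G) (hSM : (S : Subgroup G) ≤ M) (hM : Cfsg.IsInFrakM p M) (hasym : ¬ Cfsg.IsSymmetricIn (Cfsg.largestPReducedOf p M)) (R : Subgroup G) (hYR : (Cfsg.largestPReducedOf p M) ≤ R) (hRM : R ≤ (M ⊔ Subgroup.centralizer (((Cfsg.largestPReducedOf p M) : Subgroup G) : Set G))) : Cfsg.IsElementaryAbelian p ((Subgroup.normalClosure ((((Cfsg.largestPReducedOf p M)).subgroupOf (Subgroup.normalizer ((R : Subgroup G) : Set G)) : Subgroup ↥(Subgroup.normalizer ((R : Subgroup G) : Set G))) : Set ↥(Subgroup.normalizer ((R : Subgroup G) : Set G)))).map (Subgroup.normalizer ((R : Subgroup G) : Set G)).subtype) := by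
  classical
  obtain ⟨Y, hY⟩ : ∃ Y : Subgroup G, Y = Cfsg.largestPReducedOf p M := ⟨_, rfl⟩
  rw [← hY] at hasym hYR hRM ⊢
  have hchar : Subgroup.centralizer (Cfsg.pCore p ↥M : Set ↥M) ≤ Cfsg.pCore p ↥M := by
    apply pc_charp_of_ambient
    intro c hc hcq
    exact hM.1.2 (Subgroup.mem_centralizer_iff.2 (fun q hq => (hcq q hq).symm))
  have hYp : ∀ y ∈ Y, y ^ p = 1 := by
    rw [hY]
    rintro _ ⟨y, hy, rfl⟩
    have h := (pr_largest_isPReduced hchar).2.1.2 y hy
    rw [← map_pow, h, map_one]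
  have hMY : M ≤ Subgroup.normalizer (Y : Set G) := by
    rw [hY]; exact gl_le_normalizer_map_of_normal M _ (pr_largest_normal p)
  have hRY : R ≤ Subgroup.normalizer (Y : Set G) :=
    hRM.trans (sup_le hMY (Subgroup.centralizer_le_normalizer _))
  have hkey : ∀ g ∈ Subgroup.normalizer (R : Set G), ∀ a ∈ Y, ∀ b ∈ Y,
      a * (g * b * g⁻¹) = (g * b * g⁻¹) * a := by
    intro g hg a ha b hb
    by_contra hne
    apply hasym
    refine ⟨g, ?_, ?_⟩
    · intro hbot
      apply hne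
      have hmem : ⁅a, g * b * g⁻¹⁆ ∈ ⁅Y, Y.map (MulAut.conj g).toMonoidHom⁆ :=
        Subgroup.commutator_mem_commutator ha ⟨b, hb, rfl⟩
      rw [hbot, Subgroup.mem_bot] at hmem
      exact commutatorElement_eq_one_iff_mul_comm.mp hmem
    · rw [Subgroup.commutator_le]
      rintro a' ha' _ ⟨b', hb', rfl⟩
      have hcR : g * b' * g⁻¹ ∈ R := (Subgroup.mem_normalizer_iff.mp hg b').mp (hYR hb')
      refine ⟨?_, ?_⟩
      · have h1 : (g * b' * g⁻¹) * a'⁻¹ * (g * b' * g⁻¹)⁻¹ ∈ Y :=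
          Cfsg.Agent.Lib.Helper7.conj_mem_of_mem_normalizer (hRY hcR) (Y.inv_mem ha')
        have e : ⁅a', (MulAut.conj g).toMonoidHom b'⁆
            = a' * ((g * b' * g⁻¹) * a'⁻¹ * (g * b' * g⁻¹)⁻¹) := by
          simp only [MulEquiv.coe_toMonoidHom, MulAut.conj_apply, commutatorElement_def]
          group
        rw [e]; exact Y.mul_mem ha' h1
      · have hg' : g⁻¹ ∈ Subgroup.normalizer (R : Set G) := Subgroup.inv_mem _ hg
        have hr : g⁻¹ * a' * g ∈ R := by
          have := (Subgroup.mem_normalizer_iff.mp hg' a').mp (hYR ha')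
          simpa using this
        have h2 : (g⁻¹ * a' * g) * b' * (g⁻¹ * a' * g)⁻¹ ∈ Y :=
          Cfsg.Agent.Lib.Helper7.conj_mem_of_mem_normalizer (hRY hr) hb'
        have h3 : (g⁻¹ * a' * g) * b' * (g⁻¹ * a' * g)⁻¹ * b'⁻¹ ∈ Y :=
          Y.mul_mem h2 (Y.inv_mem hb')
        refine ⟨_, h3, ?_⟩
        simp only [MulEquiv.coe_toMonoidHom, MulAut.conj_apply, commutatorElement_def]
        group
  obtain ⟨T, hT⟩ : ∃ T : Set G, T = {x | ∃ n ∈ Subgroup.normalizer (R : Set G),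
      ∃ y ∈ Y, x = n * y * n⁻¹} := ⟨_, rfl⟩
  have hTc : ∀ x ∈ T, ∀ y ∈ T, x * y = y * x := by
    rw [hT]
    rintro _ ⟨n, hn, a, ha, rfl⟩ _ ⟨m, hm, b, hb, rfl⟩
    have h := hkey (n⁻¹ * m) (Subgroup.mul_mem _ (Subgroup.inv_mem _ hn) hm) a ha b hb
    have e1 : n * a * n⁻¹ * (m * b * m⁻¹)
        = n * (a * (n⁻¹ * m * b * (n⁻¹ * m)⁻¹)) * n⁻¹ := by group
    have e2 : m * b * m⁻¹ * (n * a * n⁻¹)
        = n * ((n⁻¹ * m * b * (n⁻¹ * m)⁻¹) * a) * n⁻¹ := by group
    rw [e1, e2, h]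
  have hTp : ∀ x ∈ T, x ^ p = 1 := by
    rw [hT]
    rintro _ ⟨n, hn, a, ha, rfl⟩
    rw [conj_pow, hYp a ha, mul_one, mul_inv_cancel]
  obtain ⟨hcl1, hcl2⟩ := asy_closure T hTc hTp
  have hle : (Subgroup.normalClosure ((Y.subgroupOf (Subgroup.normalizer (R : Set G)) :
      Subgroup ↥(Subgroup.normalizer (R : Set G))) :
        Set ↥(Subgroup.normalizer (R : Set G)))).map
          (Subgroup.normalizer (R : Set G)).subtype ≤ Subgroup.closure T := by
    rw [Subgroup.map_le_iff_le_comap]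
    unfold Subgroup.normalClosure
    rw [Subgroup.closure_le]
    intro x hx
    obtain ⟨b, hb, hconj⟩ := Group.mem_conjugatesOfSet_iff.mp hx
    obtain ⟨c, hc⟩ := isConj_iff.mp hconj
    show (x : G) ∈ Subgroup.closure T
    apply Subgroup.subset_closure
    rw [hT]
    refine ⟨c, c.2, b, Subgroup.mem_subgroupOf.mp hb, ?_⟩
    rw [← hc]; rfl
  exact ⟨⟨⟨fun a b => Subtype.ext (hcl1 _ (hle a.2) _ (hle b.2))⟩⟩, fun a ha => hcl2 a (hle ha)⟩

end Cfsg.Agent.S2849
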