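import Cfsg.Statements.S2864
import Cfsg.Agent.Lib.Helper3.Large
import Cfsg.Agent.Lib.Helper3.Glauberman
import Cfsg.Agent.Lib.Helper7.Coprime
import Cfsg.Agent.Lib.Helper9.FrattiniNilp
import Cfsg.Agent.Lib.Helper6.PReduced2

set_option autoImplicit false
open Cfsg

namespace Cfsg.Agent.S2864

open Cfsg.Agent.Lib.Helper3
open scoped commutatorElement

/-- the subgroup generated by the `L`-conjugates of `Y` is `L`-invariant -/
theorem nc_conj {G : Type*} [Group G] (L : Subgroup G) (Y : Set G) :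
    ∀ l ∈ L, ∀ b ∈ Subgroup.closure {x : G | ∃ l ∈ L, ∃ y ∈ Y, x = l * y * l⁻¹},
      l * b * l⁻¹ ∈ Subgroup.closure {x : G | ∃ l ∈ L, ∃ y ∈ Y, x = l * y * l⁻¹} := by
  intro l hl b hb
  have hle : Subgroup.closure {x : G | ∃ l ∈ L, ∃ y ∈ Y, x = l * y * l⁻¹} ≤
      (Subgroup.closure {x : G | ∃ l ∈ L, ∃ y ∈ Y, x = l * y * l⁻¹}).comap
        (MulAut.conj l).toMonoidHom := by
    rw [Subgroup.closure_le]
    rintro _ ⟨m, hm, y, hy, rfl⟩
    show (MulAut.conj l).toMonoidHom (m * y * m⁻¹) ∈ Subgroup.closure _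
    apply Subgroup.subset_closure
    refine ⟨l * m, L.mul_mem hl hm, y, hy, ?_⟩
    simp only [MulEquiv.coe_toMonoidHom, MulAut.conj_apply]
    group
  have := hle hb
  simpa [MulAut.conj_apply] using this

/-- the normalizer of `A` normalizes `[A, A]` -/
theorem nc_norm_comm {G : Type*} [Group G] [Finite G] (A : Subgroup G) :
    Subgroup.normalizer (A : Set G) ≤ Subgroup.normalizer ((⁅A, A⁆ : Subgroup G) : Set G) := by
  intro g hg
  apply fin_mem_normalizer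
  intro z hz
  have h1 : (MulAut.conj g).toMonoidHom z ∈ (⁅A, A⁆).map (MulAut.conj g).toMonoidHom :=
    ⟨z, hz, rfl⟩
  rw [Subgroup.map_commutator, map_conj_eq_of_mem_normalizer hg] at h1
  exact h1

/-- a `p'`-element normalizing the `p`-group `A` and acting trivially on `A/A'` centralizes `A` -/
theorem nc_coprime {G : Type*} [Group G] [Finite G] {p : ℕ} [Fact p.Prime] {A : Subgroup G}
    (hAp : IsPGroup p ↥A) {x : G} (hxA : x ∈ Subgroup.normalizer (A : Set G))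
    (hx : ∀ i : ℤ, ∀ a ∈ A, x ^ i * a * (x ^ i)⁻¹ * a⁻¹ ∈ ⁅A, A⁆)
    (hcop : (orderOf x).Coprime p) : x ∈ Subgroup.centralizer (A : Set G) := by
  obtain ⟨X, hX⟩ : ∃ X : Subgroup G, X = Subgroup.zpowers x := ⟨_, rfl⟩
  have hXA : X ≤ Subgroup.normalizer (A : Set G) := by rw [hX, Subgroup.zpowers_le]; exact hxA
  have hcard : (Nat.card X).Coprime (Nat.card A) := by
    obtain ⟨n, hn⟩ := IsPGroup.iff_card.mp hAp
    rw [hX, Nat.card_zpowers, hn]
    exact Nat.Coprime.pow_right n hcop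
  have hsolv : Group.IsSolvable ↥X := by
    apply Group.isSolvable_of_comm
    intro a b
    apply Subtype.ext
    have ha : (a : G) ∈ Subgroup.zpowers x := by rw [← hX]; exact a.2
    have hb : (b : G) ∈ Subgroup.zpowers x := by rw [← hX]; exact b.2
    obtain ⟨i, hi⟩ := Subgroup.mem_zpowers_iff.mp ha
    obtain ⟨j, hj⟩ := Subgroup.mem_zpowers_iff.mp hb
    show (a : G) * (b : G) = (b : G) * (a : G)
    rw [← hi, ← hj]
    exact (Commute.zpow_zpow_self x i j).eq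
  have hA'A : ⁅A, A⁆ ≤ A := by
    rw [Subgroup.commutator_le]
    intro a ha b hb
    rw [commutatorElement_def]
    exact A.mul_mem (A.mul_mem (A.mul_mem ha hb) (A.inv_mem ha)) (A.inv_mem hb)
  have hN1 : A ≤ Subgroup.normalizer ((⁅A, A⁆ : Subgroup G) : Set G) :=
    Subgroup.le_normalizer.trans (nc_norm_comm A)
  have hN2 : X ≤ Subgroup.normalizer ((⁅A, A⁆ : Subgroup G) : Set G) :=
    hXA.trans (nc_norm_comm A)
  haveI : Group.IsNilpotent ↥A := hAp.isNilpotent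
  have hK0 : (Subgroup.centralizer (X : Set G)).subgroupOf A = ⊤ := by
    apply frattini_nongenerating
    rw [eq_top_iff]
    intro a _
    have hfix : ∀ c ∈ X, c * (a : G) * c⁻¹ * (a : G)⁻¹ ∈ ⁅A, A⁆ := by
      intro c hc
      rw [hX] at hc
      obtain ⟨i, rfl⟩ := Subgroup.mem_zpowers_iff.mp hc
      exact hx i a a.2
    obtain ⟨c, hc, hcN⟩ := Cfsg.Agent.Lib.Helper7.coprime_fixed_lift X A hXA hcard
      (Or.inl hsolv) ⁅A, A⁆ hA'A hN1 hN2 (a : G) a.2 hfix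
    have hcA : c ∈ A := (Subgroup.mem_inf.mp hc).1
    have hcC : c ∈ Subgroup.centralizer (X : Set G) := (Subgroup.mem_inf.mp hc).2
    have hmem : (a : G)⁻¹ * c ∈ (commutator ↥A).map A.subtype := by
      rw [Subgroup.map_subtype_commutator]; exact hcN
    obtain ⟨f, hf, hfe⟩ := hmem
    have hfe' : ((f : ↥A) : G) = (a : G)⁻¹ * c := hfe
    have ha : a = (⟨c, hcA⟩ : ↥A) * f⁻¹ := by
      apply Subtype.ext
      show (a : G) = c * ((f : ↥A) : G)⁻¹
      rw [hfe']; group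
    rw [ha]
    refine Subgroup.mul_mem_sup ?_ (Subgroup.inv_mem _
      (Cfsg.Agent.Lib.Helper9.commutator_le_frattini_of_isNilpotent ↥A hf))
    rw [Subgroup.mem_subgroupOf]
    exact hcC
  rw [Subgroup.mem_centralizer_iff]
  intro a ha
  have h1 : (⟨a, ha⟩ : ↥A) ∈ (Subgroup.centralizer (X : Set G)).subgroupOf A := by
    rw [hK0]; exact Subgroup.mem_top _
  rw [Subgroup.mem_subgroupOf] at h1
  have hxX : x ∈ X := by rw [hX]; exact Subgroup.mem_zpowers x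
  exact ((Subgroup.mem_centralizer_iff.mp h1) x hxX).symm

/-- Standing hypotheses: G a finite group, S a Sylow p-subgroup, Q a nontrivial large p-subgroup of G contained in S, M a subgroup containing S with the basic property (M ∈ 𝔐_G(S)); Y_M the largest p-reduced normal subgroup of M and M† = M·C_G(Y_M). Let I be a nontrivial normal p-subgroup of M and Y ≤ O_p(M†); let L be a subgroup of G containing Y and A a normal p-subgroup of L with I ≤ A ≤ M. If [Y, A] ≤ [I, A], then Y ≤ O_p(L). -/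
theorem result {G : Type*} [Group G] [Finite G] {p : ℕ} [Fact p.Prime] (S : Sylow p G) (Q : Subgroup G) (hQp : IsPGroup p ↥Q) (hQ1 : Q ≠ ⊥) (hQS : Q ≤ (S : Subgroup G)) (hQ : Cfsg.IsLarge Q) (M : Subgroup G) (hSM : (S : Subgroup G) ≤ M) (hM : Cfsg.IsInFrakM p M) (I : Subgroup G) (hI1 : I ≠ ⊥) (hIp : IsPGroup p ↥I) (hIM : I ≤ M ∧ M ≤ Subgroup.normalizer ((I : Subgroup G) : Set G)) (Y : Subgroup G) (hY : Y ≤ (Cfsg.pCoreOf p (M ⊔ Subgroup.centralizer (((Cfsg.largestPReducedOf p M) : Subgroup G) : Set G)))) (L : Subgroup G) (hYL : Y ≤ L) (A : Subgroup G) (hAp : IsPGroup p ↥A) (hAL : A ≤ L ∧ L ≤ Subgroup.normalizer ((A : Subgroup G) : Set G)) (hIA : I ≤ A) (hAM : A ≤ M) (hc : ⁅Y, A⁆ ≤ ⁅I, A⁆) : Y ≤ (Cfsg.pCoreOf p L) := by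
  classical
  have hp : p.Prime := Fact.out
  obtain ⟨Md, hMd⟩ : ∃ Md : Subgroup G, Md = M ⊔ Subgroup.centralizer
      (((Cfsg.largestPReducedOf p M) : Subgroup G) : Set G) := ⟨_, rfl⟩
  rw [← hMd] at hY
  obtain ⟨-, -, huniq, -, -, -⟩ := hM
  rw [← hMd] at huniq
  -- Step A: `N_G(I) ≤ M†`
  obtain ⟨N, hN⟩ : ∃ N : Subgroup G, N = Subgroup.normalizer (I : Set G) := ⟨_, rfl⟩
  have hMN : M ≤ N := by rw [hN]; exact hIM.2
  have hNpar : Cfsg.IsParabolic p N := ⟨S, hSM.trans hMN⟩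
  have hIN : I ≤ Cfsg.pCoreOf p N :=
    le_pCoreOf (by rw [hN]; exact Subgroup.le_normalizer) hIp (by rw [hN])
  have hP1 : Cfsg.pCoreOf p N ≠ ⊥ := fun h => hI1 (le_bot_iff.mp (h ▸ hIN))
  have hcp := (large_parabolic hQp hQ1 hQ N hNpar hP1).1
  have hNL : N ∈ Cfsg.charPSubgroups p G := by
    refine ⟨fun h => hP1 ?_, hcp⟩
    unfold Cfsg.pCoreOf
    rw [h, Subgroup.map_bot]
  obtain ⟨X, hNX, hXmax⟩ := (Set.toFinite (Cfsg.charPSubgroups p G)).exists_le_maximal hNL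
  have hXm : X ∈ Cfsg.maxCharPSubgroups p G :=
    ⟨hXmax.1, fun L' hL' hXL' => le_antisymm (hXmax.2 hL' hXL') hXL'⟩
  have hXeq : X = Md := huniq X hXm (hMN.trans hNX)
  have hNMd : N ≤ Md := by rw [← hXeq]; exact hNX
  -- Step B
  obtain ⟨Op, hOp⟩ : ∃ Op : Subgroup G, Op = Cfsg.pCoreOf p Md := ⟨_, rfl⟩
  rw [← hOp] at hY
  have hOpn : Md ≤ Subgroup.normalizer (Op : Set G) := by
    rw [hOp]; exact le_normalizer_pCoreOf p Md
  have hOpp : IsPGroup p ↥Op := by rw [hOp]; exact pCoreOf_isPGroup p Md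
  have hCA : Subgroup.centralizer (A : Set G) ≤ Md := by
    refine le_trans ?_ hNMd
    rw [hN]
    exact (Subgroup.centralizer_le (SetLike.coe_subset_coe.mpr hIA)).trans
      (Subgroup.centralizer_le_normalizer _)
  -- Step C: the normal closure `B` of `Y` in `L`
  obtain ⟨B, hB⟩ : ∃ B : Subgroup G, B = Subgroup.closure
      {x : G | ∃ l ∈ L, ∃ y ∈ (Y : Set G), x = l * y * l⁻¹} := ⟨_, rfl⟩
  have hBn : ∀ l ∈ L, ∀ b ∈ B, l * b * l⁻¹ ∈ B := by rw [hB]; exact nc_conj L (Y : Set G)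
  have hBL : B ≤ L := by
    rw [hB, Subgroup.closure_le]
    rintro _ ⟨l, hl, y, hy, rfl⟩
    exact L.mul_mem (L.mul_mem hl (hYL hy)) (L.inv_mem hl)
  have hYB : Y ≤ B := by
    intro y hy
    rw [hB]
    exact Subgroup.subset_closure ⟨1, L.one_mem, y, hy, by simp⟩
  -- Step D
  have hLA : L ≤ Subgroup.normalizer (A : Set G) := hAL.2
  have hA'n := nc_norm_comm A
  have hD : ∀ b ∈ B, ∀ a ∈ A, b * a * b⁻¹ * a⁻¹ ∈ ⁅A, A⁆ := by
    intro b hb
    rw [hB] at hb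
    refine Subgroup.closure_induction
      (p := fun b _ => ∀ a ∈ A, b * a * b⁻¹ * a⁻¹ ∈ ⁅A, A⁆) ?_ ?_ ?_ ?_ hb
    · rintro _ ⟨l, hl, y, hy, rfl⟩ a ha
      have ha' : l⁻¹ * a * l ∈ A :=
        Cfsg.Agent.Lib.Helper7.conj_mem_of_mem_normalizer' (hLA hl) ha
      have h1 : ⁅y, l⁻¹ * a * l⁆ ∈ ⁅A, A⁆ :=
        (Subgroup.commutator_mono hIA le_rfl) (hc (Subgroup.commutator_mem_commutator hy ha'))
      have h2 := Cfsg.Agent.Lib.Helper7.conj_mem_of_mem_normalizer (hA'n (hLA hl)) h1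
      have e : l * y * l⁻¹ * a * (l * y * l⁻¹)⁻¹ * a⁻¹ = l * ⁅y, l⁻¹ * a * l⁆ * l⁻¹ := by
        simp only [commutatorElement_def]; group
      rw [e]; exact h2
    · intro a _; simp
    · intro b c hb' _ ihb ihc a ha
      have hbL : b ∈ L := hBL (by rw [hB]; exact hb')
      have e : b * c * a * (b * c)⁻¹ * a⁻¹ =
          (b * (c * a * c⁻¹ * a⁻¹) * b⁻¹) * (b * a * b⁻¹ * a⁻¹) := by group
      rw [e]
      exact Subgroup.mul_mem _
        (Cfsg.Agent.Lib.Helper7.conj_mem_of_mem_normalizer (hA'n (hLA hbL)) (ihc a ha)) (ihb a ha)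
    · intro b hb' ihb a ha
      have hbL : b ∈ L := hBL (by rw [hB]; exact hb')
      have ha₁ : b⁻¹ * a * b ∈ A :=
        Cfsg.Agent.Lib.Helper7.conj_mem_of_mem_normalizer' (hLA hbL) ha
      have e : b⁻¹ * a * b⁻¹⁻¹ * a⁻¹ = (b * (b⁻¹ * a * b) * b⁻¹ * (b⁻¹ * a * b)⁻¹)⁻¹ := by group
      rw [e]; exact Subgroup.inv_mem _ (ihb _ ha₁)
  -- Step E
  have hE : ∀ x ∈ B, (orderOf x).Coprime p → x ∈ Subgroup.centralizer (A : Set G) := by
    intro x hx hcop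
    refine nc_coprime hAp (hLA (hBL hx)) ?_ hcop
    intro i a ha
    exact hD _ (B.zpow_mem hx i) a ha
  -- Step F
  obtain ⟨CB, hCB⟩ : ∃ CB : Subgroup G, CB = B ⊓ Subgroup.centralizer (A : Set G) := ⟨_, rfl⟩
  have hCBB : CB ≤ B := by rw [hCB]; exact inf_le_left
  have hCBMd : CB ≤ Md := by rw [hCB]; exact inf_le_right.trans hCA
  have hCBn : ∀ l ∈ L, ∀ c ∈ CB, l * c * l⁻¹ ∈ CB := by
    intro l hl c hc'
    rw [hCB] at hc' ⊢
    exact ⟨hBn l hl c hc'.1, Cfsg.Agent.Lib.Helper7.conj_mem_of_mem_normalizer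
      (Cfsg.Agent.Lib.Helper6.gl_normalizer_le_normalizer_centralizer A (hLA hl)) hc'.2⟩
  obtain ⟨P0, hP0⟩ : ∃ P0 : Subgroup G, P0 = CB ⊓ Op := ⟨_, rfl⟩
  have hP0p : IsPGroup p ↥P0 := by rw [hP0]; exact hOpp.to_le inf_le_right
  have hP0n : ∀ c ∈ CB, ∀ z ∈ P0, c * z * c⁻¹ ∈ P0 := by
    intro c hc' z hz
    rw [hP0] at hz ⊢
    exact ⟨CB.mul_mem (CB.mul_mem hc' hz.1) (CB.inv_mem hc'),
      Cfsg.Agent.Lib.Helper7.conj_mem_of_mem_normalizer (hOpn (hCBMd hc')) hz.2⟩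
  obtain ⟨P1, hP1'⟩ : ∃ P1 : Subgroup G, P1 = Subgroup.closure
      {x : G | ∃ l ∈ L, ∃ z ∈ (P0 : Set G), x = l * z * l⁻¹} := ⟨_, rfl⟩
  have hP1n : ∀ l ∈ L, ∀ z ∈ P1, l * z * l⁻¹ ∈ P1 := by
    rw [hP1']; exact nc_conj L (P0 : Set G)
  have hP1le : P1 ≤ Cfsg.pCoreOf p CB := by
    rw [hP1', Subgroup.closure_le]
    rintro _ ⟨l, hl, z, hz, rfl⟩
    have hsub : P0.map (MulAut.conj l).toMonoidHom ≤ Cfsg.pCoreOf p CB := by
      apply le_pCoreOf
      · rintro _ ⟨w, hw, rfl⟩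
        have hwCB : w ∈ CB := by rw [hP0] at hw; exact hw.1
        exact hCBn l hl w hwCB
      · exact hP0p.map _
      · intro c hc'
        apply fin_mem_normalizer
        rintro _ ⟨w, hw, rfl⟩
        have hc'' : l⁻¹ * c * l ∈ CB := by
          have := hCBn l⁻¹ (L.inv_mem hl) c hc'
          simpa using this
        refine ⟨(l⁻¹ * c * l) * w * (l⁻¹ * c * l)⁻¹, hP0n _ hc'' w hw, ?_⟩
        simp only [MulEquiv.coe_toMonoidHom, MulAut.conj_apply]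
        group
    exact hsub ⟨z, hz, rfl⟩
  have hP1p : IsPGroup p ↥P1 := (pCoreOf_isPGroup p CB).to_le hP1le
  -- Step G
  have hG' : ∀ b ∈ B, ∀ c ∈ CB, c * b * c⁻¹ * b⁻¹ ∈ P1 := by
    intro b hb
    rw [hB] at hb
    refine Subgroup.closure_induction
      (p := fun b _ => ∀ c ∈ CB, c * b * c⁻¹ * b⁻¹ ∈ P1) ?_ ?_ ?_ ?_ hb
    · rintro _ ⟨l, hl, y, hy, rfl⟩ c hc'
      have hc'' : l⁻¹ * c * l ∈ CB := by
        have := hCBn l⁻¹ (L.inv_mem hl) c hc'
        simpa using this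
      have hyL : y ∈ L := hYL hy
      have h1 : (l⁻¹ * c * l) * y * (l⁻¹ * c * l)⁻¹ * y⁻¹ ∈ P0 := by
        rw [hP0]
        refine ⟨?_, ?_⟩
        · have h2 : y * (l⁻¹ * c * l)⁻¹ * y⁻¹ ∈ CB := hCBn y hyL _ (CB.inv_mem hc'')
          have e : (l⁻¹ * c * l) * y * (l⁻¹ * c * l)⁻¹ * y⁻¹ =
              (l⁻¹ * c * l) * (y * (l⁻¹ * c * l)⁻¹ * y⁻¹) := by group
          rw [e]; exact CB.mul_mem hc'' h2
        · exact Op.mul_mem (Cfsg.Agent.Lib.Helper7.conj_mem_of_mem_normalizer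
            (hOpn (hCBMd hc'')) (hY hy)) (Op.inv_mem (hY hy))
      have e : c * (l * y * l⁻¹) * c⁻¹ * (l * y * l⁻¹)⁻¹ =
          l * ((l⁻¹ * c * l) * y * (l⁻¹ * c * l)⁻¹ * y⁻¹) * l⁻¹ := by group
      rw [e, hP1']
      exact Subgroup.subset_closure ⟨l, hl, _, h1, rfl⟩
    · intro c _; simp
    · intro b b' hb' _ ihb ihb' c hc'
      have hbL : b ∈ L := hBL (by rw [hB]; exact hb')
      have e : c * (b * b') * c⁻¹ * (b * b')⁻¹ =
          (c * b * c⁻¹ * b⁻¹) * (b * (c * b' * c⁻¹ * b'⁻¹) * b⁻¹) := by group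
      rw [e]; exact P1.mul_mem (ihb c hc') (hP1n b hbL _ (ihb' c hc'))
    · intro b hb' ihb c hc'
      have hbL : b ∈ L := hBL (by rw [hB]; exact hb')
      have e : c * b⁻¹ * c⁻¹ * b⁻¹⁻¹ = b⁻¹ * (c * b * c⁻¹ * b⁻¹)⁻¹ * b⁻¹⁻¹ := by group
      rw [e]; exact hP1n b⁻¹ (L.inv_mem hbL) _ (P1.inv_mem (ihb c hc'))
  -- Step H
  have hP1sub : IsPGroup p ↥(P1.subgroupOf B) := hP1p.comap_subtype
  obtain ⟨T, hT⟩ := hP1sub.exists_le_sylow
  have hH1 : CB.subgroupOf B ≤ Subgroup.normalizer ((T : Subgroup ↥B) : Set ↥B) := by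
    intro c hc'
    apply fin_mem_normalizer
    intro t ht
    have h1 : c * t * c⁻¹ * t⁻¹ ∈ P1.subgroupOf B := by
      rw [Subgroup.mem_subgroupOf]
      exact hG' (t : G) t.2 (c : G) (Subgroup.mem_subgroupOf.mp hc')
    have e : c * t * c⁻¹ = (c * t * c⁻¹ * t⁻¹) * t := by group
    rw [e]; exact Subgroup.mul_mem _ (hT h1) ht
  have hprime : ∀ {q : ℕ}, q.Prime → q ∣ (CB.subgroupOf B).index → q = p := by
    intro q hq hdvd
    by_contra hqp
    haveI : Fact q.Prime := ⟨hq⟩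
    obtain ⟨Sq, -⟩ := (IsPGroup.of_bot : IsPGroup q ↥(⊥ : Subgroup ↥B)).exists_le_sylow
    have hle : (Sq : Subgroup ↥B) ≤ CB.subgroupOf B := by
      intro s hs
      rw [Subgroup.mem_subgroupOf, hCB]
      refine ⟨s.2, hE (s : G) s.2 ?_⟩
      obtain ⟨k, hk⟩ := Sq.isPGroup' ⟨s, hs⟩
      have hk' : s ^ q ^ k = 1 := by
        have := congrArg Subtype.val hk
        simpa using this
      have hdvd' : orderOf (s : G) ∣ q ^ k := by
        rw [Subgroup.orderOf_coe]; exact orderOf_dvd_of_pow_eq_one hk'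
      exact Nat.Coprime.coprime_dvd_left hdvd'
        (Nat.Coprime.pow_left k ((Nat.coprime_primes hq hp).mpr hqp))
    exact Sq.not_dvd_index (hdvd.trans (Subgroup.index_dvd_of_le hle))
  have hidx : (CB.subgroupOf B).index ≠ 0 := Subgroup.index_ne_zero_of_finite
  have hpow := Nat.eq_prime_pow_of_unique_prime_dvd hidx hprime
  have hsup : (T : Subgroup ↥B) ⊔ CB.subgroupOf B = ⊤ := by
    rw [← Subgroup.index_eq_one]
    have h1 : ((T : Subgroup ↥B) ⊔ CB.subgroupOf B).index ∣ (T : Subgroup ↥B).index :=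
      Subgroup.index_dvd_of_le le_sup_left
    have h2 : ((T : Subgroup ↥B) ⊔ CB.subgroupOf B).index ∣ (CB.subgroupOf B).index :=
      Subgroup.index_dvd_of_le le_sup_right
    rw [hpow] at h2
    obtain ⟨j, -, hj⟩ := (Nat.dvd_prime_pow hp).mp h2
    rcases Nat.eq_zero_or_pos j with h0 | hpos
    · rw [hj, h0, pow_zero]
    · exfalso
      apply T.not_dvd_index
      exact (dvd_pow_self p hpos.ne').trans (hj ▸ h1)
  have hTn : Subgroup.normalizer ((T : Subgroup ↥B) : Set ↥B) = ⊤ := by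
    rw [eq_top_iff, ← hsup]
    exact sup_le Subgroup.le_normalizer hH1
  have hgen : ∀ l ∈ L, ∀ y ∈ Y, ∃ hm : l * y * l⁻¹ ∈ B,
      (⟨l * y * l⁻¹, hm⟩ : ↥B) ∈ (T : Subgroup ↥B) := by
    intro l hl y hy
    have hm : l * y * l⁻¹ ∈ B := by
      rw [hB]; exact Subgroup.subset_closure ⟨l, hl, y, hy, rfl⟩
    refine ⟨hm, ?_⟩
    obtain ⟨k, hk⟩ := hOpp ⟨y, hY hy⟩
    have hk' : y ^ p ^ k = 1 := by
      have := congrArg Subtype.val hk
      simpa using this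
    have hgk : (⟨l * y * l⁻¹, hm⟩ : ↥B) ^ p ^ k = 1 := by
      apply Subtype.ext
      show (l * y * l⁻¹) ^ p ^ k = 1
      rw [conj_pow, hk', mul_one, mul_inv_cancel]
    have hZp : IsPGroup p ↥(Subgroup.zpowers (⟨l * y * l⁻¹, hm⟩ : ↥B)) := by
      intro z
      refine ⟨k, ?_⟩
      obtain ⟨i, hi⟩ := Subgroup.mem_zpowers_iff.mp z.2
      apply Subtype.ext
      show (z : ↥B) ^ p ^ k = 1
      rw [← hi, ← zpow_natCast, ← zpow_mul, mul_comm, zpow_mul, zpow_natCast, hgk, one_zpow]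
    have hsupp : IsPGroup p
        ↥(Subgroup.zpowers (⟨l * y * l⁻¹, hm⟩ : ↥B) ⊔ (T : Subgroup ↥B)) :=
      IsPGroup.to_sup_of_normal_right' hZp T.isPGroup' (by rw [hTn]; exact le_top)
    have heq := T.is_maximal' hsupp le_sup_right
    have hmem : (⟨l * y * l⁻¹, hm⟩ : ↥B) ∈
        Subgroup.zpowers (⟨l * y * l⁻¹, hm⟩ : ↥B) ⊔ (T : Subgroup ↥B) :=
      Subgroup.mem_sup_left (Subgroup.mem_zpowers _)
    rw [heq] at hmem
    exact hmem
  have hcl : Subgroup.closure {x : G | ∃ l ∈ L, ∃ y ∈ (Y : Set G), x = l * y * l⁻¹} ≤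
      (T : Subgroup ↥B).map B.subtype := by
    rw [Subgroup.closure_le]
    rintro _ ⟨l, hl, y, hy, rfl⟩
    obtain ⟨hm, hmem⟩ := hgen l hl y hy
    exact ⟨⟨l * y * l⁻¹, hm⟩, hmem, rfl⟩
  have hBT : B ≤ (T : Subgroup ↥B).map B.subtype := fun b hb => hcl (by rw [← hB]; exact hb)
  have hBp : IsPGroup p ↥B := (T.isPGroup'.map B.subtype).to_le hBT
  have hBle : B ≤ Cfsg.pCoreOf p L := by
    apply le_pCoreOf hBL hBp
    intro l hl
    apply fin_mem_normalizer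
    intro b hb
    exact hBn l hl b hb
  exact hYB.trans hBle

end Cfsg.Agent.S2864
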