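import Cfsg.Statements.S2880
import Mathlib
import Cfsg.Agent.Lib.Helper8.Frat2Count

set_option autoImplicit false
open Cfsg

namespace Cfsg.Agent.S2880

open Cfsg.Agent.Lib.Helper8

theorem half_count {X : Type*} [Fintype X] (P : X → Prop) [DecidablePred P] (σ : X ≃ X)
    (h : ∀ x, P (σ x) ↔ ¬ P x) : 2 * (Finset.univ.filter P).card = Fintype.card X := by
  have h1 : (Finset.univ.filter (fun x => ¬ P x)).card = (Finset.univ.filter P).card := by
    apply Finset.card_equiv σ
    intro i
    simp [h]
  have h2 := Finset.card_filter_add_card_filter_not (s := (Finset.univ : Finset X)) P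
  rw [Finset.card_univ] at h2
  omega

/-- number of solutions of `x^2 = 1` in an extraspecial 2-group of plus type -/
theorem es_invol_count {E : Type*} [Group E] [Finite E] (m : ℕ)
    (hE : Cfsg.IsExtraspecial 2 E) (hcard : Nat.card E = 2 ^ (2 * m + 1))
    (A : Subgroup E) (hA : Cfsg.IsElementaryAbelian 2 A) (hAc : Nat.card A = 2 ^ (m + 1)) :
    Nat.card {x : E // x ^ 2 = 1} = 2 ^ (2 * m) + 2 ^ m ∧ (∀ x : E, x ^ 4 = 1) ∧
      (∀ x : E, x ∈ Subgroup.center E → x ^ 2 = 1) := by
  classical
  haveI := Fintype.ofFinite E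
  obtain ⟨⟨hP, hfr, hcm⟩, hZ⟩ := hE
  have hΦ : Nat.card (frattini E) = 2 := by rw [hfr]; exact hZ
  obtain ⟨z, hz1, hzz, hzΦ, hall, hzc, hsq, hcomm⟩ := h8_f2_elt hP hΦ
  have hcen : ∀ x : E, (∀ g : E, g * x = x * g) → x = 1 ∨ x = z := by
    intro x hx
    apply hall
    rw [hfr, Subgroup.mem_center_iff]
    exact hx
  obtain ⟨hAcomm, hAexp⟩ := hA
  have hAc' : ∀ a ∈ A, ∀ b ∈ A, a * b = b * a := by
    intro a ha b hb
    exact congrArg Subtype.val (hAcomm.is_comm.comm ⟨a, ha⟩ ⟨b, hb⟩)
  have hA2 : ∀ a ∈ A, a * a = 1 := fun a ha => by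
    have := hAexp a ha
    rwa [pow_two] at this
  have hzne : ∀ t : E, z * t ≠ t := by
    intro t ht
    have : z * t = 1 * t := by rw [one_mul]; exact ht
    exact hz1 (mul_right_cancel this)
  -- toggling
  have tog : ∀ x x₀ a : E, x₀ * a ≠ a * x₀ →
      ((x * x₀) * a = a * (x * x₀) ↔ ¬ (x * a = a * x)) := by
    intro x x₀ a h0
    have h0' : x₀ * a = z * (a * x₀) := (hcomm x₀ a).resolve_left h0
    rcases hcomm x a with h1 | h1
    · constructor
      · intro h2
        exfalso
        have h3 : (x * x₀) * a = z * (a * (x * x₀)) := by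
          calc (x * x₀) * a = x * (x₀ * a) := by group
            _ = x * (z * (a * x₀)) := by rw [h0']
            _ = (x * z) * (a * x₀) := by group
            _ = (z * x) * (a * x₀) := by rw [hzc x]
            _ = z * ((x * a) * x₀) := by group
            _ = z * ((a * x) * x₀) := by rw [h1]
            _ = z * (a * (x * x₀)) := by group
        rw [h3] at h2
        exact hzne _ h2
      · intro h2
        exact absurd h1 h2
    · constructor
      · intro _ h2
        rw [h2] at h1
        exact hzne _ h1.symm
      · intro _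
        calc (x * x₀) * a = x * (x₀ * a) := by group
          _ = x * (z * (a * x₀)) := by rw [h0']
          _ = (x * z) * (a * x₀) := by group
          _ = (z * x) * (a * x₀) := by rw [hzc x]
          _ = z * ((x * a) * x₀) := by group
          _ = z * ((z * (a * x)) * x₀) := by rw [h1]
          _ = (z * z) * (a * (x * x₀)) := by group
          _ = a * (x * x₀) := by rw [hzz, one_mul]
  -- squares toggle
  have togsq : ∀ y a₀ a : E, a ∈ A → a₀ ∈ A → y * a₀ ≠ a₀ * y →
      ((y * (a * a₀)) ^ 2 = 1 ↔ ¬ ((y * a) ^ 2 = 1)) := by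
    intro y a₀ a ha ha₀ h0
    have h0' : y * a₀ = z * (a₀ * y) := (hcomm y a₀).resolve_left h0
    have hw : (y * a) * a₀ = z * (a₀ * (y * a)) := by
      calc (y * a) * a₀ = y * (a * a₀) := by group
        _ = y * (a₀ * a) := by rw [hAc' a ha a₀ ha₀]
        _ = (y * a₀) * a := by group
        _ = z * (a₀ * y) * a := by rw [h0']
        _ = z * (a₀ * (y * a)) := by group
    have hkey : (y * (a * a₀)) ^ 2 = z * (y * a) ^ 2 := by
      have e1 : y * (a * a₀) = (y * a) * a₀ := by group
      rw [e1, pow_two, pow_two]
      generalize y * a = w at hw ⊢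
      rcases hsq w with hw2 | hw2
      · calc w * a₀ * (w * a₀) = (w * a₀) * w * a₀ := by group
          _ = z * (a₀ * w) * w * a₀ := by rw [hw]
          _ = z * (a₀ * (w * w) * a₀) := by group
          _ = z * (a₀ * a₀) := by rw [hw2, mul_one]
          _ = z * (w * w) := by rw [hA2 a₀ ha₀, hw2]
      · calc w * a₀ * (w * a₀) = (w * a₀) * w * a₀ := by group
          _ = z * (a₀ * w) * w * a₀ := by rw [hw]
          _ = z * (a₀ * (w * w) * a₀) := by group
          _ = z * (a₀ * z * a₀) := by rw [hw2]
          _ = z * (z * a₀ * a₀) := by rw [hzc a₀]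
          _ = z * (z * (a₀ * a₀)) := by group
          _ = z * (w * w) := by rw [hA2 a₀ ha₀, hw2, mul_one]
    rw [hkey]
    rcases hsq (y * a) with hw2 | hw2
    · have : (y * a) ^ 2 = 1 := by rw [pow_two]; exact hw2
      rw [this, mul_one]
      constructor
      · intro h; exact absurd h hz1
      · intro h; exact absurd rfl h
    · have : (y * a) ^ 2 = z := by rw [pow_two]; exact hw2
      rw [this, hzz]
      constructor
      · intro _; exact hz1
      · intro _; rfl
  -- cardinalities
  have hEcard : Fintype.card E = 2 ^ (2 * m + 1) := by rw [← Nat.card_eq_fintype_card]; exact hcard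
  have hAcard : Fintype.card A = 2 ^ (m + 1) := by rw [← Nat.card_eq_fintype_card]; exact hAc
  -- double counting to get C_E(A) ⊆ A
  have D : ∑ x : E, (Finset.univ.filter (fun a : A => x * (a : E) = (a : E) * x)).card =
      ∑ a : A, (Finset.univ.filter (fun x : E => x * (a : E) = (a : E) * x)).card := by
    simp only [Finset.card_filter]
    exact Finset.sum_comm
  have hL : ∀ x : E, 2 * (Finset.univ.filter (fun a : A => x * (a : E) = (a : E) * x)).card =
      Fintype.card A + (if (∀ a ∈ A, x * a = a * x) then Fintype.card A else 0) := by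
    intro x
    by_cases hx : ∀ a ∈ A, x * a = a * x
    · rw [if_pos hx]
      have : Finset.univ.filter (fun a : A => x * (a : E) = (a : E) * x) = Finset.univ := by
        apply Finset.filter_true_of_mem
        intro a _
        exact hx a a.2
      rw [this, Finset.card_univ]
      ring
    · rw [if_neg hx, add_zero]
      push_neg at hx
      obtain ⟨a₀, ha₀, hne⟩ := hx
      apply half_count _ (Equiv.mulRight (⟨a₀, ha₀⟩ : A))
      intro a
      have h1 := tog (a : E) a₀ x (fun h => hne h.symm)
      show x * ((a : E) * a₀) = ((a : E) * a₀) * x ↔ ¬ (x * (a : E) = (a : E) * x)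
      constructor
      · intro h2 h3
        exact (h1.mp h2.symm) h3.symm
      · intro h2
        exact (h1.mpr (fun h3 => h2 h3.symm)).symm
  have hR : ∀ a : A, 2 * (Finset.univ.filter (fun x : E => x * (a : E) = (a : E) * x)).card =
      Fintype.card E + (if ((a : E) = 1 ∨ (a : E) = z) then Fintype.card E else 0) := by
    intro a
    by_cases ha : (a : E) = 1 ∨ (a : E) = z
    · rw [if_pos ha]
      have : Finset.univ.filter (fun x : E => x * (a : E) = (a : E) * x) = Finset.univ := by
        apply Finset.filter_true_of_mem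
        intro x _
        rcases ha with h | h
        · rw [h, mul_one, one_mul]
        · rw [h]; exact hzc x
      rw [this, Finset.card_univ]
      ring
    · rw [if_neg ha, add_zero]
      have : ¬ ∀ g : E, g * (a : E) = (a : E) * g := fun h => ha (hcen _ h)
      push_neg at this
      obtain ⟨x₀, hx₀⟩ := this
      apply half_count _ (Equiv.mulRight x₀)
      intro x
      exact tog x x₀ (a : E) hx₀
  have hcenA : (Finset.univ.filter (fun a : A => (a : E) = 1 ∨ (a : E) = z)).card ≤ 2 := by
    by_cases hzA : z ∈ A
    · have : Finset.univ.filter (fun a : A => (a : E) = 1 ∨ (a : E) = z) ⊆ {1, ⟨z, hzA⟩} := by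
        intro a ha
        rw [Finset.mem_filter] at ha
        rcases ha.2 with h | h
        · rw [Finset.mem_insert]; left; exact Subtype.ext h
        · rw [Finset.mem_insert, Finset.mem_singleton]; right; exact Subtype.ext h
      exact (Finset.card_le_card this).trans Finset.card_le_two
    · have : Finset.univ.filter (fun a : A => (a : E) = 1 ∨ (a : E) = z) ⊆ {1} := by
        intro a ha
        rw [Finset.mem_filter] at ha
        rcases ha.2 with h | h
        · rw [Finset.mem_singleton]; exact Subtype.ext h
        · exact absurd (h ▸ a.2) hzA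
      exact (Finset.card_le_card this).trans (by simp)
  set C := Finset.univ.filter (fun x : E => ∀ a ∈ A, x * a = a * x) with hCdef
  have hCA : C.card * Fintype.card A ≤ 2 * Fintype.card E := by
    have e1 : 2 * ∑ x : E, (Finset.univ.filter (fun a : A => x * (a : E) = (a : E) * x)).card =
        Fintype.card E * Fintype.card A + C.card * Fintype.card A := by
      rw [Finset.mul_sum, Finset.sum_congr rfl (fun x _ => hL x), Finset.sum_add_distrib,
        Finset.sum_const, Finset.card_univ, smul_eq_mul, Finset.sum_ite, Finset.sum_const,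
        Finset.sum_const_zero, smul_eq_mul, add_zero]
    have e2 : 2 * ∑ a : A, (Finset.univ.filter (fun x : E => x * (a : E) = (a : E) * x)).card =
        Fintype.card A * Fintype.card E +
          (Finset.univ.filter (fun a : A => (a : E) = 1 ∨ (a : E) = z)).card * Fintype.card E := by
      rw [Finset.mul_sum, Finset.sum_congr rfl (fun x _ => hR x), Finset.sum_add_distrib,
        Finset.sum_const, Finset.card_univ, smul_eq_mul, Finset.sum_ite, Finset.sum_const,
        Finset.sum_const_zero, smul_eq_mul, add_zero]
    rw [D, e2] at e1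
    have e3 := Nat.mul_le_mul_right (Fintype.card E) hcenA
    nlinarith
  have hCle : C.card ≤ 2 ^ (m + 1) := by
    rw [hAcard, hEcard] at hCA
    have h1 : 2 * 2 ^ (2 * m + 1) = 2 ^ (m + 1) * 2 ^ (m + 1) := by ring
    rw [h1] at hCA
    exact Nat.le_of_mul_le_mul_right hCA (by positivity)
  set A' := Finset.univ.filter (fun x : E => x ∈ A) with hA'def
  have hA'card : A'.card = 2 ^ (m + 1) := by
    rw [← hAcard, hA'def, ← Fintype.card_subtype]
  have hA'C : A' = C := by
    apply Finset.eq_of_subset_of_card_le
    · intro x hx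
      rw [hA'def, Finset.mem_filter] at hx
      rw [hCdef, Finset.mem_filter]
      exact ⟨Finset.mem_univ _, fun a ha => hAc' x hx.2 a ha⟩
    · rw [hA'card]; exact hCle
  have hself : ∀ y : E, y ∉ A → ∃ a₀ ∈ A, y * a₀ ≠ a₀ * y := by
    intro y hy
    by_contra hcon
    push_neg at hcon
    have : y ∈ C := by
      rw [hCdef, Finset.mem_filter]
      exact ⟨Finset.mem_univ _, hcon⟩
    rw [← hA'C, hA'def, Finset.mem_filter] at this
    exact hy this.2
  -- main count
  set N := (Finset.univ.filter (fun y : E => y ^ 2 = 1)).card with hNdef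
  have M : ∑ y : E, (Finset.univ.filter (fun a : A => (y * (a : E)) ^ 2 = 1)).card =
      ∑ a : A, (Finset.univ.filter (fun y : E => (y * (a : E)) ^ 2 = 1)).card := by
    simp only [Finset.card_filter]
    exact Finset.sum_comm
  have hMR : ∀ a : A, (Finset.univ.filter (fun y : E => (y * (a : E)) ^ 2 = 1)).card = N := by
    intro a
    rw [hNdef]
    apply Finset.card_equiv (Equiv.mulRight (a : E))
    intro y
    simp
  have hML : ∀ y : E, 2 * (Finset.univ.filter (fun a : A => (y * (a : E)) ^ 2 = 1)).card =
      Fintype.card A + (if y ∈ A then Fintype.card A else 0) := by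
    intro y
    by_cases hy : y ∈ A
    · rw [if_pos hy]
      have : Finset.univ.filter (fun a : A => (y * (a : E)) ^ 2 = 1) = Finset.univ := by
        apply Finset.filter_true_of_mem
        intro a _
        rw [pow_two]
        exact hA2 _ (A.mul_mem hy a.2)
      rw [this, Finset.card_univ]
      ring
    · rw [if_neg hy, add_zero]
      obtain ⟨a₀, ha₀, hne⟩ := hself y hy
      apply half_count _ (Equiv.mulRight (⟨a₀, ha₀⟩ : A))
      intro a
      exact togsq y a₀ (a : E) a.2 ha₀ hne
  have hN : 2 * N = 2 ^ (2 * m + 1) + 2 ^ (m + 1) := by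
    have e1 : 2 * ∑ y : E, (Finset.univ.filter (fun a : A => (y * (a : E)) ^ 2 = 1)).card =
        Fintype.card E * Fintype.card A + A'.card * Fintype.card A := by
      rw [Finset.mul_sum, Finset.sum_congr rfl (fun x _ => hML x), Finset.sum_add_distrib,
        Finset.sum_const, Finset.card_univ, smul_eq_mul, Finset.sum_ite, Finset.sum_const,
        Finset.sum_const_zero, smul_eq_mul, add_zero]
    rw [M, Finset.sum_congr rfl (fun a _ => hMR a), Finset.sum_const, Finset.card_univ,
      smul_eq_mul, hA'card, hAcard, hEcard] at e1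
    have hpos : 0 < 2 ^ (m + 1) := by positivity
    have e2 : 2 ^ (m + 1) * (2 * N) = 2 ^ (m + 1) * (2 ^ (2 * m + 1) + 2 ^ (m + 1)) := by
      nlinarith
    exact Nat.eq_of_mul_eq_mul_left hpos e2
  refine ⟨?_, ?_, ?_⟩
  · rw [Nat.card_eq_fintype_card, Fintype.card_subtype, ← hNdef]
    have h1 : 2 ^ (2 * m + 1) = 2 * 2 ^ (2 * m) := by ring
    have h2 : 2 ^ (m + 1) = 2 * 2 ^ m := by ring
    omega
  · intro x
    have : x ^ 4 = (x * x) * (x * x) := by
      rw [show (4 : ℕ) = 2 + 2 from rfl, pow_add, pow_two]
    rw [this]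
    rcases hsq x with h | h
    · rw [h, mul_one]
    · rw [h, hzz]
  · intro x hx
    rw [pow_two]
    rcases hall x (hfr ▸ hx) with h | h
    · rw [h, mul_one]
    · rw [h, hzz]

/-- Let E be an extraspecial 2-group of order 2^(2m+1) of plus type, that is, containing an elementary abelian subgroup of order 2^(m+1) (equivalently, a central product of m dihedral groups of order 8). Then E has exactly 2^(2m) − 2^m elements of order 4. -/
theorem result {E : Type*} [Group E] [Finite E] (m : ℕ) (hm : 1 ≤ m) (hE : Cfsg.IsExtraspecial 2 E) (hcard : Nat.card E = 2 ^ (2 * m + 1)) (hplus : ∃ A : Subgroup E, Cfsg.IsElementaryAbelian 2 A ∧ Nat.card A = 2 ^ (m + 1)) : Nat.card {x : E // orderOf x = 4} = 2 ^ (2 * m) - 2 ^ m := by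
  classical
  haveI := Fintype.ofFinite E
  haveI : Fact (Nat.Prime 2) := ⟨Nat.prime_two⟩
  obtain ⟨A, hA, hAc⟩ := hplus
  obtain ⟨hN, h4, _⟩ := es_invol_count m hE hcard A hA hAc
  have hiff : ∀ x : E, orderOf x = 4 ↔ ¬ (x ^ 2 = 1) := by
    intro x
    constructor
    · intro h hx
      have := orderOf_dvd_of_pow_eq_one hx
      rw [h] at this
      omega
    · intro hx
      have h1 : ¬ x ^ 2 ^ 1 = 1 := by simpa using hx
      have h2 : x ^ 2 ^ (1 + 1) = 1 := by
        have := h4 x
        norm_num
        exact this
      have := orderOf_eq_prime_pow h1 h2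
      rw [this]
      norm_num
  rw [Nat.card_congr (Equiv.subtypeEquivRight hiff), Nat.card_eq_fintype_card,
    Fintype.card_subtype_compl, ← Nat.card_eq_fintype_card, ← Nat.card_eq_fintype_card, hN, hcard]
  have h1 : 2 ^ (2 * m + 1) = 2 * 2 ^ (2 * m) := by ring
  omega

end Cfsg.Agent.S2880
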