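import Cfsg.Statements.S2881
import Mathlib
import Cfsg.Agent.S2880

set_option autoImplicit false
open Cfsg

namespace Cfsg.Agent.S2881

/-- Let E be an extraspecial 2-group of order 2^(2m+1) of plus type (containing an elementary abelian subgroup of order 2^(m+1)), and let ω be an automorphism of E of order 5 whose fixed points are exactly the centre of E. Then m is divisible by 4. -/
theorem result {E : Type*} [Group E] [Finite E] (m : ℕ) (hm : 1 ≤ m) (hE : Cfsg.IsExtraspecial 2 E) (hcard : Nat.card E = 2 ^ (2 * m + 1)) (hplus : ∃ A : Subgroup E, Cfsg.IsElementaryAbelian 2 A ∧ Nat.card A = 2 ^ (m + 1)) (ω : E ≃* E) (hω : orderOf ω = 5) (hfix : ∀ x : E, ω x = x ↔ x ∈ Subgroup.center E) : 4 ∣ m := by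
  classical
  haveI := Fintype.ofFinite E
  haveI : Fact (Nat.Prime 5) := ⟨by norm_num⟩
  have hT := Cfsg.Agent.S2880.result m hm hE hcard hplus
  obtain ⟨A, hA, hAc⟩ := hplus
  obtain ⟨_, _, hcen2⟩ := Cfsg.Agent.S2880.es_invol_count m hE hcard A hA hAc
  letI : MulAction (Subgroup.zpowers ω) {x : E // orderOf x = 4} :=
    { smul := fun σ x => ⟨(σ : E ≃* E) x.1, by rw [MulEquiv.orderOf_eq]; exact x.2⟩
      one_smul := fun x => Subtype.ext rfl
      mul_smul := fun σ τ x => Subtype.ext rfl }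
  have hp : IsPGroup 5 (Subgroup.zpowers ω) := by
    apply IsPGroup.of_card (n := 1)
    rw [Nat.card_zpowers, hω, pow_one]
  have hmod := hp.card_modEq_card_fixedPoints {x : E // orderOf x = 4}
  have hfp : IsEmpty (MulAction.fixedPoints (Subgroup.zpowers ω) {x : E // orderOf x = 4}) := by
    constructor
    rintro ⟨x, hx⟩
    have h1 := hx ⟨ω, Subgroup.mem_zpowers ω⟩
    have h2 : ω x.1 = x.1 := congrArg Subtype.val h1
    have h3 := (hfix x.1).mp h2
    have h4 := hcen2 x.1 h3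
    have h5 := orderOf_dvd_of_pow_eq_one h4
    rw [x.2] at h5
    omega
  rw [hT, Nat.card_of_isEmpty] at hmod
  have h5 : 5 ∣ 2 ^ (2 * m) - 2 ^ m := (Nat.modEq_zero_iff_dvd).mp hmod
  have e1 : 2 ^ (2 * m) - 2 ^ m = 2 ^ m * (2 ^ m - 1) := by
    rw [Nat.mul_sub, mul_one, ← pow_add]
    congr 2
    ring
  rw [e1] at h5
  have h6 : 5 ∣ 2 ^ m - 1 := by
    have hc : Nat.Coprime 5 (2 ^ m) := Nat.Coprime.pow_right m (by norm_num)
    exact hc.dvd_of_dvd_mul_left h5
  have hpos : 1 ≤ 2 ^ m := Nat.one_le_two_pow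
  have h7 : 2 ^ m % 5 = 1 := by omega
  have h8 : 2 ^ m % 5 = 2 ^ (m % 4) % 5 := by
    conv_lhs => rw [← Nat.div_add_mod m 4, pow_add, pow_mul]
    rw [Nat.mul_mod, Nat.pow_mod]
    norm_num
  rw [h8] at h7
  have h9 : m % 4 < 4 := Nat.mod_lt _ (by norm_num)
  rw [Nat.dvd_iff_mod_eq_zero]
  interval_cases h : m % 4 <;> simp_all

end Cfsg.Agent.S2881
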