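import Cfsg.Statements.S2897
import Mathlib
import Cfsg.Agent.Lib.Helper3.ParaChar
import Cfsg.Agent.Lib.Helper3.SubnSylow
import Cfsg.Agent.Lib.Helper3.ZJ

set_option autoImplicit false
open Cfsg
open Cfsg.Agent.Lib.Helper3

namespace Cfsg.Agent.S2897

/-- Let p be a prime dividing the order of the finite group G, suppose G has parabolic characteristic p, let S be a Sylow p-subgroup of G and G₁ a normal subgroup of G. If Ω₁(Z(S ∩ G₁)) is nontrivial and contained in Ω₁(Z(S)), then G₁ has parabolic characteristic p. -/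
theorem result {G : Type*} [Group G] [Finite G] {p : ℕ} [Fact p.Prime] (hdiv : p ∣ Nat.card G) (hG : Cfsg.IsOfParabolicCharacteristic p G) (S : Sylow p G) (G₁ : Subgroup G) [G₁.Normal] (hne : Cfsg.omegaOne p (((S : Subgroup G) ⊓ G₁) ⊓ Subgroup.centralizer (((S : Subgroup G) ⊓ G₁ : Subgroup G) : Set G)) ≠ ⊥) (hle : Cfsg.omegaOne p (((S : Subgroup G) ⊓ G₁) ⊓ Subgroup.centralizer (((S : Subgroup G) ⊓ G₁ : Subgroup G) : Set G)) ≤ Cfsg.omegaOne p ((S : Subgroup G) ⊓ Subgroup.centralizer ((S : Subgroup G) : Set G))) : Cfsg.IsOfParabolicCharacteristic p ↥G₁ := by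
  classical
  have hp : p.Prime := Fact.out
  intro R hRp hRne hpar
  obtain ⟨T₁, hT₁⟩ := hpar
  obtain ⟨S₁, hS₁⟩ := exists_sylow_subgroupOf_subnormal S (Subgroup.Normal.isSubnormal ‹G₁.Normal›)
  obtain ⟨g, hg⟩ := MulAction.exists_smul_eq ↥G₁ S₁ T₁
  obtain ⟨N, hN⟩ : ∃ N : Subgroup ↥G₁, N = Subgroup.normalizer (R : Set ↥G₁) := ⟨_, rfl⟩
  rw [← hN]
  -- conjugation facts inside G₁
  have hnorm : ∀ n ∈ N, (n : G) ∈ Subgroup.normalizer ((R.map G₁.subtype : Subgroup G) : Set G) := by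
    intro n hn
    apply fin_mem_normalizer
    rintro _ ⟨r, hr, rfl⟩
    rw [hN] at hn
    exact ⟨n * r * n⁻¹, (Subgroup.mem_normalizer_iff.mp hn r).mp hr, rfl⟩
  have hNmap : N.map G₁.subtype
      = G₁ ⊓ Subgroup.normalizer ((R.map G₁.subtype : Subgroup G) : Set G) := by
    apply le_antisymm
    · rintro _ ⟨n, hn, rfl⟩
      exact Subgroup.mem_inf.mpr ⟨n.2, hnorm n hn⟩
    · intro x hx
      obtain ⟨hx1, hx2⟩ := Subgroup.mem_inf.mp hx
      refine ⟨⟨x, hx1⟩, ?_, rfl⟩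
      rw [hN]
      apply fin_mem_normalizer
      intro r hr
      obtain ⟨r', hr', hr'eq⟩ := (Subgroup.mem_normalizer_iff.mp hx2 (r : G)).mp ⟨r, hr, rfl⟩
      have h1 : (⟨x, hx1⟩ : ↥G₁) * r * (⟨x, hx1⟩ : ↥G₁)⁻¹ = r' := Subtype.ext hr'eq.symm
      rw [h1]; exact hr'
  have hT₁N : (T₁ : Subgroup ↥G₁) ≤ N := by rw [hN]; exact hT₁
  have hmain : CharPIn p (N.map G₁.subtype) := by
    rw [hNmap]
    refine parachar_main hG G₁ (R.map G₁.subtype) ((T₁ : Subgroup ↥G₁).map G₁.subtype)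
      (Subgroup.map_subtype_le _) (hRp.map _)
      (fun h => hRne ((Subgroup.map_eq_bot_iff_of_injective _ G₁.subtype_injective).mp h))
      (Subgroup.map_subtype_le _) ?_ ?_ ?_
    · rintro _ ⟨t, ht, rfl⟩
      exact hnorm t (hT₁N ht)
    · rw [card_map_subtype]
      exact T₁.card_eq_multiplicity
    · rintro _ ⟨t, ht, rfl⟩ hzc hzp
      have hzp' : (t : G) ^ p = 1 := hzp
      have hzc' : ∀ t' ∈ (T₁ : Subgroup ↥G₁), (t' : G) * (t : G) = (t : G) * (t' : G) :=
        fun t' ht' => hzc _ ⟨t', ht', rfl⟩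
      have ht2 : t ∈ ((g • S₁ : Sylow p ↥G₁) : Subgroup ↥G₁) := by rw [hg]; exact ht
      rw [mem_sylow_smul_iff, hS₁, Subgroup.mem_subgroupOf] at ht2
      have ht3 : (g : G)⁻¹ * (t : G) * (g : G) ∈ (S : Subgroup G) ⊓ G₁ := ht2
      -- z' centralizes S ⊓ G₁
      have hcen : ∀ s ∈ (S : Subgroup G) ⊓ G₁,
          s * ((g : G)⁻¹ * (t : G) * (g : G)) = ((g : G)⁻¹ * (t : G) * (g : G)) * s := by
        intro s hs
        have hs1 : (⟨s, (Subgroup.mem_inf.mp hs).2⟩ : ↥G₁) ∈ (S₁ : Subgroup ↥G₁) := by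
          rw [hS₁, Subgroup.mem_subgroupOf]; exact hs
        have hs2 : g * (⟨s, (Subgroup.mem_inf.mp hs).2⟩ : ↥G₁) * g⁻¹ ∈ (T₁ : Subgroup ↥G₁) := by
          have h0 : g * (⟨s, (Subgroup.mem_inf.mp hs).2⟩ : ↥G₁) * g⁻¹
              ∈ ((g • S₁ : Sylow p ↥G₁) : Subgroup ↥G₁) := by
            rw [mem_sylow_smul_iff]
            have h1 : g⁻¹ * (g * (⟨s, (Subgroup.mem_inf.mp hs).2⟩ : ↥G₁) * g⁻¹) * g
                = ⟨s, (Subgroup.mem_inf.mp hs).2⟩ := by group
            rw [h1]; exact hs1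
          rwa [hg] at h0
        have h3 : (g : G) * s * (g : G)⁻¹ * (t : G) = (t : G) * ((g : G) * s * (g : G)⁻¹) :=
          hzc' _ hs2
        calc s * ((g : G)⁻¹ * (t : G) * (g : G))
            = (g : G)⁻¹ * ((g : G) * s * (g : G)⁻¹ * (t : G)) * (g : G) := by group
          _ = (g : G)⁻¹ * ((t : G) * ((g : G) * s * (g : G)⁻¹)) * (g : G) := by rw [h3]
          _ = ((g : G)⁻¹ * (t : G) * (g : G)) * s := by group
      have hpow : ((g : G)⁻¹ * (t : G) * (g : G)) ^ p = 1 := by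
        have h4 := conj_pow (a := (g : G)⁻¹) (b := (t : G)) (i := p)
        rw [inv_inv] at h4
        rw [h4, hzp']; group
      have hmem : (g : G)⁻¹ * (t : G) * (g : G) ∈ Cfsg.omegaOne p (((S : Subgroup G) ⊓ G₁) ⊓
          Subgroup.centralizer (((S : Subgroup G) ⊓ G₁ : Subgroup G) : Set G)) :=
        Subgroup.subset_closure ⟨Subgroup.mem_inf.mpr ⟨ht3,
          Subgroup.mem_centralizer_iff.mpr (fun s hs => hcen s hs)⟩, hpow⟩
      have hmem2 := hle hmem
      have hole : Cfsg.omegaOne p ((S : Subgroup G) ⊓ Subgroup.centralizer ((S : Subgroup G) : Set G))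
          ≤ (S : Subgroup G) ⊓ Subgroup.centralizer ((S : Subgroup G) : Set G) :=
        (Subgroup.closure_le _).mpr (fun x hx => hx.1)
      have hcS := (Subgroup.mem_inf.mp (hole hmem2)).2
      refine ⟨(g : G) • S, ?_⟩
      intro x hx
      rw [mem_sylow_smul_iff] at hx
      have h5 := Subgroup.mem_centralizer_iff.mp hcS _ hx
      rw [Subgroup.mem_centralizer_singleton_iff]
      show x * (t : G) = (t : G) * x
      calc x * (t : G)
          = (g : G) * (((g : G)⁻¹ * x * (g : G)) * ((g : G)⁻¹ * (t : G) * (g : G))) * (g : G)⁻¹ := by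
            group
        _ = (g : G) * (((g : G)⁻¹ * (t : G) * (g : G)) * ((g : G)⁻¹ * x * (g : G))) * (g : G)⁻¹ := by
            rw [h5]
        _ = (t : G) * x := by group
  exact charp_of_equiv (N.equivMapOfInjective G₁.subtype G₁.subtype_injective)
    ((charPIn_iff p _).mp hmain)

end Cfsg.Agent.S2897
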