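import Mathlib
import Cfsg.Statements.S2905
import Cfsg.Agent.S0542
import Cfsg.Agent.S1900
import Cfsg.Agent.Lib.Helper2.PResidual
import Cfsg.Agent.Lib.Helper3.ZJ
import Cfsg.Agent.Lib.Helper6.PIrred2
import Cfsg.Agent.Lib.Helper7.PCore
import Cfsg.Agent.Lib.Helper8.Subnormal

set_option autoImplicit false
open Cfsg

namespace Cfsg.Agent.S2905

section
variable {P : Type*} [Group P] [Finite P] {p : ℕ} [Fact p.Prime]

theorem card_sup_dvd_of_le_normalizer (A B : Subgroup P)
    (h : A ≤ Subgroup.normalizer (B : Set P)) :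
    Nat.card ↥(A ⊔ B) ∣ Nat.card A * Nat.card B := by
  haveI : (B.subgroupOf (A ⊔ B)).Normal :=
    (Subgroup.normal_subgroupOf_iff_le_normalizer le_sup_right).mpr
      (sup_le h Subgroup.le_normalizer)
  have h1 := Cfsg.Agent.Lib.Helper7.card_sup_dvd_of_normal (B.subgroupOf (A ⊔ B))
    (A.subgroupOf (A ⊔ B))
  rw [← Subgroup.subgroupOf_sup le_sup_right le_sup_left, sup_comm B A, Subgroup.subgroupOf_self,
    Subgroup.card_top,
    Nat.card_congr (Subgroup.subgroupOfEquivOfLe (le_sup_right : B ≤ A ⊔ B)).toEquiv,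
    Nat.card_congr (Subgroup.subgroupOfEquivOfLe (le_sup_left : A ≤ A ⊔ B)).toEquiv,
    mul_comm] at h1
  exact h1

/-- in a `p`-minimal group every proper subgroup containing `S` lies in `M` -/
theorem le_M (hP : IsPMinimal p P) (S : Sylow p P) (M : Subgroup P) (hM : IsCoatom M)
    (hSM : (S : Subgroup P) ≤ M) (X : Subgroup P) (hSX : (S : Subgroup P) ≤ X) (hX : X ≠ ⊤) :
    X ≤ M := by
  obtain ⟨-, M', ⟨hM'1, hM'2⟩, huniq⟩ := hP S
  obtain ⟨M₁, hM₁, hXM₁⟩ := (eq_top_or_exists_le_coatom X).resolve_left hX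
  have e1 : M₁ = M' := huniq M₁ ⟨hM₁, hSX.trans hXM₁⟩
  have e2 : M = M' := huniq M ⟨hM, hSM⟩
  rw [e1, ← e2] at hXM₁
  exact hXM₁

theorem part_c (hP : IsPMinimal p P) (S : Sylow p P) (M : Subgroup P) (hM : IsCoatom M)
    (hSM : (S : Subgroup P) ≤ M) (N : Subgroup P) (hN : N.Normal) :
    pResidual p P ≤ N ∨ N ≤ M.normalCore := by
  haveI := hN
  by_cases h : N ≤ M
  · right
    exact Subgroup.normal_le_normalCore.mpr h
  · left
    apply Cfsg.Agent.Lib.Helper6.pi_le_of_quot_pgroup S N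
    by_contra hne
    exact h (le_sup_left.trans (le_M hP S M hM hSM _ le_sup_right hne))

theorem part_a (hP : IsPMinimal p P) (S : Sylow p P) (M : Subgroup P) (hM : IsCoatom M)
    (hSM : (S : Subgroup P) ≤ M) [hF : M.normalCore.Normal] (N : Subgroup P)
    (hNsn : N.IsSubnormal) (hNM : N ≤ M) : N ⊓ (S : Subgroup P) ≤ pCore p P := by
  obtain ⟨W, hWsn, hWM, hMW, hWmax, hWtop⟩ := Cfsg.Agent.Lib.Helper8.h8_exists_max_subnormal M
  have hWn : W.Normal := by
    rw [← Subgroup.normalizer_eq_top_iff]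
    rcases hM.le_iff.mp hMW with h | h
    · exact h
    · exfalso
      have := hWtop (le_of_eq h)
      rw [this] at hWM
      exact hM.1 (eq_top_iff.mpr hWM)
  have hNF : N ≤ M.normalCore := by
    haveI := hWn
    exact (hWmax N hNsn hNM).trans (Subgroup.normal_le_normalCore.mpr hWM)
  obtain ⟨Q, hQ⟩ := Cfsg.Agent.S0542.result p M.normalCore hF.isSubnormal S
  have hfr := Sylow.normalizer_sup_eq_top Q
  have hmap : (Q : Subgroup ↥M.normalCore).map M.normalCore.subtype =
      (S : Subgroup P) ⊓ M.normalCore := by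
    rw [hQ, Subgroup.subgroupOf_map_subtype]
  rw [hmap] at hfr
  have hSn : (S : Subgroup P) ≤
      Subgroup.normalizer (((S : Subgroup P) ⊓ M.normalCore : Subgroup P) : Set P) := by
    rw [Subgroup.le_normalizer_iff]
    intro s hs x hx
    rw [Subgroup.mem_inf] at hx ⊢
    exact ⟨(S : Subgroup P).mul_mem ((S : Subgroup P).mul_mem hs hx.1)
      ((S : Subgroup P).inv_mem hs), hF.conj_mem x hx.2 s⟩
  have hnorm : ((S : Subgroup P) ⊓ M.normalCore).Normal := by
    rw [← Subgroup.normalizer_eq_top_iff]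
    by_contra hne
    have h1 := le_M hP S M hM hSM _ hSn hne
    apply hM.1
    rw [eq_top_iff, ← hfr]
    exact sup_le h1 (Subgroup.normalCore_le M)
  have hle : (S : Subgroup P) ⊓ M.normalCore ≤ pCore p P :=
    Cfsg.Agent.Lib.Helper7.le_pCore hnorm (S.isPGroup'.to_le inf_le_left)
  intro x hx
  rw [Subgroup.mem_inf] at hx
  exact hle (Subgroup.mem_inf.mpr ⟨hx.2, hNF hx.1⟩)

theorem claim_b (S : Sylow p P)
    (hcl : ∀ T : Sylow p ↥(pResidual p P), (T : Subgroup ↥(pResidual p P)).Normal)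
    (q : ℕ) [hq : Fact q.Prime] (hqp : q ≠ p) :
    ∃ Y : Subgroup P, (S : Subgroup P) ≤ Y ∧ (∃ Q : Sylow q P, (Q : Subgroup P) ≤ Y) ∧
      ∀ r : ℕ, r.Prime → r ∣ Nat.card Y → r = p ∨ r = q := by
  haveI hRn : (pResidual p P).Normal := Cfsg.Agent.Lib.Helper2.pResidual_normal p P
  obtain ⟨D₁⟩ : Nonempty (Sylow p ↥(pResidual p P)) := inferInstance
  have hD₁n := hcl D₁
  have hD₁c : (D₁ : Subgroup ↥(pResidual p P)).Characteristic :=
    Sylow.characteristic_of_normal _ hD₁n
  have hDn' : ((D₁ : Subgroup ↥(pResidual p P)).map (pResidual p P).subtype).Normal :=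
    ConjAct.normal_of_characteristic_of_normal
  obtain ⟨D, hD⟩ : ∃ D : Subgroup P,
      D = (D₁ : Subgroup ↥(pResidual p P)).map (pResidual p P).subtype := ⟨_, rfl⟩
  rw [← hD] at hDn'
  haveI hDn : D.Normal := hDn'
  have hDR : D ≤ pResidual p P := by rw [hD]; exact Subgroup.map_subtype_le _
  have hDcard : Nat.card D = p ^ (Nat.card ↥(pResidual p P)).factorization p := by
    rw [hD, Subgroup.card_map_of_injective (Subgroup.subtype_injective _)]
    exact D₁.card_eq_multiplicity
  obtain ⟨Q₁⟩ : Nonempty (Sylow q ↥(pResidual p P)) := inferInstance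
  obtain ⟨Q, hQ⟩ : ∃ Q : Subgroup P,
      Q = (Q₁ : Subgroup ↥(pResidual p P)).map (pResidual p P).subtype := ⟨_, rfl⟩
  have hQcard : Nat.card Q = q ^ (Nat.card ↥(pResidual p P)).factorization q := by
    rw [hQ, Subgroup.card_map_of_injective (Subgroup.subtype_injective _)]
    exact Q₁.card_eq_multiplicity
  have hfr : Subgroup.normalizer (Q : Set P) ⊔ pResidual p P = ⊤ := by
    rw [hQ]; exact Sylow.normalizer_sup_eq_top Q₁
  obtain ⟨n, hn⟩ : ∃ n : ℕ, (pResidual p P).index = p ^ n := by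
    have h1 : IsPGroup p (P ⧸ pResidual p P) :=
      Cfsg.Agent.Lib.Helper2.isPGroup_quotient_pResidual p P
    obtain ⟨n, hn⟩ := IsPGroup.iff_card.mp h1
    exact ⟨n, by rw [Subgroup.index_eq_card]; exact hn⟩
  have hcardP : Nat.card ↥(pResidual p P) * p ^ n = Nat.card P := by
    rw [← hn]; exact Subgroup.card_mul_index _
  have hRpos : Nat.card ↥(pResidual p P) ≠ 0 := Nat.card_pos.ne'
  have hpp : p.Prime := Fact.out
  have hqq : q.Prime := hq.out
  have hfq : (Nat.card P).factorization q = (Nat.card ↥(pResidual p P)).factorization q := by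
    rw [← hcardP, Nat.factorization_mul hRpos (pow_ne_zero _ hpp.ne_zero)]
    simp [hpp.factorization_pow, Finsupp.single_apply, hqp, Ne.symm hqp]
  have hfp : (Nat.card P).factorization p =
      (Nat.card ↥(pResidual p P)).factorization p + n := by
    rw [← hcardP, Nat.factorization_mul hRpos (pow_ne_zero _ hpp.ne_zero)]
    simp [hpp.factorization_pow]
  obtain ⟨Z, hZ⟩ : ∃ Z : Subgroup P, Z = D ⊔ Q := ⟨_, rfl⟩
  have hNQ : Subgroup.normalizer (Q : Set P) ≤ Subgroup.normalizer (Z : Set P) := by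
    rw [Subgroup.le_normalizer_iff]
    intro g hg z hz
    have hmap : Z.map (MulAut.conj g).toMonoidHom ≤ Z := by
      rw [hZ, Subgroup.map_sup]
      apply sup_le
      · rintro _ ⟨d, hd, rfl⟩
        exact Subgroup.mem_sup_left (hDn.conj_mem d hd g)
      · rintro _ ⟨x, hx, rfl⟩
        exact Subgroup.mem_sup_right ((Subgroup.mem_normalizer_iff.mp hg x).mp hx)
    exact hmap ⟨z, hz, rfl⟩
  obtain ⟨Nz, hNz⟩ : ∃ Nz : Subgroup P, Nz = Subgroup.normalizer (Z : Set P) := ⟨_, rfl⟩
  have hNR : Nz ⊔ pResidual p P = ⊤ := by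
    rw [eq_top_iff, ← hfr, hNz]
    exact sup_le_sup_right hNQ _
  have hDN : D ≤ Nz := by rw [hNz, hZ]; exact le_sup_left.trans Subgroup.le_normalizer
  have hcardN : Nat.card ↥(pResidual p P ⊓ Nz) * p ^ n = Nat.card Nz := by
    have h1 := Cfsg.Agent.Lib.Helper7.card_mul_relIndex_of_le
      (inf_le_right : pResidual p P ⊓ Nz ≤ Nz)
    rw [Subgroup.inf_relIndex_right] at h1
    have h2 : (pResidual p P).relIndex Nz = (pResidual p P).index := by
      rw [← Subgroup.relIndex_sup_left (K := pResidual p P) (H := Nz),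
        sup_comm (pResidual p P) Nz, hNR, Subgroup.relIndex_top_right]
    rw [h2, hn] at h1
    exact h1
  have hdvd : p ^ (Nat.card P).factorization p ∣ Nat.card Nz := by
    rw [hfp, pow_add, ← hcardN]
    apply Nat.mul_dvd_mul_right
    rw [← hDcard]
    exact Subgroup.card_dvd_of_le (le_inf hDR hDN)
  obtain ⟨T⟩ : Nonempty (Sylow p ↥Nz) := inferInstance
  have hT1 : p ^ (Nat.card P).factorization p ∣ Nat.card (T : Subgroup ↥Nz) :=
    T.pow_dvd_card_of_pow_dvd_card hdvd
  obtain ⟨S', hS'⟩ := (T.isPGroup'.map Nz.subtype).exists_le_sylow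
  have hS'eq : (T : Subgroup ↥Nz).map Nz.subtype = S' := by
    apply Subgroup.eq_of_le_of_card_ge hS'
    have e1 : Nat.card (S' : Subgroup P) = p ^ (Nat.card P).factorization p :=
      S'.card_eq_multiplicity
    have e2 : Nat.card ((T : Subgroup ↥Nz).map Nz.subtype) = Nat.card (T : Subgroup ↥Nz) :=
      Subgroup.card_map_of_injective (Subgroup.subtype_injective _)
    rw [e1, e2]
    exact Nat.le_of_dvd Nat.card_pos hT1
  have hS'N : (S' : Subgroup P) ≤ Nz := by rw [← hS'eq]; exact Subgroup.map_subtype_le _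
  obtain ⟨g, hg⟩ := MulAction.exists_smul_eq P S' S
  refine ⟨(S : Subgroup P) ⊔ Z.map (MulAut.conj g).toMonoidHom, le_sup_left, ?_, ?_⟩
  · have hc : Nat.card ↥(Q.map (MulAut.conj g).toMonoidHom) =
        q ^ (Nat.card P).factorization q := by
      rw [Subgroup.card_map_of_injective (MulAut.conj g).injective, hQcard, hfq]
    refine ⟨Sylow.ofCard _ hc, ?_⟩
    rw [Sylow.coe_ofCard]
    exact (Subgroup.map_mono (by rw [hZ]; exact le_sup_right)).trans le_sup_right
  · intro r hr hrd
    have hSn : (S : Subgroup P) ≤ Subgroup.normalizer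
        ((Z.map (MulAut.conj g).toMonoidHom : Subgroup P) : Set P) := by
      intro s hs
      rw [← hg, Cfsg.Agent.Lib.Helper3.mem_sylow_smul_iff] at hs
      have h1 : g⁻¹ * s * g ∈ Subgroup.normalizer (Z : Set P) := by
        rw [← hNz]; exact hS'N hs
      apply Cfsg.Agent.S1900.mem_normalizer_of_conj_mem
      rintro _ ⟨z, hz, rfl⟩
      refine ⟨(g⁻¹ * s * g) * z * (g⁻¹ * s * g)⁻¹,
        (Subgroup.mem_normalizer_iff.mp h1 z).mp hz, ?_⟩
      show g * ((g⁻¹ * s * g) * z * (g⁻¹ * s * g)⁻¹) * g⁻¹ = s * (g * z * g⁻¹) * s⁻¹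
      group
    have h1 := card_sup_dvd_of_le_normalizer _ _ hSn
    have h2 : Nat.card ↥(Z.map (MulAut.conj g).toMonoidHom) ∣ Nat.card D * Nat.card Q := by
      rw [Subgroup.card_map_of_injective (MulAut.conj g).injective, hZ]
      exact Cfsg.Agent.Lib.Helper7.card_sup_dvd_of_normal D Q
    have h3 : r ∣ Nat.card (S : Subgroup P) * (Nat.card D * Nat.card Q) :=
      (hrd.trans h1).trans (Nat.mul_dvd_mul_left _ h2)
    have eS : Nat.card (S : Subgroup P) = p ^ (Nat.card P).factorization p :=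
      S.card_eq_multiplicity
    rw [eS, hDcard, hQcard] at h3
    rcases (Nat.Prime.dvd_mul hr).mp h3 with h | h
    · left; exact (Nat.prime_dvd_prime_iff_eq hr hpp).mp (hr.dvd_of_dvd_pow h)
    · rcases (Nat.Prime.dvd_mul hr).mp h with h | h
      · left; exact (Nat.prime_dvd_prime_iff_eq hr hpp).mp (hr.dvd_of_dvd_pow h)
      · right; exact (Nat.prime_dvd_prime_iff_eq hr hqq).mp (hr.dvd_of_dvd_pow h)

theorem part_b (hP : IsPMinimal p P) (S : Sylow p P) (M : Subgroup P) (hM : IsCoatom M)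
    (hSM : (S : Subgroup P) ≤ M)
    (hcl : ∀ T : Sylow p ↥(pResidual p P), (T : Subgroup ↥(pResidual p P)).Normal) :
    (Nat.card P).primeFactors.card ≤ 2 := by
  by_cases hex : ∃ q : ℕ, q.Prime ∧ q ≠ p ∧
      ∀ r : ℕ, r.Prime → r ∣ Nat.card P → r = p ∨ r = q
  · obtain ⟨q, hq, hqp, hr⟩ := hex
    have hsub : (Nat.card P).primeFactors ⊆ {p, q} := by
      intro r hr'
      rw [Nat.mem_primeFactors] at hr'
      rcases hr r hr'.1 hr'.2.1 with h | h
      · rw [h]; exact Finset.mem_insert_self _ _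
      · rw [h]; exact Finset.mem_insert_of_mem (Finset.mem_singleton_self _)
    exact (Finset.card_le_card hsub).trans Finset.card_le_two
  · exfalso
    apply hM.1
    apply Cfsg.Agent.Lib.Helper7.eq_top_of_sylow_le
    intro q hq
    by_cases hqp : q = p
    · subst hqp
      exact ⟨S, hSM⟩
    · obtain ⟨Y, hSY, ⟨Q, hQY⟩, hr⟩ := claim_b S hcl q hqp
      refine ⟨Q, hQY.trans (le_M hP S M hM hSM Y hSY ?_)⟩
      intro htop
      apply hex
      refine ⟨q, hq.out, hqp, ?_⟩
      intro r hr1 hr2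
      have : Nat.card Y = Nat.card P := by rw [htop]; exact Subgroup.card_top
      rw [← this] at hr2
      exact hr r hr1 hr2

end

/-- Let P be a finite p-minimal group (a Sylow p-subgroup S is not normal and lies in a unique maximal subgroup M of P) and let F be the normal core of M. Then: every subnormal subgroup N of P contained in M satisfies N ∩ S ≤ O_p(P); if O^p(P) has a normal Sylow p-subgroup then the order of P has at most two prime divisors; every normal subgroup N of P either contains O^p(P) or is contained in F; and O^p(P)F ⧸ F is a minimal normal subgroup of P ⧸ F. -/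
theorem result {P : Type*} [Group P] [Finite P] {p : ℕ} [Fact p.Prime] (hP : Cfsg.IsPMinimal p P) (S : Sylow p P) (M : Subgroup P) (hM : IsCoatom M) (hSM : (S : Subgroup P) ≤ M) [hF : M.normalCore.Normal] : (∀ N : Subgroup P, N.IsSubnormal → N ≤ M → N ⊓ (S : Subgroup P) ≤ Cfsg.pCore p P) ∧ ((∀ T : Sylow p ↥(Cfsg.pResidual p P), (T : Subgroup ↥(Cfsg.pResidual p P)).Normal) → (Nat.card P).primeFactors.card ≤ 2) ∧ (∀ N : Subgroup P, N.Normal → Cfsg.pResidual p P ≤ N ∨ N ≤ M.normalCore) ∧ (∀ N : Subgroup P, N.Normal → M.normalCore ≤ N → N ≤ Cfsg.pResidual p P ⊔ M.normalCore → N = M.normalCore ∨ N = Cfsg.pResidual p P ⊔ M.normalCore) ∧ M.normalCore < Cfsg.pResidual p P ⊔ M.normalCore := by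
  refine ⟨fun N hNsn hNM => part_a hP S M hM hSM N hNsn hNM, part_b hP S M hM hSM,
    fun N hN => part_c hP S M hM hSM N hN, ?_, ?_⟩
  · intro N hN hFN hNle
    rcases part_c hP S M hM hSM N hN with h | h
    · right; exact le_antisymm hNle (sup_le h hFN)
    · left; exact le_antisymm h hFN
  · refine lt_of_le_of_ne le_sup_right ?_
    intro h
    have h1 : pResidual p P ≤ M :=
      (le_sup_left.trans (le_of_eq h.symm)).trans (Subgroup.normalCore_le M)
    apply hM.1
    rw [eq_top_iff]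
    intro x _
    obtain ⟨r, hr, s, hs, rfl⟩ := Cfsg.Agent.Lib.Helper6.pres_exists_mul S x
    exact M.mul_mem (h1 hr) (hSM hs)

end Cfsg.Agent.S2905
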