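import Cfsg.Statements.S2925
import Mathlib
import Cfsg.Agent.Lib.Helper3.SubnSylow
import Cfsg.Agent.Lib.Helper3.ZJ
import Cfsg.Agent.Lib.Helper1.Layer
import Cfsg.Agent.Lib.Helper9.ConjLemmas

set_option autoImplicit false
open Cfsg
open Cfsg.Agent.Lib.Helper3 Cfsg.Agent.Lib.Helper1 Cfsg.Agent.Lib.Helper9
open scoped Pointwise

namespace Cfsg.Agent.S2925

/-- Let K be a component of the finite group X and T a Sylow 2-subgroup of X. If some abelian normal subgroup Y of T does not normalize K, then K ⧸ Z(K) has abelian Sylow 2-subgroups. -/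
theorem result {X : Type*} [Group X] [Finite X] (K : Subgroup X) (hK : Cfsg.IsComponent K) (T : Sylow 2 X) (Y : Subgroup X) (hYT : Y ≤ (T : Subgroup X)) (hYn : (Y.subgroupOf (T : Subgroup X)).Normal) (hYab : IsMulCommutative ↥Y) (hnot : ¬ Y ≤ Subgroup.normalizer (K : Set X)) (P : Sylow 2 (↥K ⧸ Subgroup.center ↥K)) : IsMulCommutative ↥(P : Subgroup (↥K ⧸ Subgroup.center ↥K)) := by
  classical
  obtain ⟨y, hyY, hyN⟩ := SetLike.not_le_iff_exists.mp hnot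
  have hTN : (T : Subgroup X) ≤ Subgroup.normalizer (Y : Set X) :=
    (Subgroup.normal_subgroupOf_iff_le_normalizer hYT).mp hYn
  have hK' : Cfsg.IsComponent (MulAut.conj y • K) :=
    Cfsg.Agent.Lib.Helper1.IsComponent.map_equiv (MulAut.conj y) hK
  have hne : K ≠ MulAut.conj y • K := fun h =>
    hyN (conj_smul_eq_self_iff_mem_normalizer.mp h.symm)
  have hcomm : ⁅K, MulAut.conj y • K⁆ = ⊥ :=
    Cfsg.Agent.Lib.Helper1.IsComponent.commutator_eq_bot_of_ne hK hK' hne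
  have hcent : K ≤ Subgroup.centralizer ((MulAut.conj y • K : Subgroup X) : Set X) :=
    Subgroup.commutator_eq_bot_iff_le_centralizer.mp hcomm
  have hu : ∀ t ∈ K, y * t * y⁻¹ ∈ MulAut.conj y • K := by
    intro t ht
    rw [mem_conj_smul_iff]
    have h0 : y⁻¹ * (y * t * y⁻¹) * y = t := by group
    rw [h0]; exact ht
  have hcm : ∀ t ∈ K, ∀ k ∈ K, (y * t * y⁻¹) * k = k * (y * t * y⁻¹) := fun t ht k hk =>
    Subgroup.mem_centralizer_iff.mp (hcent hk) _ (hu t ht)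
  have hc : ∀ s ∈ (T : Subgroup X), s * (y * s⁻¹ * y⁻¹) ∈ Y := by
    intro s hs
    have h1 : s * y * s⁻¹ ∈ Y := (Subgroup.mem_normalizer_iff.mp (hTN hs) y).mp hyY
    have h2 : s * (y * s⁻¹ * y⁻¹) = (s * y * s⁻¹) * y⁻¹ := by group
    rw [h2]; exact Y.mul_mem h1 (Y.inv_mem hyY)
  have hkey : ∀ t₁ ∈ (T : Subgroup X) ⊓ K, ∀ t₂ ∈ (T : Subgroup X) ⊓ K, ∀ k ∈ K,
      (t₁ * t₂ * t₁⁻¹ * t₂⁻¹) * k = k * (t₁ * t₂ * t₁⁻¹ * t₂⁻¹) := by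
    intro t₁ ht₁ t₂ ht₂ k hk
    obtain ⟨ht₁T, ht₁K⟩ := Subgroup.mem_inf.mp ht₁
    obtain ⟨ht₂T, ht₂K⟩ := Subgroup.mem_inf.mp ht₂
    have hcc := setLike_mul_comm (hc t₁⁻¹ (inv_mem ht₁T)) (hc t₂⁻¹ (inv_mem ht₂T))
    rw [inv_inv, inv_inv] at hcc
    have e1 := hcm t₁ ht₁K t₂⁻¹ (K.inv_mem ht₂K)
    have e2 := hcm t₂ ht₂K t₁⁻¹ (K.inv_mem ht₁K)
    have h3 : t₁⁻¹ * t₂⁻¹ * ((y * t₁ * y⁻¹) * (y * t₂ * y⁻¹))
        = t₂⁻¹ * t₁⁻¹ * ((y * t₂ * y⁻¹) * (y * t₁ * y⁻¹)) := by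
      calc t₁⁻¹ * t₂⁻¹ * ((y * t₁ * y⁻¹) * (y * t₂ * y⁻¹))
          = t₁⁻¹ * (t₂⁻¹ * (y * t₁ * y⁻¹)) * (y * t₂ * y⁻¹) := by group
        _ = t₁⁻¹ * ((y * t₁ * y⁻¹) * t₂⁻¹) * (y * t₂ * y⁻¹) := by rw [e1]
        _ = t₁⁻¹ * (y * t₁ * y⁻¹) * (t₂⁻¹ * (y * t₂ * y⁻¹)) := by group
        _ = t₂⁻¹ * (y * t₂ * y⁻¹) * (t₁⁻¹ * (y * t₁ * y⁻¹)) := hcc
        _ = t₂⁻¹ * ((y * t₂ * y⁻¹) * t₁⁻¹) * (y * t₁ * y⁻¹) := by group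
        _ = t₂⁻¹ * (t₁⁻¹ * (y * t₂ * y⁻¹)) * (y * t₁ * y⁻¹) := by rw [e2]
        _ = t₂⁻¹ * t₁⁻¹ * ((y * t₂ * y⁻¹) * (y * t₁ * y⁻¹)) := by group
    have h4 := mul_eq_mul_rearrange h3
    have hz : t₁ * t₂ * t₁⁻¹ * t₂⁻¹ = y * (t₂ * t₁ * t₂⁻¹ * t₁⁻¹) * y⁻¹ := by
      calc t₁ * t₂ * t₁⁻¹ * t₂⁻¹ = (t₂⁻¹ * t₁⁻¹)⁻¹ * (t₁⁻¹ * t₂⁻¹) := by group
        _ = ((y * t₂ * y⁻¹) * (y * t₁ * y⁻¹)) * ((y * t₁ * y⁻¹) * (y * t₂ * y⁻¹))⁻¹ := h4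
        _ = y * (t₂ * t₁ * t₂⁻¹ * t₁⁻¹) * y⁻¹ := by group
    have hzK' : t₁ * t₂ * t₁⁻¹ * t₂⁻¹ ∈ MulAut.conj y • K := by
      rw [hz]
      exact hu _ (K.mul_mem (K.mul_mem (K.mul_mem ht₂K ht₁K) (K.inv_mem ht₂K)) (K.inv_mem ht₁K))
    exact Subgroup.mem_centralizer_iff.mp (hcent hk) _ hzK'
  -- the Sylow 2-subgroup of K cut out by T
  obtain ⟨S₂, hS₂⟩ := exists_sylow_subgroupOf_subnormal T hK.1
  obtain ⟨S₃, hS₃def⟩ : ∃ S₃ : Sylow 2 (↥K ⧸ Subgroup.center ↥K),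
      (S₃ : Subgroup (↥K ⧸ Subgroup.center ↥K))
        = (S₂ : Subgroup K).map (QuotientGroup.mk' (Subgroup.center ↥K)) :=
    ⟨S₂.mapSurjective (QuotientGroup.mk'_surjective _), rfl⟩
  have hzc : ∀ a' ∈ (S₂ : Subgroup K), ∀ b' ∈ (S₂ : Subgroup K),
      a' * b' * a'⁻¹ * b'⁻¹ ∈ Subgroup.center ↥K := by
    intro a' ha' b' hb'
    rw [hS₂] at ha' hb'
    have ha'' : (a' : X) ∈ (T : Subgroup X) ⊓ K := Subgroup.mem_subgroupOf.mp ha'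
    have hb'' : (b' : X) ∈ (T : Subgroup X) ⊓ K := Subgroup.mem_subgroupOf.mp hb'
    rw [Subgroup.mem_center_iff]
    intro k
    apply Subtype.ext
    show (k : X) * ((a' : X) * b' * (a' : X)⁻¹ * (b' : X)⁻¹)
      = (a' : X) * b' * (a' : X)⁻¹ * (b' : X)⁻¹ * k
    exact (hkey a' ha'' b' hb'' k k.2).symm
  have hS₃ : ∀ a ∈ (S₃ : Subgroup (↥K ⧸ Subgroup.center ↥K)),
      ∀ b ∈ (S₃ : Subgroup (↥K ⧸ Subgroup.center ↥K)), a * b = b * a := by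
    intro a ha b hb
    rw [hS₃def] at ha hb
    obtain ⟨a', ha', rfl⟩ := Subgroup.mem_map.mp ha
    obtain ⟨b', hb', rfl⟩ := Subgroup.mem_map.mp hb
    rw [← map_mul, ← map_mul]
    show ((a' * b' : ↥K) : ↥K ⧸ Subgroup.center ↥K) = ((b' * a' : ↥K) : ↥K ⧸ Subgroup.center ↥K)
    refine QuotientGroup.eq.mpr ?_
    have h5 := hzc b'⁻¹ (inv_mem hb') a'⁻¹ (inv_mem ha')
    have h6 : b'⁻¹ * a'⁻¹ * b'⁻¹⁻¹ * a'⁻¹⁻¹ = (a' * b')⁻¹ * (b' * a') := by group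
    rw [h6] at h5
    exact h5
  obtain ⟨g, rfl⟩ := MulAction.exists_smul_eq (↥K ⧸ Subgroup.center ↥K) S₃ P
  refine Subgroup.le_centralizer_iff_isMulCommutative.mp
    (fun a ha => Subgroup.mem_centralizer_iff.mpr (fun b hb => ?_))
  have hb' : b ∈ ((g • S₃ : Sylow 2 (↥K ⧸ Subgroup.center ↥K)) :
      Subgroup (↥K ⧸ Subgroup.center ↥K)) := hb
  rw [mem_sylow_smul_iff] at ha hb'
  have h := hS₃ _ hb' _ ha
  have h5 : g⁻¹ * (b * a) * g = g⁻¹ * (a * b) * g := by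
    calc g⁻¹ * (b * a) * g = (g⁻¹ * b * g) * (g⁻¹ * a * g) := by group
      _ = (g⁻¹ * a * g) * (g⁻¹ * b * g) := h
      _ = g⁻¹ * (a * b) * g := by group
  exact mul_left_cancel (mul_right_cancel h5)

end Cfsg.Agent.S2925
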