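import Cfsg.Statements.S2947
import Cfsg.Agent.Lib.Helper3.ZJ3
import Cfsg.Agent.Lib.Helper3.Glauberman
import Cfsg.Agent.Lib.Helper7.PCore

set_option autoImplicit false
open Cfsg

namespace Cfsg.Agent.S2947

/-- a nontrivial `2`-subgroup has even order -/
theorem se_even {G : Type*} [Group G] [Finite G] {X : Subgroup G} (hX2 : IsPGroup 2 ↥X)
    (hX1 : X ≠ ⊥) : 2 ∣ Nat.card X := by
  haveI : Fact (Nat.Prime 2) := ⟨Nat.prime_two⟩
  obtain ⟨n, hn⟩ := IsPGroup.iff_card.mp hX2
  have hn0 : n ≠ 0 := by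
    rintro rfl
    apply hX1
    rw [pow_zero] at hn
    exact Subgroup.eq_bot_of_card_eq X hn
  rw [hn]; exact dvd_pow_self 2 hn0

/-- a strongly embedded subgroup contains the normalizers of its nontrivial `2`-subgroups -/
theorem se_norm_le {G : Type*} [Group G] [Finite G] {M : Subgroup G}
    (hse : Cfsg.IsStronglyEmbedded M) {X : Subgroup G} (hX2 : IsPGroup 2 ↥X) (hX1 : X ≠ ⊥)
    (hXM : X ≤ M) : Subgroup.normalizer (X : Set G) ≤ M := by
  intro g hg
  by_contra hgM
  have hodd := hse.2.2 g hgM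
  have hXle : X ≤ M ⊓ M.map (MulAut.conj g).toMonoidHom := by
    refine le_inf hXM ?_
    intro x hx
    have hx' : g⁻¹ * x * g ∈ X := by
      have := (Subgroup.mem_normalizer_iff.mp (Subgroup.inv_mem _ hg) x).mp hx
      simpa using this
    exact ⟨g⁻¹ * x * g, hXM hx', by simp [MulAut.conj_apply, mul_assoc]⟩
  have hdvd : Nat.card X ∣ Nat.card ↥(M ⊓ M.map (MulAut.conj g).toMonoidHom) :=
    Subgroup.card_dvd_of_le hXle
  exact (Nat.not_even_iff_odd.mpr hodd)
    (even_iff_two_dvd.mpr ((se_even hX2 hX1).trans hdvd))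

/-- Let G be a finite group of characteristic 2 type in which every 2-local subgroup is solvable and the centralizer of Ω₁(Z(S)) lies in N_G(S) for every Sylow 2-subgroup S; suppose O₂(G) = 1, fix a Sylow 2-subgroup S and a 2-local subgroup M containing N_G(J(S)) (J the Thompson subgroup generated by the elementary abelian 2-subgroups of largest order). Then M is strongly embedded in G (a proper subgroup of even order whose intersection with each conjugate by an element outside M has odd order) if and only if no nontrivial 2-subgroup of M lies in a 2-local subgroup of G not contained in M. -/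
theorem result {G : Type*} [Group G] [Finite G] (hL : Cfsg.IsCharacteristicTwoType G) (hN : ∀ N : Subgroup G, Cfsg.IsTwoLocal N → Group.IsSolvable ↥N)
    (hZ : ∀ S : Sylow 2 G, Subgroup.centralizer (Cfsg.omegaCenterOf (S : Subgroup G) : Set G) ≤ Subgroup.normalizer ((S : Subgroup G) : Set G)) (hO : Cfsg.pCore 2 G = ⊥) (S : Sylow 2 G) (M : Subgroup G) (hM : Cfsg.IsTwoLocal M)
    (hMJ : Subgroup.normalizer (Cfsg.thompsonSubgroupOf 2 (S : Subgroup G) : Set G) ≤ M) :
    Cfsg.IsStronglyEmbedded M ↔ Cfsg.straddlingTwoSubgroups M = ∅ := by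
  classical
  haveI : Fact (Nat.Prime 2) := ⟨Nat.prime_two⟩
  obtain ⟨R, hR2, hR1, hMR⟩ := hM
  constructor
  · intro hse
    rw [Set.eq_empty_iff_forall_notMem]
    rintro T ⟨hT2, hT1, hTM, L, ⟨U, hU2, hU1, rfl⟩, hTL, hLM⟩
    apply hLM
    obtain ⟨P, hP⟩ : ∃ P : Subgroup G, P = T ⊔ U := ⟨_, rfl⟩
    have hP2 : IsPGroup 2 ↥P := by
      rw [hP]; exact IsPGroup.to_sup_of_normal_right' hT2 hU2 hTL
    have hTP : T ≤ P := by rw [hP]; exact le_sup_left
    have hUP : U ≤ P := by rw [hP]; exact le_sup_right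
    haveI : Nontrivial ↥P := by
      obtain ⟨t, ht1⟩ := Subgroup.ne_bot_iff_exists_ne_one.mp hT1
      refine ⟨⟨⟨t, hTP t.2⟩, 1, fun h => ht1 ?_⟩⟩
      have h' : ((t : ↥T) : G) = 1 := congrArg Subtype.val h
      exact Subtype.ext h'
    haveI := hP2.center_nontrivial
    obtain ⟨z, hz1⟩ := exists_ne (1 : Subgroup.center ↥P)
    have hzc : ∀ g ∈ P, g * ((z : ↥P) : G) = ((z : ↥P) : G) * g := by
      intro g hg
      have := Subgroup.mem_center_iff.mp z.2 ⟨g, hg⟩
      exact congrArg Subtype.val this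
    have hzG1 : ((z : ↥P) : G) ≠ 1 := by
      intro h
      apply hz1
      exact Subtype.ext (Subtype.ext h)
    obtain ⟨Z, hZ⟩ : ∃ Z : Subgroup G, Z = Subgroup.zpowers ((z : ↥P) : G) := ⟨_, rfl⟩
    have hZP : Z ≤ P := by rw [hZ, Subgroup.zpowers_le]; exact (z : ↥P).2
    have hZ2 : IsPGroup 2 ↥Z := hP2.to_le hZP
    have hZ1 : Z ≠ ⊥ := by
      rw [hZ]; intro h
      exact hzG1 (Subgroup.zpowers_eq_bot.mp h)
    have hZc : ∀ g ∈ P, g ∈ Subgroup.normalizer (Z : Set G) := by
      intro g hg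
      apply Subgroup.centralizer_le_normalizer
      rw [Subgroup.mem_centralizer_iff]
      intro h hh
      rw [hZ] at hh
      obtain ⟨k, rfl⟩ := Subgroup.mem_zpowers_iff.mp hh
      have hc : Commute ((z : ↥P) : G) g := (hzc g hg).symm
      exact (hc.zpow_left k).eq
    have hzT : ((z : ↥P) : G) ∈ Subgroup.normalizer (T : Set G) := by
      apply Subgroup.centralizer_le_normalizer
      rw [Subgroup.mem_centralizer_iff]
      intro h hh
      exact hzc h (hTP hh)
    have hZM : Z ≤ M := by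
      rw [hZ, Subgroup.zpowers_le]
      exact se_norm_le hse hT2 hT1 hTM hzT
    have hPM : P ≤ M := fun g hg => se_norm_le hse hZ2 hZ1 hZM (hZc g hg)
    exact se_norm_le hse hU2 hU1 (hUP.trans hPM)
  · intro hemp
    have key : ∀ X : Subgroup G, IsPGroup 2 ↥X → X ≠ ⊥ → X ≤ M →
        Subgroup.normalizer (X : Set G) ≤ M := by
      intro X hX2 hX1 hXM
      by_contra hnot
      have hmem : X ∈ Cfsg.straddlingTwoSubgroups M :=
        ⟨hX2, hX1, hXM, _, ⟨X, hX2, hX1, rfl⟩, Subgroup.le_normalizer, hnot⟩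
      rw [hemp] at hmem
      exact hmem
    refine ⟨?_, ?_, ?_⟩
    · intro htop
      apply hR1
      have hRn : R.Normal := by
        rw [← Subgroup.normalizer_eq_top_iff, ← hMR]; exact htop
      have hle := Cfsg.Agent.Lib.Helper7.le_pCore hRn hR2
      rw [hO] at hle
      exact le_bot_iff.mp hle
    · exact even_iff_two_dvd.mpr ((se_even hR2 hR1).trans
        (Subgroup.card_dvd_of_le (by rw [hMR]; exact Subgroup.le_normalizer)))
    · intro g hgM
      by_contra hodd
      rw [Nat.not_odd_iff_even] at hodd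
      obtain ⟨D, hD⟩ : ∃ D : Subgroup G, D = M ⊓ M.map (MulAut.conj g).toMonoidHom := ⟨_, rfl⟩
      rw [← hD] at hodd
      obtain ⟨t, ht⟩ := exists_prime_orderOf_dvd_card' (G := ↥D) 2 (even_iff_two_dvd.mp hodd)
      have hzt : IsPGroup 2 ↥(Subgroup.zpowers t) :=
        IsPGroup.of_card (n := 1) (by rw [Nat.card_zpowers, ht, pow_one])
      obtain ⟨Q, hQ⟩ := hzt.exists_le_sylow
      obtain ⟨X, hX⟩ : ∃ X : Subgroup G, X = (Q : Subgroup ↥D).map D.subtype := ⟨_, rfl⟩
      have hXD : X ≤ D := by rw [hX]; exact Subgroup.map_subtype_le _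
      have hX2 : IsPGroup 2 ↥X := by rw [hX]; exact Q.isPGroup'.map _
      have ht1 : t ≠ 1 := by
        rintro rfl
        rw [orderOf_one] at ht
        norm_num at ht
      have hX1 : X ≠ ⊥ := by
        intro h
        apply ht1
        have hmem : (t : G) ∈ X := by rw [hX]; exact ⟨t, hQ (Subgroup.mem_zpowers t), rfl⟩
        rw [h, Subgroup.mem_bot] at hmem
        exact Subtype.ext hmem
      have hXM : X ≤ M := hXD.trans (by rw [hD]; exact inf_le_left)
      have hXMg : X ≤ M.map (MulAut.conj g).toMonoidHom :=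
        hXD.trans (by rw [hD]; exact inf_le_right)
      have hYM : ∀ x ∈ X, g⁻¹ * x * g ∈ M := by
        intro x hx
        obtain ⟨m, hm, hmx⟩ := hXMg hx
        have e : g⁻¹ * x * g = m := by
          rw [← hmx]; simp [MulAut.conj_apply, mul_assoc]
        rw [e]; exact hm
      have hN1 : Subgroup.normalizer (X : Set G) ≤ M := key X hX2 hX1 hXM
      obtain ⟨Y, hY⟩ : ∃ Y : Subgroup G, Y = X.map (MulAut.conj g⁻¹).toMonoidHom := ⟨_, rfl⟩
      have hY2 : IsPGroup 2 ↥Y := by rw [hY]; exact hX2.map _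
      have hY1 : Y ≠ ⊥ := by
        rw [hY]; intro h
        exact hX1 ((Subgroup.map_eq_bot_iff_of_injective X (MulAut.conj g⁻¹).injective).mp h)
      have hYM' : Y ≤ M := by
        rw [hY]; rintro _ ⟨x, hx, rfl⟩
        have := hYM x hx
        simpa [MulAut.conj_apply] using this
      have hN2 : Subgroup.normalizer (Y : Set G) ≤ M := key Y hY2 hY1 hYM'
      have hN3 : ∀ n ∈ Subgroup.normalizer (X : Set G), g⁻¹ * n * g ∈ M := by
        intro n hn
        apply hN2
        apply Cfsg.Agent.Lib.Helper3.fin_mem_normalizer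
        rw [hY]
        rintro _ ⟨x, hx, rfl⟩
        refine ⟨n * x * n⁻¹, (Subgroup.mem_normalizer_iff.mp hn x).mp hx, ?_⟩
        simp only [MulEquiv.coe_toMonoidHom, MulAut.conj_apply]
        group
      obtain ⟨P, hP⟩ := hX2.exists_le_sylow
      have hXP : X = (P : Subgroup G) := by
        by_contra hne
        have hlt : X < (P : Subgroup G) := lt_of_le_of_ne hP hne
        obtain ⟨x, hxP, hxN, hxX⟩ :=
          Cfsg.Agent.Lib.Helper3.exists_mem_normalizer_not_mem P.isPGroup' hlt
        obtain ⟨X', hX'⟩ : ∃ X' : Subgroup G, X' = X ⊔ Subgroup.zpowers x := ⟨_, rfl⟩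
        have hX'P : X' ≤ (P : Subgroup G) := by
          rw [hX']; exact sup_le hP (by rw [Subgroup.zpowers_le]; exact hxP)
        have hxD : x ∈ D := by
          rw [hD]
          refine ⟨hN1 hxN, ?_⟩
          refine ⟨g⁻¹ * x * g, hN3 x hxN, ?_⟩
          simp [MulAut.conj_apply, mul_assoc]
        have hX'2 : IsPGroup 2 ↥X' := P.isPGroup'.to_le hX'P
        have hQle : (Q : Subgroup ↥D) ≤ X'.subgroupOf D := by
          intro q hq
          rw [Subgroup.mem_subgroupOf, hX']
          exact (le_sup_left : X ≤ X ⊔ Subgroup.zpowers x) (by rw [hX]; exact ⟨q, hq, rfl⟩)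
        have hmax := Q.is_maximal' (hX'2.comap_subtype) hQle
        apply hxX
        have hxm : (⟨x, hxD⟩ : ↥D) ∈ X'.subgroupOf D := by
          rw [Subgroup.mem_subgroupOf, hX']
          exact (le_sup_right : Subgroup.zpowers x ≤ X ⊔ Subgroup.zpowers x)
            (Subgroup.mem_zpowers x)
        have hxm' : (⟨x, hxD⟩ : ↥D) ∈ (Q : Subgroup ↥D) := by
          rw [← hmax]; exact hxm
        rw [hX]
        exact ⟨⟨x, hxD⟩, hxm', rfl⟩
      have hPM : (P : Subgroup G) ≤ M := by rw [← hXP]; exact hXM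
      obtain ⟨m, hm, hmc⟩ :=
        Cfsg.Agent.Lib.Helper3.exists_conj_le_sylow_of_le P hPM hYM' hY2
      have hnorm : m * g⁻¹ ∈ Subgroup.normalizer (X : Set G) := by
        apply Cfsg.Agent.Lib.Helper3.fin_mem_normalizer
        intro x hx
        have hy : g⁻¹ * x * g ∈ Y := by
          rw [hY]; exact ⟨x, hx, by simp⟩
        have h1 := hmc _ hy
        rw [← hXP] at h1
        have e : m * g⁻¹ * x * (m * g⁻¹)⁻¹ = m * (g⁻¹ * x * g) * m⁻¹ := by group
        rw [e]; exact h1
      have hmg : m * g⁻¹ ∈ M := hN1 hnorm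
      apply hgM
      have hg' : g⁻¹ ∈ M := by
        have := M.mul_mem (M.inv_mem hm) hmg
        simpa using this
      simpa using M.inv_mem hg'

end Cfsg.Agent.S2947
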