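import Mathlib
import Cfsg.Statements.S2956
import Cfsg.Agent.S2955
import Cfsg.Agent.S2939
import Cfsg.Agent.S2957
import Cfsg.Agent.Lib.Helper3.ZJ
import Cfsg.Agent.Lib.Helper3.ZJ3
import Cfsg.Agent.Lib.Helper3.Thompson

set_option autoImplicit false
open Cfsg

namespace Cfsg.Agent.S2956

/-- one link of a chain at the level of `G`, for a family `𝓖` -/
def GLink {G : Type*} [Group G] (p : ℕ) (𝓖 : Set (Subgroup G)) (D : Subgroup G)
    (P Q : Sylow p G) : Prop :=
  ∃ X : Subgroup G, X ∈ Cfsg.sylowMembers p 𝓖 (P : Subgroup G) ∧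
    X ∈ Cfsg.sylowMembers p 𝓖 (Q : Subgroup G) ∧
    ∃ x ∈ X, Cfsg.subgroupConjRight x (Q : Subgroup G) = (P : Subgroup G) ∧
      D ≤ (Q : Subgroup G) ⊓ X

theorem glink_mono {G : Type*} [Group G] {p : ℕ} {𝓖 : Set (Subgroup G)}
    {D D' : Subgroup G} (h : D' ≤ D) {P Q : Sylow p G}
    (hL : GLink p 𝓖 D P Q) : GLink p 𝓖 D' P Q := by
  obtain ⟨X, hX1, hX2, x, hx, hconj, hD⟩ := hL
  exact ⟨X, hX1, hX2, x, hx, hconj, h.trans hD⟩

/-- from chains to the frozen form -/
theorem controls_of_chains {G : Type*} [Group G] {p : ℕ} (𝓖 : Set (Subgroup G))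
    (h : ∀ P Q : Sylow p G, P ≠ Q → (P : Subgroup G) ⊓ (Q : Subgroup G) ≠ ⊥ →
      Relation.ReflTransGen (GLink p 𝓖 ((P : Subgroup G) ⊓ (Q : Subgroup G))) P Q) :
    Cfsg.ControlsSylowIntersections p 𝓖 := by
  intro S T hne hint
  have key : ∀ R : Sylow p G,
      Relation.ReflTransGen (GLink p 𝓖 ((S : Subgroup G) ⊓ (T : Subgroup G))) S R →
      ∃ (n : ℕ) (c : Fin (n + 1) → Sylow p G) (X : Fin n → Subgroup G) (x : Fin n → G),
        c 0 = S ∧ c (Fin.last n) = R ∧ ∀ i : Fin n,
          X i ∈ Cfsg.sylowMembers p 𝓖 (c i.castSucc : Subgroup G) ∧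
          X i ∈ Cfsg.sylowMembers p 𝓖 (c i.succ : Subgroup G) ∧
          x i ∈ X i ∧ Cfsg.subgroupConjRight (x i) (c i.succ : Subgroup G) =
            (c i.castSucc : Subgroup G) ∧
          (S : Subgroup G) ⊓ (T : Subgroup G) ≤ (c i.succ : Subgroup G) ⊓ X i := by
    intro R hR
    induction hR with
    | refl => exact ⟨0, fun _ => S, Fin.elim0, Fin.elim0, rfl, rfl, fun i => i.elim0⟩
    | @tail b c' hab hbc ih =>
      obtain ⟨n, c, X, x, h0, hn, hstep⟩ := ih
      obtain ⟨Xn, hX1, hX2, x₀, hx₀, hconj, hD⟩ := hbc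
      refine ⟨n + 1, Fin.snoc (α := fun _ => Sylow p G) c c',
        Fin.snoc (α := fun _ => Subgroup G) X Xn,
        Fin.snoc (α := fun _ => G) x x₀, ?_, ?_, ?_⟩
      · have : (0 : Fin (n + 1 + 1)) = (0 : Fin (n + 1)).castSucc := rfl
        rw [this, Fin.snoc_castSucc]; exact h0
      · rw [Fin.snoc_last]
      · intro i
        refine Fin.lastCases ?_ ?_ i
        · rw [Fin.succ_last, Fin.snoc_last, Fin.snoc_last, Fin.snoc_last, Fin.snoc_castSucc, hn]
          exact ⟨hX1, hX2, hx₀, hconj, hD⟩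
        · intro j
          have e2 : (j.castSucc : Fin (n + 1)).succ = (j.succ : Fin (n + 1)).castSucc := rfl
          rw [e2, Fin.snoc_castSucc, Fin.snoc_castSucc, Fin.snoc_castSucc, Fin.snoc_castSucc]
          exact hstep j
  exact key T (h S T hne hint)

theorem mem_im {G : Type*} [Group G] {M : Subgroup G} (H : Subgroup ↥M) (y : G) :
    y ∈ H.map M.subtype ↔ ∃ h : y ∈ M, (⟨y, h⟩ : ↥M) ∈ H := by
  rw [Subgroup.mem_map]
  constructor
  · rintro ⟨z, hz, rfl⟩; exact ⟨z.2, hz⟩
  · rintro ⟨h, hz⟩; exact ⟨⟨y, h⟩, hz, rfl⟩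

theorem card_im {G : Type*} [Group G] {M : Subgroup G} (H : Subgroup ↥M) :
    Nat.card ↥(H.map M.subtype) = Nat.card ↥H :=
  Subgroup.card_map_of_injective M.subtype_injective

theorem im_eq_inf {G : Type*} [Group G] {p : ℕ} {M : Subgroup G} (Y : Sylow p ↥M)
    (R : Sylow p G) (h : (Y : Subgroup ↥M).map M.subtype ≤ (R : Subgroup G)) :
    (Y : Subgroup ↥M).map M.subtype = (R : Subgroup G) ⊓ M := by
  apply le_antisymm (le_inf h (Subgroup.map_subtype_le _))
  intro x hx
  rw [Subgroup.mem_inf] at hx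
  have h1 : IsPGroup p ↥(((R : Subgroup G) ⊓ M).subgroupOf M) :=
    (R.isPGroup'.to_le inf_le_left).comap_subtype
  have h2 : (Y : Subgroup ↥M) ≤ ((R : Subgroup G) ⊓ M).subgroupOf M := by
    intro y hy
    rw [Subgroup.mem_subgroupOf, Subgroup.mem_inf]
    exact ⟨h (Subgroup.mem_map_of_mem _ hy), y.2⟩
  have h3 := Y.is_maximal' h1 h2
  rw [mem_im]
  refine ⟨hx.2, ?_⟩
  have h4 : (⟨x, hx.2⟩ : ↥M) ∈ ((R : Subgroup G) ⊓ M).subgroupOf M := by
    rw [Subgroup.mem_subgroupOf, Subgroup.mem_inf]; exact hx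
  rw [h3] at h4
  exact h4

theorem im_smul_le {G : Type*} [Group G] {p : ℕ} {M : Subgroup G} (Y : Sylow p ↥M) (m : ↥M)
    (R : Sylow p G) (h : (Y : Subgroup ↥M).map M.subtype ≤ (R : Subgroup G)) :
    ((m • Y : Sylow p ↥M) : Subgroup ↥M).map M.subtype ≤
      (((m : G) • R : Sylow p G) : Subgroup G) := by
  intro y hy
  rw [mem_im] at hy
  obtain ⟨hyM, hy⟩ := hy
  rw [Cfsg.Agent.Lib.Helper3.mem_sylow_smul_iff] at hy ⊢
  exact h (Subgroup.mem_map_of_mem M.subtype hy)

theorem card_le_sylow {Γ : Type*} [Group Γ] [Finite Γ] {p : ℕ} [Fact p.Prime] (H : Subgroup Γ)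
    (hH : IsPGroup p ↥H) (Y : Sylow p Γ) : Nat.card ↥H ≤ Nat.card ↥(Y : Subgroup Γ) := by
  obtain ⟨Q, hQ⟩ := hH.exists_le_sylow
  calc Nat.card ↥H ≤ Nat.card ↥(Q : Subgroup Γ) := Subgroup.card_le_of_le hQ
    _ = Nat.card ↥(Y : Subgroup Γ) := by rw [Q.card_eq_multiplicity, Y.card_eq_multiplicity]

theorem exists_maximal_plocal {G : Type*} [Group G] [Finite G] {p : ℕ} (V : Subgroup G)
    (hV : Cfsg.IsPLocal p V) : ∃ M, V ≤ M ∧ Cfsg.IsMaximalPLocal p M := by
  obtain ⟨M, hVM, hM⟩ := Finite.exists_le_maximal (p := Cfsg.IsPLocal p) hV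
  exact ⟨M, hVM, hM.1, fun N hN hle => le_antisymm (hM.2 hN hle) hle⟩

theorem step_facts {G : Type*} [Group G] [Finite G] {p : ℕ} [Fact p.Prime]
    (f : Subgroup G → Set (Subgroup G)) (hf : Cfsg.IsNormalizerFunctor p f) (M : Subgroup G)
    (A B : Sylow p ↥M) (X : Subgroup ↥M) (x : ↥M)
    (hX1 : X ∈ Cfsg.sylowMembers p ((fun X : Subgroup G => X.subgroupOf M) ''
      Cfsg.functorFamily p f M) (A : Subgroup ↥M))
    (hX2 : X ∈ Cfsg.sylowMembers p ((fun X : Subgroup G => X.subgroupOf M) ''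
      Cfsg.functorFamily p f M) (B : Subgroup ↥M))
    (hx : x ∈ X) (hconj : Cfsg.subgroupConjRight x (B : Subgroup ↥M) = (A : Subgroup ↥M)) :
    ∃ (P₀ : Sylow p ↥M) (F : Subgroup G), F ∈ f ((P₀ : Subgroup ↥M).map M.subtype) ∧
      (A : Subgroup ↥M).map M.subtype ≤ Subgroup.normalizer (F : Set G) ∧
      (B : Subgroup ↥M).map M.subtype ≤ Subgroup.normalizer (F : Set G) ∧
      (x : G) ∈ Subgroup.normalizer (F : Set G) ∧ B = x • A := by
  obtain ⟨Xg, ⟨P₀, F, hF, hXg⟩, hXi⟩ := hX1.1
  have hP₀p : IsPGroup p ↥((P₀ : Subgroup ↥M).map M.subtype) := P₀.isPGroup'.map _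
  have hFn := ((hf _ hP₀p).1 F hF).2
  have hP₀N : (P₀ : Subgroup ↥M).map M.subtype ≤ Subgroup.normalizer (F : Set G) :=
    le_trans Subgroup.le_normalizer hFn
  have hXi' : X = (M ⊓ Subgroup.normalizer (F : Set G)).subgroupOf M := by rw [← hXi, hXg]
  have hP₀X : (P₀ : Subgroup ↥M) ≤ X := by
    rw [hXi']
    intro y hy
    rw [Subgroup.mem_subgroupOf, Subgroup.mem_inf]
    exact ⟨y.2, hP₀N (Subgroup.mem_map_of_mem _ hy)⟩
  have h1 : (A : Subgroup ↥M) ≤ X := Cfsg.Agent.S2957.le_of_mem_sm _ _ P₀ _ hX1 hP₀X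
  have h2 : (B : Subgroup ↥M) ≤ X := Cfsg.Agent.S2957.le_of_mem_sm _ _ P₀ _ hX2 hP₀X
  have hXmem : ∀ y : ↥M, y ∈ X → (y : G) ∈ Subgroup.normalizer (F : Set G) := by
    intro y hy
    rw [hXi', Subgroup.mem_subgroupOf, Subgroup.mem_inf] at hy
    exact hy.2
  refine ⟨P₀, F, hF, ?_, ?_, hXmem x hx, Cfsg.Agent.S2939.smul_of_scr _ _ _ hconj⟩
  · rintro _ ⟨y, hy, rfl⟩; exact hXmem y (h1 hy)
  · rintro _ ⟨y, hy, rfl⟩; exact hXmem y (h2 hy)

theorem scr_smul {G : Type*} [Group G] {p : ℕ} (x : G) (R : Sylow p G) :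
    Cfsg.subgroupConjRight x ((x • R : Sylow p G) : Subgroup G) = (R : Subgroup G) := by
  ext y
  rw [Cfsg.Agent.S2955.mem_scr, Cfsg.Agent.Lib.Helper3.mem_sylow_smul_iff]
  have e : x⁻¹ * (x * y * x⁻¹) * x = y := by group
  rw [e]

theorem claim {G : Type*} [Group G] [Finite G] {p : ℕ} [Fact p.Prime]
    (f : Subgroup G → Set (Subgroup G)) (hf : Cfsg.IsNormalizerFunctor p f)
    (hf1 : ∀ P : Subgroup G, IsPGroup p ↥P → P ≠ ⊥ → ∀ F ∈ f P, F ≠ ⊥)
    (𝓖 : Set (Subgroup G)) (h𝓕 : Cfsg.functorFamily p f ⊤ ⊆ 𝓖)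
    (h𝓕' : ∀ M, Cfsg.IsMaximalPLocal p M → ¬ Cfsg.IsFunctorRegular p f M → M ∈ 𝓖)
    (D : Subgroup G) (hD1 : D ≠ ⊥)
    (hbig : ∀ (P' Q' : Sylow p G) (E : Subgroup G), E ≤ (P' : Subgroup G) →
      E ≤ (Q' : Subgroup G) → Nat.card ↥D < Nat.card ↥E → D ≤ E →
      Relation.ReflTransGen (GLink p 𝓖 D) P' Q') :
    ∀ (k : ℕ) (M : Subgroup G), Cfsg.IsMaximalPLocal p M →
      ∀ (Y Y' : Sylow p ↥M) (R R' : Sylow p G),
      Nat.card G - Nat.card ↥(Y : Subgroup ↥M) = k →
      Nat.card ↥D < Nat.card ↥(Y : Subgroup ↥M) →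
      D ≤ (Y : Subgroup ↥M).map M.subtype → D ≤ (Y' : Subgroup ↥M).map M.subtype →
      (Y : Subgroup ↥M).map M.subtype ≤ (R : Subgroup G) →
      (Y' : Subgroup ↥M).map M.subtype ≤ (R' : Subgroup G) →
      Relation.ReflTransGen (GLink p 𝓖 D) R R' := by
  intro k
  induction k using Nat.strong_induction_on with
  | _ k IH =>
    intro M hM Y Y' R R' hk hcard hDY hDY' hYR hY'R'
    have hcardYY' : Nat.card ↥(Y' : Subgroup ↥M) = Nat.card ↥(Y : Subgroup ↥M) := by
      rw [Y'.card_eq_multiplicity, Y.card_eq_multiplicity]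
    by_cases hYY' : Y = Y'
    · subst hYY'
      exact hbig R R' _ hYR hY'R' (by rw [card_im]; exact hcard) hDY
    by_cases hreg : Cfsg.IsFunctorRegular p f M
    · -- regular
      have hDmem : ∀ d ∈ D, ∃ h : d ∈ M,
          (⟨d, h⟩ : ↥M) ∈ (Y : Subgroup ↥M) ⊓ (Y' : Subgroup ↥M) := by
        intro d hd
        obtain ⟨h1, h2⟩ := (mem_im _ d).mp (hDY hd)
        obtain ⟨h3, h4⟩ := (mem_im _ d).mp (hDY' hd)
        exact ⟨h1, Subgroup.mem_inf.mpr ⟨h2, h4⟩⟩
      have hint : (Y : Subgroup ↥M) ⊓ (Y' : Subgroup ↥M) ≠ ⊥ := by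
        intro hbot
        apply hD1
        rw [eq_bot_iff]
        intro d hd
        obtain ⟨h1, h2⟩ := hDmem d hd
        rw [hbot, Subgroup.mem_bot] at h2
        rw [Subgroup.mem_bot]
        exact congrArg Subtype.val h2
      obtain ⟨n, c, X, x, hc0, hcn, hstep⟩ := hreg Y Y' hYY' hint
      have hDc : ∀ i : Fin (n + 1), D ≤ (c i : Subgroup ↥M).map M.subtype := by
        intro i
        refine Fin.cases ?_ ?_ i
        · rw [hc0]; exact hDY
        · intro j d hd
          obtain ⟨h1, h2⟩ := hDmem d hd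
          have h3 := (Subgroup.mem_inf.mp ((hstep j).2.2.2.2 h2)).1
          exact (mem_im _ d).mpr ⟨h1, h3⟩
      have hcardc : ∀ i : Fin (n + 1),
          Nat.card ↥(c i : Subgroup ↥M) = Nat.card ↥(Y : Subgroup ↥M) := by
        intro i; rw [(c i).card_eq_multiplicity, Y.card_eq_multiplicity]
      have hall : ∀ i : Fin (n + 1), ∃ Ri : Sylow p G,
          (c i : Subgroup ↥M).map M.subtype ≤ (Ri : Subgroup G) ∧
          Relation.ReflTransGen (GLink p 𝓖 D) R Ri := by
        intro i
        induction i using Fin.induction with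
        | zero => exact ⟨R, by rw [hc0]; exact hYR, Relation.ReflTransGen.refl⟩
        | succ i ih =>
          obtain ⟨Ri, hRi, hchain⟩ := ih
          obtain ⟨hX1, hX2, hx, hconj, -⟩ := hstep i
          obtain ⟨P₀, F, hF, hAN, hBN, hxN, hBA⟩ :=
            step_facts f hf M (c i.castSucc) (c i.succ) (X i) (x i) hX1 hX2 hx hconj
          have hRi' : (c i.succ : Subgroup ↥M).map M.subtype ≤
              ((((x i : ↥M) : G) • Ri : Sylow p G) : Subgroup G) := by
            rw [hBA]; exact im_smul_le _ _ _ hRi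
          refine ⟨((x i : ↥M) : G) • Ri, hRi', hchain.trans ?_⟩
          have hP₀p : IsPGroup p ↥((P₀ : Subgroup ↥M).map M.subtype) := P₀.isPGroup'.map _
          obtain ⟨Pstar, hPstar⟩ := hP₀p.exists_le_sylow
          have hcardP₀ : Nat.card ↥((P₀ : Subgroup ↥M).map M.subtype) =
              Nat.card ↥(Y : Subgroup ↥M) := by
            rw [card_im, P₀.card_eq_multiplicity, Y.card_eq_multiplicity]
          by_cases heq : (P₀ : Subgroup ↥M).map M.subtype = (Pstar : Subgroup G)
          · -- Sylow subgroups of `M` are Sylow subgroups of `G`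
            have hcardRi : Nat.card ↥((c i.castSucc : Subgroup ↥M).map M.subtype) =
                Nat.card ↥(Ri : Subgroup G) := by
              rw [card_im, hcardc, ← hcardP₀, heq, Pstar.card_eq_multiplicity,
                Ri.card_eq_multiplicity]
            have hRieq : (c i.castSucc : Subgroup ↥M).map M.subtype = (Ri : Subgroup G) :=
              Subgroup.eq_of_le_of_card_ge hRi (by rw [hcardRi])
            have hRiN : (Ri : Subgroup G) ≤ Subgroup.normalizer (F : Set G) := by
              rw [← hRieq]; exact hAN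
            have hRi'N : ((((x i : ↥M) : G) • Ri : Sylow p G) : Subgroup G) ≤
                Subgroup.normalizer (F : Set G) := by
              intro y hy
              rw [Cfsg.Agent.Lib.Helper3.mem_sylow_smul_iff] at hy
              have h1 := mul_mem (mul_mem hxN (hRiN hy)) (inv_mem hxN)
              have e : ((x i : ↥M) : G) * (((x i : ↥M) : G)⁻¹ * y * ((x i : ↥M) : G)) *
                  ((x i : ↥M) : G)⁻¹ = y := by group
              rw [e] at h1; exact h1
            have hX𝓖 : (⊤ : Subgroup G) ⊓ Subgroup.normalizer (F : Set G) ∈ 𝓖 := by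
              apply h𝓕
              refine ⟨Pstar.subtype le_top, F, ?_, rfl⟩
              rw [Sylow.coe_subtype, Subgroup.map_subgroupOf_eq_of_le le_top, ← heq]
              exact hF
            apply Relation.ReflTransGen.single
            refine ⟨_, Cfsg.Agent.S2957.mem_sm_of_le 𝓖 Ri _ hX𝓖 (le_inf le_top hRiN),
              Cfsg.Agent.S2957.mem_sm_of_le 𝓖 _ _ hX𝓖 (le_inf le_top hRi'N), ((x i : ↥M) : G),
              Subgroup.mem_inf.mpr ⟨Subgroup.mem_top _, hxN⟩, scr_smul _ _, ?_⟩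
            exact le_inf ((hDc i.succ).trans hRi') (le_inf le_top ((hDc i.succ).trans hBN))
          · -- Sylow subgroups of `M` are smaller: pass to a bigger maximal `p`-local
            have hlt : (P₀ : Subgroup ↥M).map M.subtype < (Pstar : Subgroup G) :=
              lt_of_le_of_ne hPstar heq
            obtain ⟨t, htP, htN, htn⟩ :=
              Cfsg.Agent.Lib.Helper3.exists_mem_normalizer_not_mem Pstar.isPGroup' hlt
            have hFle := ((hf _ hP₀p).1 F hF).1
            have hFn := ((hf _ hP₀p).1 F hF).2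
            have hDpos : 0 < Nat.card ↥D := Nat.card_pos
            have hP₀ne : (P₀ : Subgroup ↥M).map M.subtype ≠ ⊥ := by
              intro hbot
              have h1 : Nat.card ↥((P₀ : Subgroup ↥M).map M.subtype) = 1 := by
                rw [hbot]; exact Subgroup.card_bot
              rw [hcardP₀] at h1
              omega
            have hF1 : F ≠ ⊥ := hf1 _ hP₀p hP₀ne F hF
            have hVloc : Cfsg.IsPLocal p (Subgroup.normalizer (F : Set G)) :=
              ⟨F, hP₀p.to_le hFle, hF1, rfl⟩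
            obtain ⟨M', hVM', hM'⟩ := exists_maximal_plocal _ hVloc
            obtain ⟨Pplus, hPplus⟩ : ∃ Pplus : Subgroup G, Pplus = (Pstar : Subgroup G) ⊓
                Subgroup.normalizer ((((P₀ : Subgroup ↥M).map M.subtype : Subgroup G)) : Set G) :=
              ⟨_, rfl⟩
            have hPplusp : IsPGroup p ↥Pplus := by
              rw [hPplus]; exact Pstar.isPGroup'.to_le inf_le_left
            have hPplusM' : Pplus ≤ M' := by
              rw [hPplus]; exact inf_le_right.trans (hFn.trans hVM')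
            have hltPplus : (P₀ : Subgroup ↥M).map M.subtype < Pplus := by
              rw [hPplus]
              refine lt_of_le_of_ne (le_inf hPstar Subgroup.le_normalizer) ?_
              intro h
              apply htn
              rw [h]
              exact Subgroup.mem_inf.mpr ⟨htP, htN⟩
            have hcardPplus : Nat.card ↥(Y : Subgroup ↥M) < Nat.card ↥Pplus := by
              rw [← hcardP₀]
              exact Cfsg.Agent.Lib.Helper3.card_lt_of_lt hltPplus
            have hRiM'p : IsPGroup p ↥(((Ri : Subgroup G) ⊓ M').subgroupOf M') :=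
              (Ri.isPGroup'.to_le inf_le_left).comap_subtype
            obtain ⟨Y₁, hY₁⟩ := hRiM'p.exists_le_sylow
            have hcardY₁ : Nat.card ↥(Y : Subgroup ↥M) < Nat.card ↥(Y₁ : Subgroup ↥M') := by
              have h1 := card_le_sylow (Pplus.subgroupOf M') hPplusp.comap_subtype Y₁
              have h2 : Nat.card ↥(Pplus.subgroupOf M') = Nat.card ↥Pplus :=
                Nat.card_congr (Subgroup.subgroupOfEquivOfLe hPplusM').toEquiv
              omega
            have hY₁G : Nat.card ↥(Y₁ : Subgroup ↥M') ≤ Nat.card G := by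
              have h1 : Nat.card ↥(Y₁ : Subgroup ↥M') ≤ Nat.card ↥M' :=
                Subgroup.card_le_card_group _
              have h2 : Nat.card ↥M' ≤ Nat.card G := Subgroup.card_le_card_group _
              omega
            have hxM' : ((x i : ↥M) : G) ∈ M' := hVM' hxN
            obtain ⟨R₁, hR₁⟩ := (Y₁.isPGroup'.map M'.subtype).exists_le_sylow
            have hEM' : (c i.castSucc : Subgroup ↥M).map M.subtype ≤ M' := hAN.trans hVM'
            have hEY₁ : (c i.castSucc : Subgroup ↥M).map M.subtype ≤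
                (Y₁ : Subgroup ↥M').map M'.subtype := by
              intro y hy
              rw [mem_im]
              refine ⟨hEM' hy, hY₁ ?_⟩
              rw [Subgroup.mem_subgroupOf, Subgroup.mem_inf]
              exact ⟨hRi hy, hEM' hy⟩
            have hcardE : Nat.card ↥D <
                Nat.card ↥((c i.castSucc : Subgroup ↥M).map M.subtype) := by
              rw [card_im, hcardc]; exact hcard
            have hcardE' : Nat.card ↥D <
                Nat.card ↥((c i.succ : Subgroup ↥M).map M.subtype) := by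
              rw [card_im, hcardc]; exact hcard
            have s1 := hbig Ri R₁ _ hRi (hEY₁.trans hR₁) hcardE (hDc i.castSucc)
            have hE'Y₁' : (c i.succ : Subgroup ↥M).map M.subtype ≤
                (((⟨((x i : ↥M) : G), hxM'⟩ : ↥M') • Y₁ : Sylow p ↥M') : Subgroup ↥M').map
                  M'.subtype := by
              intro y hy
              rw [hBA] at hy
              obtain ⟨hyM, hy⟩ := (mem_im _ y).mp hy
              rw [Cfsg.Agent.Lib.Helper3.mem_sylow_smul_iff] at hy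
              have h1 : ((x i : ↥M) : G)⁻¹ * y * ((x i : ↥M) : G) ∈
                  (c i.castSucc : Subgroup ↥M).map M.subtype :=
                Subgroup.mem_map_of_mem M.subtype hy
              obtain ⟨h2, h3⟩ := (mem_im _ _).mp (hEY₁ h1)
              have hyM' : y ∈ M' := by
                have h4 := mul_mem (mul_mem hxM' h2) (inv_mem hxM')
                have e : ((x i : ↥M) : G) * (((x i : ↥M) : G)⁻¹ * y * ((x i : ↥M) : G)) *
                    ((x i : ↥M) : G)⁻¹ = y := by group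
                rw [e] at h4; exact h4
              rw [mem_im]
              refine ⟨hyM', ?_⟩
              rw [Cfsg.Agent.Lib.Helper3.mem_sylow_smul_iff]
              exact h3
            have hR₁' := im_smul_le Y₁ ⟨((x i : ↥M) : G), hxM'⟩ R₁ hR₁
            have s2 := IH (Nat.card G - Nat.card ↥(Y₁ : Subgroup ↥M')) (by omega) M' hM' Y₁
              ((⟨((x i : ↥M) : G), hxM'⟩ : ↥M') • Y₁) R₁ (((x i : ↥M) : G) • R₁) rfl (by omega)
              ((hDc i.castSucc).trans hEY₁) ((hDc i.succ).trans hE'Y₁') hR₁ hR₁'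
            have s3 := hbig (((x i : ↥M) : G) • R₁) (((x i : ↥M) : G) • Ri) _
              (hE'Y₁'.trans hR₁') hRi' hcardE' (hDc i.succ)
            exact s1.trans (s2.trans s3)
      obtain ⟨Rn, hRn, hchain⟩ := hall (Fin.last n)
      rw [hcn] at hRn
      exact hchain.trans
        (hbig Rn R' _ hRn hY'R' (by rw [card_im, hcardYY']; exact hcard) hDY')
    · -- singular
      have hM𝓖 : M ∈ 𝓖 := h𝓕' M hM hreg
      obtain ⟨m, hm⟩ := MulAction.exists_smul_eq ↥M Y Y'
      have hY'R'' : (Y' : Subgroup ↥M).map M.subtype ≤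
          (((m : G) • R : Sylow p G) : Subgroup G) := by
        rw [← hm]; exact im_smul_le Y m R hYR
      have hlink : GLink p 𝓖 D R ((m : G) • R) := by
        refine ⟨M, ⟨hM𝓖, Y, im_eq_inf Y R hYR⟩, ⟨hM𝓖, Y', im_eq_inf Y' _ hY'R''⟩, (m : G), m.2,
          scr_smul _ _, ?_⟩
        rw [← im_eq_inf Y' _ hY'R'']; exact hDY'
      have h2 := hbig ((m : G) • R) R' _ hY'R'' hY'R'
        (by rw [card_im, hcardYY']; exact hcard) hDY'
      exact Relation.ReflTransGen.head hlink h2

/-- Let p be a prime dividing the order of the finite group G, and f an assignment to every p-subgroup P of a set f(P) of subgroups of P, each normalized by N_G(P), compatible with conjugation, such that for P ≠ 1 the members of f(P) are nontrivial. Let 𝓕 be the family of the normalizers N_G(F) of the members F of f(S) over the Sylow p-subgroups S of G, and 𝓕' the family of the maximal p-local subgroups M of G that are singular for f (the corresponding family of normalizers inside M does not control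 Sylow p-intersections in M). Then 𝓕 ∪ 𝓕' controls Sylow p-intersections in G. -/
theorem result {G : Type*} [Group G] [Finite G] (p : ℕ) [Fact p.Prime] (hdiv : p ∣ Nat.card G)
    (f : Subgroup G → Set (Subgroup G)) (hf : Cfsg.IsNormalizerFunctor p f)
    (hf1 : ∀ P : Subgroup G, IsPGroup p ↥P → P ≠ ⊥ → ∀ F ∈ f P, F ≠ ⊥)
    (𝓕 𝓕' : Set (Subgroup G)) (h𝓕 : 𝓕 = Cfsg.functorFamily p f ⊤)
    (h𝓕' : 𝓕' = {M | Cfsg.IsMaximalPLocal p M ∧ ¬ Cfsg.IsFunctorRegular p f M}) :
    Cfsg.ControlsSylowIntersections p (𝓕 ∪ 𝓕') := by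
  apply controls_of_chains
  have main : ∀ (n : ℕ) (P Q : Sylow p G),
      Nat.card G - Nat.card ↥((P : Subgroup G) ⊓ (Q : Subgroup G)) = n →
      (P : Subgroup G) ⊓ (Q : Subgroup G) ≠ ⊥ →
      Relation.ReflTransGen (GLink p (𝓕 ∪ 𝓕') ((P : Subgroup G) ⊓ (Q : Subgroup G))) P Q := by
    intro n
    induction n using Nat.strong_induction_on with
    | _ n IH =>
      intro P Q hn hint
      obtain ⟨D, hD⟩ : ∃ D : Subgroup G, D = (P : Subgroup G) ⊓ (Q : Subgroup G) := ⟨_, rfl⟩
      rw [← hD] at hn hint ⊢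
      by_cases hPQ : P = Q
      · rw [hPQ]
      have hDP : D ≤ (P : Subgroup G) := by rw [hD]; exact inf_le_left
      have hDQ : D ≤ (Q : Subgroup G) := by rw [hD]; exact inf_le_right
      have hDpos : 0 < Nat.card ↥D := Nat.card_pos
      have hbig : ∀ (P' Q' : Sylow p G) (E : Subgroup G), E ≤ (P' : Subgroup G) →
          E ≤ (Q' : Subgroup G) → Nat.card ↥D < Nat.card ↥E → D ≤ E →
          Relation.ReflTransGen (GLink p (𝓕 ∪ 𝓕') D) P' Q' := by
        intro P' Q' E hEP hEQ hcard hDE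
        have h1 : Nat.card ↥E ≤ Nat.card ↥((P' : Subgroup G) ⊓ (Q' : Subgroup G)) :=
          Subgroup.card_le_of_le (le_inf hEP hEQ)
        have h2 : Nat.card ↥((P' : Subgroup G) ⊓ (Q' : Subgroup G)) ≤ Nat.card G :=
          Subgroup.card_le_card_group _
        have h3 : (P' : Subgroup G) ⊓ (Q' : Subgroup G) ≠ ⊥ := by
          intro hbot
          rw [hbot, Subgroup.card_bot] at h1
          omega
        have h4 := IH (Nat.card G - Nat.card ↥((P' : Subgroup G) ⊓ (Q' : Subgroup G)))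
          (by omega) P' Q' rfl h3
        exact Relation.ReflTransGen.mono
          (fun _ _ hL => glink_mono (hDE.trans (le_inf hEP hEQ)) hL) _ _ h4
      have hDp : IsPGroup p ↥D := P.isPGroup'.to_le hDP
      obtain ⟨M, hNM, hM⟩ := exists_maximal_plocal (p := p) (Subgroup.normalizer (D : Set G))
        ⟨D, hDp, hint, rfl⟩
      have hDltP : D < (P : Subgroup G) := by
        refine lt_of_le_of_ne hDP ?_
        intro h
        apply hPQ
        have hPleQ : (P : Subgroup G) ≤ (Q : Subgroup G) := by rw [← h]; exact hDQ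
        exact Sylow.ext (P.is_maximal' Q.isPGroup' hPleQ).symm
      have hDltQ : D < (Q : Subgroup G) := by
        refine lt_of_le_of_ne hDQ ?_
        intro h
        apply hPQ
        have hQleP : (Q : Subgroup G) ≤ (P : Subgroup G) := by rw [← h]; exact hDP
        exact Sylow.ext (Q.is_maximal' P.isPGroup' hQleP)
      obtain ⟨s, hsP, hsN, hsD⟩ :=
        Cfsg.Agent.Lib.Helper3.exists_mem_normalizer_not_mem P.isPGroup' hDltP
      obtain ⟨t, htQ, htN, htD⟩ :=
        Cfsg.Agent.Lib.Helper3.exists_mem_normalizer_not_mem Q.isPGroup' hDltQ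
      obtain ⟨NP, hNP⟩ : ∃ NP : Subgroup G,
          NP = (P : Subgroup G) ⊓ Subgroup.normalizer (D : Set G) := ⟨_, rfl⟩
      obtain ⟨NQ, hNQ⟩ : ∃ NQ : Subgroup G,
          NQ = (Q : Subgroup G) ⊓ Subgroup.normalizer (D : Set G) := ⟨_, rfl⟩
      have hNPP : NP ≤ (P : Subgroup G) := by rw [hNP]; exact inf_le_left
      have hNQQ : NQ ≤ (Q : Subgroup G) := by rw [hNQ]; exact inf_le_left
      have hDNP : D < NP := by
        rw [hNP]
        refine lt_of_le_of_ne (le_inf hDP Subgroup.le_normalizer) ?_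
        intro h; apply hsD; rw [h]; exact Subgroup.mem_inf.mpr ⟨hsP, hsN⟩
      have hDNQ : D < NQ := by
        rw [hNQ]
        refine lt_of_le_of_ne (le_inf hDQ Subgroup.le_normalizer) ?_
        intro h; apply htD; rw [h]; exact Subgroup.mem_inf.mpr ⟨htQ, htN⟩
      have hNPM : NP ≤ M := by rw [hNP]; exact inf_le_right.trans hNM
      have hNQM : NQ ≤ M := by rw [hNQ]; exact inf_le_right.trans hNM
      have hNPp : IsPGroup p ↥(NP.subgroupOf M) := (P.isPGroup'.to_le hNPP).comap_subtype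
      have hNQp : IsPGroup p ↥(NQ.subgroupOf M) := (Q.isPGroup'.to_le hNQQ).comap_subtype
      obtain ⟨Y, hY⟩ := hNPp.exists_le_sylow
      obtain ⟨Y', hY'⟩ := hNQp.exists_le_sylow
      have hNPY : NP ≤ (Y : Subgroup ↥M).map M.subtype := by
        intro y hy
        rw [mem_im]; exact ⟨hNPM hy, hY (Subgroup.mem_subgroupOf.mpr hy)⟩
      have hNQY' : NQ ≤ (Y' : Subgroup ↥M).map M.subtype := by
        intro y hy
        rw [mem_im]; exact ⟨hNQM hy, hY' (Subgroup.mem_subgroupOf.mpr hy)⟩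
      obtain ⟨R, hR⟩ := (Y.isPGroup'.map M.subtype).exists_le_sylow
      obtain ⟨R', hR'⟩ := (Y'.isPGroup'.map M.subtype).exists_le_sylow
      have hcardNP := Cfsg.Agent.Lib.Helper3.card_lt_of_lt hDNP
      have hcardNQ := Cfsg.Agent.Lib.Helper3.card_lt_of_lt hDNQ
      have hcardY : Nat.card ↥D < Nat.card ↥(Y : Subgroup ↥M) := by
        have h1 := Subgroup.card_le_of_le hNPY
        rw [card_im] at h1
        omega
      have s1 := hbig P R NP hNPP (hNPY.trans hR) hcardNP hDNP.le
      have s2 := claim f hf hf1 (𝓕 ∪ 𝓕') (fun X hX => Or.inl (by rw [h𝓕]; exact hX))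
        (fun M h1 h2 => Or.inr (by rw [h𝓕']; exact ⟨h1, h2⟩)) D hint hbig _ M hM Y Y' R R' rfl
        hcardY (hDNP.le.trans hNPY) (hDNQ.le.trans hNQY') hR hR'
      have s3 := hbig R' Q NQ (hNQY'.trans hR') hNQQ hcardNQ hDNQ.le
      exact s1.trans (s2.trans s3)
  intro P Q _ hint
  exact main _ P Q rfl hint

end Cfsg.Agent.S2956
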