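import Cfsg.Statements.S2968
import Cfsg.Agent.Lib.Helper3.Isolated

set_option autoImplicit false
open Cfsg
open Cfsg.Agent.Lib.Helper3

namespace Cfsg.Agent.S2968

/-- Let G be a finite group, p a prime, P a Sylow p-subgroup of G and x ∈ P an element of p-power order which is isolated in G (the only conjugate of x commuting with x is x itself). Then x lies in the centre of P, and the subgroup generated by x is both strongly closed and weakly closed in P with respect to G. -/
theorem result {G : Type*} [Group G] [Finite G] {p : ℕ} [Fact p.Prime] (P : Sylow p G) (x : G) (hxP : x ∈ (P : Subgroup G)) (hx : ∃ k : ℕ, orderOf x = p ^ k) (hiso : Cfsg.IsIsolated x) : x ∈ (P : Subgroup G) ⊓ Subgroup.centralizer ((P : Subgroup G) : Set G) ∧ Cfsg.IsStronglyClosed (Subgroup.zpowers x) (P : Subgroup G) ∧ Cfsg.IsWeaklyClosed (Subgroup.zpowers x) (P : Subgroup G) := by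
  refine ⟨⟨hxP, isolated_central P x hxP hiso⟩, ⟨Subgroup.zpowers_le.mpr hxP, ?_⟩,
    ⟨Subgroup.zpowers_le.mpr hxP, ?_⟩⟩
  · intro z hz g hg
    obtain ⟨n, rfl⟩ := Subgroup.mem_zpowers_iff.mp hz
    rw [isolated_conj_zpow P x hxP hiso n g hg]
    exact Subgroup.zpow_mem_zpowers x n
  · intro g hle
    apply le_antisymm
    · rintro _ ⟨z, hz, rfl⟩
      obtain ⟨n, rfl⟩ := Subgroup.mem_zpowers_iff.mp hz
      have h1 : g * x ^ n * g⁻¹ ∈ (P : Subgroup G) := hle ⟨x ^ n, Subgroup.zpow_mem_zpowers x n, rfl⟩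
      show g * x ^ n * g⁻¹ ∈ Subgroup.zpowers x
      rw [isolated_conj_zpow P x hxP hiso n g h1]
      exact Subgroup.zpow_mem_zpowers x n
    · intro z hz
      obtain ⟨n, rfl⟩ := Subgroup.mem_zpowers_iff.mp hz
      have h1 : g * x ^ n * g⁻¹ ∈ (P : Subgroup G) := hle ⟨x ^ n, Subgroup.zpow_mem_zpowers x n, rfl⟩
      exact ⟨x ^ n, Subgroup.zpow_mem_zpowers x n, isolated_conj_zpow P x hxP hiso n g h1⟩

end Cfsg.Agent.S2968
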