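import Mathlib
import Cfsg.Statements.S2971
import Cfsg.Agent.Lib.Helper3.Isolated
import Cfsg.Agent.Lib.Helper8.UniqueSub
import Cfsg.Agent.Lib.Helper7.Coprime

set_option autoImplicit false
open Cfsg

namespace Cfsg.Agent.S2971

theorem cyc_of_rank {G : Type*} [Group G] [Finite G] {p : ℕ} [Fact p.Prime] (hp2 : p ≠ 2)
    (hrk : Cfsg.PRankLE p 1 G) (P : Sylow p G) : IsCyclic ↥(P : Subgroup G) := by
  classical
  have hp : p.Prime := Fact.out
  by_cases hnt : Nontrivial ↥(P : Subgroup G)
  swap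
  · rw [not_nontrivial_iff_subsingleton] at hnt
    exact isCyclic_of_subsingleton
  haveI := hnt
  haveI := P.isPGroup'.center_nontrivial
  obtain ⟨z, hz⟩ := exists_ne (1 : Subgroup.center ↥(P : Subgroup G))
  have hz1 : (z : ↥(P : Subgroup G)) ≠ 1 := fun h => hz (Subtype.ext h)
  obtain ⟨k, hk⟩ := (IsPGroup.iff_orderOf.mp P.isPGroup') (z : ↥(P : Subgroup G))
  have hk0 : k ≠ 0 := by
    rintro rfl
    rw [pow_zero, orderOf_eq_one_iff] at hk
    exact hz1 hk
  obtain ⟨i, rfl⟩ : ∃ i, k = i + 1 := ⟨k - 1, by omega⟩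
  obtain ⟨z₀, hz₀⟩ : ∃ z₀ : ↥(P : Subgroup G), z₀ = (z : ↥(P : Subgroup G)) ^ (p ^ i) := ⟨_, rfl⟩
  have hz₀o : orderOf z₀ = p := by
    rw [hz₀, orderOf_pow_of_dvd (pow_pos hp.pos i).ne'
      (by rw [hk]; exact pow_dvd_pow p (Nat.le_succ i)),
      hk, pow_succ, Nat.mul_div_cancel_left _ (pow_pos hp.pos i)]
  have hz₀c : ∀ y : ↥(P : Subgroup G), z₀ * y = y * z₀ := by
    intro y
    have h1 : z₀ ∈ Subgroup.center ↥(P : Subgroup G) := by rw [hz₀]; exact pow_mem z.2 _
    exact (Subgroup.mem_center_iff.mp h1 y).symm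
  have hz₀G : orderOf (z₀ : G) = p := by rw [Subgroup.orderOf_coe]; exact hz₀o
  -- elements of order dividing p lie in ⟨z₀⟩
  have key : ∀ h : ↥(P : Subgroup G), h ^ p = 1 → h ∈ Subgroup.zpowers z₀ := by
    intro h hh
    obtain ⟨A, hA⟩ : ∃ A : Subgroup G, A = Subgroup.closure {(h : G), (z₀ : G)} := ⟨_, rfl⟩
    have hhz : (h : G) * (z₀ : G) = (z₀ : G) * (h : G) := by
      have := congrArg Subtype.val (hz₀c h)
      exact this.symm
    have hsub : ({(h : G), (z₀ : G)} : Set G) ⊆ Subgroup.centralizer {(h : G), (z₀ : G)} := by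
      intro a ha
      rw [SetLike.mem_coe, Subgroup.mem_centralizer_iff]
      intro b hb
      rcases ha with rfl | ha <;> rcases hb with rfl | hb
      · rfl
      · rw [Set.mem_singleton_iff] at hb; rw [hb]; exact hhz.symm
      · rw [Set.mem_singleton_iff] at ha; rw [ha]; exact hhz
      · rw [Set.mem_singleton_iff] at ha hb; rw [ha, hb]
    have hcomm : ∀ u ∈ A, ∀ v ∈ A, u * v = v * u := by
      intro u hu v hv
      have h1 : u ∈ Subgroup.centralizer {(h : G), (z₀ : G)} := by
        rw [hA] at hu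
        exact (Subgroup.closure_le _).mpr hsub hu
      have h2 : v ∈ Subgroup.centralizer
          ((Subgroup.centralizer {(h : G), (z₀ : G)} : Subgroup G) : Set G) := by
        rw [hA] at hv
        exact Subgroup.closure_le_centralizer_centralizer _ hv
      exact (Subgroup.mem_centralizer_iff.mp h2 u h1)
    have hexp : ∀ a ∈ A, a ^ p = 1 := by
      intro a ha
      have ha' : a ∈ Subgroup.closure {(h : G), (z₀ : G)} := by rw [← hA]; exact ha
      induction ha' using Subgroup.closure_induction with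
      | mem x hx =>
        rcases hx with rfl | hx
        · have := congrArg Subtype.val hh
          simpa using this
        · rw [Set.mem_singleton_iff] at hx
          have h5 := pow_orderOf_eq_one (z₀ : G)
          rw [hz₀G] at h5
          rw [hx]; exact h5
      | one => exact one_pow p
      | mul x y hx hy ihx ihy =>
        have c : Commute x y := hcomm x (by rw [hA]; exact hx) y (by rw [hA]; exact hy)
        rw [c.mul_pow, ihx (by rw [hA]; exact hx), ihy (by rw [hA]; exact hy), one_mul]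
      | inv x hx ih =>
        rw [inv_pow, ih (by rw [hA]; exact hx), inv_one]
    have hAc : IsMulCommutative A := ⟨⟨fun a b => Subtype.ext (hcomm a a.2 b b.2)⟩⟩
    have hcard := hrk A hAc hexp
    rw [pow_one] at hcard
    have hle : Subgroup.zpowers (z₀ : G) ≤ A := by
      rw [Subgroup.zpowers_le, hA]
      exact Subgroup.subset_closure (Set.mem_insert_of_mem _ rfl)
    have heq : Subgroup.zpowers (z₀ : G) = A := by
      apply Subgroup.eq_of_le_of_card_ge hle
      rw [Nat.card_zpowers, hz₀G]; exact hcard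
    have hhA : (h : G) ∈ A := by
      rw [hA]; exact Subgroup.subset_closure (Set.mem_insert _ _)
    rw [← heq] at hhA
    obtain ⟨j, hj⟩ := Subgroup.mem_zpowers_iff.mp hhA
    refine Subgroup.mem_zpowers_iff.mpr ⟨j, ?_⟩
    apply Subtype.ext
    rw [Subgroup.coe_zpow]; exact hj
  have hZcard : Nat.card (Subgroup.zpowers z₀) = p := by rw [Nat.card_zpowers, hz₀o]
  have huniq : ∀ H : Subgroup ↥(P : Subgroup G), Nat.card H = p → H = Subgroup.zpowers z₀ := by
    intro H hH
    apply Subgroup.eq_of_le_of_card_ge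
    · intro h hh
      apply key
      have h1 : (⟨h, hh⟩ : H) ^ Nat.card H = 1 := pow_card_eq_one'
      rw [hH] at h1
      have := congrArg Subtype.val h1
      simpa using this
    · rw [hZcard, hH]
  obtain ⟨n, hn⟩ := IsPGroup.iff_card.mp P.isPGroup'
  exact Cfsg.Agent.Lib.Helper8.h8_cyclic_of_unique_small p n ↥(P : Subgroup G) hn
    (fun H K hH hK => (huniq H hH).trans (huniq K hK).symm) (fun h2 => absurd h2 hp2)

/-- Let G be a finite group and p an odd prime such that G has p-rank at most 1 (no elementary abelian subgroup of order p²). If x ∈ G is an isolated element of order p, then x is central modulo the largest normal subgroup of G of order prime to p. -/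
theorem result {G : Type*} [Group G] [Finite G] {p : ℕ} [Fact p.Prime] (hp : p ≠ 2) (hrk : Cfsg.PRankLE p 1 G) (x : G) (hx : orderOf x = p) (hiso : Cfsg.IsIsolated x) : Cfsg.InZStar p x := by
  classical
  have hpp : p.Prime := Fact.out
  have hx1 : x ≠ 1 := by
    rintro rfl
    rw [orderOf_one] at hx
    exact hpp.one_lt.ne hx
  have hxp : IsPGroup p (Subgroup.zpowers x) :=
    IsPGroup.of_card (n := 1) (by rw [Nat.card_zpowers, hx, pow_one])
  obtain ⟨P₀, N, hN, hNP⟩ := Cfsg.Agent.Lib.Helper3.isolated_npc x hxp hiso hx1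
    (fun P => cyc_of_rank hp hrk P)
  haveI := hN
  have hNcop : (Nat.card N).Coprime p := by
    have h1 : (P₀ : Subgroup G).index = Nat.card N := hNP.index_eq_card
    have h2 : ¬ p ∣ Nat.card N := by rw [← h1]; exact P₀.not_dvd_index
    exact ((Nat.Prime.coprime_iff_not_dvd hpp).2 h2).symm
  have hNle : N ≤ Cfsg.pPrimeCore p G := le_sSup ⟨hN, hNcop⟩
  haveI hcyc : IsCyclic ↥(P₀ : Subgroup G) := cyc_of_rank hp hrk P₀
  have hsurj : Function.Surjective ((QuotientGroup.mk' N).comp (P₀ : Subgroup G).subtype) := by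
    intro q
    obtain ⟨g, rfl⟩ := QuotientGroup.mk_surjective q
    have hg : g ∈ N ⊔ (P₀ : Subgroup G) := by rw [hNP.sup_eq_top]; exact Subgroup.mem_top g
    obtain ⟨n, hn, a, ha, rfl⟩ := Cfsg.Agent.Lib.Helper7.exists_mul_of_mem_sup
      (Subgroup.le_normalizer_of_normal) hg
    refine ⟨⟨a, ha⟩, ?_⟩
    show (QuotientGroup.mk a : G ⧸ N) = QuotientGroup.mk (n * a)
    rw [QuotientGroup.mk_mul, (QuotientGroup.eq_one_iff n).mpr hn, one_mul]
  haveI : IsCyclic (G ⧸ N) := isCyclic_of_surjective _ hsurj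
  intro g
  apply hNle
  rw [← QuotientGroup.eq_one_iff]
  simp only [QuotientGroup.mk_mul, QuotientGroup.mk_inv]
  obtain ⟨c, hc⟩ := IsCyclic.exists_generator (α := G ⧸ N)
  obtain ⟨i, hi⟩ := Subgroup.mem_zpowers_iff.mp (hc (g : G ⧸ N))
  obtain ⟨j, hj⟩ := Subgroup.mem_zpowers_iff.mp (hc (x : G ⧸ N))
  rw [← hi, ← hj, ← zpow_add, ← zpow_neg, ← zpow_add, ← zpow_neg, ← zpow_add]
  have : i + j + -i + -j = 0 := by ring
  rw [this, zpow_zero]

end Cfsg.Agent.S2971
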