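import Mathlib
import Cfsg.Statements.S2972
import Cfsg.Agent.Lib.Helper3.Isolated
import Cfsg.Agent.Lib.Helper1.PCore2
import Cfsg.Agent.Lib.Helper6.SylowInf
import Cfsg.Agent.Lib.Helper7.Coprime
import Cfsg.Agent.Lib.Helper7.PCore
import Cfsg.Agent.Lib.Helper2.Burnside

set_option autoImplicit false
open Cfsg
open scoped commutatorElement

namespace Cfsg.Agent.S2972

theorem pgroup_of_central_sylow {K : Type*} [Group K] [Finite K] {p : ℕ} [Fact p.Prime]
    (hO : Cfsg.pPrimeCore p K = ⊥) (S : Sylow p K) (hS : (S : Subgroup K) ≤ Subgroup.center K) :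
    IsPGroup p K := by
  obtain ⟨N, hN, hNS⟩ := Cfsg.Agent.Lib.Helper2.exists_normal_complement_of_central_sylow S hS
  have h1 : Nat.card N = (S : Subgroup K).index := (hNS.index_eq_card).symm
  have h2 : (Nat.card N).Coprime p := by
    rw [h1]
    exact ((Nat.Prime.coprime_iff_not_dvd Fact.out).mpr S.not_dvd_index).symm
  have h3 : N ≤ Cfsg.pPrimeCore p K := Cfsg.Agent.Lib.Helper7.le_pPrimeCore hN h2
  rw [hO, le_bot_iff] at h3
  rw [h3] at hNS
  have h4 : (S : Subgroup K) = ⊤ := Subgroup.isComplement'_bot_left.mp hNS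
  have h5 : IsPGroup p (⊤ : Subgroup K) := by rw [← h4]; exact S.isPGroup'
  exact h5.of_equiv Subgroup.topEquiv

theorem eq_bot_of_normal_coprime {G : Type*} [Group G] [Finite G] {p : ℕ} (K W : Subgroup G)
    (hWK : W ≤ K) (hn : K ≤ Subgroup.normalizer (W : Set G)) (hc : (Nat.card W).Coprime p)
    (hO : Cfsg.pPrimeCore p ↥K = ⊥) : W = ⊥ := by
  have h1 : (W.subgroupOf K).Normal := (Subgroup.normal_subgroupOf_iff_le_normalizer hWK).mpr hn
  have h2 : (Nat.card (W.subgroupOf K)).Coprime p := by
    rw [Nat.card_congr (Subgroup.subgroupOfEquivOfLe hWK).toEquiv]; exact hc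
  have h3 := Cfsg.Agent.Lib.Helper7.le_pPrimeCore h1 h2
  rw [hO, le_bot_iff] at h3
  rw [eq_bot_iff]
  intro w hw
  have h4 : (⟨w, hWK hw⟩ : ↥K) ∈ W.subgroupOf K := by rw [Subgroup.mem_subgroupOf]; exact hw
  rw [h3, Subgroup.mem_bot] at h4
  rw [Subgroup.mem_bot]
  exact congrArg Subtype.val h4

/-- the largest `x`-invariant subgroup inside `K` -/
def xcore {G : Type*} [Group G] (K : Subgroup G) (x : G) : Subgroup G where
  carrier := {g | ∀ i : ℤ, x ^ i * g * (x ^ i)⁻¹ ∈ K}
  one_mem' := by
    intro i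
    have : x ^ i * 1 * (x ^ i)⁻¹ = 1 := by group
    rw [this]; exact one_mem _
  mul_mem' := by
    intro a b ha hb i
    have : x ^ i * (a * b) * (x ^ i)⁻¹ = (x ^ i * a * (x ^ i)⁻¹) * (x ^ i * b * (x ^ i)⁻¹) := by
      group
    rw [this]; exact mul_mem (ha i) (hb i)
  inv_mem' := by
    intro a ha i
    have : x ^ i * a⁻¹ * (x ^ i)⁻¹ = (x ^ i * a * (x ^ i)⁻¹)⁻¹ := by group
    rw [this]; exact inv_mem (ha i)

/-- Let G be a finite group, p a prime and x ∈ G an isolated element of order p (the only conjugate of x commuting with x is x) which is not central modulo the largest normal subgroup of order prime to p, while x is central modulo the largest normal subgroup of order prime to p in every proper subgroup containing x, and the image of x is so in every quotient of G by a nontrivial normal subgroup (a minimal counterexample to the Z*_p statement). Then the derived subgroup G' is a non-abelian simple group and G = G'⟨x⟩. -/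
theorem result {G : Type*} [Group G] [Finite G] {p : ℕ} [Fact p.Prime] (x : G) (hx : orderOf x = p) (hiso : Cfsg.IsIsolated x) (hnz : ¬ Cfsg.InZStar p x) (hmin : ∀ (H : Subgroup G) (hxH : x ∈ H), H ≠ ⊤ → Cfsg.InZStar p (⟨x, hxH⟩ : ↥H)) (hquot : ∀ (N : Subgroup G) [N.Normal], N ≠ ⊥ → Cfsg.InZStar p (QuotientGroup.mk x : G ⧸ N)) : IsSimpleGroup ↥(commutator G) ∧ ¬ IsMulCommutative ↥(commutator G) ∧ commutator G ⊔ Subgroup.zpowers x = ⊤ := by
  classical
  have hp : p.Prime := Fact.out
  have hxp : IsPGroup p (Subgroup.zpowers x) := by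
    apply IsPGroup.of_card (n := 1); rw [Nat.card_zpowers, hx, pow_one]
  -- x not central
  have hncen : ¬ (∀ g : G, g * x * g⁻¹ = x) := by
    intro h
    apply hnz
    intro g
    rw [h g, mul_inv_cancel]; exact one_mem _
  have hI5 : ¬ (∀ g : G, g * x * g⁻¹ * x⁻¹ ∈ Subgroup.center G) := by
    intro h
    apply hncen
    intro g
    apply hiso g
    have h1 := Subgroup.mem_center_iff.mp (h g) x
    show x * (g * x * g⁻¹) = g * x * g⁻¹ * x
    calc x * (g * x * g⁻¹) = x * (g * x * g⁻¹ * x⁻¹) * x := by group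
      _ = (g * x * g⁻¹ * x⁻¹) * x * x := by rw [h1]
      _ = g * x * g⁻¹ * x := by group
  have hO : Cfsg.pPrimeCore p G = ⊥ := by
    by_contra hne
    apply hnz
    intro g
    have h1 := hquot (Cfsg.pPrimeCore p G) hne (QuotientGroup.mk g)
    rw [Cfsg.Agent.Lib.Helper1.pPrimeCore_quotient_eq_bot, Subgroup.mem_bot] at h1
    have h2 : ((g * x * g⁻¹ * x⁻¹ : G) : G ⧸ Cfsg.pPrimeCore p G) = 1 := by
      rw [← h1]; simp
    exact (QuotientGroup.eq_one_iff _).mp h2
  have hOsub : ∀ K : Subgroup G, K.Normal → Cfsg.pPrimeCore p ↥K = ⊥ := by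
    intro K hK
    have h1 := Cfsg.Agent.Lib.Helper1.pPrimeCore_map_subtype_le_of_subnormal p hK.isSubnormal
    rw [hO, le_bot_iff] at h1
    exact (Subgroup.map_eq_bot_iff_of_injective _ K.subtype_injective).mp h1
  have hA : ∀ K : Subgroup G, K.Normal → x ∈ K → K = ⊤ := by
    intro K hK hxK
    by_contra hne
    have h1 := hmin K hxK hne
    have h2 : ∀ k ∈ K, k * x * k⁻¹ = x := by
      intro k hk
      have h3 := h1 ⟨k, hk⟩
      rw [hOsub K hK, Subgroup.mem_bot] at h3
      have h4 := congrArg Subtype.val h3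
      simp only [Subgroup.coe_mul, Subgroup.coe_inv, Subgroup.coe_one] at h4
      exact mul_inv_eq_one.mp h4
    apply hncen
    intro g
    apply hiso g
    have h5 : g * x * g⁻¹ ∈ K := hK.conj_mem x hxK g
    have h6 := h2 _ h5
    show x * (g * x * g⁻¹) = g * x * g⁻¹ * x
    exact (mul_inv_eq_iff_eq_mul.mp h6).symm
  have hdich : ∀ K : Subgroup G, K.Normal →
      K ≤ Subgroup.center G ∨ K ⊔ Subgroup.zpowers x = ⊤ := by
    intro K hK
    by_cases hH : K ⊔ Subgroup.zpowers x = ⊤
    · right; exact hH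
    · left
      have hxH : x ∈ K ⊔ Subgroup.zpowers x := Subgroup.mem_sup_right (Subgroup.mem_zpowers x)
      have h1 := hmin _ hxH hH
      have hKH : K ≤ K ⊔ Subgroup.zpowers x := le_sup_left
      obtain ⟨W, hWdef⟩ : ∃ W : Subgroup G, W = (Cfsg.pPrimeCore p
          ↥(K ⊔ Subgroup.zpowers x)).map (Subgroup.subtype _) ⊓ K := ⟨_, rfl⟩
      have hW : W = ⊥ := by
        apply eq_bot_of_normal_coprime K W (by rw [hWdef]; exact inf_le_right) _ _ (hOsub K hK)
        · intro k hk
          rw [Subgroup.mem_normalizer_iff]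
          intro w
          have hcn : (Cfsg.pPrimeCore p ↥(K ⊔ Subgroup.zpowers x)).Normal := inferInstance
          rw [hWdef, Subgroup.mem_inf, Subgroup.mem_inf]
          constructor
          · rintro ⟨⟨w', hw', rfl⟩, hwK⟩
            refine ⟨⟨⟨k, hKH hk⟩ * w' * ⟨k, hKH hk⟩⁻¹, hcn.conj_mem w' hw' _, ?_⟩,
              hK.conj_mem _ hwK k⟩
            simp
          · rintro ⟨⟨w', hw', hw'eq⟩, hwK⟩
            have hwK' : w ∈ K := by
              have := hK.conj_mem _ hwK k⁻¹
              have e : k⁻¹ * (k * w * k⁻¹) * k⁻¹⁻¹ = w := by group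
              rwa [e] at this
            refine ⟨⟨⟨k, hKH hk⟩⁻¹ * w' * ⟨k, hKH hk⟩⁻¹⁻¹, hcn.conj_mem w' hw' _, ?_⟩, hwK'⟩
            simp only [Subgroup.coe_subtype, Subgroup.coe_mul, Subgroup.coe_inv]
            have hw'eq' : (w' : G) = k * w * k⁻¹ := hw'eq
            rw [hw'eq']; group
        · have h3 : W ≤ (Cfsg.pPrimeCore p
              ↥(K ⊔ Subgroup.zpowers x)).map (Subgroup.subtype _) := by
            rw [hWdef]; exact inf_le_left
          have h4 : (Nat.card ((Cfsg.pPrimeCore p
              ↥(K ⊔ Subgroup.zpowers x)).map (Subgroup.subtype _))).Coprime p := by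
            rw [Subgroup.card_map_of_injective (Subgroup.subtype_injective _)]
            exact Cfsg.Agent.Lib.Helper7.pPrimeCore_coprime p _
          exact Nat.Coprime.coprime_dvd_left (Subgroup.card_dvd_of_le h3) h4
      have h2 : ∀ k ∈ K, k * x * k⁻¹ = x := by
        intro k hk
        have h3 := h1 ⟨k, hKH hk⟩
        have h4 : k * x * k⁻¹ * x⁻¹ ∈ W := by
          rw [hWdef]
          refine ⟨⟨_, h3, ?_⟩, ?_⟩
          · simp
          · have : k * x * k⁻¹ * x⁻¹ = k * (x * k⁻¹ * x⁻¹) := by group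
            rw [this]; exact mul_mem hk (hK.conj_mem _ (inv_mem hk) x)
        rw [hW, Subgroup.mem_bot] at h4
        exact mul_inv_eq_one.mp h4
      have hxC : x ∈ Subgroup.centralizer (K : Set G) := by
        rw [Subgroup.mem_centralizer_iff]
        intro k hk
        exact mul_inv_eq_iff_eq_mul.mp (h2 k hk)
      haveI := hK
      have hCn : (Subgroup.centralizer (K : Set G)).Normal := inferInstance
      have hCtop := hA _ hCn hxC
      intro k hk
      rw [Subgroup.mem_center_iff]
      intro g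
      have hg : g ∈ Subgroup.centralizer (K : Set G) := by rw [hCtop]; trivial
      exact (Subgroup.mem_centralizer_iff.mp hg k hk).symm
  have hder : ∀ K : Subgroup G, K.Normal → K ⊔ Subgroup.zpowers x = ⊤ → commutator G ≤ K := by
    intro K hK htop
    haveI := hK
    rw [commutator_def, Subgroup.commutator_le]
    intro g _ h _
    have hg : g ∈ K ⊔ Subgroup.zpowers x := by rw [htop]; trivial
    have hh : h ∈ K ⊔ Subgroup.zpowers x := by rw [htop]; trivial
    have hnorm : Subgroup.zpowers x ≤ Subgroup.normalizer (K : Set G) := by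
      intro a _; rw [Subgroup.normalizer_eq_top]; trivial
    obtain ⟨k1, hk1, a1, ha1, rfl⟩ := Cfsg.Agent.Lib.Helper7.exists_mul_of_mem_sup hnorm hg
    obtain ⟨k2, hk2, a2, ha2, rfl⟩ := Cfsg.Agent.Lib.Helper7.exists_mul_of_mem_sup hnorm hh
    obtain ⟨i, rfl⟩ := Subgroup.mem_zpowers_iff.mp ha1
    obtain ⟨j, rfl⟩ := Subgroup.mem_zpowers_iff.mp ha2
    rw [← QuotientGroup.eq_one_iff (N := K)]
    have e1 : ((k1 : G) : G ⧸ K) = 1 := (QuotientGroup.eq_one_iff _).mpr hk1
    have e2 : ((k2 : G) : G ⧸ K) = 1 := (QuotientGroup.eq_one_iff _).mpr hk2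
    rw [commutatorElement_def]
    simp only [QuotientGroup.mk_mul, QuotientGroup.mk_inv, QuotientGroup.mk_zpow, e1, e2, one_mul]
    have hcm := (Commute.zpow_zpow_self ((x : G) : G ⧸ K) i j)
    rw [hcm.eq]; group
  have hthird : commutator G ⊔ Subgroup.zpowers x = ⊤ := by
    rcases hdich (commutator G) inferInstance with h | h
    · exfalso
      apply hI5
      intro g
      apply h
      rw [commutator_def]
      exact Subgroup.commutator_mem_commutator (Subgroup.mem_top g) (Subgroup.mem_top x)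
    · exact h
  obtain ⟨P, hP⟩ := hxp.exists_le_sylow
  have hxP : x ∈ (P : Subgroup G) := hP (Subgroup.mem_zpowers x)
  have hxc := Cfsg.Agent.Lib.Helper3.isolated_central P x hxP hiso
  have hDp : IsPGroup p ↥(commutator G) → False := by
    intro hD
    have h1 : commutator G ≤ (P : Subgroup G) := hD.le_sylow_of_normal P
    have h2 : commutator G ⊔ Subgroup.zpowers x ≤ Subgroup.centralizer ({x} : Set G) := by
      apply sup_le
      · intro d hd
        rw [Subgroup.mem_centralizer_singleton_iff]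
        exact Subgroup.mem_centralizer_iff.mp hxc d (h1 hd)
      · rw [Subgroup.zpowers_le, Subgroup.mem_centralizer_singleton_iff]
    rw [hthird] at h2
    apply hncen
    intro g
    have h3 := h2 (Subgroup.mem_top g)
    rw [Subgroup.mem_centralizer_singleton_iff] at h3
    rw [h3]; group
  have hnoncomm : ¬ IsMulCommutative ↥(commutator G) := by
    intro hcomm
    apply hDp
    obtain ⟨S⟩ : Nonempty (Sylow p ↥(commutator G)) := inferInstance
    apply pgroup_of_central_sylow (hOsub _ inferInstance) S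
    intro s _
    rw [Subgroup.mem_center_iff]
    intro g
    exact hcomm.is_comm.comm g s
  refine ⟨?_, hnoncomm, hthird⟩
  haveI : Nontrivial ↥(commutator G) := by
    by_contra h
    rw [not_nontrivial_iff_subsingleton] at h
    exact hDp (fun g => ⟨0, Subsingleton.elim _ _⟩)
  constructor
  intro K hK
  by_contra hcon
  push_neg at hcon
  obtain ⟨hKbot, hKtop⟩ := hcon
  -- K0
  have hK0n : (xcore (K.map (commutator G).subtype) x).Normal := by
    constructor
    intro n hn g
    have hg : g ∈ commutator G ⊔ Subgroup.zpowers x := by rw [hthird]; trivial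
    have hnorm : Subgroup.zpowers x ≤ Subgroup.normalizer ((commutator G : Subgroup G) : Set G) := by
      intro a _; rw [Subgroup.normalizer_eq_top]; trivial
    obtain ⟨d, hd, a, ha, rfl⟩ := Cfsg.Agent.Lib.Helper7.exists_mul_of_mem_sup hnorm hg
    obtain ⟨j, rfl⟩ := Subgroup.mem_zpowers_iff.mp ha
    intro i
    have hd' : x ^ i * d * (x ^ i)⁻¹ ∈ commutator G :=
      (inferInstance : (commutator G).Normal).conj_mem d hd _
    obtain ⟨k0, hk0, hk0eq⟩ := hn (i + j)
    have e : x ^ i * (d * x ^ j * n * (d * x ^ j)⁻¹) * (x ^ i)⁻¹ =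
        (x ^ i * d * (x ^ i)⁻¹) * (x ^ (i + j) * n * (x ^ (i + j))⁻¹) * (x ^ i * d * (x ^ i)⁻¹)⁻¹ := by
      rw [zpow_add]; group
    rw [e, ← hk0eq]
    refine ⟨⟨_, hd'⟩ * k0 * ⟨_, hd'⟩⁻¹, hK.conj_mem k0 hk0 _, ?_⟩
    simp
  have hK0K : xcore (K.map (commutator G).subtype) x ≤ K.map (commutator G).subtype := by
    intro g hg
    have := hg 0
    simpa using this
  have hKtop' : ¬ (commutator G ≤ K.map (commutator G).subtype) := by
    intro h
    apply hKtop
    rw [eq_top_iff]
    intro d _
    obtain ⟨k, hk, hkeq⟩ := h d.2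
    have : k = d := Subtype.ext hkeq
    rw [← this]; exact hk
  have hK0c : xcore (K.map (commutator G).subtype) x ≤ Subgroup.center G := by
    rcases hdich _ hK0n with h | h
    · exact h
    · exfalso
      exact hKtop' ((hder _ hK0n h).trans hK0K)
  -- Sylow subgroups
  have hPD : (P : Subgroup G) ≤ Subgroup.normalizer ((commutator G : Subgroup G) : Set G) := by
    intro a _; rw [Subgroup.normalizer_eq_top]; trivial
  obtain ⟨S1, hS1⟩ := Cfsg.Agent.Lib.Helper6.gl_sylow_inf_of_le_normalizer P (commutator G) hPD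
  have hS1K : (S1 : Subgroup ↥(commutator G)) ≤ Subgroup.normalizer (K : Set ↥(commutator G)) := by
    intro a _; rw [Subgroup.normalizer_eq_top]; trivial
  obtain ⟨S2, hS2⟩ := Cfsg.Agent.Lib.Helper6.gl_sylow_inf_of_le_normalizer S1 K hS1K
  have hS2cen : ∀ s : ↥K, s ∈ (S2 : Subgroup ↥K) → ((s : ↥(commutator G)) : G) ∈ Subgroup.center G := by
    intro s hs
    rw [hS2, Subgroup.mem_subgroupOf] at hs
    have hs1 : (s : ↥(commutator G)) ∈ (S1 : Subgroup ↥(commutator G)) := hs.1
    rw [hS1, Subgroup.mem_subgroupOf] at hs1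
    have hsP : ((s : ↥(commutator G)) : G) ∈ (P : Subgroup G) := hs1.1
    have hcomm : ((s : ↥(commutator G)) : G) * x = x * ((s : ↥(commutator G)) : G) :=
      Subgroup.mem_centralizer_iff.mp hxc _ hsP
    apply hK0c
    intro i
    have hcm : Commute x ((s : ↥(commutator G)) : G) := hcomm.symm
    have e : x ^ i * ((s : ↥(commutator G)) : G) * (x ^ i)⁻¹ = ((s : ↥(commutator G)) : G) := by
      rw [(hcm.zpow_left i).eq]; group
    rw [e]
    exact ⟨(s : ↥(commutator G)), s.2, rfl⟩
  have hS2c : (S2 : Subgroup ↥K) ≤ Subgroup.center ↥K := by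
    intro s hs
    rw [Subgroup.mem_center_iff]
    intro g
    apply Subtype.ext
    apply Subtype.ext
    simp only [Subgroup.coe_mul]
    exact Subgroup.mem_center_iff.mp (hS2cen s hs) _
  have hOD : Cfsg.pPrimeCore p ↥(commutator G) = ⊥ := hOsub _ inferInstance
  have hOK : Cfsg.pPrimeCore p ↥K = ⊥ := by
    have h1 := Cfsg.Agent.Lib.Helper1.pPrimeCore_map_subtype_le_of_subnormal p hK.isSubnormal
    rw [hOD, le_bot_iff] at h1
    exact (Subgroup.map_eq_bot_iff_of_injective _ K.subtype_injective).mp h1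
  have hKp : IsPGroup p ↥K := pgroup_of_central_sylow hOK S2 hS2c
  have hS2top : (⊤ : Subgroup ↥K) = (S2 : Subgroup ↥K) :=
    S2.is_maximal' (hKp.to_subgroup ⊤) le_top
  have hK'c : K.map (commutator G).subtype ≤ Subgroup.center G := by
    rintro _ ⟨k, hk, rfl⟩
    have := hS2cen ⟨k, hk⟩ (by rw [← hS2top]; trivial)
    exact this
  have hK'ne : K.map (commutator G).subtype ≠ ⊥ := by
    intro h
    apply hKbot
    exact (Subgroup.map_eq_bot_iff_of_injective _ (Subgroup.subtype_injective _)).mp h
  haveI hK'n : (K.map (commutator G).subtype).Normal := by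
    constructor
    intro n hn g
    have := Subgroup.mem_center_iff.mp (hK'c hn) g
    have e : g * n * g⁻¹ = n := by rw [this]; group
    rw [e]; exact hn
  have hq := hquot (K.map (commutator G).subtype) hK'ne
  obtain ⟨M, hMdef⟩ : ∃ M : Subgroup G, M = (Cfsg.pPrimeCore p
      (G ⧸ K.map (commutator G).subtype)).comap (QuotientGroup.mk' _) := ⟨_, rfl⟩
  have hMn : M.Normal := by
    rw [hMdef]
    exact Subgroup.Normal.comap inferInstance _
  have hxM : ∀ g : G, g * x * g⁻¹ * x⁻¹ ∈ M := by
    intro g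
    rw [hMdef, Subgroup.mem_comap]
    have := hq (QuotientGroup.mk g)
    simpa using this
  rcases hdich M hMn with h | h
  · exact hI5 (fun g => h (hxM g))
  · have hDM := hder M hMn h
    apply hDp
    obtain ⟨S⟩ : Nonempty (Sylow p ↥(commutator G)) := inferInstance
    apply pgroup_of_central_sylow hOD S
    intro s hs
    have hsM : (s : G) ∈ M := hDM s.2
    rw [hMdef, Subgroup.mem_comap] at hsM
    have hc := Cfsg.Agent.Lib.Helper7.pPrimeCore_coprime p (G ⧸ K.map (commutator G).subtype)
    have h1 : orderOf (QuotientGroup.mk' (K.map (commutator G).subtype) (s : G)) ∣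
        Nat.card (Cfsg.pPrimeCore p (G ⧸ K.map (commutator G).subtype)) :=
      Subgroup.orderOf_dvd_natCard _ hsM
    have h2 : orderOf (QuotientGroup.mk' (K.map (commutator G).subtype) (s : G)) ∣ orderOf (s : G) :=
      orderOf_map_dvd _ _
    obtain ⟨k, hk⟩ := (IsPGroup.iff_orderOf.mp S.isPGroup') ⟨s, hs⟩
    have h3 : orderOf (s : G) = p ^ k := by
      rw [Subgroup.orderOf_coe, ← hk]; exact (Subgroup.orderOf_mk s hs).symm
    rw [h3] at h2
    have h4 : (orderOf (QuotientGroup.mk' (K.map (commutator G).subtype) (s : G))).Coprime p :=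
      Nat.Coprime.coprime_dvd_left h1 hc
    have h5 : orderOf (QuotientGroup.mk' (K.map (commutator G).subtype) (s : G)) = 1 :=
      Nat.Coprime.eq_one_of_dvd (Nat.Coprime.pow_right k h4) h2
    have h6 : (s : G) ∈ K.map (commutator G).subtype := by
      have := orderOf_eq_one_iff.mp h5
      exact (QuotientGroup.eq_one_iff _).mp this
    have h7 := hK'c h6
    rw [Subgroup.mem_center_iff]
    intro g
    apply Subtype.ext
    simp only [Subgroup.coe_mul]
    exact Subgroup.mem_center_iff.mp h7 _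

end Cfsg.Agent.S2972
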