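import Mathlib
import Cfsg.Statements.S2975
import Cfsg.Agent.Lib.Helper3.Isolated
import Cfsg.Agent.Lib.Helper3.EA
import Cfsg.Agent.Lib.Helper1.PCore2
import Cfsg.Agent.Lib.Helper7.CoprimeSylow
import Cfsg.Agent.Lib.Helper7.PCore
import Cfsg.Agent.S1900

set_option autoImplicit false
open Cfsg

namespace Cfsg.Agent.S2975

/-- Let G be a finite group, p a prime and x ∈ G an isolated element of order p (the only conjugate of x commuting with x is x) which is not central modulo the largest normal subgroup of order prime to p, while x is central modulo the largest normal subgroup of order prime to p in every proper subgroup containing x, and the image of x is so in every quotient of G by a nontrivial normal subgroup (a minimal counterexample to the Z*_p statement). Then for every prime q, every q-subgroup of G that is normalized by x and maximal among the q-subgroups normalized by x is either trivial or a Sylow q-subgroup of G; and C_G(x) permutes the x-invariant Sylow q-subgroups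 of G transitively by conjugation. -/
theorem result {G : Type*} [Group G] [Finite G] {p : ℕ} [Fact p.Prime] (x : G) (hx : orderOf x = p) (hiso : Cfsg.IsIsolated x) (hnz : ¬ Cfsg.InZStar p x) (hmin : ∀ (H : Subgroup G) (hxH : x ∈ H), H ≠ ⊤ → Cfsg.InZStar p (⟨x, hxH⟩ : ↥H)) (hquot : ∀ (N : Subgroup G) [N.Normal], N ≠ ⊥ → Cfsg.InZStar p (QuotientGroup.mk x : G ⧸ N)) (q : ℕ) [Fact q.Prime] : (∀ Q : Subgroup G, IsPGroup q ↥Q → x ∈ Subgroup.normalizer (Q : Set G) → (∀ R : Subgroup G, IsPGroup q ↥R → x ∈ Subgroup.normalizer (R : Set G) → Q ≤ R → R = Q) → Q = ⊥ ∨ ∃ S : Sylow q G, (S : Subgroup G) = Q) ∧ (∀ S₁ S₂ : Sylow q G, x ∈ Subgroup.normalizer ((S₁ : Subgroup G) : Set G) → x ∈ Subgroup.normalizer ((S₂ : Subgroup G) : Set G) → ∃ c ∈ Subgroup.centralizer ({x} : Set G), (S₁ : Subgroup G).map (MulAut.conj c).toMonoidHom = (S₂ : Subgroup G)) := by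
  classical
  have hp : p.Prime := Fact.out
  have hq : q.Prime := Fact.out
  have hxp : IsPGroup p (Subgroup.zpowers x) := by
    apply IsPGroup.of_card (n := 1); rw [Nat.card_zpowers, hx, pow_one]
  have hO : Cfsg.pPrimeCore p G = ⊥ := by
    by_contra hne
    apply hnz
    intro g
    have h1 := hquot (Cfsg.pPrimeCore p G) hne (QuotientGroup.mk g)
    rw [Cfsg.Agent.Lib.Helper1.pPrimeCore_quotient_eq_bot, Subgroup.mem_bot] at h1
    have h2 : ((g * x * g⁻¹ * x⁻¹ : G) : G ⧸ Cfsg.pPrimeCore p G) = 1 := by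
      rw [← h1]; simp
    exact (QuotientGroup.eq_one_iff _).mp h2
  refine ⟨?_, ?_⟩
  · intro Q hQq hxQ hmax
    by_cases hqp : q = p
    · right
      have hxq : IsPGroup q (Subgroup.zpowers x) := by rw [hqp]; exact hxp
      have h1 : IsPGroup q (Subgroup.zpowers x ⊔ Q : Subgroup G) :=
        IsPGroup.to_sup_of_normal_right' hxq hQq (by rw [Subgroup.zpowers_le]; exact hxQ)
      obtain ⟨P, hP⟩ := h1.exists_le_sylow
      have hxP : x ∈ (P : Subgroup G) := hP (Subgroup.mem_sup_left (Subgroup.mem_zpowers x))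
      have h2 := hmax P P.isPGroup' (Subgroup.le_normalizer hxP) (le_sup_right.trans hP)
      exact ⟨P, h2⟩
    · by_cases hQbot : Q = ⊥
      · left; exact hQbot
      right
      have hqpc : q.Coprime p := (Nat.coprime_primes hq hp).mpr hqp
      have hHne : Subgroup.normalizer (Q : Set G) ≠ ⊤ := by
        intro htop
        have hQn : Q.Normal := Subgroup.normalizer_eq_top_iff.mp htop
        have hc : (Nat.card Q).Coprime p := by
          obtain ⟨n, hn⟩ := IsPGroup.iff_card.mp hQq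
          rw [hn]
          exact Nat.Coprime.pow_left n hqpc
        have := Cfsg.Agent.Lib.Helper7.le_pPrimeCore hQn hc
        rw [hO, le_bot_iff] at this
        exact hQbot this
      have hZ := hmin (Subgroup.normalizer (Q : Set G)) hxQ hHne
      obtain ⟨O, hOdef⟩ : ∃ O : Subgroup G, O = (Cfsg.pPrimeCore p
          ↥(Subgroup.normalizer (Q : Set G))).map (Subgroup.subtype _) := ⟨_, rfl⟩
      have hOc : (Nat.card O).Coprime p := by
        rw [hOdef, Subgroup.card_map_of_injective (Subgroup.subtype_injective _)]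
        exact Cfsg.Agent.Lib.Helper7.pPrimeCore_coprime p _
      have hHO : Subgroup.normalizer (Q : Set G) ≤ Subgroup.normalizer (O : Set G) := by
        intro h hh
        apply S1900.mem_normalizer_of_conj_mem
        intro o ho
        rw [hOdef] at ho ⊢
        obtain ⟨o', ho', rfl⟩ := ho
        have hcn : (Cfsg.pPrimeCore p ↥(Subgroup.normalizer (Q : Set G))).Normal := inferInstance
        exact ⟨⟨h, hh⟩ * o' * ⟨h, hh⟩⁻¹, hcn.conj_mem o' ho' _, by simp⟩
      have hxO : ∀ h ∈ Subgroup.normalizer (Q : Set G), x * h * x⁻¹ * h⁻¹ ∈ O := by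
        intro h hh
        have h1 := hZ ⟨h, hh⟩
        have h2 : h * x * h⁻¹ * x⁻¹ ∈ O := by
          rw [hOdef]; exact ⟨_, h1, by simp⟩
        have h3 : x * h * x⁻¹ * h⁻¹ = (h * x * h⁻¹ * x⁻¹)⁻¹ := by group
        rw [h3]; exact inv_mem h2
      obtain ⟨S, hS⟩ := hQq.exists_le_sylow
      refine ⟨S, ?_⟩
      by_contra hne
      have hlt : Q < (S : Subgroup G) := lt_of_le_of_ne hS (fun h => hne h.symm)
      obtain ⟨u, huS, huN, huQ⟩ :=
        Cfsg.Agent.Lib.Helper3.exists_mem_normalizer_not_mem S.isPGroup' hlt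
      obtain ⟨R, hRdef⟩ : ∃ R : Subgroup G,
          R = (S : Subgroup G) ⊓ Subgroup.normalizer (Q : Set G) := ⟨_, rfl⟩
      have hRq : IsPGroup q R := by rw [hRdef]; exact S.isPGroup'.to_le inf_le_left
      have hRH : R ≤ Subgroup.normalizer (Q : Set G) := by rw [hRdef]; exact inf_le_right
      have hQR : Q ≤ R := by rw [hRdef]; exact le_inf hS Subgroup.le_normalizer
      have huR : u ∈ R := by rw [hRdef]; exact ⟨huS, huN⟩
      have hRO : R ≤ Subgroup.normalizer (O : Set G) := hRH.trans hHO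
      have hcardT : (Nat.card ↥(R ⊔ O)).Coprime p := by
        have h1 := Cfsg.Agent.Lib.Helper3.card_sup_mul_card_inf R O hRO
        have h2 : Nat.card ↥(R ⊔ O) ∣ Nat.card R * Nat.card O := Dvd.intro _ h1
        have h3 : (Nat.card R).Coprime p := by
          obtain ⟨n, hn⟩ := IsPGroup.iff_card.mp hRq
          rw [hn]; exact Nat.Coprime.pow_left n hqpc
        exact Nat.Coprime.coprime_dvd_left h2 (Nat.Coprime.mul_left h3 hOc)
      have hxT : Subgroup.zpowers x ≤ Subgroup.normalizer ((R ⊔ O : Subgroup G) : Set G) := by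
        rw [Subgroup.zpowers_le]
        apply S1900.mem_normalizer_of_conj_mem
        intro t ht
        have hmap : (R ⊔ O).map (MulAut.conj x).toMonoidHom ≤ R ⊔ O := by
          rw [Subgroup.map_sup]
          apply sup_le
          · rintro _ ⟨r, hr, rfl⟩
            show x * r * x⁻¹ ∈ R ⊔ O
            have h1 := hxO r (hRH hr)
            have h2 : x * r * x⁻¹ = (x * r * x⁻¹ * r⁻¹) * r := by group
            rw [h2]
            exact mul_mem (Subgroup.mem_sup_right h1) (Subgroup.mem_sup_left hr)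
          · rintro _ ⟨o, ho, rfl⟩
            show x * o * x⁻¹ ∈ R ⊔ O
            exact Subgroup.mem_sup_right ((Subgroup.mem_normalizer_iff.mp (hHO hxQ) o).mp ho)
        exact hmap ⟨t, ht, rfl⟩
      have hcop : (Nat.card (Subgroup.zpowers x)).Coprime (Nat.card ↥(R ⊔ O)) := by
        rw [Nat.card_zpowers, hx]
        exact hcardT.symm
      have hsolvA : Group.IsSolvable ↥(Subgroup.zpowers x) := by
        apply Group.isSolvable_of_comm
        rintro ⟨a, ha⟩ ⟨b, hb⟩
        obtain ⟨i, rfl⟩ := Subgroup.mem_zpowers_iff.mp ha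
        obtain ⟨j, rfl⟩ := Subgroup.mem_zpowers_iff.mp hb
        apply Subtype.ext
        show x ^ i * x ^ j = x ^ j * x ^ i
        exact (Commute.zpow_zpow_self x i j).eq
      obtain ⟨P', hP'Q, hP'x⟩ := Cfsg.Agent.Lib.Helper7.exists_invariant_sylow_ge
        (Subgroup.zpowers x) (R ⊔ O) hxT hcop (Or.inl hsolvA) q Q (hQR.trans le_sup_left) hQq
        (by rw [Subgroup.zpowers_le]; exact hxQ)
      have hP'q : IsPGroup q ↥((P' : Subgroup ↥(R ⊔ O)).map (Subgroup.subtype _)) :=
        P'.isPGroup'.map _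
      have heq := hmax _ hP'q (hP'x (Subgroup.mem_zpowers x)) hP'Q
      have hR' : IsPGroup q ↥(R.subgroupOf (R ⊔ O)) := hRq.comap_subtype
      obtain ⟨P'', hP''⟩ := hR'.exists_le_sylow
      have hc1 : Nat.card (P'' : Subgroup ↥(R ⊔ O)) = Nat.card (P' : Subgroup ↥(R ⊔ O)) := by
        rw [Sylow.card_eq_multiplicity, Sylow.card_eq_multiplicity]
      have hc2 : Nat.card R ≤ Nat.card (P'' : Subgroup ↥(R ⊔ O)) := by
        rw [← Nat.card_congr (Subgroup.subgroupOfEquivOfLe (le_sup_left : R ≤ R ⊔ O)).toEquiv]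
        exact Subgroup.card_le_of_le hP''
      have hc3 : Nat.card (P' : Subgroup ↥(R ⊔ O)) = Nat.card Q := by
        rw [← heq, Subgroup.card_map_of_injective (Subgroup.subtype_injective _)]
      have hc4 : Nat.card Q < Nat.card R := by
        by_contra hge
        push_neg at hge
        have := Subgroup.eq_of_le_of_card_ge hQR hge
        exact huQ (this ▸ huR)
      omega
  · intro S₁ S₂ h1 h2
    obtain ⟨g, hg⟩ := MulAction.exists_smul_eq G S₁ S₂
    have hmem : ∀ y : G, y ∈ (S₂ : Subgroup G) ↔ g⁻¹ * y * g ∈ (S₁ : Subgroup G) := by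
      intro y; rw [← hg]; exact Cfsg.Agent.Lib.Helper3.mem_sylow_smul_iff
    have hyN : g⁻¹ * x * g⁻¹⁻¹ ∈ Subgroup.normalizer ((S₁ : Subgroup G) : Set G) := by
      apply S1900.mem_normalizer_of_conj_mem
      intro s hs
      have h3 : g * s * g⁻¹ ∈ (S₂ : Subgroup G) := by
        rw [hmem]
        have e : g⁻¹ * (g * s * g⁻¹) * g = s := by group
        rw [e]; exact hs
      have h4 : x * (g * s * g⁻¹) * x⁻¹ ∈ (S₂ : Subgroup G) :=
        (Subgroup.mem_normalizer_iff.mp h2 _).mp h3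
      rw [hmem] at h4
      have e : g⁻¹ * x * g⁻¹⁻¹ * s * (g⁻¹ * x * g⁻¹⁻¹)⁻¹ =
          g⁻¹ * (x * (g * s * g⁻¹) * x⁻¹) * g := by group
      rw [e]; exact h4
    obtain ⟨m, hm, hmx⟩ := Cfsg.Agent.Lib.Helper3.isolated_exists_conj x hxp hiso _ h1 g⁻¹ hyN
    refine ⟨(m * g⁻¹)⁻¹, ?_, ?_⟩
    · rw [Subgroup.mem_centralizer_singleton_iff]
      have h5 : (m * g⁻¹) * x = x * (m * g⁻¹) := mul_inv_eq_iff_eq_mul.mp hmx
      calc (m * g⁻¹)⁻¹ * x = (m * g⁻¹)⁻¹ * (x * (m * g⁻¹)) * (m * g⁻¹)⁻¹ := by group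
        _ = (m * g⁻¹)⁻¹ * ((m * g⁻¹) * x) * (m * g⁻¹)⁻¹ := by rw [h5]
        _ = x * (m * g⁻¹)⁻¹ := by group
    · ext y
      rw [hmem]
      constructor
      · rintro ⟨s, hs, rfl⟩
        show g⁻¹ * ((m * g⁻¹)⁻¹ * s * (m * g⁻¹)⁻¹⁻¹) * g ∈ (S₁ : Subgroup G)
        have e : g⁻¹ * ((m * g⁻¹)⁻¹ * s * (m * g⁻¹)⁻¹⁻¹) * g = m⁻¹ * s * m⁻¹⁻¹ := by group
        rw [e]
        exact (Subgroup.mem_normalizer_iff.mp (inv_mem hm) s).mp hs
      · intro hy
        refine ⟨m * (g⁻¹ * y * g) * m⁻¹, (Subgroup.mem_normalizer_iff.mp hm _).mp hy, ?_⟩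
        show (m * g⁻¹)⁻¹ * (m * (g⁻¹ * y * g) * m⁻¹) * (m * g⁻¹)⁻¹⁻¹ = y
        group

end Cfsg.Agent.S2975
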