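import Mathlib
import Cfsg.Statements.S3023
import Cfsg.Agent.S2825
import Cfsg.Agent.Lib.Helper3.ParaChar
import Cfsg.Agent.Lib.Helper3.SubnSylow
import Cfsg.Agent.Lib.Helper3.ZJ

set_option autoImplicit false
open Cfsg
open Cfsg.Agent.Lib.Helper3

namespace Cfsg.Agent.S3023

section
variable {H : Type*} [Group H] [Finite H] {p : ℕ} [Fact p.Prime]

/-- characteristic `p` passes to the intersection with a subnormal subgroup -/
theorem charPIn_of_subnormal_inf {L : Subgroup H} (hL : CharPIn p L) {G₁ : Subgroup H}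
    (hsn : G₁.IsSubnormal) : CharPIn p (G₁ ⊓ L) := by
  induction hsn with
  | top => rw [top_inf_eq]; exact hL
  | step G₁ K h_le hK hN ih =>
    apply charPIn_of_normal ih (inf_le_inf_right L h_le)
    refine le_trans ?_ (Cfsg.Agent.S2825.norm_inf_le G₁ L)
    exact le_inf (inf_le_left.trans ((Subgroup.normal_subgroupOf_iff_le_normalizer h_le).mp hN))
      (inf_le_right.trans Subgroup.le_normalizer)

theorem parachar_main_sn (hG : Cfsg.IsOfParabolicCharacteristic p H) (G₁ : Subgroup H)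
    (hsn : G₁.IsSubnormal) (R T : Subgroup H) (hRG₁ : R ≤ G₁) (hRp : IsPGroup p R) (hRne : R ≠ ⊥)
    (hTG₁ : T ≤ G₁) (hTR : T ≤ Subgroup.normalizer (R : Set H))
    (hTcard : Nat.card T = p ^ (Nat.card G₁).factorization p)
    (hTz : ∀ z ∈ T, (∀ t ∈ T, t * z = z * t) → z ^ p = 1 →
      ∃ S' : Sylow p H, (S' : Subgroup H) ≤ Subgroup.centralizer ({z} : Set H)) :
    CharPIn p (G₁ ⊓ Subgroup.normalizer (R : Set H)) := by
  have hp : p.Prime := Fact.out
  obtain ⟨N₁, hN₁⟩ : ∃ N₁ : Subgroup H, N₁ = G₁ ⊓ Subgroup.normalizer (R : Set H) := ⟨_, rfl⟩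
  rw [← hN₁]
  have hN₁G : N₁ ≤ G₁ := by rw [hN₁]; exact inf_le_left
  have hN₁R : N₁ ≤ Subgroup.normalizer (R : Set H) := by rw [hN₁]; exact inf_le_right
  have hRN₁ : R ≤ N₁ := by rw [hN₁]; exact le_inf hRG₁ Subgroup.le_normalizer
  have hTN₁ : T ≤ N₁ := by rw [hN₁]; exact le_inf hTG₁ hTR
  have hTp : IsPGroup p T := IsPGroup.of_card hTcard
  have hRP₁ : R ≤ pCoreOf p N₁ := le_pCoreOf hRN₁ hRp hN₁R
  have hP₁p : IsPGroup p (pCoreOf p N₁) := pCoreOf_isPGroup p N₁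
  have hN₁P₁ : N₁ ≤ Subgroup.normalizer (pCoreOf p N₁ : Set H) := le_normalizer_pCoreOf p N₁
  have hP₁ne : pCoreOf p N₁ ≠ ⊥ := fun h => hRne (le_bot_iff.mp (h ▸ hRP₁))
  have hP₁T : pCoreOf p N₁ ≤ T := by
    have hsup : IsPGroup p ↥(pCoreOf p N₁ ⊔ T) :=
      IsPGroup.to_sup_of_normal_left' hP₁p hTp (hTN₁.trans hN₁P₁)
    have hle : pCoreOf p N₁ ⊔ T ≤ G₁ := sup_le ((pCoreOf_le p N₁).trans hN₁G) hTG₁
    obtain ⟨k, hk⟩ := IsPGroup.iff_card.mp hsup
    have hdvd : p ^ k ∣ Nat.card G₁ := hk ▸ Subgroup.card_dvd_of_le hle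
    have hk' : k ≤ (Nat.card G₁).factorization p :=
      (hp.pow_dvd_iff_le_factorization Nat.card_pos.ne').mp hdvd
    have hcard_le : Nat.card ↥(pCoreOf p N₁ ⊔ T) ≤ Nat.card T := by
      rw [hk, hTcard]; exact Nat.pow_le_pow_right hp.pos hk'
    have heq : T = pCoreOf p N₁ ⊔ T := Subgroup.eq_of_le_of_card_ge le_sup_right hcard_le
    exact le_sup_left.trans heq.ge
  obtain ⟨z₀, hz₀P, hz₀1, hz₀c⟩ := pn_inf_center T (pCoreOf p N₁) hTp hP₁T
    (fun x hx d hd => (Subgroup.mem_normalizer_iff.mp (hN₁P₁ (hTN₁ hx)) d).mp hd) hP₁ne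
  obtain ⟨k, hk1, hkp⟩ := exists_pow_order_p hP₁p hz₀P hz₀1
  obtain ⟨z, hz⟩ : ∃ z : H, z = z₀ ^ (p ^ k) := ⟨_, rfl⟩
  rw [← hz] at hk1 hkp
  have hzP : z ∈ pCoreOf p N₁ := by rw [hz]; exact Subgroup.pow_mem _ hz₀P _
  have hzc : ∀ t ∈ T, t * z = z * t := by
    intro t ht
    rw [hz]
    exact ((show Commute t z₀ from hz₀c t ht).pow_right _).eq
  obtain ⟨S', hS'⟩ := hTz z (hP₁T hzP) hzc hkp
  have hZp : IsPGroup p (Subgroup.zpowers z) := hP₁p.to_le (Subgroup.zpowers_le.mpr hzP)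
  have hZne : Subgroup.zpowers z ≠ ⊥ := fun h => hk1 (Subgroup.zpowers_eq_bot.mp h)
  have hCN : Subgroup.centralizer ({z} : Set H) ≤
      Subgroup.normalizer ((Subgroup.zpowers z : Subgroup H) : Set H) := by
    intro x hx
    apply Cfsg.Agent.S2908.mem_normalizer_of_commute
    intro y hy
    obtain ⟨k, rfl⟩ := Subgroup.mem_zpowers_iff.mp hy
    exact ((show Commute x z from Subgroup.mem_centralizer_singleton_iff.mp hx).zpow_right k).eq
  have hL : CharPIn p (Subgroup.normalizer ((Subgroup.zpowers z : Subgroup H) : Set H)) :=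
    (charPIn_iff p _).mpr (hG _ hZp hZne ⟨S', hS'.trans hCN⟩)
  obtain ⟨M, hM⟩ : ∃ M : Subgroup H,
      M = G₁ ⊓ Subgroup.centralizer ((Subgroup.zpowers z : Subgroup H) : Set H) := ⟨_, rfl⟩
  have hCc : CharPIn p (Subgroup.centralizer ((Subgroup.zpowers z : Subgroup H) : Set H)) :=
    charPIn_of_normal hL (Subgroup.centralizer_le_normalizer _)
      (fun l hl => normalizer_le_normalizer_centralizer' _ hl)
  have hMc : CharPIn p M := by
    rw [hM]; exact charPIn_of_subnormal_inf hCc hsn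
  have hzcent : ∀ x ∈ T,
      x ∈ Subgroup.centralizer ((Subgroup.zpowers z : Subgroup H) : Set H) := by
    intro x hx
    rw [Subgroup.mem_centralizer_iff]
    intro y hy
    obtain ⟨k, rfl⟩ := Subgroup.mem_zpowers_iff.mp hy
    exact ((show Commute x z from hzc x hx).zpow_right k).eq.symm
  have hRM : R ≤ M := by
    rw [hM]; exact le_inf hRG₁ (fun x hx => hzcent x (hP₁T (hRP₁ hx)))
  have hN₂c : CharPIn p (M ⊓ Subgroup.normalizer (R : Set H)) := charPIn_local hMc hRp hRM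
  obtain ⟨D₁, hD₁⟩ : ∃ D₁ : Subgroup H,
      D₁ = N₁ ⊓ Subgroup.centralizer (pCoreOf p N₁ : Set H) := ⟨_, rfl⟩
  have hD₁N₁ : D₁ ≤ N₁ := by rw [hD₁]; exact inf_le_left
  have hD₁N₂ : D₁ ≤ M ⊓ Subgroup.normalizer (R : Set H) := by
    intro x hx
    have hx' := hx
    rw [hD₁] at hx'
    obtain ⟨hx1, hx2⟩ := Subgroup.mem_inf.mp hx'
    refine Subgroup.mem_inf.mpr ⟨?_, hN₁R hx1⟩
    rw [hM]
    refine Subgroup.mem_inf.mpr ⟨hN₁G hx1, ?_⟩
    rw [Subgroup.mem_centralizer_iff]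
    intro y hy
    exact Subgroup.mem_centralizer_iff.mp hx2 y ((Subgroup.zpowers_le.mpr hzP) hy)
  have hN₁D₁ : N₁ ≤ Subgroup.normalizer (D₁ : Set H) := by
    intro n hn
    apply fin_mem_normalizer
    intro x hx
    rw [hD₁] at hx ⊢
    obtain ⟨hx1, hx2⟩ := Subgroup.mem_inf.mp hx
    exact Subgroup.mem_inf.mpr ⟨N₁.mul_mem (N₁.mul_mem hn hx1) (N₁.inv_mem hn),
      (Subgroup.mem_normalizer_iff.mp
        (normalizer_le_normalizer_centralizer' _ (hN₁P₁ hn)) x).mp hx2⟩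
  have hN₂N₁ : M ⊓ Subgroup.normalizer (R : Set H) ≤ N₁ := by
    rw [hN₁, hM]; exact inf_le_inf_right _ inf_le_left
  have hD₁c : CharPIn p D₁ := charPIn_of_normal hN₂c hD₁N₂ (hN₂N₁.trans hN₁D₁)
  have hOD : pCoreOf p D₁ ≤ pCoreOf p N₁ :=
    le_pCoreOf ((pCoreOf_le p D₁).trans hD₁N₁) (pCoreOf_isPGroup p D₁)
      (le_normalizer_pCoreOf_of_le_normalizer hN₁D₁)
  show N₁ ⊓ Subgroup.centralizer (pCoreOf p N₁ : Set H) ≤ pCoreOf p N₁
  rw [← hD₁]
  intro x hx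
  have hx' := hx
  rw [hD₁] at hx'
  have hxc : x ∈ Subgroup.centralizer (pCoreOf p D₁ : Set H) :=
    Subgroup.centralizer_le (SetLike.coe_subset_coe.mpr hOD) (Subgroup.mem_inf.mp hx').2
  exact hOD (hD₁c (Subgroup.mem_inf.mpr ⟨hx, hxc⟩))

end

/-- Let p be a prime, G a finite group of parabolic characteristic p (every p-local subgroup containing a Sylow p-subgroup of G has characteristic p), S a Sylow p-subgroup of G and G₁ a subnormal subgroup of G. If the centre of S ∩ G₁ is nontrivial and contained in the centre of S, then G₁ has parabolic characteristic p. -/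
theorem result {G : Type*} [Group G] [Finite G] {p : ℕ} [Fact p.Prime] (hG : Cfsg.IsOfParabolicCharacteristic p G) (S : Sylow p G) (G₁ : Subgroup G) (hsn : G₁.IsSubnormal) (hne : ((S : Subgroup G) ⊓ G₁) ⊓ Subgroup.centralizer (((S : Subgroup G) ⊓ G₁ : Subgroup G) : Set G) ≠ ⊥) (hle : ((S : Subgroup G) ⊓ G₁) ⊓ Subgroup.centralizer (((S : Subgroup G) ⊓ G₁ : Subgroup G) : Set G) ≤ (S : Subgroup G) ⊓ Subgroup.centralizer ((S : Subgroup G) : Set G)) : Cfsg.IsOfParabolicCharacteristic p ↥G₁ := by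
  classical
  have hp : p.Prime := Fact.out
  intro R hRp hRne hpar
  obtain ⟨T₁, hT₁⟩ := hpar
  obtain ⟨S₁, hS₁⟩ := exists_sylow_subgroupOf_subnormal S hsn
  obtain ⟨g, hg⟩ := MulAction.exists_smul_eq ↥G₁ S₁ T₁
  obtain ⟨N, hN⟩ : ∃ N : Subgroup ↥G₁, N = Subgroup.normalizer (R : Set ↥G₁) := ⟨_, rfl⟩
  rw [← hN]
  have hnorm : ∀ n ∈ N, (n : G) ∈ Subgroup.normalizer ((R.map G₁.subtype : Subgroup G) : Set G) := by
    intro n hn
    apply fin_mem_normalizer
    rintro _ ⟨r, hr, rfl⟩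
    rw [hN] at hn
    exact ⟨n * r * n⁻¹, (Subgroup.mem_normalizer_iff.mp hn r).mp hr, rfl⟩
  have hNmap : N.map G₁.subtype
      = G₁ ⊓ Subgroup.normalizer ((R.map G₁.subtype : Subgroup G) : Set G) := by
    apply le_antisymm
    · rintro _ ⟨n, hn, rfl⟩
      exact Subgroup.mem_inf.mpr ⟨n.2, hnorm n hn⟩
    · intro x hx
      obtain ⟨hx1, hx2⟩ := Subgroup.mem_inf.mp hx
      refine ⟨⟨x, hx1⟩, ?_, rfl⟩
      rw [hN]
      apply fin_mem_normalizer
      intro r hr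
      obtain ⟨r', hr', hr'eq⟩ := (Subgroup.mem_normalizer_iff.mp hx2 (r : G)).mp ⟨r, hr, rfl⟩
      have h1 : (⟨x, hx1⟩ : ↥G₁) * r * (⟨x, hx1⟩ : ↥G₁)⁻¹ = r' := Subtype.ext hr'eq.symm
      rw [h1]; exact hr'
  have hT₁N : (T₁ : Subgroup ↥G₁) ≤ N := by rw [hN]; exact hT₁
  have hmain : CharPIn p (N.map G₁.subtype) := by
    rw [hNmap]
    refine parachar_main_sn hG G₁ hsn (R.map G₁.subtype) ((T₁ : Subgroup ↥G₁).map G₁.subtype)
      (Subgroup.map_subtype_le _) (hRp.map _)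
      (fun h => hRne ((Subgroup.map_eq_bot_iff_of_injective _ G₁.subtype_injective).mp h))
      (Subgroup.map_subtype_le _) ?_ ?_ ?_
    · rintro _ ⟨t, ht, rfl⟩
      exact hnorm t (hT₁N ht)
    · rw [card_map_subtype]
      exact T₁.card_eq_multiplicity
    · rintro _ ⟨t, ht, rfl⟩ hzc _
      have hzc' : ∀ t' ∈ (T₁ : Subgroup ↥G₁), (t' : G) * (t : G) = (t : G) * (t' : G) :=
        fun t' ht' => hzc _ ⟨t', ht', rfl⟩
      have ht2 : t ∈ ((g • S₁ : Sylow p ↥G₁) : Subgroup ↥G₁) := by rw [hg]; exact ht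
      rw [mem_sylow_smul_iff, hS₁, Subgroup.mem_subgroupOf] at ht2
      have ht3 : (g : G)⁻¹ * (t : G) * (g : G) ∈ (S : Subgroup G) ⊓ G₁ := ht2
      have hcen : ∀ s ∈ (S : Subgroup G) ⊓ G₁,
          s * ((g : G)⁻¹ * (t : G) * (g : G)) = ((g : G)⁻¹ * (t : G) * (g : G)) * s := by
        intro s hs
        have hs1 : (⟨s, (Subgroup.mem_inf.mp hs).2⟩ : ↥G₁) ∈ (S₁ : Subgroup ↥G₁) := by
          rw [hS₁, Subgroup.mem_subgroupOf]; exact hs
        have hs2 : g * (⟨s, (Subgroup.mem_inf.mp hs).2⟩ : ↥G₁) * g⁻¹ ∈ (T₁ : Subgroup ↥G₁) := by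
          have h0 : g * (⟨s, (Subgroup.mem_inf.mp hs).2⟩ : ↥G₁) * g⁻¹
              ∈ ((g • S₁ : Sylow p ↥G₁) : Subgroup ↥G₁) := by
            rw [mem_sylow_smul_iff]
            have h1 : g⁻¹ * (g * (⟨s, (Subgroup.mem_inf.mp hs).2⟩ : ↥G₁) * g⁻¹) * g
                = ⟨s, (Subgroup.mem_inf.mp hs).2⟩ := by group
            rw [h1]; exact hs1
          rwa [hg] at h0
        have h3 : (g : G) * s * (g : G)⁻¹ * (t : G) = (t : G) * ((g : G) * s * (g : G)⁻¹) :=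
          hzc' _ hs2
        calc s * ((g : G)⁻¹ * (t : G) * (g : G))
            = (g : G)⁻¹ * ((g : G) * s * (g : G)⁻¹ * (t : G)) * (g : G) := by group
          _ = (g : G)⁻¹ * ((t : G) * ((g : G) * s * (g : G)⁻¹)) * (g : G) := by rw [h3]
          _ = ((g : G)⁻¹ * (t : G) * (g : G)) * s := by group
      have hmem : (g : G)⁻¹ * (t : G) * (g : G) ∈ ((S : Subgroup G) ⊓ G₁) ⊓
          Subgroup.centralizer (((S : Subgroup G) ⊓ G₁ : Subgroup G) : Set G) :=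
        Subgroup.mem_inf.mpr ⟨ht3, Subgroup.mem_centralizer_iff.mpr (fun s hs => hcen s hs)⟩
      have hcS := (Subgroup.mem_inf.mp (hle hmem)).2
      refine ⟨(g : G) • S, ?_⟩
      intro x hx
      rw [mem_sylow_smul_iff] at hx
      have h5 := Subgroup.mem_centralizer_iff.mp hcS _ hx
      rw [Subgroup.mem_centralizer_singleton_iff]
      show x * (t : G) = (t : G) * x
      calc x * (t : G)
          = (g : G) * (((g : G)⁻¹ * x * (g : G)) * ((g : G)⁻¹ * (t : G) * (g : G))) * (g : G)⁻¹ := by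
            group
        _ = (g : G) * (((g : G)⁻¹ * (t : G) * (g : G)) * ((g : G)⁻¹ * x * (g : G))) * (g : G)⁻¹ := by
            rw [h5]
        _ = (t : G) * x := by group
  exact charp_of_equiv (N.equivMapOfInjective G₁.subtype G₁.subtype_injective)
    ((charPIn_iff p _).mp hmain)

end Cfsg.Agent.S3023
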