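import Cfsg.Statements.S3048
import Cfsg.Agent.Lib.Helper3.Sidki3

set_option autoImplicit false
universe u
open Cfsg

namespace Cfsg.Agent.S3048

open Cfsg.Agent.Lib.Helper3

/-- Minimal counterexample reduction for the Sidki pair problem. Let G be a finite group and V a nontrivial elementary abelian 2-subgroup satisfying the Sidki pair condition with V ∩ O₂(G) = 1. Suppose that for every finite group H of smaller order, every nontrivial elementary abelian 2-subgroup W of H satisfying the Sidki pair condition meets O₂(H) nontrivially, and that the same holds in G for every such subgroup W of order smaller than that of V. Then the generalized Fitting subgroup F*(G) is a non-abelian simple group and G = V F*(G). -/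
theorem result {G : Type u} [Group G] [Finite G] (V : Subgroup G) (hV : Cfsg.IsElementaryAbelian 2 V) (hV1 : V ≠ ⊥) (hS : Cfsg.IsSidkiPair V) (hVO : V ⊓ Cfsg.pCore 2 G = ⊥) (hminG : ∀ (H : Type u) [Group H] [Finite H] (W : Subgroup H), Nat.card H < Nat.card G → Cfsg.IsElementaryAbelian 2 W → W ≠ ⊥ → Cfsg.IsSidkiPair W → W ⊓ Cfsg.pCore 2 H ≠ ⊥) (hminV : ∀ W : Subgroup G, Nat.card W < Nat.card V → Cfsg.IsElementaryAbelian 2 W → W ≠ ⊥ → Cfsg.IsSidkiPair W → W ⊓ Cfsg.pCore 2 G ≠ ⊥) : IsSimpleGroup ↥(Cfsg.generalizedFittingSubgroup G) ∧ ¬ IsMulCommutative ↥(Cfsg.generalizedFittingSubgroup G) ∧ V ⊔ Cfsg.generalizedFittingSubgroup G = ⊤ := by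
  have hO : Cfsg.pCore 2 G = ⊥ := sk_pCore_eq_bot V hV hV1 hS hVO hminG
  have h : SkMin G V := ⟨SkEA.of hV, hV, hV1, hS, hO, hminG, hminV⟩
  obtain ⟨N, hN⟩ := sk_exists_minNormal V hV1
  have hNn := hN.normal
  have hNV := sk_minNormal_sup h N hN
  have hnab : ¬ ∀ a ∈ N, ∀ b ∈ N, a * b = b * a := fun hab => sk_not_abelian h N hN hNV hab
  have hZN : N ⊓ Subgroup.centralizer (N : Set G) = ⊥ := by
    have hn : (N ⊓ Subgroup.centralizer (N : Set G)).Normal := inferInstance
    rcases hN.min _ hn inf_le_left with h0 | h0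
    · exact h0
    · exfalso
      apply hnab
      intro a ha b hb
      have h1 : b ∈ N ⊓ Subgroup.centralizer (N : Set G) := by rw [h0]; exact hb
      exact Subgroup.mem_centralizer_iff.mp h1.2 a ha
  have hsimp := sk_simple h N hN hNV hZN
  have hCN := sk_centralizer_bot h N hN hNV hZN
  have hNsimple : IsSimpleGroup ↥N := by
    have hnt : Nontrivial ↥N := (Subgroup.nontrivial_iff_ne_bot N).mpr hN.ne
    refine { toNontrivial := hnt, eq_bot_or_eq_top_of_normal := ?_ }
    intro H hH
    by_cases hH1 : H = ⊥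
    · exact Or.inl hH1
    · right
      have hne : H.map N.subtype ≠ ⊥ := by
        intro hbot
        apply hH1
        rw [eq_bot_iff]
        intro y hy
        have h1 : (y : G) ∈ H.map N.subtype := Subgroup.mem_map.mpr ⟨y, hy, rfl⟩
        rw [hbot, Subgroup.mem_bot] at h1
        rw [Subgroup.mem_bot]
        exact Subtype.ext h1
      have hnorm : N ≤ Subgroup.normalizer ((H.map N.subtype : Subgroup G) : Set G) := by
        rw [Subgroup.le_normalizer_iff]
        rintro n hn _ ⟨y, hy, rfl⟩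
        exact Subgroup.mem_map.mpr ⟨⟨n, hn⟩ * y * ⟨n, hn⟩⁻¹, hH.conj_mem y hy _, rfl⟩
      have hT := hsimp _ (H.map N.subtype) rfl (Subgroup.map_subtype_le H) hne hnorm
      rw [eq_top_iff]
      intro x _
      have hx : (x : G) ∈ H.map N.subtype := by rw [hT]; exact x.2
      obtain ⟨y, hy, hyx⟩ := Subgroup.mem_map.mp hx
      have h2 : y = x := Subtype.ext hyx
      rw [← h2]; exact hy
  have hsol : ¬ Group.IsSolvable ↥N := by
    intro hs
    apply hnab
    intro a ha b hb
    have h1 := (IsSimpleGroup.comm_iff_isSolvable (G := ↥N)).mpr hs ⟨a, ha⟩ ⟨b, hb⟩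
    exact congrArg (Subtype.val : ↥N → G) h1
  have hX : Cfsg.generalizedFittingSubgroup G = N := sk_genFit_eq N hN hCN hsol
  refine ⟨?_, ?_, ?_⟩
  · rw [hX]; exact hNsimple
  · rw [hX]
    intro hc
    apply hnab
    intro a ha b hb
    exact congrArg (Subtype.val : ↥N → G) (hc.is_comm.comm ⟨a, ha⟩ ⟨b, hb⟩)
  · rw [hX, sup_comm]; exact hNV

end Cfsg.Agent.S3048
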