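import Cfsg.Statements.S3062
import Cfsg.Agent.Lib.Helper3.DStar

set_option autoImplicit false
open Cfsg
open Cfsg.Agent.Lib.Helper3

namespace Cfsg.Agent.S3062

/-- Let S be a finite p-group, J(S) the subgroup generated by the abelian subgroups of S of largest order and Z(J(S)) its centre. Then Z(S) ≤ D*(S) ≤ Z(J(S)), and every maximal normal abelian subgroup of S contains D*(S). -/
theorem result {S : Type*} [Group S] [Finite S] {p : ℕ} [Fact p.Prime]
    (hS : IsPGroup p S) :
    Subgroup.center S ≤ Cfsg.dStar S ∧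
    Cfsg.dStar S ≤ Cfsg.thompsonSubgroupA S ⊓ Subgroup.centralizer (Cfsg.thompsonSubgroupA S : Set S) ∧
    ∀ A : Subgroup S, A.Normal → IsMulCommutative A →
      (∀ B : Subgroup S, B.Normal → IsMulCommutative B → A ≤ B → B = A) → Cfsg.dStar S ≤ A := by
  haveI : Group.IsNilpotent S := hS.isNilpotent
  refine ⟨le_sSup ds_center_mem, ?_, ?_⟩
  · obtain ⟨B, hB⟩ := ds_exists_maxAb (S := S)
    refine le_inf ((ds_dStar_le_maxAb hS hB).trans (le_sSup hB)) ?_
    rw [Subgroup.le_centralizer_iff]
    refine sSup_le (fun B' hB' => ?_)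
    intro b hb
    refine Subgroup.mem_centralizer_iff.mpr (fun d hd => ?_)
    exact comm_of_isMulCommutative hB'.1 d (ds_dStar_le_maxAb hS hB' hd) b hb
  · intro A hAn hAc hmax
    haveI := hAn
    exact ds_dStar_le A (comm_of_isMulCommutative hAc)
      (fun B hBn hBc hAB => hmax B hBn (isMulCommutative_of_comm hBc) hAB)

end Cfsg.Agent.S3062
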