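import Cfsg.Statements.S4023
import Cfsg.Agent.Lib.Helper8.UniqueSub
import Cfsg.Agent.Lib.Helper1.UniqueInv
import Cfsg.Agent.Lib.Helper3.EA
import Cfsg.Agent.Lib.Helper1.GenFit

set_option autoImplicit false
open Cfsg

namespace Cfsg.Agent.S4023

open Cfsg.Agent.Lib.Helper1 Cfsg.Agent.Lib.Helper8

/-- The join of two commutative subgroups that centralize each other is commutative. -/
theorem pso_comm_sup {G : Type*} [Group G] (A B : Subgroup G) (hA : IsMulCommutative ↥A)
    (hB : IsMulCommutative ↥B) (hAB : A ≤ Subgroup.centralizer (B : Set G)) :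
    IsMulCommutative ↥(A ⊔ B) := by
  have hAself : A ≤ Subgroup.centralizer (A : Set G) :=
    Subgroup.le_centralizer_iff_isMulCommutative.mpr hA
  have hBself : B ≤ Subgroup.centralizer (B : Set G) :=
    Subgroup.le_centralizer_iff_isMulCommutative.mpr hB
  have hBA : B ≤ Subgroup.centralizer (A : Set G) := Subgroup.le_centralizer_iff.mp hAB
  have hE1 : A ⊔ B ≤ Subgroup.centralizer (A : Set G) := sup_le hAself hBA
  have hE2 : A ⊔ B ≤ Subgroup.centralizer (B : Set G) := sup_le hAB hBself
  rw [← Subgroup.le_centralizer_iff_isMulCommutative]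
  exact sup_le (Subgroup.le_centralizer_iff.mp hE1) (Subgroup.le_centralizer_iff.mp hE2)

/-- If any two subgroups of `P` of the same order are conjugate, then the Sylow `p`-subgroup `P`
either has exponent `p` or has a unique subgroup of order `p`. -/
theorem pso_dich {G : Type*} [Group G] [Finite G]
    (p : ℕ) [hp : Fact p.Prime] (P : Sylow p G)
    (hB : ∀ A B : Subgroup G, A ≤ (P : Subgroup G) → B ≤ (P : Subgroup G) →
      Nat.card ↥A = Nat.card ↥B → ∃ g : G, B = A.map (MulAut.conj g).toMonoidHom) :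
    (∀ x ∈ (P : Subgroup G), x ^ p = 1) ∨
    (∀ H K : Subgroup G, H ≤ (P : Subgroup G) → K ≤ (P : Subgroup G) →
      Nat.card H = p → Nat.card K = p → H = K) := by
  classical
  by_contra hcon
  push Not at hcon
  obtain ⟨⟨x, hxP, hxp⟩, H, K, hHP, hKP, hHc, hKc, hHK⟩ := hcon
  have hpp : p.Prime := hp.out
  obtain ⟨j, hj⟩ : ∃ j, orderOf x = p ^ j := by
    obtain ⟨k, hk⟩ := (IsPGroup.iff_orderOf.mp P.isPGroup') ⟨x, hxP⟩
    refine ⟨k, ?_⟩
    rw [← hk]
    exact Subgroup.orderOf_coe (⟨x, hxP⟩ : ↥(P : Subgroup G))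
  have hj2 : 2 ≤ j := by
    by_contra h
    have hj1 : j ≤ 1 := by omega
    apply hxp
    have h1 : orderOf x ∣ p := by
      rw [hj]
      calc p ^ j ∣ p ^ 1 := pow_dvd_pow p hj1
        _ = p := pow_one p
    exact orderOf_dvd_iff_pow_eq_one.mp h1
  obtain ⟨c, hcP, hc⟩ : ∃ c ∈ (P : Subgroup G), orderOf c = p ^ 2 := by
    refine ⟨x ^ (p ^ (j - 2)), (P : Subgroup G).pow_mem hxP _, ?_⟩
    rw [orderOf_pow' x (pow_ne_zero _ hpp.ne_zero), hj,
      Nat.gcd_eq_right (pow_dvd_pow p (by omega)), Nat.pow_div (by omega) hpp.pos]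
    congr 1
    omega
  have hCc : Nat.card ↥(Subgroup.zpowers c) = p ^ 2 := by rw [Nat.card_zpowers, hc]
  have hPnt : Nontrivial ↥(P : Subgroup G) := by
    rw [← Finite.one_lt_card_iff_nontrivial]
    have h1 := Subgroup.card_le_of_le hHP
    rw [hHc] at h1
    exact lt_of_lt_of_le hpp.one_lt h1
  have hcnt : Nontrivial ↥(Subgroup.center ↥(P : Subgroup G)) := P.isPGroup'.center_nontrivial
  have hcpg : IsPGroup p ↥(Subgroup.center ↥(P : Subgroup G)) := P.isPGroup'.to_subgroup _
  obtain ⟨n, hn⟩ := IsPGroup.iff_card.mp hcpg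
  have hn0 : n ≠ 0 := by
    rintro rfl
    rw [pow_zero] at hn
    have h1 := Finite.one_lt_card_iff_nontrivial.mpr hcnt
    omega
  have hdvd : p ∣ Nat.card ↥(Subgroup.center ↥(P : Subgroup G)) := by
    rw [hn]; exact dvd_pow_self p hn0
  obtain ⟨z', hz'⟩ := exists_prime_orderOf_dvd_card' p hdvd
  obtain ⟨z, hzdef⟩ : ∃ z : G, z = ((z' : ↥(P : Subgroup G)) : G) := ⟨_, rfl⟩
  have hzP : z ∈ (P : Subgroup G) := by rw [hzdef]; exact (z' : ↥(P : Subgroup G)).2
  have hzo : orderOf z = p := by
    rw [hzdef, Subgroup.orderOf_coe, Subgroup.orderOf_coe]; exact hz'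
  have hzc : ∀ q ∈ (P : Subgroup G), q * z = z * q := by
    intro q hq
    have h1 := Subgroup.mem_center_iff.mp z'.2 ⟨q, hq⟩
    have h2 := congrArg Subtype.val h1
    rw [hzdef]; exact h2
  have hZc : Nat.card ↥(Subgroup.zpowers z) = p := by rw [Nat.card_zpowers, hzo]
  obtain ⟨H₁, hH₁P, hH₁c, hH₁ne⟩ : ∃ H₁ : Subgroup G, H₁ ≤ (P : Subgroup G) ∧
      Nat.card H₁ = p ∧ H₁ ≠ Subgroup.zpowers z := by
    by_cases h : H = Subgroup.zpowers z
    · exact ⟨K, hKP, hKc, fun h' => hHK (h.trans h'.symm)⟩
    · exact ⟨H, hHP, hHc, h⟩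
  have hZcent : Subgroup.zpowers z ≤ Subgroup.centralizer (H₁ : Set G) := by
    rw [Subgroup.zpowers_le, Subgroup.mem_centralizer_iff]
    intro q hq
    exact hzc q (hH₁P hq)
  have hH₁cent : H₁ ≤ Subgroup.centralizer ((Subgroup.zpowers z : Subgroup G) : Set G) :=
    Subgroup.le_centralizer_iff.mp hZcent
  have hH₁comm : IsMulCommutative ↥H₁ := by
    have : IsCyclic ↥H₁ := isCyclic_of_prime_card hH₁c
    infer_instance
  have hH₁self : H₁ ≤ Subgroup.centralizer (H₁ : Set G) :=
    Subgroup.le_centralizer_iff_isMulCommutative.mpr hH₁comm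
  have hZself : Subgroup.zpowers z ≤
      Subgroup.centralizer ((Subgroup.zpowers z : Subgroup G) : Set G) :=
    Subgroup.le_centralizer_iff_isMulCommutative.mpr inferInstance
  obtain ⟨E, hE⟩ : ∃ E, H₁ ⊔ Subgroup.zpowers z = E := ⟨_, rfl⟩
  have hE1 : E ≤ Subgroup.centralizer (H₁ : Set G) := by
    rw [← hE]; exact sup_le hH₁self hZcent
  have hE2 : E ≤ Subgroup.centralizer ((Subgroup.zpowers z : Subgroup G) : Set G) := by
    rw [← hE]; exact sup_le hH₁cent hZself
  have hEcomm : IsMulCommutative ↥E := by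
    rw [← Subgroup.le_centralizer_iff_isMulCommutative]
    have h1 : H₁ ≤ Subgroup.centralizer (E : Set G) := Subgroup.le_centralizer_iff.mp hE1
    have h2 : Subgroup.zpowers z ≤ Subgroup.centralizer (E : Set G) :=
      Subgroup.le_centralizer_iff.mp hE2
    exact hE.symm.le.trans (sup_le h1 h2)
  have hnorm : H₁ ≤ Subgroup.normalizer ((Subgroup.zpowers z : Subgroup G) : Set G) :=
    hH₁cent.trans (Subgroup.centralizer_le_normalizer _)
  have hinf : Nat.card ↥(H₁ ⊓ Subgroup.zpowers z) = 1 := by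
    have h1 : Nat.card ↥(H₁ ⊓ Subgroup.zpowers z) ∣ p := by
      rw [← hH₁c]; exact Subgroup.card_dvd_of_le inf_le_left
    rcases (Nat.dvd_prime hpp).mp h1 with h | h
    · exact h
    · exfalso
      have h2 : H₁ ⊓ Subgroup.zpowers z = H₁ :=
        Subgroup.eq_of_le_of_card_ge inf_le_left (by rw [h, hH₁c])
      have h3 : H₁ ≤ Subgroup.zpowers z := inf_eq_left.mp h2
      exact hH₁ne (Subgroup.eq_of_le_of_card_ge h3 (by rw [hZc, hH₁c]))
  have hEc : Nat.card ↥E = p ^ 2 := by
    have h1 := Cfsg.Agent.Lib.Helper3.card_sup_mul_card_inf H₁ (Subgroup.zpowers z) hnorm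
    rw [hinf, hE, hH₁c, hZc, mul_one] at h1
    rw [h1, sq]
  have hEP : E ≤ (P : Subgroup G) := by
    rw [← hE]; exact sup_le hH₁P (Subgroup.zpowers_le.mpr hzP)
  obtain ⟨g, hg⟩ := hB (Subgroup.zpowers c) E (Subgroup.zpowers_le.mpr hcP) hEP
    (by rw [hCc, hEc])
  have hmem : g * c * g⁻¹ ∈ E := by
    rw [hg]
    exact Subgroup.mem_map.mpr ⟨c, Subgroup.mem_zpowers c, rfl⟩
  have hEp : ∀ e ∈ E, e ^ p = 1 := by
    intro e he
    rw [← hE, sup_comm] at he
    obtain ⟨a, ha, b, hb, rfl⟩ := mem_sup_of_le_normalizer' hnorm he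
    have hab : Commute a b := by
      have h1 := Subgroup.mem_centralizer_iff.mp (hZcent ha) b hb
      exact h1.symm
    rw [hab.mul_pow]
    have ha' : a ^ p = 1 := by
      obtain ⟨k, rfl⟩ := Subgroup.mem_zpowers_iff.mp ha
      rw [← zpow_natCast, ← zpow_mul, mul_comm, zpow_mul, zpow_natCast, ← hzo,
        pow_orderOf_eq_one, one_zpow]
    have hb' : b ^ p = 1 := by
      have h1 : (⟨b, hb⟩ : ↥H₁) ^ Nat.card ↥H₁ = 1 := pow_card_eq_one'
      rw [hH₁c] at h1
      exact congrArg Subtype.val h1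
    rw [ha', hb', one_mul]
  have h1 := hEp _ hmem
  rw [conj_pow] at h1
  have h2 : c ^ p = 1 := by
    have e1 : g⁻¹ * (g * c ^ p * g⁻¹) * g = c ^ p := by group
    rw [← e1, h1]; group
  have h3 : orderOf c ∣ p := orderOf_dvd_of_pow_eq_one h2
  rw [hc] at h3
  have h4 := Nat.le_of_dvd hpp.pos h3
  rw [sq] at h4
  nlinarith [hpp.two_le]


/-- Groups of order `p ^ j`, `j ≤ 2`, are commutative. -/
theorem pso_small_comm (p : ℕ) [hp : Fact p.Prime] {H : Type*} [Group H] [Finite H] (j : ℕ)
    (hj : j ≤ 2) (h : Nat.card H = p ^ j) : IsMulCommutative H := by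
  interval_cases j
  · rw [pow_zero] at h
    have hss : Subsingleton H := (Nat.card_eq_one_iff_unique.mp h).1
    exact isMulCommutative_iff.mpr (fun a b => Subsingleton.elim _ _)
  · rw [pow_one] at h
    have hc : IsCyclic H := isCyclic_of_prime_card h
    infer_instance
  · exact IsPGroup.isMulCommutative_of_card_eq_prime_sq h

/-- The parity map on the generalized quaternion group. -/
def psoParFun (m : ℕ) : QuaternionGroup m → Multiplicative (ZMod 2)
  | QuaternionGroup.a i =>
      Multiplicative.ofAdd (ZMod.castHom (dvd_mul_right 2 m) (ZMod 2) i)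
  | QuaternionGroup.xa i =>
      Multiplicative.ofAdd (ZMod.castHom (dvd_mul_right 2 m) (ZMod 2) i)

/-- The parity homomorphism on the generalized quaternion group with even parameter. -/
def psoPar (m : ℕ) (hm : Even m) : QuaternionGroup m →* Multiplicative (ZMod 2) :=
  MonoidHom.mk' (psoParFun m) (by
    have hm0 : ZMod.castHom (dvd_mul_right 2 m) (ZMod 2) (m : ZMod (2 * m)) = 0 := by
      rw [map_natCast]; exact ZMod.natCast_eq_zero_iff_even.mpr hm
    have key : ∀ x y : ZMod 2, x - y = y + x := by decide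
    rintro (i | i) (j | j)
    · rw [QuaternionGroup.a_mul_a]
      show Multiplicative.ofAdd (ZMod.castHom (dvd_mul_right 2 m) (ZMod 2) (i + j))
        = Multiplicative.ofAdd (ZMod.castHom (dvd_mul_right 2 m) (ZMod 2) i)
          * Multiplicative.ofAdd (ZMod.castHom (dvd_mul_right 2 m) (ZMod 2) j)
      rw [map_add]; rfl
    · rw [QuaternionGroup.a_mul_xa]
      show Multiplicative.ofAdd (ZMod.castHom (dvd_mul_right 2 m) (ZMod 2) (j - i))
        = Multiplicative.ofAdd (ZMod.castHom (dvd_mul_right 2 m) (ZMod 2) i)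
          * Multiplicative.ofAdd (ZMod.castHom (dvd_mul_right 2 m) (ZMod 2) j)
      rw [map_sub, key]; rfl
    · rw [QuaternionGroup.xa_mul_a]
      show Multiplicative.ofAdd (ZMod.castHom (dvd_mul_right 2 m) (ZMod 2) (i + j))
        = Multiplicative.ofAdd (ZMod.castHom (dvd_mul_right 2 m) (ZMod 2) i)
          * Multiplicative.ofAdd (ZMod.castHom (dvd_mul_right 2 m) (ZMod 2) j)
      rw [map_add]; rfl
    · rw [QuaternionGroup.xa_mul_xa]
      show Multiplicative.ofAdd (ZMod.castHom (dvd_mul_right 2 m) (ZMod 2)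
          ((m : ZMod (2 * m)) + j - i))
        = Multiplicative.ofAdd (ZMod.castHom (dvd_mul_right 2 m) (ZMod 2) i)
          * Multiplicative.ofAdd (ZMod.castHom (dvd_mul_right 2 m) (ZMod 2) j)
      rw [map_sub, map_add, hm0, zero_add, key]; rfl)

/-- A generalized quaternion group of order at least `16` has a commutative and a
non-commutative subgroup of the same order. -/
theorem pso_quat (m : ℕ) (hm : Even m) (hm4 : 4 ≤ m) :
    ∃ A B : Subgroup (QuaternionGroup m), IsMulCommutative ↥A ∧ ¬ IsMulCommutative ↥B ∧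
      Nat.card ↥A = Nat.card ↥B := by
  have hne : NeZero m := ⟨by omega⟩
  refine ⟨Subgroup.zpowers (QuaternionGroup.a 1), (psoPar m hm).ker, inferInstance, ?_, ?_⟩
  · intro hcomm
    have h1 : (QuaternionGroup.a 2 : QuaternionGroup m) ∈ (psoPar m hm).ker := by
      rw [MonoidHom.mem_ker]
      show Multiplicative.ofAdd (ZMod.castHom (dvd_mul_right 2 m) (ZMod 2) (2 : ZMod (2 * m)))
        = 1
      have h0 : ZMod.castHom (dvd_mul_right 2 m) (ZMod 2) (2 : ZMod (2 * m)) = 0 := by
        rw [map_ofNat]; decide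
      rw [h0]; rfl
    have h2 : (QuaternionGroup.xa 0 : QuaternionGroup m) ∈ (psoPar m hm).ker := by
      rw [MonoidHom.mem_ker]
      show Multiplicative.ofAdd (ZMod.castHom (dvd_mul_right 2 m) (ZMod 2) (0 : ZMod (2 * m)))
        = 1
      rw [map_zero]; rfl
    have h3 := (isMulCommutative_iff_of_setLike.mp hcomm) _ h1 _ h2
    rw [QuaternionGroup.a_mul_xa, QuaternionGroup.xa_mul_a] at h3
    have h4 : (0 - 2 : ZMod (2 * m)) = 0 + 2 := QuaternionGroup.xa.inj h3
    have h5 : ((4 : ℕ) : ZMod (2 * m)) = 0 := by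
      have h6 : (4 : ZMod (2 * m)) = 0 := by linear_combination -h4
      exact_mod_cast h6
    rw [ZMod.natCast_eq_zero_iff] at h5
    have h7 := Nat.le_of_dvd (by norm_num) h5
    omega
  · rw [Nat.card_zpowers, QuaternionGroup.orderOf_a_one]
    have h1 := Subgroup.card_mul_index (psoPar m hm).ker
    rw [Subgroup.index_ker] at h1
    have hsurj : (psoPar m hm).range = ⊤ := by
      rw [MonoidHom.range_eq_top]
      intro x
      have hx : x = 1 ∨ x = Multiplicative.ofAdd (1 : ZMod 2) := by
        revert x; decide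
      rcases hx with rfl | rfl
      · exact ⟨1, map_one _⟩
      · refine ⟨QuaternionGroup.a 1, ?_⟩
        show Multiplicative.ofAdd (ZMod.castHom (dvd_mul_right 2 m) (ZMod 2)
          (1 : ZMod (2 * m))) = Multiplicative.ofAdd (1 : ZMod 2)
        rw [map_one]
    rw [hsurj, Subgroup.card_top, Nat.card_eq_fintype_card (α := QuaternionGroup m),
      QuaternionGroup.card] at h1
    have h2 : Nat.card (Multiplicative (ZMod 2)) = 2 := by
      rw [Nat.card_eq_fintype_card]; rfl
    rw [h2] at h1
    omega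

/-- A non-commutative finite `p`-group of exponent `p` and order at least `p ^ 4` has a
non-commutative and a commutative subgroup of the same order (`p ^ 3`). -/
theorem pso_exp {Q : Type*} [Group Q] [Finite Q] (p : ℕ) [hp : Fact p.Prime]
    (hQ : IsPGroup p Q) (hexp : ∀ x : Q, x ^ p = 1) (hnc : ¬ IsMulCommutative Q)
    (hcard : p ^ 4 ≤ Nat.card Q) :
    ∃ D B : Subgroup Q, ¬ IsMulCommutative ↥D ∧ IsMulCommutative ↥B ∧
      Nat.card ↥D = Nat.card ↥B := by
  classical
  have hpp : p.Prime := hp.out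
  have hZtop : Subgroup.center Q ≠ ⊤ := by
    intro h
    apply hnc
    rw [isMulCommutative_iff]
    intro a b
    have hb : b ∈ Subgroup.center Q := h ▸ Subgroup.mem_top b
    exact Subgroup.mem_center_iff.mp hb a
  have hnt : Nontrivial (Q ⧸ Subgroup.center Q) := QuotientGroup.nontrivial_iff.mpr hZtop
  have hqp : IsPGroup p (Q ⧸ Subgroup.center Q) := hQ.to_quotient _
  have hcn : Nontrivial ↥(Subgroup.center (Q ⧸ Subgroup.center Q)) := hqp.center_nontrivial
  obtain ⟨⟨ybar, hybar⟩, hyne⟩ := exists_ne (1 : ↥(Subgroup.center (Q ⧸ Subgroup.center Q)))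
  obtain ⟨y, rfl⟩ := QuotientGroup.mk_surjective ybar
  have hyZ : y ∉ Subgroup.center Q := by
    intro h
    apply hyne
    apply Subtype.ext
    exact (QuotientGroup.eq_one_iff y).mpr h
  have hcomm_mem : ∀ g : Q, g * y * g⁻¹ * y⁻¹ ∈ Subgroup.center Q := by
    intro g
    rw [← QuotientGroup.eq_one_iff]
    have h1 := Subgroup.mem_center_iff.mp hybar (g : Q ⧸ Subgroup.center Q)
    show ((g : Q ⧸ Subgroup.center Q)) * (y : Q ⧸ Subgroup.center Q)
      * (g : Q ⧸ Subgroup.center Q)⁻¹ * (y : Q ⧸ Subgroup.center Q)⁻¹ = 1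
    rw [h1]; group
  obtain ⟨x, hx⟩ : ∃ x : Q, x * y ≠ y * x := by
    by_contra hcon
    push Not at hcon
    exact hyZ (Subgroup.mem_center_iff.mpr hcon)
  obtain ⟨z, hzdef⟩ : ∃ z : Q, z = x * y * x⁻¹ * y⁻¹ := ⟨_, rfl⟩
  have hzZ : z ∈ Subgroup.center Q := hzdef ▸ hcomm_mem x
  have hz1 : z ≠ 1 := by
    intro h
    apply hx
    rw [hzdef] at h
    exact mul_inv_eq_iff_eq_mul.mp (mul_inv_eq_one.mp h)
  have hzc : ∀ g : Q, g * z = z * g := Subgroup.mem_center_iff.mp hzZ
  have ord : ∀ w : Q, w ≠ 1 → orderOf w = p := by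
    intro w hw
    have h1 : orderOf w ∣ p := orderOf_dvd_of_pow_eq_one (hexp w)
    rcases (Nat.dvd_prime hpp).mp h1 with h | h
    · exact absurd (orderOf_eq_one_iff.mp h) hw
    · exact h
  have hy1 : y ≠ 1 := fun h => hyZ (h ▸ Subgroup.one_mem _)
  have hx1 : x ≠ 1 := by
    intro h; apply hx; rw [h, one_mul, mul_one]
  have cY : Nat.card ↥(Subgroup.zpowers y) = p := by rw [Nat.card_zpowers, ord y hy1]
  have cZ : Nat.card ↥(Subgroup.zpowers z) = p := by rw [Nat.card_zpowers, ord z hz1]
  have cX : Nat.card ↥(Subgroup.zpowers x) = p := by rw [Nat.card_zpowers, ord x hx1]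
  have hZzle : Subgroup.zpowers z ≤ Subgroup.center Q := Subgroup.zpowers_le.mpr hzZ
  obtain ⟨N, hN⟩ : ∃ N, Subgroup.zpowers y ⊔ Subgroup.zpowers z = N := ⟨_, rfl⟩
  have hYcentZ : Subgroup.zpowers y ≤
      Subgroup.centralizer ((Subgroup.zpowers z : Subgroup Q) : Set Q) := by
    intro g _
    rw [Subgroup.mem_centralizer_iff]
    intro w hw
    exact (Subgroup.mem_center_iff.mp (hZzle hw) g).symm
  have hNc : Nat.card ↥N = p ^ 2 := by
    have h1 := Cfsg.Agent.Lib.Helper3.card_sup_mul_card_inf (Subgroup.zpowers y)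
      (Subgroup.zpowers z) (hYcentZ.trans (Subgroup.centralizer_le_normalizer _))
    have hinf : Nat.card ↥(Subgroup.zpowers y ⊓ Subgroup.zpowers z) = 1 := by
      have h2 : Nat.card ↥(Subgroup.zpowers y ⊓ Subgroup.zpowers z) ∣ p := by
        rw [← cY]; exact Subgroup.card_dvd_of_le inf_le_left
      rcases (Nat.dvd_prime hpp).mp h2 with h | h
      · exact h
      · exfalso
        have h3 : Subgroup.zpowers y ⊓ Subgroup.zpowers z = Subgroup.zpowers y :=
          Subgroup.eq_of_le_of_card_ge inf_le_left (by rw [h, cY])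
        have h4 : Subgroup.zpowers y ≤ Subgroup.zpowers z := inf_eq_left.mp h3
        exact hyZ (hZzle (h4 (Subgroup.mem_zpowers y)))
    rw [hinf, hN, cY, cZ, mul_one] at h1
    rw [h1, sq]
  have hNcomm : IsMulCommutative ↥N := by
    rw [← hN]; exact pso_comm_sup _ _ inferInstance inferInstance hYcentZ
  have hyN : y ∈ N := by
    rw [← hN]; exact (le_sup_left : Subgroup.zpowers y ≤ _) (Subgroup.mem_zpowers y)
  have hzN : z ∈ N := by
    rw [← hN]; exact (le_sup_right : Subgroup.zpowers z ≤ _) (Subgroup.mem_zpowers z)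
  have hxN : x ∈ Subgroup.normalizer (N : Set Q) := by
    have hmap : N.map (MulAut.conj x).toMonoidHom ≤ N := by
      have e1 : (MulAut.conj x).toMonoidHom y = z * y := by
        show x * y * x⁻¹ = z * y
        rw [hzdef]; group
      have e2 : (MulAut.conj x).toMonoidHom z = z := by
        show x * z * x⁻¹ = z
        rw [hzc x]; group
      have e3 : N.map (MulAut.conj x).toMonoidHom
          = Subgroup.zpowers (z * y) ⊔ Subgroup.zpowers z := by
        rw [← hN, Subgroup.map_sup, MonoidHom.map_zpowers, MonoidHom.map_zpowers, e1, e2]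
      rw [e3]
      exact sup_le (Subgroup.zpowers_le.mpr (N.mul_mem hzN hyN)) (Subgroup.zpowers_le.mpr hzN)
    have hmapeq : N.map (MulAut.conj x).toMonoidHom = N := by
      apply Subgroup.eq_of_le_of_card_ge hmap
      exact le_of_eq (Nat.card_congr
        (N.equivMapOfInjective _ (MulAut.conj x).injective).toEquiv)
    rw [Subgroup.mem_normalizer_iff]
    intro h
    constructor
    · intro hh
      rw [← hmapeq]
      exact Subgroup.mem_map.mpr ⟨h, hh, rfl⟩
    · intro hh
      rw [← hmapeq] at hh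
      obtain ⟨n, hn, hne⟩ := Subgroup.mem_map.mp hh
      have h5 : x * n * x⁻¹ = x * h * x⁻¹ := hne
      have h6 : n = h := mul_left_cancel (mul_right_cancel h5)
      rw [← h6]; exact hn
  obtain ⟨D, hD⟩ : ∃ D, Subgroup.zpowers x ⊔ N = D := ⟨_, rfl⟩
  have hxD : x ∈ D := by
    rw [← hD]; exact (le_sup_left : Subgroup.zpowers x ≤ _) (Subgroup.mem_zpowers x)
  have hND : N ≤ D := by rw [← hD]; exact le_sup_right
  have hDnc : ¬ IsMulCommutative ↥D := by
    intro h
    exact hx ((isMulCommutative_iff_of_setLike.mp h) x hxD y (hND hyN))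
  have hDdvd : Nat.card ↥D ∣ p ^ 3 := by
    have h1 := Cfsg.Agent.Lib.Helper3.card_sup_mul_card_inf (Subgroup.zpowers x) N
      (Subgroup.zpowers_le.mpr hxN)
    rw [hD, cX, hNc] at h1
    exact Dvd.intro _ (by rw [h1]; ring)
  have hDcard : Nat.card ↥D = p ^ 3 := by
    obtain ⟨j, hj3, hj⟩ := (Nat.dvd_prime_pow hpp).mp hDdvd
    have hj' : j = 3 := by
      by_contra hne
      exact hDnc (pso_small_comm p j (by omega) hj)
    rw [hj, hj']
  obtain ⟨C, hC⟩ : ∃ C, Subgroup.centralizer ({y} : Set Q) = C := ⟨_, rfl⟩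
  have hmemC : ∀ g, g ∈ C ↔ g * y = y * g := by
    intro g
    rw [← hC, Subgroup.mem_centralizer_iff]
    constructor
    · intro h; exact (h y rfl).symm
    · intro h w hw; rw [Set.mem_singleton_iff.mp hw]; exact h.symm
  obtain ⟨ψ, hψ⟩ : ∃ ψ : Q →* ↥(Subgroup.center Q),
      ∀ g, ((ψ g : ↥(Subgroup.center Q)) : Q) = g * y * g⁻¹ * y⁻¹ := by
    refine ⟨MonoidHom.mk' (fun g => ⟨g * y * g⁻¹ * y⁻¹, hcomm_mem g⟩) ?_, fun g => rfl⟩
    intro g h
    apply Subtype.ext
    show (g * h) * y * (g * h)⁻¹ * y⁻¹ = (g * y * g⁻¹ * y⁻¹) * (h * y * h⁻¹ * y⁻¹)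
    have hw := Subgroup.mem_center_iff.mp (hcomm_mem h)
    have e1 : (g * h) * y * (g * h)⁻¹ * y⁻¹
        = g * (h * y * h⁻¹ * y⁻¹) * y * g⁻¹ * y⁻¹ := by group
    rw [e1, hw g, hw (g * y * g⁻¹ * y⁻¹)]
    group
  have hker : ψ.ker = C := by
    ext g
    rw [MonoidHom.mem_ker, hmemC]
    constructor
    · intro h
      have h1 : g * y * g⁻¹ * y⁻¹ = 1 := by rw [← hψ g, h]; rfl
      exact mul_inv_eq_iff_eq_mul.mp (mul_inv_eq_one.mp h1)
    · intro h
      apply Subtype.ext
      rw [hψ g, h]
      show y * g * g⁻¹ * y⁻¹ = 1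
      group
  have hQC : Nat.card Q ≤ Nat.card ↥C * Nat.card ↥(Subgroup.center Q) := by
    have h1 := Subgroup.card_mul_index ψ.ker
    rw [Subgroup.index_ker, hker] at h1
    rw [← h1]
    exact Nat.mul_le_mul_left _ (Subgroup.card_le_card_group _)
  have hZC : Subgroup.center Q ≤ C := by
    intro g hg
    rw [hmemC]
    exact (Subgroup.mem_center_iff.mp hg y).symm
  have hyC : y ∈ C := (hmemC y).mpr rfl
  have hpZ : p * Nat.card ↥(Subgroup.center Q) ≤ Nat.card ↥C := by
    have h1 := Cfsg.Agent.Lib.Helper3.card_sup_mul_card_inf (Subgroup.zpowers y)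
      (Subgroup.center Q)
      (by rw [Subgroup.normalizer_eq_top_iff.mpr inferInstance]; exact le_top)
    have hinf : Nat.card ↥(Subgroup.zpowers y ⊓ Subgroup.center Q) = 1 := by
      have h2 : Nat.card ↥(Subgroup.zpowers y ⊓ Subgroup.center Q) ∣ p := by
        rw [← cY]; exact Subgroup.card_dvd_of_le inf_le_left
      rcases (Nat.dvd_prime hpp).mp h2 with h | h
      · exact h
      · exfalso
        have h3 : Subgroup.zpowers y ⊓ Subgroup.center Q = Subgroup.zpowers y :=
          Subgroup.eq_of_le_of_card_ge inf_le_left (by rw [h, cY])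
        have h4 : Subgroup.zpowers y ≤ Subgroup.center Q := inf_eq_left.mp h3
        exact hyZ (h4 (Subgroup.mem_zpowers y))
    rw [hinf, mul_one, cY] at h1
    rw [← h1]
    exact Subgroup.card_le_of_le (sup_le (Subgroup.zpowers_le.mpr hyC) hZC)
  have hCgt : p ^ 2 < Nat.card ↥C := by
    by_contra hcon
    push Not at hcon
    have hzc_le : Nat.card ↥(Subgroup.center Q) ≤ p := by
      have h1 : p * Nat.card ↥(Subgroup.center Q) ≤ p * p := by
        rw [← sq]; exact hpZ.trans hcon
      exact Nat.le_of_mul_le_mul_left h1 hpp.pos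
    have h1 : Nat.card Q ≤ p ^ 2 * p := hQC.trans (Nat.mul_le_mul hcon hzc_le)
    have h2 : p ^ 2 * p < p ^ 4 := by
      have e : p ^ 4 = p ^ 2 * p * p := by ring
      rw [e]
      have h3 : 0 < p ^ 2 * p := Nat.mul_pos (pow_pos hpp.pos 2) hpp.pos
      nlinarith [hpp.two_le]
    omega
  have hNC : N ≤ C := by
    rw [← hN]
    exact sup_le (Subgroup.zpowers_le.mpr hyC) (hZzle.trans hZC)
  obtain ⟨c, hcC, hcN⟩ : ∃ c ∈ C, c ∉ N := by
    by_contra hcon
    push Not at hcon
    have hCN : C ≤ N := fun g hg => hcon g hg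
    have h1 := Subgroup.card_le_of_le hCN
    rw [hNc] at h1
    omega
  have hcy : c * y = y * c := (hmemC c).mp hcC
  have hc1 : c ≠ 1 := fun h => hcN (h ▸ N.one_mem)
  have cCz : Nat.card ↥(Subgroup.zpowers c) = p := by rw [Nat.card_zpowers, ord c hc1]
  have hccent : Subgroup.zpowers c ≤ Subgroup.centralizer (N : Set Q) := by
    rw [Subgroup.zpowers_le, Subgroup.mem_centralizer_iff]
    have h1 : N ≤ Subgroup.centralizer ({c} : Set Q) := by
      rw [← hN]
      refine sup_le ?_ ?_
      · rw [Subgroup.zpowers_le, Subgroup.mem_centralizer_iff]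
        intro w hw; rw [Set.mem_singleton_iff.mp hw]; exact hcy
      · rw [Subgroup.zpowers_le, Subgroup.mem_centralizer_iff]
        intro w hw; rw [Set.mem_singleton_iff.mp hw]; exact hzc c
    intro n hn
    exact (Subgroup.mem_centralizer_iff.mp (h1 hn) c rfl).symm
  obtain ⟨B, hB⟩ : ∃ B, Subgroup.zpowers c ⊔ N = B := ⟨_, rfl⟩
  have hBcomm : IsMulCommutative ↥B := by
    rw [← hB]; exact pso_comm_sup _ _ inferInstance hNcomm hccent
  have hBdvd : Nat.card ↥B ∣ p ^ 3 := by
    have h1 := Cfsg.Agent.Lib.Helper3.card_sup_mul_card_inf (Subgroup.zpowers c) N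
      (hccent.trans (Subgroup.centralizer_le_normalizer _))
    rw [hB, cCz, hNc] at h1
    exact Dvd.intro _ (by rw [h1]; ring)
  have hBgt : p ^ 2 < Nat.card ↥B := by
    by_contra hcon
    push Not at hcon
    have hNB : N ≤ B := by rw [← hB]; exact le_sup_right
    have h1 : N = B := Subgroup.eq_of_le_of_card_ge hNB (by rw [hNc]; exact hcon)
    apply hcN
    rw [h1, ← hB]
    exact (le_sup_left : Subgroup.zpowers c ≤ _) (Subgroup.mem_zpowers c)
  have hBcard : Nat.card ↥B = p ^ 3 := by
    obtain ⟨j, hj3, hj⟩ := (Nat.dvd_prime_pow hpp).mp hBdvd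
    have hj' : j = 3 := by
      by_contra hne
      have hj2 : j ≤ 2 := by omega
      have h2 : p ^ j ≤ p ^ 2 := Nat.pow_le_pow_right hpp.pos hj2
      omega
    rw [hj, hj']
  exact ⟨D, B, hDnc, hBcomm, by rw [hDcard, hBcard]⟩

/-- Under the conjugacy hypothesis, a subgroup of `P` of the same order as a commutative
subgroup of `P` is commutative. -/
theorem pso_trans {G : Type*} [Group G] [Finite G] {p : ℕ} [Fact p.Prime]
    (hC : ∀ H K : Subgroup G, IsPGroup p H → IsPGroup p K → Nat.card H = Nat.card K →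
      ∃ g : G, K = H.map (MulAut.conj g).toMonoidHom) (P : Sylow p G)
    (D B : Subgroup ↥(P : Subgroup G)) (hBc : IsMulCommutative ↥B)
    (hcard : Nat.card ↥D = Nat.card ↥B) : IsMulCommutative ↥D := by
  have hD' : IsPGroup p ↥(D.map (P : Subgroup G).subtype) :=
    P.isPGroup'.to_le (Subgroup.map_subtype_le _)
  have hB' : IsPGroup p ↥(B.map (P : Subgroup G).subtype) :=
    P.isPGroup'.to_le (Subgroup.map_subtype_le _)
  have cD : Nat.card ↥(D.map (P : Subgroup G).subtype) = Nat.card ↥D :=
    Nat.card_congr (D.equivMapOfInjective _ (Subgroup.subtype_injective _)).toEquiv.symm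
  have cB : Nat.card ↥(B.map (P : Subgroup G).subtype) = Nat.card ↥B :=
    Nat.card_congr (B.equivMapOfInjective _ (Subgroup.subtype_injective _)).toEquiv.symm
  obtain ⟨g, hg⟩ := hC _ _ hB' hD' (by rw [cD, cB, hcard])
  have h2 : IsMulCommutative
      ↥((B.map (P : Subgroup G).subtype).map (MulAut.conj g).toMonoidHom) := inferInstance
  rw [← hg] at h2
  rw [isMulCommutative_iff_of_setLike] at h2
  rw [isMulCommutative_iff]
  intro a b
  have h3 := h2 _ (Subgroup.mem_map_of_mem _ a.2) _ (Subgroup.mem_map_of_mem _ b.2)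
  exact Subtype.ext (Subtype.ext h3)

/-- Let p be a prime and G a finite group in which any two p-subgroups of the same order are conjugate, with Sylow p-subgroup P. Then P is cyclic, or elementary abelian, or p = 2 and P is a quaternion group of order 8, or p is odd and P is non-abelian of order p³ and exponent p. -/
theorem result {G : Type*} [Group G] [Finite G]
    {p : ℕ} [Fact p.Prime] (hC : ∀ H K : Subgroup G, IsPGroup p H → IsPGroup p K → Nat.card H = Nat.card K →
      ∃ g : G, K = H.map (MulAut.conj g).toMonoidHom) (P : Sylow p G) :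
    IsCyclic P ∨ Cfsg.IsElementaryAbelian p (P : Subgroup G) ∨
      (p = 2 ∧ Nonempty ((P : Subgroup G) ≃* QuaternionGroup 2)) ∨
      (p ≠ 2 ∧ ¬ IsMulCommutative P ∧ Nat.card P = p ^ 3 ∧ Monoid.exponent P = p) := by
  classical
  have hpp : p.Prime := Fact.out
  rcases pso_dich p P (fun A B hA hB hc => hC A B (P.isPGroup'.to_le hA)
    (P.isPGroup'.to_le hB) hc) with hexp | huniq
  · by_cases hcomm : IsMulCommutative ↥(P : Subgroup G)
    · right; left; exact ⟨hcomm, hexp⟩
    · by_cases hp2 : p = 2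
      · exfalso
        apply hcomm
        subst hp2
        rw [isMulCommutative_iff_of_setLike]
        intro a ha b hb
        have h1 := hexp a ha
        have h2 := hexp b hb
        have h3 := hexp (a * b) ((P : Subgroup G).mul_mem ha hb)
        have ha' : a⁻¹ = a := inv_eq_of_mul_eq_one_left (by rw [← sq]; exact h1)
        have hb' : b⁻¹ = b := inv_eq_of_mul_eq_one_left (by rw [← sq]; exact h2)
        have hab' : (a * b)⁻¹ = a * b := inv_eq_of_mul_eq_one_left (by rw [← sq]; exact h3)
        calc a * b = (a * b)⁻¹ := hab'.symm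
          _ = b⁻¹ * a⁻¹ := mul_inv_rev a b
          _ = b * a := by rw [ha', hb']
      · right; right; right
        have hexp' : ∀ x : ↥(P : Subgroup G), x ^ p = 1 := fun x => Subtype.ext (hexp x.1 x.2)
        refine ⟨hp2, hcomm, ?_, ?_⟩
        · obtain ⟨k, hk⟩ := IsPGroup.iff_card.mp P.isPGroup'
          have hk3 : 3 ≤ k := by
            by_contra h
            exact hcomm (pso_small_comm p k (by omega) hk)
          have hk3' : k ≤ 3 := by
            by_contra h
            have h4 : p ^ 4 ≤ Nat.card ↥(P : Subgroup G) := by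
              rw [hk]; exact Nat.pow_le_pow_right hpp.pos (by omega)
            obtain ⟨D, B, hDnc, hBc, hDB⟩ := pso_exp p P.isPGroup' hexp' hcomm h4
            exact hDnc (pso_trans hC P D B hBc hDB)
          have hk' : k = 3 := le_antisymm hk3' hk3
          rw [← hk']
          exact hk
        · have h1 : Monoid.exponent ↥(P : Subgroup G) ∣ p :=
            Monoid.exponent_dvd_iff_forall_pow_eq_one.mpr hexp'
          rcases (Nat.dvd_prime hpp).mp h1 with h | h
          · exfalso
            have hss : Subsingleton ↥(P : Subgroup G) := Monoid.exp_eq_one_iff.mp h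
            exact hcomm (isMulCommutative_iff.mpr (fun a b => Subsingleton.elim _ _))
          · exact h
  · by_cases hp2 : p = 2
    · subst hp2
      by_cases htriv : Nat.card ↥(P : Subgroup G) = 1
      · left
        have hss : Subsingleton ↥(P : Subgroup G) := (Nat.card_eq_one_iff_unique.mp htriv).1
        exact isCyclic_of_subsingleton
      · obtain ⟨n, hn⟩ := IsPGroup.iff_card.mp P.isPGroup'
        have hn0 : n ≠ 0 := by
          rintro rfl
          exact htriv (by rw [hn, pow_zero])
        have hdvd : 2 ∣ Nat.card ↥(P : Subgroup G) := by rw [hn]; exact dvd_pow_self 2 hn0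
        obtain ⟨z, hz⟩ := exists_prime_orderOf_dvd_card' 2 hdvd
        have huniq' : ∀ y : ↥(P : Subgroup G), orderOf y = 2 → y = z := by
          intro y hy
          have h1 : Subgroup.zpowers (y : G) = Subgroup.zpowers (z : G) := by
            apply huniq
            · exact Subgroup.zpowers_le.mpr y.2
            · exact Subgroup.zpowers_le.mpr z.2
            · rw [Nat.card_zpowers, Subgroup.orderOf_coe, hy]
            · rw [Nat.card_zpowers, Subgroup.orderOf_coe, hz]
          have h2 : (y : G) ∈ Subgroup.zpowers (z : G) := by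
            rw [← h1]; exact Subgroup.mem_zpowers _
          obtain ⟨k, hk⟩ := Subgroup.mem_zpowers_iff.mp h2
          have hzo : orderOf (z : G) = 2 := by rw [Subgroup.orderOf_coe, hz]
          rw [← zpow_mod_orderOf, hzo] at hk
          have hk2 : k % ((2 : ℕ) : ℤ) = 0 ∨ k % ((2 : ℕ) : ℤ) = 1 := by omega
          rcases hk2 with h3 | h3
          · rw [h3, zpow_zero] at hk
            exfalso
            have hy1 : orderOf (y : G) = 2 := by rw [Subgroup.orderOf_coe, hy]
            rw [← hk, orderOf_one] at hy1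
            omega
          · rw [h3, zpow_one] at hk
            exact Subtype.ext hk.symm
        rcases ui_cyclic_or_quat P.isPGroup' z hz huniq' with h5 | ⟨k, hk1, ⟨e⟩⟩
        · left; exact h5
        · by_cases hk' : k = 1
          · subst hk'
            right; right; left
            exact ⟨rfl, ⟨e⟩⟩
          · exfalso
            have hk2 : 2 ≤ k := by omega
            have hm : Even (2 ^ k) := (Nat.even_pow.mpr ⟨even_two, by omega⟩)
            have hm4 : 4 ≤ 2 ^ k := by
              calc 4 = 2 ^ 2 := by norm_num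
                _ ≤ 2 ^ k := Nat.pow_le_pow_right (by norm_num) hk2
            obtain ⟨A, B, hAc, hBnc, hAB⟩ := pso_quat (2 ^ k) hm hm4
            have cA : Nat.card ↥(A.map e.symm.toMonoidHom) = Nat.card ↥A :=
              Nat.card_congr (A.equivMapOfInjective _ e.symm.injective).toEquiv.symm
            have cB : Nat.card ↥(B.map e.symm.toMonoidHom) = Nat.card ↥B :=
              Nat.card_congr (B.equivMapOfInjective _ e.symm.injective).toEquiv.symm
            have hA' : IsMulCommutative ↥(A.map e.symm.toMonoidHom) := inferInstance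
            have hB' : IsMulCommutative ↥(B.map e.symm.toMonoidHom) :=
              pso_trans hC P _ _ hA' (by rw [cA, cB, hAB])
            apply hBnc
            have e1 : (B.map e.symm.toMonoidHom).map e.toMonoidHom = B := by
              rw [Subgroup.map_map]
              have e2 : e.toMonoidHom.comp e.symm.toMonoidHom = MonoidHom.id _ := by
                ext x; simp
              rw [e2, Subgroup.map_id]
            rw [← e1]
            infer_instance
    · left
      obtain ⟨n, hn⟩ := IsPGroup.iff_card.mp P.isPGroup'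
      refine h8_cyclic_of_unique_small p n ↥(P : Subgroup G) hn ?_ (fun h2 => absurd h2 hp2)
      intro H K hH hK
      have h1 : H.map (P : Subgroup G).subtype = K.map (P : Subgroup G).subtype := by
        apply huniq
        · exact Subgroup.map_subtype_le _
        · exact Subgroup.map_subtype_le _
        · exact (Nat.card_congr
            (H.equivMapOfInjective _ (Subgroup.subtype_injective _)).toEquiv.symm).trans hH
        · exact (Nat.card_congr
            (K.equivMapOfInjective _ (Subgroup.subtype_injective _)).toEquiv.symm).trans hK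
      exact Subgroup.map_injective (Subgroup.subtype_injective _) h1

end Cfsg.Agent.S4023
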