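import Cfsg.Statements.S3063
import Cfsg.Agent.Lib.Helper3.EA
import Cfsg.Agent.S4023

set_option autoImplicit false
open Cfsg

namespace Cfsg.Agent.S3063

open Cfsg.Agent.Lib.Helper3

/-- Thompson's single-element replacement lemma: if `A` is abelian and `M = [x, A]` is abelian,
then `C_A(M) M` is at least as large as `A`. -/
theorem mwr_thompson {G : Type*} [Group G] [Finite G] (A : Subgroup G)
    (hA : ∀ a ∈ A, ∀ b ∈ A, a * b = b * a) (x : G) (M : Subgroup G)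
    (hM : M = Subgroup.closure {y | ∃ a ∈ A, y = x * a * x⁻¹ * a⁻¹})
    (hMc : ∀ a ∈ M, ∀ b ∈ M, a * b = b * a) :
    Nat.card A ≤ Nat.card ↥((A ⊓ Subgroup.centralizer (M : Set G)) ⊔ M) := by
  classical
  have hθ : ∀ a ∈ A, x * a * x⁻¹ * a⁻¹ ∈ M := fun a ha => by
    rw [hM]; exact Subgroup.subset_closure ⟨a, ha, rfl⟩
  have key : ∀ u ∈ A, ∀ v ∈ A, (x * u * x⁻¹ * u⁻¹)⁻¹ * (x * v * x⁻¹ * v⁻¹) ∈ A →
      u⁻¹ * v ∈ Subgroup.centralizer (M : Set G) := by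
    intro u hu v hv hy
    have hw : u⁻¹ * v ∈ A := A.mul_mem (A.inv_mem hu) hv
    have hθw : x * (u⁻¹ * v) * x⁻¹ * (u⁻¹ * v)⁻¹ ∈ A := by
      have e : x * (u⁻¹ * v) * x⁻¹ * (u⁻¹ * v)⁻¹ =
          u⁻¹ * ((x * u * x⁻¹ * u⁻¹)⁻¹ * (x * v * x⁻¹ * v⁻¹)) * u := by group
      rw [e]; exact A.mul_mem (A.mul_mem (A.inv_mem hu) hy) hu
    have hgen : ∀ a ∈ A, (u⁻¹ * v) * (x * a * x⁻¹ * a⁻¹) = (x * a * x⁻¹ * a⁻¹) * (u⁻¹ * v) := by
      intro a ha
      obtain ⟨w, hwdef⟩ : ∃ w, w = u⁻¹ * v := ⟨_, rfl⟩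
      rw [← hwdef] at hw hθw ⊢
      have e1 : x * (w * a) * x⁻¹ * (w * a)⁻¹ =
          (x * w * x⁻¹ * w⁻¹) * (w * (x * a * x⁻¹ * a⁻¹) * w⁻¹) := by group
      have e2 : x * (a * w) * x⁻¹ * (a * w)⁻¹ =
          (x * a * x⁻¹ * a⁻¹) * (a * (x * w * x⁻¹ * w⁻¹) * a⁻¹) := by group
      have e3 : a * (x * w * x⁻¹ * w⁻¹) * a⁻¹ = x * w * x⁻¹ * w⁻¹ := by
        rw [hA a ha _ hθw]; group
      have e4 : w * a = a * w := hA w hw a ha
      have e5 : (x * w * x⁻¹ * w⁻¹) * (w * (x * a * x⁻¹ * a⁻¹) * w⁻¹) =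
          (x * w * x⁻¹ * w⁻¹) * (x * a * x⁻¹ * a⁻¹) := by
        rw [← e1, e4, e2, e3]; exact hMc _ (hθ a ha) _ (hθ w hw)
      have e6 : w * (x * a * x⁻¹ * a⁻¹) * w⁻¹ = x * a * x⁻¹ * a⁻¹ := mul_left_cancel e5
      calc w * (x * a * x⁻¹ * a⁻¹) = (w * (x * a * x⁻¹ * a⁻¹) * w⁻¹) * w := by group
        _ = (x * a * x⁻¹ * a⁻¹) * w := by rw [e6]
    have hle : M ≤ Subgroup.centralizer ({u⁻¹ * v} : Set G) := by
      rw [hM, Subgroup.closure_le]
      rintro y ⟨a, ha, rfl⟩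
      rw [SetLike.mem_coe, Subgroup.mem_centralizer_iff]
      intro z hz
      rw [Set.mem_singleton_iff.mp hz]
      exact hgen a ha
    rw [Subgroup.mem_centralizer_iff]
    intro m hm
    exact (Subgroup.mem_centralizer_iff.mp (hle hm) (u⁻¹ * v) (Set.mem_singleton _)).symm
  obtain ⟨C, hC⟩ : ∃ C : Subgroup G, C = A ⊓ Subgroup.centralizer (M : Set G) := ⟨_, rfl⟩
  rw [← hC]
  obtain ⟨f, hf⟩ : ∃ f : ↥A → ↥M ⧸ A.subgroupOf M, ∀ a : ↥A,
      f a = QuotientGroup.mk ⟨x * (a : G) * x⁻¹ * (a : G)⁻¹, hθ a a.2⟩ := ⟨_, fun a => rfl⟩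
  obtain ⟨rep, hrep⟩ : ∃ rep : (↥M ⧸ A.subgroupOf M) → ↥A, ∀ a : ↥A, f (rep (f a)) = f a := by
    refine ⟨fun q => if h : ∃ u : ↥A, f u = q then h.choose else 1, fun a => ?_⟩
    have h : ∃ u : ↥A, f u = f a := ⟨a, rfl⟩
    simp only [dif_pos h]
    exact h.choose_spec
  have hmem : ∀ a : ↥A, ((rep (f a) : ↥A) : G)⁻¹ * (a : G) ∈ C := by
    intro a
    have h1 : f (rep (f a)) = f a := hrep a
    obtain ⟨u, hu⟩ : ∃ u : ↥A, u = rep (f a) := ⟨_, rfl⟩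
    rw [← hu] at h1 ⊢
    rw [hf u, hf a, QuotientGroup.eq, Subgroup.mem_subgroupOf] at h1
    have h1' : ((x * (u : G) * x⁻¹ * (u : G)⁻¹)⁻¹ * (x * (a : G) * x⁻¹ * (a : G)⁻¹)) ∈ A := h1
    rw [hC]
    exact ⟨A.mul_mem (A.inv_mem u.2) a.2, key _ u.2 _ a.2 h1'⟩
  have hinj : Function.Injective
      (fun a : ↥A => ((f a, ⟨((rep (f a) : ↥A) : G)⁻¹ * (a : G), hmem a⟩) :
        (↥M ⧸ A.subgroupOf M) × ↥C)) := by
    intro a b hab
    have h1 : f a = f b := congrArg Prod.fst hab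
    have h2 : ((rep (f a) : ↥A) : G)⁻¹ * (a : G) = ((rep (f b) : ↥A) : G)⁻¹ * (b : G) :=
      congrArg (fun z : (↥M ⧸ A.subgroupOf M) × ↥C => (z.2 : G)) hab
    rw [h1] at h2
    exact Subtype.ext (mul_left_cancel h2)
  have h1 : Nat.card ↥A ≤ (A.subgroupOf M).index * Nat.card ↥C := by
    have h0 := Nat.card_le_card_of_injective _ hinj
    rw [Nat.card_prod] at h0
    exact h0
  have h2 : Nat.card ↥(A.subgroupOf M) * (A.subgroupOf M).index = Nat.card ↥M :=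
    Subgroup.card_mul_index _
  have h3 : Nat.card ↥(C ⊓ M) ≤ Nat.card ↥(A.subgroupOf M) := by
    have hCA : C ≤ A := by rw [hC]; exact inf_le_left
    refine Nat.card_le_card_of_injective
      (fun y : ↥(C ⊓ M) => (⟨⟨(y : G), y.2.2⟩, Subgroup.mem_subgroupOf.mpr (hCA y.2.1)⟩ :
        ↥(A.subgroupOf M))) ?_
    intro y z hyz
    apply Subtype.ext
    exact congrArg (fun t : ↥(A.subgroupOf M) => ((t : ↥M) : G)) hyz
  have h4 := card_sup_mul_card_inf C M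
    ((by rw [hC]; exact inf_le_right : C ≤ Subgroup.centralizer (M : Set G)).trans
      (Subgroup.centralizer_le_normalizer _))
  have hspos : 0 < Nat.card ↥(A.subgroupOf M) := Nat.card_pos
  apply Nat.le_of_mul_le_mul_right _ hspos
  calc Nat.card ↥A * Nat.card ↥(A.subgroupOf M)
      ≤ ((A.subgroupOf M).index * Nat.card ↥C) * Nat.card ↥(A.subgroupOf M) :=
        Nat.mul_le_mul_right _ h1
    _ = Nat.card ↥C * Nat.card ↥M := by rw [← h2]; ring
    _ = Nat.card ↥(C ⊔ M) * Nat.card ↥(C ⊓ M) := h4.symm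
    _ ≤ Nat.card ↥(C ⊔ M) * Nat.card ↥(A.subgroupOf M) := Nat.mul_le_mul_left _ h3

/-- A weak replacement Theorem for metabelian p-groups: let S be a finite p-group whose derived subgroup is abelian and A an abelian subgroup of S of largest possible order. Then the normal closure of A in S contains an abelian subgroup B of the same order as A that is normal in S. -/
theorem result {S : Type*} [Group S] [Finite S] {p : ℕ} [Fact p.Prime]
    (hS : IsPGroup p S) (hmeta : IsMulCommutative ↥(commutator S))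
    (A : Subgroup S) (hA : A ∈ Cfsg.maxAbelianSubgroups S) :
    ∃ B ∈ Cfsg.maxAbelianSubgroups S, B.Normal ∧ B ≤ Subgroup.normalClosure (A : Set S) := by
  classical
  obtain ⟨hAc, hAmax⟩ := hA
  have hS'c : ∀ a ∈ commutator S, ∀ b ∈ commutator S, a * b = b * a :=
    isMulCommutative_iff_of_setLike.mp hmeta
  haveI : Nonempty {B : Subgroup S // B ∈ Cfsg.maxAbelianSubgroups S ∧
      B ≤ Subgroup.normalClosure (A : Set S)} :=
    ⟨⟨A, ⟨hAc, hAmax⟩, Subgroup.le_normalClosure⟩⟩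
  obtain ⟨⟨B, hBmax, hBN⟩, hBbest⟩ := Finite.exists_max
    (fun B : {B : Subgroup S // B ∈ Cfsg.maxAbelianSubgroups S ∧
      B ≤ Subgroup.normalClosure (A : Set S)} => Nat.card ↥(B.1 ⊓ commutator S))
  refine ⟨B, hBmax, ?_, hBN⟩
  by_contra hnn
  have hex : ∃ x : S, ∃ b ∈ B, x * b * x⁻¹ ∉ B := by
    by_contra hcon
    push Not at hcon
    exact hnn ⟨fun n hn g => hcon g n hn⟩
  obtain ⟨x, b, hb, hxb⟩ := hex
  have hBc : ∀ a ∈ B, ∀ b ∈ B, a * b = b * a := isMulCommutative_iff_of_setLike.mp hBmax.1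
  obtain ⟨M, hM⟩ : ∃ M : Subgroup S,
      M = Subgroup.closure {y | ∃ a ∈ B, y = x * a * x⁻¹ * a⁻¹} := ⟨_, rfl⟩
  have hMS' : M ≤ commutator S := by
    rw [hM, Subgroup.closure_le]
    rintro y ⟨a, ha, rfl⟩
    rw [commutator_def]
    exact Subgroup.commutator_mem_commutator (Subgroup.mem_top x) (Subgroup.mem_top a)
  have hMc : ∀ a ∈ M, ∀ b ∈ M, a * b = b * a := fun a ha b hb =>
    hS'c a (hMS' ha) b (hMS' hb)
  have hcard := mwr_thompson B hBc x M hM hMc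
  have hMN : M ≤ Subgroup.normalClosure (A : Set S) := by
    rw [hM, Subgroup.closure_le]
    rintro y ⟨a, ha, rfl⟩
    have hn : (Subgroup.normalClosure (A : Set S)).Normal := Subgroup.normalClosure_normal
    exact Subgroup.mul_mem _ (hn.conj_mem a (hBN ha) x) (Subgroup.inv_mem _ (hBN ha))
  have hstar : (B ⊓ Subgroup.centralizer (M : Set S)) ⊔ M ∈ Cfsg.maxAbelianSubgroups S := by
    refine ⟨?_, fun D hD => (hBmax.2 D hD).trans hcard⟩
    refine Cfsg.Agent.S4023.pso_comm_sup _ _ ?_ (isMulCommutative_iff_of_setLike.mpr hMc)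
      inf_le_right
    exact isMulCommutative_iff_of_setLike.mpr
      (fun a ha b hb => hBc a ha.1 b hb.1)
  have hstarN : (B ⊓ Subgroup.centralizer (M : Set S)) ⊔ M ≤
      Subgroup.normalClosure (A : Set S) := sup_le (inf_le_left.trans hBN) hMN
  have hbest := hBbest ⟨_, hstar, hstarN⟩
  have hle : B ⊓ commutator S ≤ ((B ⊓ Subgroup.centralizer (M : Set S)) ⊔ M) ⊓ commutator S := by
    intro y hy
    refine ⟨Subgroup.mem_sup_left (Subgroup.mem_inf.mpr ⟨hy.1, ?_⟩), hy.2⟩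
    rw [Subgroup.mem_centralizer_iff]
    intro m hm
    exact hS'c m (hMS' hm) y hy.2
  have heq : B ⊓ commutator S = ((B ⊓ Subgroup.centralizer (M : Set S)) ⊔ M) ⊓ commutator S :=
    Subgroup.eq_of_le_of_card_ge hle hbest
  have hθb : x * b * x⁻¹ * b⁻¹ ∈ M := by
    rw [hM]; exact Subgroup.subset_closure ⟨b, hb, rfl⟩
  have h1 : x * b * x⁻¹ * b⁻¹ ∈ B ⊓ commutator S := by
    rw [heq]
    exact ⟨Subgroup.mem_sup_right hθb, hMS' hθb⟩
  apply hxb
  have h2 : x * b * x⁻¹ = (x * b * x⁻¹ * b⁻¹) * b := by group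
  rw [h2]
  exact B.mul_mem h1.1 hb

end Cfsg.Agent.S3063
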