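import Cfsg.Statements.S3183
import Mathlib
import Cfsg.Agent.Lib.Helper1.StronglyEmb3
import Cfsg.Agent.Lib.Helper1.StronglyEmb2
import Cfsg.Agent.Lib.Helper8.CoprimeSylow

set_option autoImplicit false
open Cfsg

namespace Cfsg.Agent.S3183

open Cfsg.Agent.Lib.Helper1 Cfsg.Agent.Lib.Helper8

theorem mem_center_map {G : Type*} [Group G] (H : Subgroup G) (y : G) :
    y ∈ (Subgroup.center ↥H).map H.subtype ↔ y ∈ H ∧ ∀ h ∈ H, h * y = y * h := by
  constructor
  · rintro ⟨⟨z, hz⟩, hzc, rfl⟩
    refine ⟨hz, fun h hh => ?_⟩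
    have := Subgroup.mem_center_iff.mp hzc ⟨h, hh⟩
    exact congrArg Subtype.val this
  · rintro ⟨hy, hc⟩
    refine ⟨⟨y, hy⟩, Subgroup.mem_center_iff.mpr ?_, rfl⟩
    intro g
    apply Subtype.ext
    exact hc g g.2

theorem center_map_conj_card {G : Type*} [Group G] (H : Subgroup G) (g : G) :
    Nat.card ((Subgroup.center ↥(H.map (MulAut.conj g).toMonoidHom)).map
      (H.map (MulAut.conj g).toMonoidHom).subtype) =
    Nat.card ((Subgroup.center ↥H).map H.subtype) := by
  have h : (Subgroup.center ↥(H.map (MulAut.conj g).toMonoidHom)).map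
      (H.map (MulAut.conj g).toMonoidHom).subtype =
      ((Subgroup.center ↥H).map H.subtype).map (MulAut.conj g).toMonoidHom := by
    ext y
    rw [mem_center_map]
    constructor
    · rintro ⟨⟨a, ha, rfl⟩, hc⟩
      refine ⟨a, (mem_center_map _ _).mpr ⟨ha, fun h hh => ?_⟩, rfl⟩
      have h1 := hc ((MulAut.conj g) h) ⟨h, hh, rfl⟩
      have h2 : g * h * g⁻¹ * (g * a * g⁻¹) = g * a * g⁻¹ * (g * h * g⁻¹) := h1
      have h3 : h * a = g⁻¹ * (g * h * g⁻¹ * (g * a * g⁻¹)) * g := by group
      rw [h3, h2]; group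
    · rintro ⟨a, ha', rfl⟩
      have ha := (mem_center_map _ _).mp ha'
      refine ⟨⟨a, ha.1, rfl⟩, ?_⟩
      rintro _ ⟨h, hh, rfl⟩
      have h1 := ha.2 h hh
      show g * h * g⁻¹ * (g * a * g⁻¹) = g * a * g⁻¹ * (g * h * g⁻¹)
      have h3 : g * h * g⁻¹ * (g * a * g⁻¹) = g * (h * a) * g⁻¹ := by group
      rw [h3, h1]; group
  rw [h, Subgroup.card_map_of_injective (MulAut.conj g).injective]

theorem part1 {G : Type*} [Group G] [Finite G]
    (hCI : ∀ S T : Sylow 2 G, S ≠ T → ∃ U : Sylow 2 G,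
      (S : Subgroup G) ⊓ (T : Subgroup G) ≤ (Subgroup.center ↥(U : Subgroup G)).map (U : Subgroup G).subtype)
    (S : Sylow 2 G) (x : G) (hx : x ∈ (S : Subgroup G)) (P : Subgroup G) (hP : IsPGroup 2 ↥P)
    (hPx : P ≤ Subgroup.centralizer ({x} : Set G)) :
    Nat.card ↥P ≤ Nat.card ↥((S : Subgroup G) ⊓ Subgroup.centralizer ({x} : Set G)) := by
  classical
  haveI : Fact (Nat.Prime 2) := ⟨Nat.prime_two⟩
  set C := Subgroup.centralizer ({x} : Set G) with hC
  have hSp : IsPGroup 2 ((S : Subgroup G) ⊓ C : Subgroup G) := S.isPGroup'.to_le inf_le_left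
  obtain ⟨R, hCR, hRC, hRp, hRidx⟩ :=
    exists_rel_sylow_ge (inf_le_right : (S : Subgroup G) ⊓ C ≤ C) hSp
  obtain ⟨l, -, hl⟩ := h8_exists_conj_le_of_relIndex hRC hPx hRp hP hRidx
  have hPR : Nat.card P ≤ Nat.card R := by
    have := Subgroup.card_le_of_le hl
    rwa [Subgroup.card_map_of_injective (MulAut.conj l).injective] at this
  obtain ⟨T, hT⟩ := hRp.exists_le_sylow
  by_cases hTS : T = S
  · have : R ≤ (S : Subgroup G) ⊓ C := le_inf (hTS ▸ hT) hRC
    exact hPR.trans (Subgroup.card_le_of_le this)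
  · obtain ⟨U, hU⟩ := hCI S T (Ne.symm hTS)
    have h1 : (S : Subgroup G) ⊓ C ≤
        (Subgroup.center ↥(U : Subgroup G)).map (U : Subgroup G).subtype :=
      (le_inf inf_le_left (hCR.trans hT)).trans hU
    obtain ⟨g, hg⟩ := MulAction.exists_smul_eq G S U
    have h2 : Nat.card ((Subgroup.center ↥(U : Subgroup G)).map (U : Subgroup G).subtype) =
        Nat.card ((Subgroup.center ↥(S : Subgroup G)).map (S : Subgroup G).subtype) := by
      rw [← hg]
      exact center_map_conj_card (S : Subgroup G) g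
    have h3 : (Subgroup.center ↥(S : Subgroup G)).map (S : Subgroup G).subtype ≤
        (S : Subgroup G) ⊓ C := by
      intro y hy
      rw [mem_center_map] at hy
      exact ⟨hy.1, Subgroup.mem_centralizer_singleton_iff.mpr (hy.2 x hx).symm⟩
    have h4 : (Subgroup.center ↥(S : Subgroup G)).map (S : Subgroup G).subtype =
        (S : Subgroup G) ⊓ C := by
      apply Subgroup.eq_of_le_of_card_ge h3
      rw [← h2]; exact Subgroup.card_le_of_le h1
    have hxZ : x ∈ (Subgroup.center ↥(S : Subgroup G)).map (S : Subgroup G).subtype := by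
      rw [h4]; exact ⟨hx, Subgroup.mem_centralizer_singleton_iff.mpr rfl⟩
    have h5 : (S : Subgroup G) ≤ C := by
      intro s hs
      exact Subgroup.mem_centralizer_singleton_iff.mpr (((mem_center_map _ _).mp hxZ).2 s hs)
    rw [inf_eq_left.mpr h5]
    obtain ⟨Q, hQ⟩ := hP.exists_le_sylow
    calc Nat.card P ≤ Nat.card (Q : Subgroup G) := Subgroup.card_le_of_le hQ
      _ = Nat.card (S : Subgroup G) := by
        rw [Sylow.card_eq_multiplicity, Sylow.card_eq_multiplicity]

theorem half {G : Type*} [Group G] [Finite G]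
    (hCI : ∀ S T : Sylow 2 G, S ≠ T → ∃ U : Sylow 2 G,
      (S : Subgroup G) ⊓ (T : Subgroup G) ≤ (Subgroup.center ↥(U : Subgroup G)).map (U : Subgroup G).subtype)
    (S T : Sylow 2 G) (hST : S ≠ T) :
    (S : Subgroup G) ⊓ (T : Subgroup G) ≤
      (Subgroup.center ↥(S : Subgroup G)).map (S : Subgroup G).subtype := by
  classical
  haveI : Fact (Nat.Prime 2) := ⟨Nat.prime_two⟩
  intro x hx
  obtain ⟨U, hU⟩ := hCI S T hST
  have hxU := (mem_center_map _ _).mp (hU hx)
  have hUC : (U : Subgroup G) ≤ Subgroup.centralizer ({x} : Set G) := by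
    intro u hu
    exact Subgroup.mem_centralizer_singleton_iff.mpr (hxU.2 u hu)
  have h1 := part1 hCI S x hx.1 (U : Subgroup G) U.isPGroup' hUC
  have h2 : Nat.card (U : Subgroup G) = Nat.card (S : Subgroup G) := by
    rw [Sylow.card_eq_multiplicity, Sylow.card_eq_multiplicity]
  have h3 : (S : Subgroup G) ⊓ Subgroup.centralizer ({x} : Set G) = (S : Subgroup G) :=
    Subgroup.eq_of_le_of_card_ge inf_le_left (h2 ▸ h1)
  rw [mem_center_map]
  refine ⟨hx.1, fun s hs => ?_⟩
  have : s ∈ (S : Subgroup G) ⊓ Subgroup.centralizer ({x} : Set G) := by rw [h3]; exact hs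
  exact Subgroup.mem_centralizer_singleton_iff.mp this.2

/-- Let G be a finite group in which the intersection of any two distinct Sylow 2-subgroups is contained in the centre of some Sylow 2-subgroup, and let S be a Sylow 2-subgroup. Then for every x in S the centralizer of x in S is a Sylow 2-subgroup of the centralizer of x in G (no 2-subgroup centralizing x is larger), and for every other Sylow 2-subgroup T the intersection S ∩ T lies in both the centre of S and the centre of T. -/
theorem result {G : Type*} [Group G] [Finite G]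
    (hCI : ∀ S T : Sylow 2 G, S ≠ T → ∃ U : Sylow 2 G,
      (S : Subgroup G) ⊓ (T : Subgroup G) ≤ (Subgroup.center ↥(U : Subgroup G)).map (U : Subgroup G).subtype)
    (S : Sylow 2 G) :
    (∀ x ∈ (S : Subgroup G), ∀ P : Subgroup G, IsPGroup 2 ↥P → P ≤ Subgroup.centralizer ({x} : Set G) →
        Nat.card ↥P ≤ Nat.card ↥((S : Subgroup G) ⊓ Subgroup.centralizer ({x} : Set G))) ∧
    (∀ T : Sylow 2 G, T ≠ S →
        (S : Subgroup G) ⊓ (T : Subgroup G) ≤
          (Subgroup.center ↥(S : Subgroup G)).map (S : Subgroup G).subtype ⊓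
            (Subgroup.center ↥(T : Subgroup G)).map (T : Subgroup G).subtype) := by
  refine ⟨fun x hx P hP hPx => part1 hCI S x hx P hP hPx, fun T hT => le_inf (half hCI S T hT.symm) ?_⟩
  rw [inf_comm]
  exact half hCI T S hT

end Cfsg.Agent.S3183
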