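import Cfsg.Statements.S3190
import Mathlib
import Cfsg.Agent.Lib.Helper7.PQ
import Cfsg.Agent.Lib.Helper1.Layer
import Cfsg.Agent.S3183

set_option autoImplicit false
open Cfsg

namespace Cfsg.Agent.S3190

/-- Let p be an odd prime and, inside a finite group, let P be a p-subgroup normalized by a Klein four-group T. Let R be a subgroup of P, normal in P and normalized by T, such that P is the product of R with the centralizer of T in P. If T centralizes the centre of P, then T centralizes the centre of R. -/
theorem result {X : Type*} [Group X] [Finite X]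
    {p : ℕ} (hp : p.Prime) (hodd : Odd p) (P T R : Subgroup X) (hP : IsPGroup p ↥P) (hT : IsKleinFour ↥T)
    (hTP : T ≤ Subgroup.normalizer (P : Set X)) (hRP : R ≤ P) (hRn : (R.subgroupOf P).Normal)
    (hTR : T ≤ Subgroup.normalizer (R : Set X)) (hfac : R ⊔ (P ⊓ Subgroup.centralizer (T : Set X)) = P)
    (hZ : T ≤ Subgroup.centralizer (((Subgroup.center ↥P).map P.subtype : Subgroup X) : Set X)) :
    T ≤ Subgroup.centralizer (((Subgroup.center ↥R).map R.subtype : Subgroup X) : Set X) := by
  open Cfsg.Agent.Lib.Helper7 Cfsg.Agent.Lib.Helper1 in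
  classical
  haveI : Fact p.Prime := ⟨hp⟩
  have hp2 : p ≠ 2 := by
    rintro rfl
    exact (Nat.not_even_iff_odd.mpr hodd) even_two
  have hcop : (Nat.card T).Coprime p := by
    rw [hT.card_four]
    have : Nat.Coprime 2 p := (Nat.coprime_primes Nat.prime_two hp).mpr (Ne.symm hp2)
    exact Nat.Coprime.pow_left 2 this
  have hPR : P ≤ Subgroup.normalizer (R : Set X) :=
    (Subgroup.normal_subgroupOf_iff_le_normalizer hRP).mp hRn
  have hNR : Subgroup.normalizer (R : Set X) ≤ Subgroup.normalizer
      (((Subgroup.center ↥R).map R.subtype : Subgroup X) : Set X) :=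
    le_normalizer_map_subtype_of_characteristic le_rfl _
  have hUR : (Subgroup.center ↥R).map R.subtype ≤ R := Subgroup.map_subtype_le _
  refine pxq_lemma p (P ⊓ Subgroup.centralizer (T : Set X)) T _ (hP.to_le inf_le_left) hcop
    (hP.to_le (hUR.trans hRP)) inf_le_right ((inf_le_left.trans hPR).trans hNR) (hTR.trans hNR) ?_
  rintro z ⟨hzU, hzQ⟩
  have hz := (Cfsg.Agent.S3183.mem_center_map R z).mp hzU
  have hPz : P ≤ Subgroup.centralizer ({z} : Set X) := by
    rw [← hfac]
    apply sup_le
    · intro r hr
      exact Subgroup.mem_centralizer_singleton_iff.mpr (hz.2 r hr)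
    · intro q hq
      rw [Subgroup.mem_centralizer_singleton_iff]
      exact (Subgroup.mem_centralizer_iff.mp hzQ q hq)
  have hzP : z ∈ (Subgroup.center ↥P).map P.subtype := by
    rw [Cfsg.Agent.S3183.mem_center_map]
    exact ⟨hRP hz.1, fun h hh => Subgroup.mem_centralizer_singleton_iff.mp (hPz hh)⟩
  rw [Subgroup.mem_centralizer_iff]
  intro t ht
  exact (Subgroup.mem_centralizer_iff.mp (hZ ht) z hzP).symm

end Cfsg.Agent.S3190
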