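import Cfsg.Statements.S3200
import Cfsg.Agent.S0003
import Cfsg.Agent.S0004
import Cfsg.Agent.S0005
import Cfsg.Agent.S0564
import Cfsg.Agent.Lib.Helper9.ConjLemmas

set_option autoImplicit false
open Cfsg

namespace Cfsg.Agent.S3200

open scoped Pointwise

/-- Let H be a finite group in which a Sylow 2-subgroup has an abelian complement (an abelian subgroup meeting it trivially whose product with it is all of H). Then H is solvable, and every subgroup and every quotient group of H again has a Sylow 2-subgroup with an abelian complement. -/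
theorem result {H : Type*} [Group H] [Finite H]
    (S : Sylow 2 H) (C : Subgroup H) (hC : IsMulCommutative ↥C) (hSC : Subgroup.IsComplement' (S : Subgroup H) C) :
    Group.IsSolvable H ∧
    (∀ L : Subgroup H, ∃ (P : Sylow 2 ↥L) (D : Subgroup ↥L), IsMulCommutative ↥D ∧ Subgroup.IsComplement' (P : Subgroup ↥L) D) ∧
    (∀ (N : Subgroup H) [N.Normal], ∃ (P : Sylow 2 (H ⧸ N)) (D : Subgroup (H ⧸ N)),
      IsMulCommutative ↥D ∧ Subgroup.IsComplement' (P : Subgroup (H ⧸ N)) D) := by
  classical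
  have hcard := hSC.card_mul_card
  have hCodd : ¬ 2 ∣ Nat.card C := by
    have h1 := S.not_dvd_index
    have h2 : (S : Subgroup H).index = Nat.card C := by
      have h3 := (S : Subgroup H).card_mul_index
      have hpos : 0 < Nat.card (S : Subgroup H) := Nat.card_pos
      exact Nat.eq_of_mul_eq_mul_left hpos (h3.trans hcard.symm)
    rwa [h2] at h1
  obtain ⟨k, hk⟩ := IsPGroup.iff_card.mp S.2
  have hcop : ∀ n : ℕ, ¬ 2 ∣ n → Nat.Coprime n (Nat.card (S : Subgroup H)) := by
    intro n hn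
    rw [hk]
    exact ((Nat.Prime.coprime_iff_not_dvd Nat.prime_two).mpr hn).symm.pow_right k
  have hsolv : Group.IsSolvable H := by
    have hSn : Group.IsNilpotent (S : Subgroup H) := S.2.isNilpotent
    have hCn : Group.IsNilpotent C :=
      ⟨⟨1, Subgroup.upperCentralSeries_one_eq_top_iff.mpr hC⟩⟩
    apply Cfsg.Agent.S0564.result (S : Subgroup H) C hSn hCn
    intro g
    obtain ⟨⟨a, b⟩, hab⟩ := hSC.2 g
    exact ⟨a.1, a.2, b.1, b.2, hab.symm⟩
  have hHcard : Nat.card H = Nat.card C * Nat.card (S : Subgroup H) := by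
    rw [mul_comm]; exact hcard.symm
  have hcopH : Nat.Coprime (Nat.card C) (Nat.card (S : Subgroup H)) := hcop _ hCodd
  refine ⟨hsolv, ?_, ?_⟩
  · intro L
    obtain ⟨P⟩ : Nonempty (Sylow 2 ↥L) := inferInstance
    have hPidx : ¬ 2 ∣ (P : Subgroup ↥L).index := P.not_dvd_index
    obtain ⟨j, hj⟩ := IsPGroup.iff_card.mp P.2
    have hcopL : Nat.Coprime (P : Subgroup ↥L).index (Nat.card (P : Subgroup ↥L)) := by
      rw [hj]
      exact ((Nat.Prime.coprime_iff_not_dvd Nat.prime_two).mpr hPidx).symm.pow_right j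
    have hLcard : Nat.card ↥L = (P : Subgroup ↥L).index * Nat.card (P : Subgroup ↥L) := by
      rw [mul_comm]; exact ((P : Subgroup ↥L).card_mul_index).symm
    obtain ⟨D, hD⟩ := Cfsg.Agent.S0003.result (G := ↥L) _ _ hLcard hcopL
    refine ⟨P, D, ?_, ?_⟩
    · have hD0 : Nat.card (D.map L.subtype) = (P : Subgroup ↥L).index := by
        rw [Subgroup.card_map_of_injective L.subtype_injective, hD]
      obtain ⟨H₁, hH₁, hDH₁⟩ := Cfsg.Agent.S0005.result _ _ hHcard hcopH (D.map L.subtype)
        (by rw [hD0]; exact hcop _ hPidx)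
      obtain ⟨g, hg⟩ := Cfsg.Agent.S0004.result _ _ hHcard hcopH H₁ C hH₁ rfl
      refine ⟨⟨fun a b => ?_⟩⟩
      apply Subtype.ext
      apply Subtype.ext
      have ha : ((a : ↥L) : H) ∈ H₁ := hDH₁ ⟨a.1, a.2, rfl⟩
      have hb : ((b : ↥L) : H) ∈ H₁ := hDH₁ ⟨b.1, b.2, rfl⟩
      have ha' : g * ((a : ↥L) : H) * g⁻¹ ∈ C := by
        rw [← hg]; exact Cfsg.Agent.Lib.Helper9.conj_mem_conj_smul g ha
      have hb' : g * ((b : ↥L) : H) * g⁻¹ ∈ C := by
        rw [← hg]; exact Cfsg.Agent.Lib.Helper9.conj_mem_conj_smul g hb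
      have hcomm := setLike_mul_comm ha' hb'
      have hfin : ((a : ↥L) : H) * ((b : ↥L) : H) = ((b : ↥L) : H) * ((a : ↥L) : H) := by
        have e1 : g * ((a : ↥L) : H) * g⁻¹ * (g * ((b : ↥L) : H) * g⁻¹) =
            g * (((a : ↥L) : H) * ((b : ↥L) : H)) * g⁻¹ := by group
        have e2 : g * ((b : ↥L) : H) * g⁻¹ * (g * ((a : ↥L) : H) * g⁻¹) =
            g * (((b : ↥L) : H) * ((a : ↥L) : H)) * g⁻¹ := by group
        rw [e1, e2] at hcomm
        exact mul_left_cancel (mul_right_cancel hcomm)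
      exact hfin
    · apply Subgroup.isComplement'_of_coprime
      · rw [hD, mul_comm]; exact hLcard.symm
      · rw [hD]; exact hcopL.symm
  · intro N _
    have hsurj : Function.Surjective (QuotientGroup.mk' N) := QuotientGroup.mk'_surjective N
    refine ⟨S.mapSurjective hsurj, C.map (QuotientGroup.mk' N), ?_, ?_⟩
    · refine ⟨⟨fun a b => ?_⟩⟩
      obtain ⟨a', ha', haa⟩ := a.2
      obtain ⟨b', hb', hbb⟩ := b.2
      apply Subtype.ext
      show (a : H ⧸ N) * (b : H ⧸ N) = (b : H ⧸ N) * (a : H ⧸ N)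
      rw [← haa, ← hbb, ← map_mul, ← map_mul, setLike_mul_comm ha' hb']
    · apply Subgroup.isComplement'_of_disjoint_and_mul_eq_univ
      · apply Subgroup.disjoint_of_coprime_natCard
        rw [Sylow.coe_mapSurjective]
        have h1 : Nat.card ((S : Subgroup H).map (QuotientGroup.mk' N)) ∣
            Nat.card (S : Subgroup H) := Subgroup.card_map_dvd _ _
        have h2 : Nat.card (C.map (QuotientGroup.mk' N)) ∣ Nat.card C := Subgroup.card_map_dvd _ _
        exact Nat.Coprime.coprime_dvd_left h1 (Nat.Coprime.coprime_dvd_right h2 hcopH.symm)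
      · rw [Set.eq_univ_iff_forall]
        intro q
        obtain ⟨h, rfl⟩ := hsurj q
        obtain ⟨⟨a, b⟩, hab⟩ := hSC.2 h
        refine Set.mem_mul.mpr ⟨QuotientGroup.mk' N a.1, ?_, QuotientGroup.mk' N b.1, ?_, ?_⟩
        · exact ⟨a.1, a.2, rfl⟩
        · exact ⟨b.1, b.2, rfl⟩
        · rw [← map_mul]; exact congrArg _ hab

end Cfsg.Agent.S3200
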