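import Mathlib
import Cfsg.Statements.S3374
import Cfsg.Agent.H4Tab

set_option autoImplicit false

open Cfsg

namespace Cfsg.Agent.S3374

open Cfsg.Agent.H4Sharp Cfsg.Agent.H4Tab

/-- The table of an embedding of `SL₂(5)` into `GL₂(11)`. -/
def tbl : List (Q × Q) := [
  ((1, 0, 0, 1), (1, 0, 0, 1)), ((0, 4, 1, 0), (0, 10, 1, 0)), ((1, 1, 0, 1), (10, 3, 2, 4)),
  ((4, 0, 0, 4), (10, 0, 0, 10)), ((0, 4, 1, 1), (9, 7, 10, 3)), ((1, 4, 1, 0), (3, 1, 4, 9)),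
  ((1, 2, 0, 1), (7, 9, 6, 0)), ((0, 1, 4, 0), (0, 1, 10, 0)), ((4, 4, 0, 4), (1, 8, 9, 7)),
  ((4, 0, 1, 4), (7, 2, 3, 1)), ((0, 4, 1, 2), (5, 0, 7, 9)), ((1, 0, 1, 1), (10, 2, 3, 4)),
  ((2, 4, 1, 0), (9, 4, 0, 5)), ((1, 3, 0, 1), (0, 2, 5, 7)), ((0, 1, 4, 4), (2, 4, 1, 8)),
  ((4, 1, 4, 0), (8, 10, 7, 2)), ((4, 3, 0, 4), (4, 2, 5, 0)), ((4, 4, 1, 0), (8, 7, 10, 2)),
  ((4, 0, 2, 4), (0, 6, 9, 4)), ((0, 4, 1, 3), (6, 4, 0, 2)), ((0, 4, 1, 4), (2, 1, 4, 8)),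
  ((1, 1, 1, 2), (5, 5, 5, 3)), ((2, 1, 1, 1), (10, 10, 10, 9)), ((3, 4, 1, 0), (2, 0, 7, 6)),
  ((1, 4, 0, 1), (4, 8, 9, 10)), ((1, 0, 4, 1), (4, 9, 8, 10)), ((0, 1, 4, 3), (6, 0, 4, 2)),
  ((4, 0, 4, 4), (1, 9, 8, 7)), ((3, 1, 4, 0), (2, 7, 0, 6)), ((4, 2, 0, 4), (0, 9, 6, 4)),
  ((4, 1, 0, 4), (7, 3, 2, 1)), ((4, 3, 1, 1), (6, 8, 5, 5)), ((4, 4, 2, 1), (1, 2, 10, 10)),
  ((4, 0, 3, 4), (4, 5, 2, 0)), ((1, 4, 2, 4), (5, 6, 3, 6)), ((1, 2, 1, 3), (5, 2, 1, 5)),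
  ((1, 3, 1, 4), (10, 1, 9, 1)), ((2, 3, 1, 2), (10, 4, 8, 0)), ((3, 2, 1, 1), (9, 6, 5, 1)),
  ((1, 1, 4, 0), (3, 4, 1, 9)), ((1, 0, 3, 1), (0, 5, 2, 7)), ((0, 1, 4, 2), (5, 7, 0, 9)),
  ((0, 1, 4, 1), (9, 10, 7, 3)), ((4, 4, 4, 3), (6, 6, 6, 8)), ((3, 4, 4, 4), (1, 1, 1, 2)),
  ((2, 1, 4, 0), (9, 0, 4, 5)), ((3, 1, 1, 4), (8, 5, 5, 6)), ((4, 2, 1, 2), (10, 6, 5, 2)),
  ((4, 1, 1, 3), (2, 10, 10, 1)), ((4, 3, 2, 3), (3, 0, 10, 4)), ((4, 4, 3, 2), (6, 10, 9, 6)),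
  ((1, 0, 2, 1), (7, 6, 9, 0)), ((2, 4, 3, 4), (2, 6, 5, 10)), ((3, 3, 2, 4), (4, 1, 0, 3)),
  ((2, 0, 1, 3), (9, 2, 3, 2)), ((2, 2, 1, 4), (6, 2, 1, 6)), ((3, 0, 1, 2), (3, 7, 8, 8)),
  ((1, 2, 4, 4), (5, 3, 6, 6)), ((1, 1, 3, 4), (10, 9, 1, 1)), ((4, 1, 3, 1), (6, 5, 8, 5)),
  ((4, 3, 4, 2), (6, 9, 10, 6)), ((4, 2, 4, 1), (1, 10, 2, 10)), ((3, 2, 4, 3), (1, 7, 3, 0)),
  ((2, 3, 4, 4), (2, 5, 6, 10)), ((2, 1, 2, 4), (6, 1, 2, 6)), ((3, 1, 3, 3), (0, 8, 4, 1)),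
  ((4, 2, 2, 0), (8, 9, 9, 2)), ((4, 1, 2, 2), (10, 5, 6, 2)), ((4, 3, 3, 0), (3, 3, 3, 7)),
  ((1, 1, 2, 3), (5, 1, 2, 5)), ((2, 1, 3, 2), (10, 8, 4, 0)), ((3, 1, 2, 1), (9, 5, 6, 1)),
  ((0, 3, 3, 4), (2, 2, 2, 8)), ((0, 2, 2, 4), (7, 8, 8, 3)), ((3, 3, 1, 3), (0, 4, 8, 1)),
  ((2, 4, 4, 1), (3, 6, 6, 5)), ((1, 3, 4, 3), (1, 5, 6, 9)), ((1, 4, 4, 2), (9, 1, 1, 10)),
  ((1, 2, 3, 2), (8, 0, 1, 7)), ((2, 2, 3, 1), (7, 10, 0, 8)), ((3, 0, 4, 2), (2, 9, 8, 9)),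
  ((3, 3, 4, 1), (5, 9, 10, 5)), ((2, 0, 4, 3), (8, 4, 3, 3)), ((2, 3, 2, 1), (7, 0, 10, 8)),
  ((3, 4, 3, 1), (5, 10, 9, 5)), ((2, 1, 0, 3), (9, 3, 2, 2)), ((3, 1, 0, 2), (3, 8, 7, 8)),
  ((4, 2, 3, 3), (3, 10, 0, 4)), ((1, 4, 3, 3), (1, 6, 5, 9)), ((1, 2, 2, 0), (8, 8, 8, 4)),
  ((1, 3, 2, 2), (8, 1, 0, 7)), ((2, 3, 3, 0), (6, 7, 7, 1)), ((3, 4, 2, 3), (1, 3, 7, 0)),
  ((0, 3, 3, 2), (2, 3, 3, 5)), ((0, 2, 2, 1), (9, 9, 9, 3)), ((3, 2, 3, 4), (4, 0, 1, 3)),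
  ((2, 4, 2, 2), (0, 3, 7, 10)), ((1, 3, 3, 0), (3, 2, 2, 9)), ((0, 3, 3, 1), (4, 3, 3, 8)),
  ((2, 2, 4, 2), (0, 7, 3, 10)), ((2, 0, 2, 3), (4, 10, 6, 7)), ((2, 3, 0, 3), (8, 6, 2, 3)),
  ((3, 4, 0, 2), (2, 8, 9, 9)), ((2, 4, 0, 3), (8, 3, 4, 3)), ((3, 3, 0, 2), (7, 5, 1, 4)),
  ((2, 0, 3, 3), (8, 2, 6, 3)), ((3, 2, 2, 0), (5, 4, 4, 10)), ((3, 0, 2, 2), (3, 9, 5, 8)),
  ((0, 3, 3, 0), (4, 7, 7, 7)), ((0, 2, 2, 3), (9, 8, 8, 6)), ((3, 0, 3, 2), (7, 1, 5, 4)),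
  ((0, 3, 3, 3), (10, 7, 7, 5)), ((2, 2, 2, 0), (5, 8, 8, 2)), ((3, 3, 3, 0), (6, 3, 3, 9)),
  ((2, 0, 0, 3), (4, 4, 4, 7)), ((3, 2, 0, 2), (3, 5, 9, 8)), ((2, 2, 0, 3), (4, 6, 10, 7)),
  ((3, 0, 0, 2), (7, 7, 7, 4)), ((0, 2, 2, 0), (7, 4, 4, 4)), ((0, 2, 2, 2), (1, 4, 4, 6))]

theorem c_hom : chkHom 5 11 tbl = true := by decide +kernel
theorem c_keys : chkKeys 5 tbl = true := by decide +kernel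
theorem c_fpf : chkFpf 11 tbl = true := by decide +kernel
theorem c_one : look tbl one = one := by decide +kernel

/-- SL(2,5) occurs as a Frobenius complement: there is a finite group L with a subgroup H isomorphic to SL(2,5) which is a non-trivial proper subgroup meeting each conjugate gHg⁻¹ with g outside H trivially. -/
theorem result :
    ∃ (L : Type) (_ : Group L) (_ : Finite L) (H : Subgroup L),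
      Cfsg.IsFrobeniusComplement H ∧ Nonempty (H ≃* Matrix.SpecialLinearGroup (Fin 2) (ZMod 5)) := by
  haveI : Fact (Nat.Prime 5) := ⟨by norm_num⟩
  haveI : Fact (Nat.Prime 11) := ⟨by norm_num⟩
  exact frob_of_tbl 5 11 tbl c_hom c_keys c_fpf c_one

end Cfsg.Agent.S3374
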