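import Cfsg.Statements.S4348
-- import your own Cfsg.Agent.* helpers here
import Mathlib
import Cfsg.Agent.Lib.Helper7.PCore

set_option autoImplicit false
open Cfsg

namespace Cfsg.Agent.S4348

section
universe u
open Cfsg.Agent.Lib.Helper7

theorem pCore_le_sylow {G : Type u} [Group G] [Finite G] (p : ℕ) [Fact p.Prime] (Q : Sylow p G) :
    Cfsg.pCore p G ≤ (Q : Subgroup G) := by
  have hN := pCore_normal p G
  have hsup := IsPGroup.to_sup_of_normal_right Q.isPGroup' (pCore_isPGroup p G)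
  have heq := Q.is_maximal' hsup le_sup_left
  rw [← heq]
  exact le_sup_right

theorem main {G : Type u} [Group G] [Finite G]
    (p : ℕ) [Fact p.Prime] (P : Sylow p G)
    [hn : ((Cfsg.pCore p G).subgroupOf (P : Subgroup G)).Normal]
    (hc : IsCyclic ((P : Subgroup G) ⧸ (Cfsg.pCore p G).subgroupOf (P : Subgroup G))) :
    ∃ x : G, (∃ k : ℕ, orderOf x = p ^ k) ∧ ∃! Q : Sylow p G, x ∈ Q := by
  obtain ⟨c, hc⟩ := hc.exists_generator
  obtain ⟨x', rfl⟩ := QuotientGroup.mk_surjective c
  refine ⟨(x' : G), ?_, P, x'.2, ?_⟩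
  · obtain ⟨k, hk⟩ := P.isPGroup' x'
    have hk' : (x' : G) ^ (p ^ k) = 1 := by
      have := congrArg Subtype.val hk
      simpa using this
    obtain ⟨j, _, hj⟩ := (Nat.dvd_prime_pow Fact.out).1 (orderOf_dvd_of_pow_eq_one hk')
    exact ⟨j, hj⟩
  · intro Q hxQ
    have hle : (P : Subgroup G) ≤ (Q : Subgroup G) := by
      intro y hy
      obtain ⟨n, hn'⟩ := Subgroup.mem_zpowers_iff.1 (hc (QuotientGroup.mk ⟨y, hy⟩))
      rw [← QuotientGroup.mk_zpow, QuotientGroup.eq, Subgroup.mem_subgroupOf] at hn'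
      have h1 : ((x' : G) ^ n)⁻¹ * y ∈ Cfsg.pCore p G := by
        simpa using hn'
      have h2 := pCore_le_sylow p Q h1
      have h3 : (x' : G) ^ n ∈ (Q : Subgroup G) := Subgroup.zpow_mem _ hxQ n
      have h4 := mul_mem h3 h2
      rwa [mul_inv_cancel_left] at h4
    have := P.is_maximal' Q.isPGroup' hle
    exact Sylow.ext this

end

/-- Let G be a finite group, p a prime and P a Sylow p-subgroup of G, and let O_p(G) be the largest normal p-subgroup of G. If P/O_p(G) is cyclic, then some element of p-power order of G lies in exactly one Sylow p-subgroup. -/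
theorem result {G : Type*} [Group G] [Finite G]
    (p : ℕ) [Fact p.Prime] (P : Sylow p G)
    [hn : ((Cfsg.pCore p G).subgroupOf (P : Subgroup G)).Normal]
    (hc : IsCyclic ((P : Subgroup G) ⧸ (Cfsg.pCore p G).subgroupOf (P : Subgroup G))) :
    ∃ x : G, (∃ k : ℕ, orderOf x = p ^ k) ∧ ∃! Q : Sylow p G, x ∈ Q := by
  exact main p P hc

end Cfsg.Agent.S4348
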