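import Mathlib
import Cfsg.Statements.S4089
import Cfsg.Agent.S0615
import Cfsg.Agent.S1900
import Cfsg.Agent.S2820
import Cfsg.Agent.S4348
import Cfsg.Agent.Lib.Helper1.PxQ
import Cfsg.Agent.Lib.Helper7.PCore
import Cfsg.Agent.Lib.Helper8.Subnormal

set_option autoImplicit false
open Cfsg

namespace Cfsg.Agent.S4089

variable {G : Type*} [Group G] [Finite G]

/-- a `p`-subgroup of a `g`-invariant `p`-subgroup is subnormal in the subgroup it generates
with `g`. -/
theorem L1 (p : ℕ) [Fact p.Prime] (A R : Subgroup G) (g : G) (hAR : A ≤ R) (hR : IsPGroup p R)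
    (hg : g ∈ Subgroup.normalizer (R : Set G)) :
    (A.subgroupOf (A ⊔ Subgroup.zpowers g)).IsSubnormal := by
  set X := A ⊔ Subgroup.zpowers g with hX
  have hXN : X ≤ Subgroup.normalizer (R : Set G) := by
    refine sup_le (hAR.trans Subgroup.le_normalizer) ?_
    rw [Subgroup.zpowers_le]; exact hg
  have hAX : A ≤ X := le_sup_left
  set Y := R ⊓ X with hY
  have hAY : A ≤ Y := le_inf hAR hAX
  have hYX : Y ≤ X := inf_le_right
  have hYn : (Y.subgroupOf X).Normal := by
    rw [hY, Subgroup.inf_subgroupOf_right]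
    exact Subgroup.normal_subgroupOf_of_le_normalizer hXN
  have hYp : IsPGroup p Y := hR.to_le inf_le_left
  haveI : Group.IsNilpotent ↥Y := hYp.isNilpotent
  have h1 : (A.subgroupOf Y).IsSubnormal :=
    Cfsg.Agent.Lib.Helper8.h8_isSubnormal_of_isNilpotent _
  exact Cfsg.Agent.S0615.rel_subn_trans hAY hYX h1 hYn.isSubnormal

/-- conversely a subnormal `p`-subgroup lies in a `g`-invariant `p`-subgroup. -/
theorem L2 (p : ℕ) [Fact p.Prime] (A : Subgroup G) (g : G) (hA : IsPGroup p A)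
    (h : (A.subgroupOf (A ⊔ Subgroup.zpowers g)).IsSubnormal) :
    ∃ R : Subgroup G, A ≤ R ∧ IsPGroup p R ∧ g ∈ Subgroup.normalizer (R : Set G) := by
  set X := A ⊔ Subgroup.zpowers g with hX
  have hAX : A ≤ X := le_sup_left
  have hgX : g ∈ X := (le_sup_right : Subgroup.zpowers g ≤ X) (Subgroup.mem_zpowers g)
  have hAp' : IsPGroup p ↥(A.subgroupOf X) := hA.comap_subtype
  have hcl := Cfsg.Agent.S2820.normalClosure_isPGroup (A.subgroupOf X) h hAp'
  have hle : A.subgroupOf X ≤ Cfsg.pCore p ↥X :=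
    Subgroup.le_normalClosure.trans
      (Cfsg.Agent.Lib.Helper7.le_pCore Subgroup.normalClosure_normal hcl)
  refine ⟨(Cfsg.pCore p ↥X).map X.subtype, ?_, ?_, ?_⟩
  · have h1 := Subgroup.map_mono (f := X.subtype) hle
    rwa [Subgroup.map_subgroupOf_eq_of_le hAX] at h1
  · exact (Cfsg.Agent.Lib.Helper7.pCore_isPGroup p ↥X).map _
  · haveI := Cfsg.Agent.Lib.Helper7.pCore_normal p ↥X
    exact Cfsg.Agent.Lib.Helper1.le_normalizer_map_subtype_of_normal (Cfsg.pCore p ↥X) hgX

/-- a `g`-invariant `p`-subgroup lies in a `g`-invariant radical `p`-subgroup. -/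
theorem L3 (p : ℕ) [Fact p.Prime] (R₀ : Subgroup G) (g : G) (hR₀ : IsPGroup p R₀)
    (hg : g ∈ Subgroup.normalizer (R₀ : Set G)) :
    ∃ R : Subgroup G, R₀ ≤ R ∧
      (Cfsg.pCore p (Subgroup.normalizer (R : Set G))).map
        (Subgroup.normalizer (R : Set G)).subtype = R ∧
      g ∈ Subgroup.normalizer (R : Set G) := by
  classical
  let S : Set (Subgroup G) := {R | IsPGroup p R ∧ g ∈ Subgroup.normalizer (R : Set G)}
  have h0 : R₀ ∈ S := ⟨hR₀, hg⟩
  obtain ⟨R, hR₀R, hmax⟩ := Finite.exists_le_maximal (p := fun N => N ∈ S) h0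
  have hRS : R ∈ S := hmax.prop
  refine ⟨R, hR₀R, ?_, hRS.2⟩
  have hRN : R ≤ Subgroup.normalizer (R : Set G) := Subgroup.le_normalizer
  have hRR' : R ≤ (Cfsg.pCore p (Subgroup.normalizer (R : Set G))).map
      (Subgroup.normalizer (R : Set G)).subtype := by
    haveI : (R.subgroupOf (Subgroup.normalizer (R : Set G))).Normal :=
      Subgroup.normal_in_normalizer
    have h1 : R.subgroupOf (Subgroup.normalizer (R : Set G)) ≤
        Cfsg.pCore p ↥(Subgroup.normalizer (R : Set G)) :=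
      Cfsg.Agent.Lib.Helper7.le_pCore inferInstance (hRS.1.comap_subtype)
    have h2 := Subgroup.map_mono (f := (Subgroup.normalizer (R : Set G)).subtype) h1
    rwa [Subgroup.map_subgroupOf_eq_of_le hRN] at h2
  have hR'S : (Cfsg.pCore p (Subgroup.normalizer (R : Set G))).map
      (Subgroup.normalizer (R : Set G)).subtype ∈ S := by
    refine ⟨(Cfsg.Agent.Lib.Helper7.pCore_isPGroup p ↥(Subgroup.normalizer (R : Set G))).map _, ?_⟩
    haveI := Cfsg.Agent.Lib.Helper7.pCore_normal p ↥(Subgroup.normalizer (R : Set G))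
    exact Cfsg.Agent.Lib.Helper1.le_normalizer_map_subtype_of_normal
      (Cfsg.pCore p ↥(Subgroup.normalizer (R : Set G))) hRS.2
  exact le_antisymm (hmax.le_of_ge hR'S hRR') hRR'

/-- a subgroup lying in every Sylow `p`-subgroup lies in `O_p`. -/
theorem le_pCore_of_le_sylows {N : Type*} [Group N] [Finite N] (p : ℕ) [Fact p.Prime]
    (A : Subgroup N) (h : ∀ P : Sylow p N, A ≤ (P : Subgroup N)) : A ≤ Cfsg.pCore p N := by
  set C : Subgroup N := ⨅ P : Sylow p N, (P : Subgroup N) with hC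
  have hAC : A ≤ C := le_iInf h
  have hCn : C.Normal := by
    constructor
    intro n hn g
    rw [hC, Subgroup.mem_iInf] at hn ⊢
    intro P
    have h1 := hn (g⁻¹ • P)
    rw [Sylow.coe_subgroup_smul, Subgroup.mem_pointwise_smul_iff_inv_smul_mem] at h1
    simpa [MulAut.smul_def] using h1
  obtain ⟨P₀⟩ : Nonempty (Sylow p N) := inferInstance
  have hCp : IsPGroup p C := P₀.isPGroup'.to_le (iInf_le _ P₀)
  exact hAC.trans (Cfsg.Agent.Lib.Helper7.le_pCore hCn hCp)

/-- a radical `p`-subgroup is the intersection of the Sylow `p`-subgroups containing it. -/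
theorem L5 (p : ℕ) [Fact p.Prime] (R : Subgroup G)
    (hrad : (Cfsg.pCore p (Subgroup.normalizer (R : Set G))).map
      (Subgroup.normalizer (R : Set G)).subtype = R) :
    sInf {K : Subgroup G | ∃ Q : Sylow p G, R ≤ (Q : Subgroup G) ∧ K = (Q : Subgroup G)} ≤ R := by
  classical
  have hRp : IsPGroup p R := by
    have h1 := (Cfsg.Agent.Lib.Helper7.pCore_isPGroup p ↥(Subgroup.normalizer (R : Set G))).map
      (Subgroup.normalizer (R : Set G)).subtype
    rwa [hrad] at h1
  set N := Subgroup.normalizer (R : Set G) with hN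
  set J := sInf {K : Subgroup G | ∃ Q : Sylow p G, R ≤ (Q : Subgroup G) ∧ K = (Q : Subgroup G)}
    with hJ
  have hRN : R ≤ N := Subgroup.le_normalizer
  have hRJ : R ≤ J := le_sInf (by rintro K ⟨Q, hQ, rfl⟩; exact hQ)
  obtain ⟨Q₀, hQ₀⟩ := hRp.exists_le_sylow
  have hJQ : ∀ Q : Sylow p G, R ≤ (Q : Subgroup G) → J ≤ Q := fun Q hQ => sInf_le ⟨Q, hQ, rfl⟩
  have hJp : IsPGroup p J := Q₀.isPGroup'.to_le (hJQ Q₀ hQ₀)
  have hkey : J ⊓ N ≤ R := by
    have h1 : ∀ P : Sylow p ↥N, (J ⊓ N).subgroupOf N ≤ (P : Subgroup ↥N) := by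
      intro P
      obtain ⟨Q, hQ⟩ := (P.isPGroup'.map N.subtype).exists_le_sylow
      have hRQ : R ≤ Q := by
        have h2 : R.subgroupOf N ≤ (P : Subgroup ↥N) := by
          haveI : (R.subgroupOf N).Normal := Subgroup.normal_in_normalizer
          have h3 : R.subgroupOf N ≤ Cfsg.pCore p ↥N :=
            Cfsg.Agent.Lib.Helper7.le_pCore inferInstance hRp.comap_subtype
          exact h3.trans (Cfsg.Agent.S4348.pCore_le_sylow p P)
        have h4 := Subgroup.map_mono (f := N.subtype) h2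
        rw [Subgroup.map_subgroupOf_eq_of_le hRN] at h4
        exact h4.trans hQ
      have hJQ' := hJQ Q hRQ
      have h5 : (Q : Subgroup G).subgroupOf N = (P : Subgroup ↥N) := by
        apply P.is_maximal' (Q.isPGroup'.comap_subtype)
        intro x hx
        show N.subtype x ∈ (Q : Subgroup G)
        exact hQ ⟨x, hx, rfl⟩
      rw [← h5]
      intro x hx
      rw [Subgroup.mem_subgroupOf] at hx ⊢
      exact hJQ' hx.1
    have h6 := le_pCore_of_le_sylows p _ h1
    have h7 := Subgroup.map_mono (f := N.subtype) h6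
    rw [Subgroup.map_subgroupOf_eq_of_le inf_le_right, hrad] at h7
    exact h7
  by_contra hJR
  haveI : Group.IsNilpotent ↥J := hJp.isNilpotent
  have hlt : R.subgroupOf J < ⊤ := by
    rw [lt_top_iff_ne_top, Ne, Subgroup.subgroupOf_eq_top]
    exact hJR
  have hnc := Group.normalizerCondition_of_isNilpotent (G := ↥J) (R.subgroupOf J) hlt
  obtain ⟨x, hxN, hxR⟩ := SetLike.exists_of_lt hnc
  apply hxR
  rw [Subgroup.mem_subgroupOf]
  apply hkey
  refine ⟨x.2, ?_⟩
  apply Cfsg.Agent.S1900.mem_normalizer_of_conj_mem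
  intro y hy
  have h8 := (Subgroup.mem_normalizer_iff.1 hxN ⟨y, hRJ hy⟩).1
    (by rw [Subgroup.mem_subgroupOf]; exact hy)
  rw [Subgroup.mem_subgroupOf] at h8
  simpa using h8

/-- Let G be a finite group, p a prime and H a p-subgroup of G. Then the set of elements g of G such that H is subnormal in the subgroup generated by H and g is the union of the normalizers N_G(R) over the subgroups R of G containing H with R = O_p(N_G(R)); and this set does not change when H is replaced by the intersection of all Sylow p-subgroups of G containing H. -/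
theorem result {G : Type*} [Group G] [Finite G] (p : ℕ) [Fact p.Prime]
    (H : Subgroup G) (hH : IsPGroup p H) :
    {g : G | ((H).subgroupOf (H ⊔ Subgroup.zpowers g)).IsSubnormal} =
      {g : G | ∃ R : Subgroup G, H ≤ R ∧ (Cfsg.pCore p (Subgroup.normalizer (R : Set G))).map (Subgroup.normalizer (R : Set G)).subtype = R ∧ g ∈ Subgroup.normalizer (R : Set G)} ∧
    ∀ g : G, (((H).subgroupOf (H ⊔ Subgroup.zpowers g)).IsSubnormal ↔
      (((sInf {K : Subgroup G | ∃ Q : Sylow p G, H ≤ (Q : Subgroup G) ∧ K = (Q : Subgroup G)})).subgroupOf ((sInf {K : Subgroup G | ∃ Q : Sylow p G, H ≤ (Q : Subgroup G) ∧ K = (Q : Subgroup G)}) ⊔ Subgroup.zpowers g)).IsSubnormal) := by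
  classical
  have hIH : H ≤ sInf {K : Subgroup G | ∃ Q : Sylow p G, H ≤ (Q : Subgroup G) ∧
      K = (Q : Subgroup G)} :=
    le_sInf (by rintro K ⟨Q, hQ, rfl⟩; exact hQ)
  obtain ⟨Q₀, hQ₀⟩ := hH.exists_le_sylow
  have hIp : IsPGroup p ↥(sInf {K : Subgroup G | ∃ Q : Sylow p G, H ≤ (Q : Subgroup G) ∧
      K = (Q : Subgroup G)}) :=
    Q₀.isPGroup'.to_le (sInf_le ⟨Q₀, hQ₀, rfl⟩)
  have hsub : ∀ g : G, (H.subgroupOf (H ⊔ Subgroup.zpowers g)).IsSubnormal →
      ∃ R : Subgroup G, H ≤ R ∧ (Cfsg.pCore p (Subgroup.normalizer (R : Set G))).map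
        (Subgroup.normalizer (R : Set G)).subtype = R ∧
        g ∈ Subgroup.normalizer (R : Set G) := by
    intro g hg
    obtain ⟨R₀, hHR₀, hR₀p, hgR₀⟩ := L2 p H g hH hg
    obtain ⟨R, hR₀R, hrad, hgR⟩ := L3 p R₀ g hR₀p hgR₀
    exact ⟨R, hHR₀.trans hR₀R, hrad, hgR⟩
  have hradp : ∀ R : Subgroup G, (Cfsg.pCore p (Subgroup.normalizer (R : Set G))).map
      (Subgroup.normalizer (R : Set G)).subtype = R → IsPGroup p R := by
    intro R hrad
    have h1 := (Cfsg.Agent.Lib.Helper7.pCore_isPGroup p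
      ↥(Subgroup.normalizer (R : Set G))).map (Subgroup.normalizer (R : Set G)).subtype
    rwa [hrad] at h1
  refine ⟨?_, fun g => ⟨fun hg => ?_, fun hg => ?_⟩⟩
  · ext g
    simp only [Set.mem_setOf_eq]
    constructor
    · exact hsub g
    · rintro ⟨R, hHR, hrad, hgR⟩
      exact L1 p H R g hHR (hradp R hrad) hgR
  · obtain ⟨R, hHR, hrad, hgR⟩ := hsub g hg
    have h1 := L5 p R hrad
    have h2 : sInf {K : Subgroup G | ∃ Q : Sylow p G, H ≤ (Q : Subgroup G) ∧
        K = (Q : Subgroup G)} ≤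
        sInf {K : Subgroup G | ∃ Q : Sylow p G, R ≤ (Q : Subgroup G) ∧
          K = (Q : Subgroup G)} := by
      apply sInf_le_sInf
      rintro K ⟨Q, hQ, rfl⟩
      exact ⟨Q, hHR.trans hQ, rfl⟩
    exact L1 p _ R g (h2.trans h1) (hradp R hrad) hgR
  · obtain ⟨R₁, hIR₁, hR₁p, hgR₁⟩ := L2 p _ g hIp hg
    exact L1 p H R₁ g (hIH.trans hIR₁) hR₁p hgR₁

end Cfsg.Agent.S4089
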