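import Mathlib
import Cfsg.Statements.S4088
import Cfsg.Agent.S4089
import Cfsg.Agent.Lib.Helper4.Moebius

set_option autoImplicit false
open Cfsg

universe u

namespace Cfsg.Agent.S4088

open Cfsg.Agent.Lib.Helper4

/-- `g` normalizes some `p`-subgroup containing `A`. -/
def Inv {G : Type*} [Group G] (p : ℕ) (A : Subgroup G) (g : G) : Prop :=
  ∃ T : Subgroup G, A ≤ T ∧ IsPGroup p T ∧ g ∈ Subgroup.normalizer (T : Set G)

theorem sn_iff_inv {G : Type*} [Group G] [Finite G] (p : ℕ) [Fact p.Prime] (A : Subgroup G)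
    (hA : IsPGroup p A) (g : G) :
    (A.subgroupOf (A ⊔ Subgroup.zpowers g)).IsSubnormal ↔ Inv p A g :=
  ⟨fun h => Cfsg.Agent.S4089.L2 p A g hA h,
   fun ⟨T, hAT, hT, hg⟩ => Cfsg.Agent.S4089.L1 p A T g hAT hT hg⟩

theorem card_normalizer_sylow {G : Type*} [Group G] [Finite G] (p : ℕ) [Fact p.Prime]
    (Q : Sylow p G) :
    Nat.card (Sylow p G) * Nat.card (Subgroup.normalizer ((Q : Subgroup G) : Set G)) =
      Nat.card G := by
  rw [Sylow.card_eq_index_normalizer Q, mul_comm]
  exact Subgroup.card_mul_index _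

theorem case_normal {G : Type*} [Group G] [Finite G] (p : ℕ) [Fact p.Prime] (H : Subgroup G)
    (hH : IsPGroup p H) (hn : H.Normal) (P : Sylow p G) :
    Nat.card {g : G // Inv p H g} = Nat.card {Q : Sylow p G // H ≤ (Q : Subgroup G)} *
      Nat.card (Subgroup.normalizer ((P : Subgroup G) : Set G)) := by
  have h1 : Nat.card {g : G // Inv p H g} = Nat.card G := by
    apply Nat.card_congr
    exact Equiv.subtypeUnivEquiv (fun g => ⟨H, le_rfl, hH, by
      rw [Subgroup.normalizer_eq_top_iff.2 hn]; trivial⟩)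
  have h2 : Nat.card {Q : Sylow p G // H ≤ (Q : Subgroup G)} = Nat.card (Sylow p G) := by
    apply Nat.card_congr
    exact Equiv.subtypeUnivEquiv (fun Q =>
      (Cfsg.Agent.Lib.Helper7.le_pCore hn hH).trans (Cfsg.Agent.S4348.pCore_le_sylow p Q))
  rw [h1, h2, card_normalizer_sylow]

theorem case_sylow {G : Type*} [Group G] [Finite G] (p : ℕ) [Fact p.Prime] (Q₀ : Sylow p G)
    (P : Sylow p G) :
    Nat.card {g : G // Inv p (Q₀ : Subgroup G) g} =
      Nat.card {Q : Sylow p G // (Q₀ : Subgroup G) ≤ (Q : Subgroup G)} *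
      Nat.card (Subgroup.normalizer ((P : Subgroup G) : Set G)) := by
  have h1 : Nat.card {g : G // Inv p (Q₀ : Subgroup G) g} =
      Nat.card (Subgroup.normalizer ((Q₀ : Subgroup G) : Set G)) := by
    apply Nat.card_congr
    refine Equiv.subtypeEquivRight (fun g => ?_)
    constructor
    · rintro ⟨T, hT1, hT2, hT3⟩
      have h := Q₀.is_maximal' hT2 hT1
      rw [h] at hT3
      exact hT3
    · intro hg
      exact ⟨Q₀, le_rfl, Q₀.isPGroup', hg⟩
  have h2 : Nat.card {Q : Sylow p G // (Q₀ : Subgroup G) ≤ (Q : Subgroup G)} = 1 := by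
    rw [Nat.card_eq_one_iff_unique]
    refine ⟨⟨?_⟩, ⟨⟨Q₀, le_rfl⟩⟩⟩
    rintro ⟨Q, hQ⟩ ⟨Q', hQ'⟩
    have e1 : Q = Q₀ := Sylow.ext (Q₀.is_maximal' Q.isPGroup' hQ)
    have e2 : Q' = Q₀ := Sylow.ext (Q₀.is_maximal' Q'.isPGroup' hQ')
    apply Subtype.ext
    show Q = Q'
    rw [e1, e2]
  have h3 : Nat.card (Subgroup.normalizer ((Q₀ : Subgroup G) : Set G)) =
      Nat.card (Subgroup.normalizer ((P : Subgroup G) : Set G)) := by
    have a := card_normalizer_sylow p Q₀
    have b := card_normalizer_sylow p P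
    have hpos : 0 < Nat.card (Sylow p G) := Nat.card_pos
    exact Nat.eq_of_mul_eq_mul_left hpos (a.trans b.symm)
  rw [h1, h2, one_mul, h3]

theorem inv_sub {G : Type*} [Group G] [Finite G] (p : ℕ) (N R : Subgroup G) (hRN : R ≤ N)
    (g : N) : Inv p (R.subgroupOf N) g ↔ Inv p R (g : G) := by
  constructor
  · rintro ⟨T', h1, h2, h3⟩
    refine ⟨T'.map N.subtype, ?_, h2.map _, ?_⟩
    · have h4 := Subgroup.map_mono (f := N.subtype) h1
      rwa [Subgroup.map_subgroupOf_eq_of_le hRN] at h4
    · exact Subgroup.le_normalizer_map _ ⟨g, h3, rfl⟩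
  · rintro ⟨T, h1, h2, h3⟩
    refine ⟨T.subgroupOf N, ?_, h2.comap_subtype, ?_⟩
    · intro x hx
      rw [Subgroup.mem_subgroupOf] at hx ⊢
      exact h1 hx
    · exact Subgroup.le_normalizer_comap N.subtype h3

theorem card_inv_sub {G : Type*} [Group G] [Finite G] (p : ℕ) (N R : Subgroup G) (hRN : R ≤ N) :
    Nat.card {g : G // g ∈ N ∧ Inv p R g} = Nat.card {g : ↥N // Inv p (R.subgroupOf N) g} := by
  apply Nat.card_congr
  exact {
    toFun := fun g => ⟨⟨g.1, g.2.1⟩, (inv_sub p N R hRN ⟨g.1, g.2.1⟩).2 g.2.2⟩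
    invFun := fun g => ⟨g.1.1, g.1.2, (inv_sub p N R hRN g.1).1 g.2⟩
    left_inv := fun g => rfl
    right_inv := fun g => rfl }

theorem not_sylow_normalizer {G : Type*} [Group G] [Finite G] (p : ℕ) [Fact p.Prime]
    (H : Subgroup G) (hH : IsPGroup p H) (hns : ∀ Q : Sylow p G, (Q : Subgroup G) ≠ H)
    (N : Subgroup G) (hN : N = Subgroup.normalizer (H : Set G)) (Q' : Sylow p ↥N) :
    (Q' : Subgroup ↥N).map N.subtype ≠ H := by
  intro heq
  obtain ⟨P₁, hP₁⟩ := hH.exists_le_sylow
  have hne : ¬ (P₁ : Subgroup G) ≤ H := fun h => hns P₁ (le_antisymm h hP₁)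
  haveI : Group.IsNilpotent ↥(P₁ : Subgroup G) := P₁.isPGroup'.isNilpotent
  have hlt : H.subgroupOf (P₁ : Subgroup G) < ⊤ := by
    rw [lt_top_iff_ne_top, Ne, Subgroup.subgroupOf_eq_top]
    exact hne
  have hnc := Group.normalizerCondition_of_isNilpotent (G := ↥(P₁ : Subgroup G))
    (H.subgroupOf P₁) hlt
  obtain ⟨x, hxN, hxH⟩ := SetLike.exists_of_lt hnc
  have hxNG : (x : G) ∈ N := by
    rw [hN]
    apply Cfsg.Agent.S1900.mem_normalizer_of_conj_mem
    intro y hy
    have h8 := (Subgroup.mem_normalizer_iff.1 hxN ⟨y, hP₁ hy⟩).1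
      (by rw [Subgroup.mem_subgroupOf]; exact hy)
    rw [Subgroup.mem_subgroupOf] at h8
    simpa using h8
  apply hxH
  rw [Subgroup.mem_subgroupOf]
  set Y := H ⊔ Subgroup.zpowers (x : G) with hY
  have hYP : Y ≤ P₁ := sup_le hP₁ (by rw [Subgroup.zpowers_le]; exact x.2)
  have hYp : IsPGroup p Y := P₁.isPGroup'.to_le hYP
  have h5 : Y.subgroupOf N = (Q' : Subgroup ↥N) := by
    apply Q'.is_maximal' hYp.comap_subtype
    intro y hy
    show N.subtype y ∈ Y
    have h6 : (y : G) ∈ (Q' : Subgroup ↥N).map N.subtype := ⟨y, hy, rfl⟩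
    rw [heq] at h6
    exact (le_sup_left : H ≤ Y) h6
  have h6 : (⟨(x : G), hxNG⟩ : ↥N) ∈ (Q' : Subgroup ↥N) := by
    rw [← h5, Subgroup.mem_subgroupOf]
    exact (le_sup_right : Subgroup.zpowers (x : G) ≤ Y) (Subgroup.mem_zpowers _)
  have h7 : (x : G) ∈ (Q' : Subgroup ↥N).map N.subtype := ⟨⟨(x : G), hxNG⟩, h6, rfl⟩
  rw [heq] at h7
  exact h7

theorem case_main {G : Type u} [Group G] [Finite G] (p : ℕ) [Fact p.Prime] (H : Subgroup G)
    (hH : IsPGroup p H) (P : Sylow p G) (hns : ∀ Q : Sylow p G, (Q : Subgroup G) ≠ H)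
    (IHin : ∀ R : Subgroup G, IsPGroup p R → H < R →
      Nat.card {g : G // Inv p R g} = Nat.card {Q : Sylow p G // R ≤ (Q : Subgroup G)} *
        Nat.card (Subgroup.normalizer ((P : Subgroup G) : Set G)))
    (N : Subgroup G) (hN : N = Subgroup.normalizer (H : Set G))
    (IHout : ∀ (H' : Subgroup ↥N), IsPGroup p H' → ∀ P' : Sylow p ↥N,
        Nat.card {g : ↥N // Inv p H' g} =
          Nat.card {Q : Sylow p ↥N // H' ≤ (Q : Subgroup ↥N)} *
          Nat.card (Subgroup.normalizer ((P' : Subgroup ↥N) : Set ↥N))) :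
    Nat.card {g : G // Inv p H g} = Nat.card {Q : Sylow p G // H ≤ (Q : Subgroup G)} *
      Nat.card (Subgroup.normalizer ((P : Subgroup G) : Set G)) := by
  classical
  letI : Fintype G := Fintype.ofFinite G
  letI : Fintype (Subgroup G) := Fintype.ofFinite _
  letI : Fintype (Sylow p G) := Fintype.ofFinite _
  letI : Fintype (Sylow p ↥N) := Fintype.ofFinite _
  obtain ⟨m, hm⟩ := h4_exists_mu H
  have hmH := h4_mu_self H m hm
  set c : ℤ := (Nat.card (Subgroup.normalizer ((P : Subgroup G) : Set G)) : ℤ) with hc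
  have hE : ∀ R : Subgroup G, (Nat.card {g : G // Inv p R g} : ℤ) =
      ∑ g : G, if Inv p R g then (1 : ℤ) else 0 := by
    intro R
    rw [Nat.card_eq_fintype_card, Fintype.card_subtype, Finset.card_filter, Nat.cast_sum]
    refine Finset.sum_congr rfl (fun g _ => ?_)
    split_ifs <;> simp
  have hα : ∀ R : Subgroup G, (Nat.card {Q : Sylow p G // R ≤ (Q : Subgroup G)} : ℤ) =
      ∑ Q : Sylow p G, if R ≤ (Q : Subgroup G) then (1 : ℤ) else 0 := by
    intro R
    rw [Nat.card_eq_fintype_card, Fintype.card_subtype, Finset.card_filter, Nat.cast_sum]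
    refine Finset.sum_congr rfl (fun g _ => ?_)
    split_ifs <;> simp
  set PH : Finset (Subgroup G) := Finset.univ.filter (fun R => H ≤ R ∧ IsPGroup p R) with hPH
  have hmemPH : ∀ R : Subgroup G, R ∈ PH ↔ H ≤ R ∧ IsPGroup p R := by
    intro R
    rw [hPH, Finset.mem_filter]
    simp
  have hHPH : H ∈ PH := (hmemPH H).2 ⟨le_rfl, hH⟩
  -- first evaluation
  have hZ1 : ∑ R ∈ PH, m R * (Nat.card {g : G // Inv p R g} : ℤ) =
      (Nat.card {g : G // Inv p H g} : ℤ) -
        (Nat.card {Q : Sylow p G // H ≤ (Q : Subgroup G)} : ℤ) * c := by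
    have hterm : ∀ R ∈ PH, m R * (Nat.card {g : G // Inv p R g} : ℤ) =
        m R * ((Nat.card {Q : Sylow p G // R ≤ (Q : Subgroup G)} : ℤ) * c) +
        (if R = H then ((Nat.card {g : G // Inv p H g} : ℤ) -
          (Nat.card {Q : Sylow p G // H ≤ (Q : Subgroup G)} : ℤ) * c) else 0) := by
      intro R hR
      rw [hmemPH] at hR
      by_cases hRH : R = H
      · rw [if_pos hRH, hRH, hmH]; ring
      · rw [if_neg hRH, add_zero]
        have hlt : H < R := lt_of_le_of_ne hR.1 (Ne.symm hRH)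
        rw [IHin R hR.2 hlt, hc]
        push_cast
        ring
    rw [Finset.sum_congr rfl hterm, Finset.sum_add_distrib, Finset.sum_ite_eq' PH H, if_pos hHPH]
    have hzero : ∑ R ∈ PH, m R * ((Nat.card {Q : Sylow p G // R ≤ (Q : Subgroup G)} : ℤ) * c)
        = 0 := by
      have h1 : ∀ R ∈ PH, m R * ((Nat.card {Q : Sylow p G // R ≤ (Q : Subgroup G)} : ℤ) * c) =
          ∑ Q : Sylow p G, if R ≤ (Q : Subgroup G) then m R * c else 0 := by
        intro R _
        rw [hα R, Finset.sum_mul, Finset.mul_sum]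
        refine Finset.sum_congr rfl (fun Q _ => ?_)
        split_ifs <;> ring
      rw [Finset.sum_congr rfl h1, Finset.sum_comm]
      apply Finset.sum_eq_zero
      intro Q _
      rw [← Finset.sum_filter, ← Finset.sum_mul]
      by_cases hHQ : H ≤ (Q : Subgroup G)
      · have hfil : PH.filter (fun R => R ≤ (Q : Subgroup G)) = h4Ic H (Q : Subgroup G) := by
          ext R
          rw [Finset.mem_filter, hmemPH, h4_mem_Ic]
          constructor
          · rintro ⟨⟨h1, _⟩, h2⟩; exact ⟨h1, h2⟩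
          · rintro ⟨h1, h2⟩; exact ⟨⟨h1, Q.isPGroup'.to_le h2⟩, h2⟩
        rw [hfil, hm _ hHQ, if_neg (hns Q), zero_mul]
      · have hfil : PH.filter (fun R => R ≤ (Q : Subgroup G)) = ∅ := by
          ext R
          rw [Finset.mem_filter, hmemPH]
          simp only [Finset.notMem_empty, iff_false]
          rintro ⟨⟨h1, _⟩, h2⟩
          exact hHQ (h1.trans h2)
        rw [hfil, Finset.sum_empty, zero_mul]
    rw [hzero, zero_add]
  -- second evaluation
  have hZ2 : ∑ R ∈ PH, m R * (Nat.card {g : G // Inv p R g} : ℤ) = 0 := by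
    have h1 : ∀ R ∈ PH, m R * (Nat.card {g : G // Inv p R g} : ℤ) =
        ∑ g : G, if Inv p R g then m R else 0 := by
      intro R _
      rw [hE R, Finset.mul_sum]
      refine Finset.sum_congr rfl (fun g _ => ?_)
      split_ifs <;> simp
    rw [Finset.sum_congr rfl h1, Finset.sum_comm]
    have hσ : ∀ g : G, ∑ R ∈ PH, (if Inv p R g then m R else 0) =
        ∑ R ∈ PH, (if (g ∈ N ∧ R ≤ N ∧ Inv p R g) then m R else 0) := by
      intro g
      by_cases hgN : g ∈ N
      · refine Finset.sum_congr rfl (fun R hR => ?_)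
        rw [hmemPH] at hR
        by_cases hRN : R ≤ N
        · by_cases hI : Inv p R g
          · rw [if_pos hI, if_pos ⟨hgN, hRN, hI⟩]
          · rw [if_neg hI, if_neg (fun h => hI h.2.2)]
        · have h2 := h4_mu_vanish p H m hm R hR.2 hR.1 (by rw [← hN]; exact hRN)
          rw [if_neg (show ¬ (g ∈ N ∧ R ≤ N ∧ Inv p R g) from fun h => hRN h.2.1), h2]
          simp
      · have hrhs : ∑ R ∈ PH, (if (g ∈ N ∧ R ≤ N ∧ Inv p R g) then m R else 0) = 0 := by
          apply Finset.sum_eq_zero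
          intro R _
          rw [if_neg (fun h => hgN h.1)]
        rw [hrhs, ← Finset.sum_filter]
        set K := H ⊔ H.map (MulAut.conj g).toMonoidHom with hK
        have hHK : H ≤ K := le_sup_left
        have hKne : K ≠ H := by
          intro h
          apply hgN
          rw [hN]
          apply Cfsg.Agent.S1900.mem_normalizer_of_conj_mem
          intro y hy
          have h3 : g * y * g⁻¹ ∈ K :=
            (le_sup_right : H.map (MulAut.conj g).toMonoidHom ≤ K) ⟨y, hy, rfl⟩
          rwa [h] at h3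
        apply h4_ideal_sum H m hm K hHK hKne
        · intro R hR
          rw [Finset.mem_filter, hmemPH] at hR
          exact hR.1.1
        · intro R hR R' hHR' hR'R
          rw [Finset.mem_filter, hmemPH] at hR ⊢
          obtain ⟨⟨_, hRp⟩, T, hRT, hTp, hgT⟩ := hR
          exact ⟨⟨hHR', hRp.to_le hR'R⟩, T, hR'R.trans hRT, hTp, hgT⟩
        · intro R hR
          rw [Finset.mem_filter, hmemPH] at hR ⊢
          obtain ⟨⟨hHR, hRp⟩, T, hRT, hTp, hgT⟩ := hR
          have hKT : K ≤ T := by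
            refine sup_le (hHR.trans hRT) ?_
            rintro _ ⟨y, hy, rfl⟩
            exact (Subgroup.mem_normalizer_iff.1 hgT y).1 (hRT (hHR hy))
          have hle : R ⊔ K ≤ T := sup_le hRT hKT
          exact ⟨⟨hHR.trans le_sup_left, hTp.to_le hle⟩, T, hle, hTp, hgT⟩
    rw [Finset.sum_congr rfl (fun g _ => hσ g), Finset.sum_comm]
    obtain ⟨P'₀⟩ : Nonempty (Sylow p ↥N) := inferInstance
    set cN : ℤ := (Nat.card (Subgroup.normalizer ((P'₀ : Subgroup ↥N) : Set ↥N)) : ℤ) with hcN
    have hR1 : ∀ R ∈ PH, ∑ g : G, (if (g ∈ N ∧ R ≤ N ∧ Inv p R g) then m R else 0) =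
        ∑ Q' : Sylow p ↥N,
          (if (R ≤ N ∧ R.subgroupOf N ≤ (Q' : Subgroup ↥N)) then m R * cN else 0) := by
      intro R hR
      rw [hmemPH] at hR
      by_cases hRN : R ≤ N
      · have hcount : (∑ g : G, (if (g ∈ N ∧ Inv p R g) then (1 : ℤ) else 0)) =
            (Nat.card {g : ↥N // Inv p (R.subgroupOf N) g} : ℤ) := by
          rw [← card_inv_sub p N R hRN, Nat.card_eq_fintype_card, Fintype.card_subtype,
            Finset.card_filter, Nat.cast_sum]
          refine Finset.sum_congr rfl (fun g _ => ?_)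
          split_ifs <;> simp
        have hαN : (Nat.card {Q : Sylow p ↥N // R.subgroupOf N ≤ (Q : Subgroup ↥N)} : ℤ) =
            ∑ Q' : Sylow p ↥N, if R.subgroupOf N ≤ (Q' : Subgroup ↥N) then (1 : ℤ) else 0 := by
          rw [Nat.card_eq_fintype_card, Fintype.card_subtype, Finset.card_filter, Nat.cast_sum]
          refine Finset.sum_congr rfl (fun g _ => ?_)
          split_ifs <;> simp
        have hIH := IHout (R.subgroupOf N) hR.2.comap_subtype P'₀
        calc ∑ g : G, (if (g ∈ N ∧ R ≤ N ∧ Inv p R g) then m R else 0)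
            = m R * ∑ g : G, (if (g ∈ N ∧ Inv p R g) then (1 : ℤ) else 0) := by
              rw [Finset.mul_sum]
              refine Finset.sum_congr rfl (fun g _ => ?_)
              by_cases h : g ∈ N ∧ Inv p R g
              · rw [if_pos h, if_pos ⟨h.1, hRN, h.2⟩, mul_one]
              · rw [if_neg h, if_neg (fun h' => h ⟨h'.1, h'.2.2⟩), mul_zero]
          _ = m R * ((Nat.card {Q : Sylow p ↥N // R.subgroupOf N ≤ (Q : Subgroup ↥N)} : ℤ)
                * cN) := by
              rw [hcount, hIH, hcN]; push_cast; ring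
          _ = ∑ Q' : Sylow p ↥N,
                (if (R ≤ N ∧ R.subgroupOf N ≤ (Q' : Subgroup ↥N)) then m R * cN else 0) := by
              rw [hαN, Finset.sum_mul, Finset.mul_sum]
              refine Finset.sum_congr rfl (fun Q' _ => ?_)
              by_cases h : R.subgroupOf N ≤ (Q' : Subgroup ↥N)
              · rw [if_pos h, if_pos ⟨hRN, h⟩]; ring
              · rw [if_neg h, if_neg (fun h' => h h'.2)]; ring
      · have e1 : ∑ g : G, (if (g ∈ N ∧ R ≤ N ∧ Inv p R g) then m R else 0) = 0 :=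
          Finset.sum_eq_zero (fun g _ => if_neg (fun h => hRN h.2.1))
        have e2 : ∑ Q' : Sylow p ↥N,
            (if (R ≤ N ∧ R.subgroupOf N ≤ (Q' : Subgroup ↥N)) then m R * cN else 0) = 0 :=
          Finset.sum_eq_zero (fun Q' _ => if_neg (fun h => hRN h.1))
        rw [e1, e2]
    rw [Finset.sum_congr rfl hR1, Finset.sum_comm]
    apply Finset.sum_eq_zero
    intro Q' _
    rw [← Finset.sum_filter, ← Finset.sum_mul]
    have hQ''N : (Q' : Subgroup ↥N).map N.subtype ≤ N := Subgroup.map_subtype_le _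
    have hequiv : ∀ R : Subgroup G, (R ≤ N ∧ R.subgroupOf N ≤ (Q' : Subgroup ↥N)) ↔
        R ≤ (Q' : Subgroup ↥N).map N.subtype := by
      intro R
      constructor
      · rintro ⟨h1, h2⟩ x hx
        exact ⟨⟨x, h1 hx⟩, h2 (by rw [Subgroup.mem_subgroupOf]; exact hx), rfl⟩
      · intro h
        refine ⟨h.trans hQ''N, ?_⟩
        intro y hy
        rw [Subgroup.mem_subgroupOf] at hy
        obtain ⟨z, hz, hzy⟩ := h hy
        have h3 : z = y := Subtype.ext hzy
        rw [← h3]; exact hz
    by_cases hHQ : H ≤ (Q' : Subgroup ↥N).map N.subtype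
    · have hfil : PH.filter (fun R => R ≤ N ∧ R.subgroupOf N ≤ (Q' : Subgroup ↥N)) =
          h4Ic H ((Q' : Subgroup ↥N).map N.subtype) := by
        ext R
        rw [Finset.mem_filter, hmemPH, h4_mem_Ic, hequiv]
        constructor
        · rintro ⟨⟨h1, _⟩, h2⟩; exact ⟨h1, h2⟩
        · rintro ⟨h1, h2⟩; exact ⟨⟨h1, (Q'.isPGroup'.map _).to_le h2⟩, h2⟩
      rw [hfil, hm _ hHQ, if_neg (not_sylow_normalizer p H hH hns N hN Q'), zero_mul]
    · have hfil : PH.filter (fun R => R ≤ N ∧ R.subgroupOf N ≤ (Q' : Subgroup ↥N)) = ∅ := by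
        ext R
        rw [Finset.mem_filter, hmemPH, hequiv]
        simp only [Finset.notMem_empty, iff_false]
        rintro ⟨⟨h1, _⟩, h2⟩
        exact hHQ (h1.trans h2)
      rw [hfil, Finset.sum_empty, zero_mul]
  have hfin : (Nat.card {g : G // Inv p H g} : ℤ) =
      ((Nat.card {Q : Sylow p G // H ≤ (Q : Subgroup G)} *
        Nat.card (Subgroup.normalizer ((P : Subgroup G) : Set G)) : ℕ) : ℤ) := by
    have h3 := hZ1.symm.trans hZ2
    push_cast
    rw [hc] at h3
    linarith
  exact_mod_cast hfin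

theorem main (p : ℕ) [Fact p.Prime] : ∀ n : ℕ, ∀ (G : Type u) [Group G] [Finite G],
    Nat.card G = n → ∀ (H : Subgroup G), IsPGroup p H → ∀ P : Sylow p G,
      Nat.card {g : G // Inv p H g} = Nat.card {Q : Sylow p G // H ≤ (Q : Subgroup G)} *
        Nat.card (Subgroup.normalizer ((P : Subgroup G) : Set G)) := by
  intro n
  induction n using Nat.strong_induction_on with
  | _ n ih =>
    intro G _ _ hn H hH P
    have inner : ∀ d : ℕ, ∀ H : Subgroup G, IsPGroup p H → Nat.card G - Nat.card H = d →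
        Nat.card {g : G // Inv p H g} = Nat.card {Q : Sylow p G // H ≤ (Q : Subgroup G)} *
          Nat.card (Subgroup.normalizer ((P : Subgroup G) : Set G)) := by
      intro d
      induction d using Nat.strong_induction_on with
      | _ d ihd =>
        intro H hH hd
        by_cases hnn : H.Normal
        · exact case_normal p H hH hnn P
        by_cases hs : ∃ Q : Sylow p G, (Q : Subgroup G) = H
        · obtain ⟨Q₀, rfl⟩ := hs
          exact case_sylow p Q₀ P
        push_neg at hs
        refine case_main p H hH P hs ?_ (Subgroup.normalizer (H : Set G)) rfl ?_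
        · intro R hR hlt
          have hcard : Nat.card H < Nat.card R :=
            lt_of_not_ge (fun h => (ne_of_lt hlt) (Subgroup.eq_of_le_of_card_ge hlt.le h))
          have hRG : Nat.card R ≤ Nat.card G := Subgroup.card_le_card_group R
          exact ihd (Nat.card G - Nat.card R) (by omega) R hR rfl
        · intro H' hH' P'
          have hne : Subgroup.normalizer (H : Set G) ≠ ⊤ :=
            fun h => hnn (Subgroup.normalizer_eq_top_iff.1 h)
          have hNlt : Nat.card ↥(Subgroup.normalizer (H : Set G)) < n := by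
            rw [← hn]
            exact lt_of_not_ge (fun h => hne ((Subgroup.card_eq_iff_eq_top _).1
              (le_antisymm (Subgroup.card_le_card_group _) h)))
          exact ih _ hNlt ↥(Subgroup.normalizer (H : Set G)) rfl H' hH' P'
    exact inner _ H hH rfl

theorem card_fiber {X Y : Type*} [Finite X] [Finite Y] (f : X → Y) (c : ℕ)
    (h : ∀ y : Y, Nat.card {x : X // f x = y} = c) : Nat.card X = Nat.card Y * c := by
  classical
  letI : Fintype Y := Fintype.ofFinite Y
  rw [← Nat.card_congr (Equiv.sigmaFiberEquiv f), Nat.card_sigma]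
  simp only [h]
  rw [Finset.sum_const, Finset.card_univ, smul_eq_mul, Nat.card_eq_fintype_card]

theorem map_conj_mul {G : Type*} [Group G] (A : Subgroup G) (a b : G) :
    A.map (MulAut.conj (a * b)).toMonoidHom =
      (A.map (MulAut.conj b).toMonoidHom).map (MulAut.conj a).toMonoidHom := by
  ext x
  rw [Cfsg.Agent.S0615.mem_map_conj, Cfsg.Agent.S0615.mem_map_conj,
    Cfsg.Agent.S0615.mem_map_conj]
  have e : (a * b)⁻¹ * x * (a * b) = b⁻¹ * (a⁻¹ * x * a) * b := by group
  rw [e]

theorem map_conj_one {G : Type*} [Group G] (A : Subgroup G) :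
    A.map (MulAut.conj (1 : G)).toMonoidHom = A := by
  ext x
  rw [Cfsg.Agent.S0615.mem_map_conj]; simp

theorem mem_normalizer_of_map_conj {G : Type*} [Group G] [Finite G] (A : Subgroup G) (g : G)
    (h : A.map (MulAut.conj g).toMonoidHom = A) : g ∈ Subgroup.normalizer (A : Set G) := by
  apply Cfsg.Agent.S1900.mem_normalizer_of_conj_mem
  intro y hy
  have h1 : g * y * g⁻¹ ∈ A.map (MulAut.conj g).toMonoidHom := ⟨y, hy, rfl⟩
  rwa [h] at h1

theorem countX2 {G : Type*} [Group G] [Finite G] (H P : Subgroup G) :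
    Nat.card {x : G // H.map (MulAut.conj x).toMonoidHom ≤ P} =
      Nat.card {K : Subgroup G // K ≤ P ∧ ∃ g : G, K = H.map (MulAut.conj g).toMonoidHom} *
        Nat.card (Subgroup.normalizer (H : Set G)) := by
  apply card_fiber (fun x : {x : G // H.map (MulAut.conj x).toMonoidHom ≤ P} =>
    (⟨H.map (MulAut.conj x.1).toMonoidHom, x.2, x.1, rfl⟩ :
      {K : Subgroup G // K ≤ P ∧ ∃ g : G, K = H.map (MulAut.conj g).toMonoidHom}))
  rintro ⟨K, hKP, g₀, rfl⟩
  have key : ∀ n : ↥(Subgroup.normalizer (H : Set G)),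
      H.map (MulAut.conj (g₀ * n.1)).toMonoidHom = H.map (MulAut.conj g₀).toMonoidHom := by
    intro n
    rw [map_conj_mul, Cfsg.Agent.S0615.map_conj_eq_self n.2]
  apply Nat.card_congr
  refine {
    toFun := fun x => ⟨g₀⁻¹ * x.1.1, ?_⟩
    invFun := fun n => ⟨⟨g₀ * n.1, (key n).le.trans hKP⟩, Subtype.ext (key n)⟩
    left_inv := ?_
    right_inv := ?_ }
  · apply mem_normalizer_of_map_conj
    have h1 : H.map (MulAut.conj x.1.1).toMonoidHom = H.map (MulAut.conj g₀).toMonoidHom :=
      congrArg Subtype.val x.2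
    rw [map_conj_mul, h1, ← map_conj_mul, inv_mul_cancel, map_conj_one]
  · intro x
    apply Subtype.ext; apply Subtype.ext
    simp
  · intro n
    apply Subtype.ext
    simp

theorem le_smul_iff {G : Type*} [Group G] (p : ℕ) [Fact p.Prime] (H : Subgroup G) (P : Sylow p G)
    (x : G) :
    H ≤ ((x⁻¹ • P : Sylow p G) : Subgroup G) ↔ H.map (MulAut.conj x).toMonoidHom ≤ P := by
  rw [Sylow.coe_subgroup_smul]
  constructor
  · rintro h _ ⟨y, hy, rfl⟩
    have h1 := h hy
    rw [Subgroup.mem_pointwise_smul_iff_inv_smul_mem] at h1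
    simpa [MulAut.smul_def] using h1
  · intro h y hy
    rw [Subgroup.mem_pointwise_smul_iff_inv_smul_mem]
    have h1 := h ⟨y, hy, rfl⟩
    simpa [MulAut.smul_def] using h1

theorem countX1 {G : Type*} [Group G] [Finite G] (p : ℕ) [Fact p.Prime] (H : Subgroup G)
    (P : Sylow p G) :
    Nat.card {x : G // H.map (MulAut.conj x).toMonoidHom ≤ P} =
      Nat.card {Q : Sylow p G // H ≤ (Q : Subgroup G)} *
        Nat.card (Subgroup.normalizer ((P : Subgroup G) : Set G)) := by
  apply card_fiber (fun x : {x : G // H.map (MulAut.conj x).toMonoidHom ≤ P} =>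
    (⟨x.1⁻¹ • P, (le_smul_iff p H P x.1).2 x.2⟩ : {Q : Sylow p G // H ≤ (Q : Subgroup G)}))
  rintro ⟨Q, hQ⟩
  obtain ⟨g, rfl⟩ := MulAction.exists_smul_eq G P Q
  have key : ∀ n : ↥(Subgroup.normalizer ((P : Subgroup G) : Set G)),
      (n.1 * g⁻¹)⁻¹ • P = g • P := by
    intro n
    have h1 : (n.1)⁻¹ • P = P :=
      Sylow.smul_eq_iff_mem_normalizer.2 (inv_mem n.2)
    rw [mul_inv_rev, inv_inv, mul_smul, h1]
  apply Nat.card_congr
  refine {
    toFun := fun x => ⟨x.1.1 * g, ?_⟩
    invFun := fun n => ⟨⟨n.1 * g⁻¹, (le_smul_iff p H P _).1 (by rw [key n]; exact hQ)⟩,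
      Subtype.ext (key n)⟩
    left_inv := ?_
    right_inv := ?_ }
  · have h1 : x.1.1⁻¹ • P = g • P := congrArg Subtype.val x.2
    have h2 : (x.1.1 * g) • P = P := by
      calc (x.1.1 * g) • P = x.1.1 • (g • P) := mul_smul _ _ _
        _ = x.1.1 • (x.1.1⁻¹ • P) := (congrArg (fun Q : Sylow p G => x.1.1 • Q) h1).symm
        _ = P := smul_inv_smul _ _
    exact Sylow.smul_eq_iff_mem_normalizer.1 h2
  · intro x
    apply Subtype.ext; apply Subtype.ext
    simp
  · intro n
    apply Subtype.ext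
    simp

/-- Let G be a finite group, p a prime dividing the order of G, H a p-subgroup of G and P a Sylow p-subgroup of G. Call the subnormalizer of H the set of elements g of G such that H is subnormal in the subgroup generated by H and g. Then the number of elements of the subnormalizer of H equals the number of Sylow p-subgroups of G containing H times the order of N_G(P), and also equals the number of conjugates of H contained in P times the order of N_G(H). -/
theorem result {G : Type*} [Group G] [Finite G] (p : ℕ) [Fact p.Prime]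
    (hp : p ∣ Nat.card G) (H : Subgroup G) (hH : IsPGroup p H) (P : Sylow p G) :
    Nat.card {g : G // ((H).subgroupOf (H ⊔ Subgroup.zpowers g)).IsSubnormal} =
        Nat.card {Q : Sylow p G // H ≤ (Q : Subgroup G)} * Nat.card (Subgroup.normalizer ((P : Subgroup G) : Set G)) ∧
    Nat.card {g : G // ((H).subgroupOf (H ⊔ Subgroup.zpowers g)).IsSubnormal} =
        Nat.card {K : Subgroup G // K ≤ (P : Subgroup G) ∧ ∃ g : G, K = H.map (MulAut.conj g).toMonoidHom} *
          Nat.card (Subgroup.normalizer (H : Set G)) := by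
  classical
  have hE : Nat.card {g : G // ((H).subgroupOf (H ⊔ Subgroup.zpowers g)).IsSubnormal} =
      Nat.card {g : G // Inv p H g} :=
    Nat.card_congr (Equiv.subtypeEquivRight (fun g => sn_iff_inv p H hH g))
  have h1 := main p (Nat.card G) G rfl H hH P
  have hX1 := countX1 p H P
  have hX2 := countX2 H (P : Subgroup G)
  refine ⟨by rw [hE, h1], by rw [hE, h1, ← hX1, hX2]⟩

end Cfsg.Agent.S4088
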