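import Mathlib
import Cfsg.Statements.S3381
import Cfsg.Agent.S4088
import Cfsg.Agent.S4178

set_option autoImplicit false
open Cfsg

namespace Cfsg.Agent.S3381

section
variable {q : ℕ} [Fact q.Prime] {V : Type*} [AddCommGroup V] [Module (ZMod q) V]
  {G : Type*} [Group G] (ρ : G →* (V ≃ₗ[ZMod q] V))

theorem rho_mul (a b : G) (v : V) : ρ (a * b) v = ρ a (ρ b v) := by
  rw [map_mul]; rfl

theorem rho_one (v : V) : ρ 1 v = v := by
  rw [map_one]; rfl

/-- the stabiliser of a nonzero vector is `{1, t}` -/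
theorem stab (hstab : ∀ v : V, v ≠ 0 → Nat.card {g : G // ρ g v = v} = 2) (v : V) (hv : v ≠ 0) :
    ∃ t : G, t ≠ 1 ∧ ρ t v = v ∧ ∀ g : G, ρ g v = v → g = 1 ∨ g = t := by
  obtain ⟨x, y, hxy, huniv⟩ := Nat.card_eq_two_iff.1 (hstab v hv)
  have hmem : ∀ w : {g : G // ρ g v = v}, w = x ∨ w = y := by
    intro w
    have : w ∈ ({x, y} : Set _) := by rw [huniv]; trivial
    simpa using this
  have h1 : ρ 1 v = v := rho_one ρ v
  rcases hmem ⟨1, h1⟩ with h | h
  · refine ⟨y.1, ?_, y.2, ?_⟩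
    · intro hy
      apply hxy
      rw [← h]; exact Subtype.ext hy.symm
    · intro g hg
      rcases hmem ⟨g, hg⟩ with h' | h'
      · left; exact congrArg Subtype.val (h'.trans h.symm)
      · right; exact congrArg Subtype.val h'
  · refine ⟨x.1, ?_, x.2, ?_⟩
    · intro hx
      apply hxy
      rw [← h]; exact Subtype.ext hx
    · intro g hg
      rcases hmem ⟨g, hg⟩ with h' | h'
      · right; exact congrArg Subtype.val h'
      · left; exact congrArg Subtype.val (h'.trans h.symm)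

theorem central_neg (hstab : ∀ v : V, v ≠ 0 → Nat.card {g : G // ρ g v = v} = 2)
    (c : G) (hc2 : c * c = 1) (hc1 : c ≠ 1) (hcc : ∀ g : G, g * c = c * g) (u : V)
    (hu : ρ c u ≠ u) : ρ c u + u = 0 := by
  by_contra hw
  have hu0 : u ≠ 0 := by rintro rfl; exact hu (map_zero _)
  obtain ⟨t, ht1, htu, -⟩ := stab ρ hstab u hu0
  obtain ⟨s, -, -, hsuniq⟩ := stab ρ hstab _ hw
  have h1 : ρ c (ρ c u + u) = ρ c u + u := by
    rw [map_add, ← rho_mul, hc2, rho_one, add_comm]
  have h2 : ρ t (ρ c u + u) = ρ c u + u := by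
    rw [map_add, ← rho_mul, hcc t, rho_mul, htu]
  have h3 : c = s := (hsuniq c h1).resolve_left hc1
  have h4 : t = s := (hsuniq t h2).resolve_left ht1
  exact hu (by rw [h3, ← h4]; exact htu)

theorem central_no_fixed (hρ : Function.Injective ρ)
    (hstab : ∀ v : V, v ≠ 0 → Nat.card {g : G // ρ g v = v} = 2)
    (c : G) (hc2 : c * c = 1) (hc1 : c ≠ 1) (hcc : ∀ g : G, g * c = c * g) (v₀ : V)
    (hv₀ : v₀ ≠ 0) : ρ c v₀ ≠ v₀ := by
  intro hfix
  have hex : ∃ u₁ : V, ρ c u₁ ≠ u₁ := by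
    by_contra h
    push_neg at h
    apply hc1
    apply hρ
    rw [map_one]
    ext v
    exact h v
  obtain ⟨u₁, hu₁⟩ := hex
  have e1 := central_neg ρ hstab c hc2 hc1 hcc u₁ hu₁
  have hu₂ : ρ c (u₁ + v₀) ≠ u₁ + v₀ := by
    rw [map_add, hfix]
    intro h
    exact hu₁ (add_right_cancel h)
  have e2 := central_neg ρ hstab c hc2 hc1 hcc (u₁ + v₀) hu₂
  rw [map_add, hfix] at e2
  have e3 : v₀ + v₀ = 0 := by
    have e : ρ c u₁ + v₀ + (u₁ + v₀) = (ρ c u₁ + u₁) + (v₀ + v₀) := by abel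
    rw [e, e1, zero_add] at e2
    exact e2
  have e4 : (2 : ZMod q) • v₀ = 0 := by rw [two_smul]; exact e3
  have e5 : (2 : ZMod q) = 0 := (smul_eq_zero.1 e4).resolve_right hv₀
  have e6 : u₁ + u₁ = 0 := by rw [← two_smul (ZMod q), e5, zero_smul]
  apply hu₁
  have e7 : ρ c u₁ = -u₁ := eq_neg_of_add_eq_zero_left e1
  rw [e7]; exact (eq_neg_of_add_eq_zero_left e6).symm

/-- the fixed space of `t` -/
def fixSub (t : G) : Submodule (ZMod q) V :=
  LinearMap.ker ((ρ t).toLinearMap - LinearMap.id)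

theorem mem_fixSub (t : G) (v : V) : v ∈ fixSub ρ t ↔ ρ t v = v := by
  rw [fixSub, LinearMap.mem_ker, LinearMap.sub_apply, sub_eq_zero]; rfl

end

/-- Let G be a finite group acting faithfully and linearly on a non-trivial finite vector space V over the field with q elements (q prime) so that every non-zero vector has a stabilizer of order 2, and suppose G has a central involution. Then V has q^(2r) elements for some r and G contains exactly q^r + 1 non-central involutions. -/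
theorem result
    (q : ℕ) [Fact q.Prime] {V : Type*} [AddCommGroup V] [Module (ZMod q) V] [Finite V] [Nontrivial V]
    {G : Type*} [Group G] [Finite G] (ρ : G →* (V ≃ₗ[ZMod q] V)) (hρ : Function.Injective ρ)
    (hstab : ∀ v : V, v ≠ 0 → Nat.card {g : G // ρ g v = v} = 2)
    (z : G) (hz : orderOf z = 2) (hzc : z ∈ Subgroup.center G) :
    ∃ r : ℕ, Nat.card V = q ^ (2 * r) ∧
      Nat.card {g : G // orderOf g = 2 ∧ g ∉ Subgroup.center G} = q ^ r + 1 := by
  classical
  haveI : Module.Finite (ZMod q) V := Module.Finite.of_finite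
  have hz1 : z ≠ 1 := by
    rintro rfl
    rw [orderOf_one] at hz
    exact absurd hz (by norm_num)
  have hz2 : z * z = 1 := by
    rw [← pow_two, ← hz]; exact pow_orderOf_eq_one z
  have hzc' : ∀ g : G, g * z = z * g := fun g => Subgroup.mem_center_iff.1 hzc g
  have hnofix := central_no_fixed ρ hρ hstab z hz2 hz1 hzc'
  have hneg : ∀ v : V, ρ z v = -v := by
    intro v
    by_cases hv : v = 0
    · rw [hv, map_zero, neg_zero]
    · exact eq_neg_of_add_eq_zero_left
        (central_neg ρ hstab z hz2 hz1 hzc' v (hnofix v hv))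
  have h2 : ∀ v : V, v + v = 0 → v = 0 := by
    intro v h
    by_contra hv
    apply hnofix v hv
    rw [hneg]; exact (eq_neg_of_add_eq_zero_left h).symm
  have hinv : ∀ g : G, orderOf g = 2 → g * g = 1 ∧ g ≠ 1 := by
    intro g hg
    refine ⟨by rw [← pow_two, ← hg]; exact pow_orderOf_eq_one g, ?_⟩
    rintro rfl
    rw [orderOf_one] at hg
    exact absurd hg (by norm_num)
  have hτ : ∀ v : {v : V // v ≠ 0},
      ∃ t : {g : G // orderOf g = 2 ∧ g ∉ Subgroup.center G},
      ρ t.1 v.1 = v.1 ∧ ∀ g : G, ρ g v.1 = v.1 → g = 1 ∨ g = t.1 := by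
    rintro ⟨v, hv⟩
    obtain ⟨t, ht1, htv, htuniq⟩ := stab ρ hstab v hv
    have htt : t * t = 1 := by
      have h3 : ρ (t * t) v = v := by rw [rho_mul, htv, htv]
      rcases htuniq _ h3 with h | h
      · exact h
      · exfalso; apply ht1
        have h4 : t * t = t * 1 := by rw [mul_one]; exact h
        exact mul_left_cancel h4
    have hto : orderOf t = 2 := orderOf_eq_prime (by rw [pow_two]; exact htt) ht1
    refine ⟨⟨t, hto, ?_⟩, htv, htuniq⟩
    intro htc
    exact central_no_fixed ρ hρ hstab t htt ht1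
      (fun g => Subgroup.mem_center_iff.1 htc g) v hv htv
  choose τ hτ1 hτ2 using hτ
  have hτuniq : ∀ (v : {v : V // v ≠ 0})
      (t : {g : G // orderOf g = 2 ∧ g ∉ Subgroup.center G}), ρ t.1 v.1 = v.1 → τ v = t := by
    intro v t ht
    apply Subtype.ext
    rcases hτ2 v t.1 ht with h | h
    · exact absurd h (hinv t.1 t.2.1).2
    · exact h.symm
  have hfixne : ∀ t : {g : G // orderOf g = 2 ∧ g ∉ Subgroup.center G},
      ∃ w : V, w ≠ 0 ∧ ρ t.1 w = w := by
    intro t
    obtain ⟨htt, ht1⟩ := hinv t.1 t.2.1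
    by_contra hcon
    push_neg at hcon
    have h3 : ∀ v : V, ρ t.1 v + v = 0 := by
      intro v
      by_contra h
      apply hcon _ h
      rw [map_add, ← rho_mul, htt, rho_one, add_comm]
    have h4 : t.1 = z := by
      apply hρ
      ext v
      rw [hneg]
      exact eq_neg_of_add_eq_zero_left (h3 v)
    exact t.2.2 (h4 ▸ hzc)
  have hmulz : ∀ t : {g : G // orderOf g = 2 ∧ g ∉ Subgroup.center G},
      orderOf (t.1 * z) = 2 ∧ t.1 * z ∉ Subgroup.center G := by
    intro t
    obtain ⟨htt, ht1⟩ := hinv t.1 t.2.1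
    constructor
    · apply orderOf_eq_prime
      · rw [pow_two]
        calc t.1 * z * (t.1 * z) = t.1 * (z * t.1) * z := by group
          _ = t.1 * (t.1 * z) * z := by rw [hzc' t.1]
          _ = (t.1 * t.1) * (z * z) := by group
          _ = 1 := by rw [htt, hz2, one_mul]
      · intro h
        apply t.2.2
        have h5 : t.1 * z = z * z := by rw [h, hz2]
        rw [mul_right_cancel h5]; exact hzc
    · intro h
      apply t.2.2
      have h5 : t.1 = (t.1 * z) * z := by rw [mul_assoc, hz2, mul_one]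
      rw [h5]
      exact Subgroup.mul_mem _ h hzc
  have hinf : ∀ s t : G, (∀ v : V, ρ s v = v → ρ t v = v → v = 0) →
      Module.finrank (ZMod q) (fixSub ρ s) + Module.finrank (ZMod q) (fixSub ρ t) ≤
        Module.finrank (ZMod q) V := by
    intro s t h
    have h3 : fixSub ρ s ⊓ fixSub ρ t = ⊥ := by
      rw [eq_bot_iff]
      rintro v ⟨hs, ht⟩
      rw [SetLike.mem_coe, mem_fixSub] at hs ht
      rw [Submodule.mem_bot]
      exact h v hs ht
    have h4 := Submodule.finrank_sup_add_finrank_inf_eq (fixSub ρ s) (fixSub ρ t)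
    rw [h3, finrank_bot, add_zero] at h4
    rw [← h4]
    exact Submodule.finrank_le _
  have hdist : ∀ s t : {g : G // orderOf g = 2 ∧ g ∉ Subgroup.center G}, s ≠ t →
      Module.finrank (ZMod q) (fixSub ρ s.1) + Module.finrank (ZMod q) (fixSub ρ t.1) ≤
        Module.finrank (ZMod q) V := by
    intro s t hst
    apply hinf
    intro v hs ht
    by_contra hv
    exact hst ((hτuniq ⟨v, hv⟩ s hs).symm.trans (hτuniq ⟨v, hv⟩ t ht))
  have hcompl : ∀ t : {g : G // orderOf g = 2 ∧ g ∉ Subgroup.center G},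
      Module.finrank (ZMod q) (fixSub ρ t.1) + Module.finrank (ZMod q) (fixSub ρ (t.1 * z)) =
        Module.finrank (ZMod q) V := by
    intro t
    obtain ⟨htt, ht1⟩ := hinv t.1 t.2.1
    apply le_antisymm
    · apply hinf
      intro v h1 h2'
      rw [rho_mul, hneg, map_neg, h1] at h2'
      apply h2
      nth_rewrite 1 [← h2']; exact neg_add_cancel v
    · have hrn := LinearMap.finrank_range_add_finrank_ker
        ((ρ t.1).toLinearMap + LinearMap.id : V →ₗ[ZMod q] V)
      have hr : LinearMap.range ((ρ t.1).toLinearMap + LinearMap.id : V →ₗ[ZMod q] V) ≤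
          fixSub ρ t.1 := by
        rintro _ ⟨v, rfl⟩
        rw [mem_fixSub]
        show ρ t.1 (ρ t.1 v + v) = ρ t.1 v + v
        rw [map_add, ← rho_mul, htt, rho_one, add_comm]
      have hk : LinearMap.ker ((ρ t.1).toLinearMap + LinearMap.id : V →ₗ[ZMod q] V) ≤
          fixSub ρ (t.1 * z) := by
        intro v hv
        rw [LinearMap.mem_ker] at hv
        have hv' : ρ t.1 v + v = 0 := hv
        rw [mem_fixSub, rho_mul, hneg, map_neg]
        have h5 : ρ t.1 v = -v := eq_neg_of_add_eq_zero_left hv'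
        rw [h5, neg_neg]
      have h5 := Submodule.finrank_mono hr
      have h6 := Submodule.finrank_mono hk
      omega
  have hhalf : ∀ t : {g : G // orderOf g = 2 ∧ g ∉ Subgroup.center G},
      2 * Module.finrank (ZMod q) (fixSub ρ t.1) = Module.finrank (ZMod q) V := by
    intro t
    obtain ⟨v₁, hv₁, hf₁⟩ := hfixne t
    obtain ⟨v₂, hv₂, hf₂⟩ := hfixne ⟨t.1 * z, hmulz t⟩
    have hf₂' : ρ t.1 v₂ = -v₂ := by
      have h3 : ρ (t.1 * z) v₂ = v₂ := hf₂
      rw [rho_mul, hneg, map_neg] at h3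
      exact neg_eq_iff_eq_neg.1 h3
    have hρv : ρ t.1 (v₁ + v₂) = v₁ + -v₂ := by rw [map_add, hf₁, hf₂']
    have hv : v₁ + v₂ ≠ 0 := by
      intro h
      apply hv₁
      apply h2
      have h3 : v₁ + -v₂ = 0 := by rw [← hρv, h, map_zero]
      have e : v₁ + v₁ = (v₁ + v₂) + (v₁ + -v₂) := by abel
      rw [e, h, h3, add_zero]
    have hs := hτ1 ⟨v₁ + v₂, hv⟩
    have hs' : ρ (τ ⟨v₁ + v₂, hv⟩).1 (v₁ + v₂) = v₁ + v₂ := hs
    have hne1 : τ ⟨v₁ + v₂, hv⟩ ≠ t := by
      intro h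
      rw [h, hρv] at hs'
      apply hv₂; apply h2
      have e : v₂ + v₂ = (v₁ + v₂) - (v₁ + -v₂) := by abel
      rw [e, hs', sub_self]
    have hne2 : τ ⟨v₁ + v₂, hv⟩ ≠ ⟨t.1 * z, hmulz t⟩ := by
      intro h
      rw [h] at hs'
      have h3 : ρ (t.1 * z) (v₁ + v₂) = -(v₁ + -v₂) := by
        rw [rho_mul, hneg, map_neg, hρv]
      rw [h3] at hs'
      apply hv₁; apply h2
      have e : v₁ + v₁ = (v₁ + v₂) - (-(v₁ + -v₂)) := by abel
      rw [e, hs', sub_self]
    have hne3 : (⟨(τ ⟨v₁ + v₂, hv⟩).1 * z, hmulz _⟩ :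
        {g : G // orderOf g = 2 ∧ g ∉ Subgroup.center G}) ≠ t := by
      intro h
      apply hne2
      apply Subtype.ext
      have h3 : (τ ⟨v₁ + v₂, hv⟩).1 * z = t.1 := congrArg Subtype.val h
      show (τ ⟨v₁ + v₂, hv⟩).1 = t.1 * z
      rw [← h3, mul_assoc, hz2, mul_one]
    have hne4 : (⟨(τ ⟨v₁ + v₂, hv⟩).1 * z, hmulz _⟩ :
        {g : G // orderOf g = 2 ∧ g ∉ Subgroup.center G}) ≠ ⟨t.1 * z, hmulz t⟩ := by
      intro h
      apply hne1
      apply Subtype.ext
      have h3 : (τ ⟨v₁ + v₂, hv⟩).1 * z = t.1 * z := congrArg Subtype.val h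
      exact mul_right_cancel h3
    have d1 := hdist _ _ hne1
    have d2 := hdist _ _ hne2
    have d3 := hdist _ _ hne3
    have d4 := hdist _ _ hne4
    have c1 := hcompl (τ ⟨v₁ + v₂, hv⟩)
    have c2 := hcompl t
    simp only at d1 d2 d3 d4
    omega
  obtain ⟨v₀, hv₀⟩ := exists_ne (0 : V)
  have hr1 : 0 < Module.finrank (ZMod q) (fixSub ρ (τ ⟨v₀, hv₀⟩).1) := by
    rw [Module.finrank_pos_iff_exists_ne_zero]
    exact ⟨⟨v₀, (mem_fixSub ρ _ _).2 (hτ1 ⟨v₀, hv₀⟩)⟩, fun h => hv₀ (congrArg Subtype.val h)⟩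
  have hcardV : Nat.card V = q ^ Module.finrank (ZMod q) V := by
    rw [Module.natCard_eq_pow_finrank (K := ZMod q), Nat.card_zmod]
  have hcardW : ∀ t : G, Nat.card (fixSub ρ t) = q ^ Module.finrank (ZMod q) (fixSub ρ t) := by
    intro t
    rw [Module.natCard_eq_pow_finrank (K := ZMod q), Nat.card_zmod]
  generalize hr : Module.finrank (ZMod q) (fixSub ρ (τ ⟨v₀, hv₀⟩).1) = r at hr1
  have hd : Module.finrank (ZMod q) V = 2 * r := by rw [← hhalf (τ ⟨v₀, hv₀⟩), hr]
  have hall : ∀ t : {g : G // orderOf g = 2 ∧ g ∉ Subgroup.center G},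
      Module.finrank (ZMod q) (fixSub ρ t.1) = r := by
    intro t
    have := hhalf t
    omega
  refine ⟨r, by rw [hcardV, hd], ?_⟩
  have hfib : ∀ t : {g : G // orderOf g = 2 ∧ g ∉ Subgroup.center G},
      Nat.card {v : {v : V // v ≠ 0} // τ v = t} = q ^ r - 1 := by
    intro t
    have e : {v : {v : V // v ≠ 0} // τ v = t} ≃ {w : ↥(fixSub ρ t.1) // w ≠ 0} :=
      { toFun := fun x => ⟨⟨x.1.1, (mem_fixSub ρ t.1 _).2 (by have h := hτ1 x.1; rw [x.2] at h; exact h)⟩,
          fun h => x.1.2 (congrArg Subtype.val h)⟩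
        invFun := fun w => ⟨⟨w.1.1, fun h => w.2 (Subtype.ext h)⟩,
          hτuniq _ t ((mem_fixSub ρ t.1 _).1 w.1.2)⟩
        left_inv := fun x => rfl
        right_inv := fun w => rfl }
    rw [Nat.card_congr e, Cfsg.Agent.S4178.card_ne, hcardW, hall t]
  have hcount := Cfsg.Agent.S4088.card_fiber τ (q ^ r - 1) hfib
  rw [Cfsg.Agent.S4178.card_ne, hcardV, hd] at hcount
  have hq : 2 ≤ q := (Fact.out : q.Prime).two_le
  have ha : 2 ≤ q ^ r := by
    calc 2 ≤ q := hq
      _ = q ^ 1 := (pow_one q).symm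
      _ ≤ q ^ r := Nat.pow_le_pow_right (by omega) hr1
  have e1 : q ^ (2 * r) = q ^ r * q ^ r := by rw [two_mul, pow_add]
  rw [e1] at hcount
  generalize q ^ r = a at ha hcount
  have e2 : a * a - 1 = (a + 1) * (a - 1) := by
    obtain ⟨b, rfl⟩ : ∃ b, a = b + 1 := ⟨a - 1, by omega⟩
    simp only [Nat.add_sub_cancel]
    ring_nf
    omega
  rw [e2] at hcount
  exact (Nat.eq_of_mul_eq_mul_right (by omega : 0 < a - 1) hcount).symm

end Cfsg.Agent.S3381
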