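import Mathlib
import Cfsg.Statements.S3494

namespace Cfsg.Agent.S3494

open MulAction

/-- the orbital of the pair `(α, ω)`. -/
def Orb (G : Type*) [Group G] {Ω : Type*} [MulAction G Ω] (α ω δ ε : Ω) : Prop :=
  ∃ g : G, g • α = δ ∧ g • ω = ε

section
variable {G : Type*} [Group G] {Ω : Type*} [MulAction G Ω] {α ω δ ε : Ω}

lemma Orb_smul (g : G) (h : Orb G α ω δ ε) : Orb G α ω (g • δ) (g • ε) := by
  obtain ⟨g', h1, h2⟩ := h
  exact ⟨g * g', by rw [mul_smul, h1], by rw [mul_smul, h2]⟩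

lemma Orb_inv_iff (g : G) : Orb G α ω δ (g • ε) ↔ Orb G α ω (g⁻¹ • δ) ε := by
  constructor
  · intro h
    have := Orb_smul g⁻¹ h
    rwa [inv_smul_smul] at this
  · intro h
    have := Orb_smul g h
    rwa [smul_inv_smul] at this

lemma Orb_self (α ω : Ω) : Orb G α ω α ω := ⟨1, one_smul _ _, one_smul _ _⟩

/-- the kernel of the stabiliser of `α` on the orbit of `ω`. -/
def Kk (G : Type*) [Group G] {Ω : Type*} [MulAction G Ω] (α ω : Ω) : Subgroup G where
  carrier := {k | k • α = α ∧ ∀ x, Orb G α ω α x → k • x = x}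
  one_mem' := ⟨one_smul _ _, fun x _ => one_smul _ _⟩
  mul_mem' := by
    intro a b ha hb
    exact ⟨by rw [mul_smul, hb.1, ha.1], fun x hx => by rw [mul_smul, hb.2 x hx, ha.2 x hx]⟩
  inv_mem' := by
    intro a ha
    exact ⟨by rw [inv_smul_eq_iff, ha.1], fun x hx => by rw [inv_smul_eq_iff, ha.2 x hx]⟩

lemma mem_Kk (k : G) : k ∈ Kk G α ω ↔ k • α = α ∧ ∀ x, Orb G α ω α x → k • x = x := Iff.rfl

lemma Kk_conj (s : G) (hs : s • α = α) (k : G) (hk : k ∈ Kk G α ω) : s * k * s⁻¹ ∈ Kk G α ω := by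
  have hs' : s⁻¹ • α = α := by rw [inv_smul_eq_iff, hs]
  refine ⟨by rw [mul_smul, mul_smul, hs', hk.1, hs], fun x hx => ?_⟩
  obtain ⟨g, hg1, hg2⟩ := hx
  have h1 : Orb G α ω α (s⁻¹ • x) := ⟨s⁻¹ * g, by rw [mul_smul, hg1, hs'], by rw [mul_smul, hg2]⟩
  rw [mul_smul, mul_smul, hk.2 _ h1, smul_inv_smul]

end

/-- the counting step: in-neighbourhoods and out-neighbourhoods have equal size. -/
lemma orb_back {G : Type*} [Group G] {Ω : Type*} [Fintype Ω] [MulAction G Ω] [IsPretransitive G Ω]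
    (α ω ε₀ : Ω) (hsub : ∀ δ, Orb G α ω α δ → Orb G α ω δ ε₀) :
    ∀ δ, Orb G α ω δ ε₀ → Orb G α ω α δ := by
  classical
  have hP : ∀ δ, (Finset.univ.filter (fun ε => Orb G α ω δ ε)).card
      = (Finset.univ.filter (fun ε => Orb G α ω α ε)).card := by
    intro δ
    obtain ⟨g, rfl⟩ := exists_smul_eq G α δ
    symm
    apply Finset.card_bij (fun ε _ => g • ε)
    · intro a ha
      rw [Finset.mem_filter] at ha ⊢
      exact ⟨Finset.mem_univ _, Orb_smul g ha.2⟩
    · intro a _ b _ hab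
      exact smul_left_cancel g hab
    · intro b hb
      rw [Finset.mem_filter] at hb
      refine ⟨g⁻¹ • b, ?_, smul_inv_smul g b⟩
      rw [Finset.mem_filter]
      refine ⟨Finset.mem_univ _, ?_⟩
      have := Orb_smul g⁻¹ hb.2
      rwa [inv_smul_smul] at this
  have hM : ∀ ε, (Finset.univ.filter (fun δ => Orb G α ω δ ε)).card
      = (Finset.univ.filter (fun δ => Orb G α ω δ ε₀)).card := by
    intro ε
    obtain ⟨g, rfl⟩ := exists_smul_eq G ε₀ ε
    symm
    apply Finset.card_bij (fun δ _ => g • δ)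
    · intro a ha
      rw [Finset.mem_filter] at ha ⊢
      exact ⟨Finset.mem_univ _, Orb_smul g ha.2⟩
    · intro a _ b _ hab
      exact smul_left_cancel g hab
    · intro b hb
      rw [Finset.mem_filter] at hb
      refine ⟨g⁻¹ • b, ?_, smul_inv_smul g b⟩
      rw [Finset.mem_filter]
      refine ⟨Finset.mem_univ _, ?_⟩
      have := Orb_smul g⁻¹ hb.2
      rwa [inv_smul_smul] at this
  have hdc := Finset.sum_card_bipartiteAbove_eq_sum_card_bipartiteBelow
    (s := (Finset.univ : Finset Ω)) (t := (Finset.univ : Finset Ω)) (r := fun δ ε => Orb G α ω δ ε)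
  simp only [Finset.bipartiteAbove, Finset.bipartiteBelow] at hdc
  rw [Finset.sum_congr rfl (fun a _ => hP a), Finset.sum_congr rfl (fun b _ => hM b),
    Finset.sum_const, Finset.sum_const, smul_eq_mul, smul_eq_mul] at hdc
  have hpos : 0 < (Finset.univ : Finset Ω).card := Finset.card_pos.2 ⟨α, Finset.mem_univ _⟩
  have hcard := Nat.eq_of_mul_eq_mul_left hpos hdc
  have hss : Finset.univ.filter (fun δ => Orb G α ω α δ) ⊆ Finset.univ.filter (fun δ => Orb G α ω δ ε₀) := by
    intro δ hδ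
    rw [Finset.mem_filter] at hδ ⊢
    exact ⟨Finset.mem_univ _, hsub δ hδ.2⟩
  have heq := Finset.eq_of_subset_of_card_le hss (le_of_eq hcard.symm)
  intro δ hδ
  have : δ ∈ Finset.univ.filter (fun δ => Orb G α ω α δ) := by
    rw [heq, Finset.mem_filter]
    exact ⟨Finset.mem_univ _, hδ⟩
  exact (Finset.mem_filter.1 this).2

/-- Manning's Theorem on extremely primitive groups. Let a finite group G act faithfully and primitively on a finite set Ω with non-trivial point stabilizers, and suppose every point stabilizer G_α acts primitively on each of its orbits. Then G_α acts faithfully on each of its orbits other than {α}: an element of G_α fixing every point of one such orbit is the identity. -/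
theorem result {G : Type*} [Group G] [Finite G] {Ω : Type*} [Fintype Ω] [MulAction G Ω] [FaithfulSMul G Ω] (hprim : MulAction.IsPreprimitive G Ω) (hH : ∀ α : Ω, MulAction.stabilizer G α ≠ ⊥) (hep : ∀ (α : Ω) (ω : Ω), MulAction.IsPreprimitive (MulAction.stabilizer G α) (MulAction.orbit (MulAction.stabilizer G α) ω))
    (α ω : Ω) (hω : ω ≠ α) (h : MulAction.stabilizer G α) (hfix : ∀ x ∈ MulAction.orbit (MulAction.stabilizer G α) ω, h • x = x) : h = 1 := by
  by_contra hne
  have := hprim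
  have : Nontrivial Ω := ⟨⟨ω, α, hω⟩⟩
  -- `h` lies in the kernel
  have hK1 : (h : G) ∈ Kk G α ω := by
    refine ⟨mem_stabilizer_iff.1 h.2, fun x hx => ?_⟩
    obtain ⟨g, hg1, hg2⟩ := hx
    have hx' : x ∈ MulAction.orbit (MulAction.stabilizer G α) ω := ⟨⟨g, hg1⟩, hg2⟩
    exact hfix x hx'
  have hωK : ∀ k ∈ Kk G α ω, k • ω = ω := fun k hk => hk.2 ω (Orb_self α ω)
  -- Step 2
  have step2 : ∃ γ, Orb G α ω ω γ ∧ ∃ k ∈ Kk G α ω, k • γ ≠ γ := by
    by_contra H2
    push Not at H2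
    obtain ⟨g₀, hg₀⟩ := exists_smul_eq G α ω
    have hg₀' : g₀⁻¹ • ω = α := by rw [inv_smul_eq_iff, hg₀]
    have hc : ∀ k ∈ Kk G α ω, g₀⁻¹ * k * g₀ ∈ Kk G α ω := by
      intro k hk
      refine ⟨by rw [mul_smul, mul_smul, hg₀, hωK k hk, hg₀'], fun x hx => ?_⟩
      have h1 : Orb G α ω ω (g₀ • x) := by
        have := Orb_smul g₀ hx
        rwa [hg₀] at this
      rw [mul_smul, mul_smul, H2 _ h1 k hk, inv_smul_smul]
    have hpow : ∀ m : ℕ, ∀ k ∈ Kk G α ω, (g₀⁻¹) ^ m * k * ((g₀⁻¹) ^ m)⁻¹ ∈ Kk G α ω := by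
      intro m
      induction m with
      | zero => intro k hk; simpa using hk
      | succ m ih =>
        intro k hk
        have h1 := hc _ (ih k hk)
        have h2 : (g₀⁻¹) ^ (m + 1) * k * ((g₀⁻¹) ^ (m + 1))⁻¹
            = g₀⁻¹ * ((g₀⁻¹) ^ m * k * ((g₀⁻¹) ^ m)⁻¹) * g₀ := by
          rw [pow_succ']; group
        rw [h2]; exact h1
    have hg₀N : ∀ k ∈ Kk G α ω, g₀ * k * g₀⁻¹ ∈ Kk G α ω := by
      intro k hk
      have hpos := orderOf_pos g₀⁻¹
      have h1 : (g₀⁻¹) ^ (orderOf g₀⁻¹ - 1) * g₀⁻¹ = 1 := by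
        rw [← pow_succ, Nat.sub_add_cancel hpos, pow_orderOf_eq_one]
      have h2 : (g₀⁻¹) ^ (orderOf g₀⁻¹ - 1) = g₀ := by
        have := eq_inv_of_mul_eq_one_left h1
        rwa [inv_inv] at this
      have h3 := hpow (orderOf g₀⁻¹ - 1) k hk
      rwa [h2] at h3
    have hnorm : g₀ ∈ Subgroup.normalizer ((Kk G α ω : Subgroup G) : Set G) := by
      rw [Subgroup.mem_normalizer_iff]
      intro k
      constructor
      · exact hg₀N k
      · intro hk
        have := hc _ hk
        have e : g₀⁻¹ * (g₀ * k * g₀⁻¹) * g₀ = k := by group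
        rwa [e] at this
    have hle : MulAction.stabilizer G α ≤ Subgroup.normalizer ((Kk G α ω : Subgroup G) : Set G) := by
      intro s hs
      have hs1 : s • α = α := mem_stabilizer_iff.1 hs
      have hs2 : s⁻¹ • α = α := by rw [inv_smul_eq_iff, hs1]
      rw [Subgroup.mem_normalizer_iff]
      intro k
      constructor
      · exact Kk_conj s hs1 k
      · intro hk
        have := Kk_conj s⁻¹ hs2 _ hk
        have e : s⁻¹ * (s * k * s⁻¹) * s⁻¹⁻¹ = k := by group
        rwa [e] at this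
    have hnot : g₀ ∉ MulAction.stabilizer G α := by
      intro hmem
      have := mem_stabilizer_iff.1 hmem
      rw [hg₀] at this
      exact hω this
    have hco : IsCoatom (MulAction.stabilizer G α) :=
      IsPreprimitive.isCoatom_stabilizer_of_isPreprimitive (G := G) α
    have htop : Subgroup.normalizer ((Kk G α ω : Subgroup G) : Set G) = ⊤ :=
      hco.2 _ (lt_of_le_of_ne hle (fun heq => hnot (heq ▸ hnorm)))
    have hall : ∀ x : Ω, (h : G) • x = x := by
      intro x
      obtain ⟨g, rfl⟩ := exists_smul_eq G α x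
      have hg : g⁻¹ ∈ Subgroup.normalizer ((Kk G α ω : Subgroup G) : Set G) := by rw [htop]; trivial
      have h1 := ((Subgroup.mem_normalizer_iff.1 hg) (h : G)).1 hK1
      have h2 := h1.1
      rw [inv_inv, mul_smul, mul_smul, inv_smul_eq_iff] at h2
      exact h2
    have h1 : (h : G) = 1 := FaithfulSMul.eq_of_smul_eq_smul (α := Ω) (fun x => by rw [hall x, one_smul])
    exact hne (Subtype.ext h1)
  obtain ⟨γ, ⟨g₁, hg₁α, hg₁ω⟩, k₀, hk₀, hk₀γ⟩ := step2
  -- Step 3: K is transitive on the orbit of γ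
  have stepT : ∀ s : G, s • α = α → ∃ k ∈ Kk G α ω, k • γ = s • γ := by
    intro s hs
    have : ((Kk G α ω).subgroupOf (MulAction.stabilizer G α)).Normal := by
      refine ⟨fun n hn t => ?_⟩
      rw [Subgroup.mem_subgroupOf] at hn ⊢
      exact Kk_conj (t : G) (mem_stabilizer_iff.1 t.2) _ hn
    have := hep α γ
    have hB : IsBlock (MulAction.stabilizer G α)
        (MulAction.orbit ((Kk G α ω).subgroupOf (MulAction.stabilizer G α))
          (⟨γ, MulAction.mem_orbit_self γ⟩ : MulAction.orbit (MulAction.stabilizer G α) γ)) :=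
      IsBlock.orbit_of_normal _
    have hk₀H : k₀ ∈ MulAction.stabilizer G α := mem_stabilizer_iff.2 hk₀.1
    rcases hB.subsingleton_or_eq_univ with hs' | hu
    · exfalso
      have m1 : (⟨γ, MulAction.mem_orbit_self γ⟩ : MulAction.orbit (MulAction.stabilizer G α) γ) ∈
          MulAction.orbit ((Kk G α ω).subgroupOf (MulAction.stabilizer G α))
          (⟨γ, MulAction.mem_orbit_self γ⟩ : MulAction.orbit (MulAction.stabilizer G α) γ) :=
        MulAction.mem_orbit_self _
      have m2 : ((⟨⟨k₀, hk₀H⟩, Subgroup.mem_subgroupOf.2 hk₀⟩ :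
            ((Kk G α ω).subgroupOf (MulAction.stabilizer G α))) •
          (⟨γ, MulAction.mem_orbit_self γ⟩ : MulAction.orbit (MulAction.stabilizer G α) γ)) ∈
          MulAction.orbit ((Kk G α ω).subgroupOf (MulAction.stabilizer G α))
          (⟨γ, MulAction.mem_orbit_self γ⟩ : MulAction.orbit (MulAction.stabilizer G α) γ) :=
        MulAction.mem_orbit _ _
      have := congrArg Subtype.val (hs' m2 m1)
      exact hk₀γ this
    · have hmem : (⟨s • γ, ⟨⟨s, mem_stabilizer_iff.2 hs⟩, rfl⟩⟩ : MulAction.orbit (MulAction.stabilizer G α) γ) ∈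
          MulAction.orbit ((Kk G α ω).subgroupOf (MulAction.stabilizer G α))
          (⟨γ, MulAction.mem_orbit_self γ⟩ : MulAction.orbit (MulAction.stabilizer G α) γ) := by
        rw [hu]; trivial
      obtain ⟨n, hn⟩ := hmem
      refine ⟨((n : MulAction.stabilizer G α) : G), Subgroup.mem_subgroupOf.1 n.2, ?_⟩
      exact congrArg Subtype.val hn
  -- Step 4
  have step4 : ∀ β' : Ω, Orb G α ω α β' → ∀ s : G, s • α = α → Orb G α ω β' (s • γ) := by
    intro β' hβ' s hs
    obtain ⟨s', hs'α, hs'ω⟩ := hβ'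
    have hs'inv : s'⁻¹ • α = α := by rw [inv_smul_eq_iff, hs'α]
    obtain ⟨k, hk, hkγ⟩ := stepT (s'⁻¹ * s) (by rw [mul_smul, hs, hs'inv])
    refine ⟨s' * k * g₁, ?_, ?_⟩
    · rw [mul_smul, mul_smul, hg₁α, hωK k hk, hs'ω]
    · rw [mul_smul, mul_smul, hg₁ω, hkγ, mul_smul, smul_inv_smul]
  -- Step 5
  have step5 : ∀ s : G, s • α = α → ∀ δ, Orb G α ω δ (s • γ) ↔ Orb G α ω α δ := by
    intro s hs δ
    constructor
    · exact orb_back α ω (s • γ) (fun δ' hδ' => step4 δ' hδ' s hs) δ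
    · intro hδ; exact step4 δ hδ s hs
  -- Step 6
  have hB0 : IsBlock G {ε : Ω | ∀ δ, Orb G α ω δ ε ↔ Orb G α ω α δ} := by
    rw [isBlock_iff_smul_eq_of_mem]
    intro g a ha hga
    have hinv : ∀ δ, Orb G α ω α δ ↔ Orb G α ω α (g⁻¹ • δ) := by
      intro δ
      rw [← hga δ, Orb_inv_iff, ha]
    ext x
    rw [Set.mem_smul_set_iff_inv_smul_mem]
    constructor
    · intro hx δ
      have h1 := hx (g⁻¹ • δ)
      rw [Orb_inv_iff, inv_inv, smul_inv_smul] at h1
      rw [h1, ← hinv]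
    · intro hx δ
      rw [Orb_inv_iff, inv_inv, hx, hinv (g • δ), inv_smul_smul]
  have hγ1 : γ ∈ {ε : Ω | ∀ δ, Orb G α ω δ ε ↔ Orb G α ω α δ} := by
    intro δ
    have := step5 1 (one_smul _ _) δ
    rwa [one_smul] at this
  have hγ2 : k₀ • γ ∈ {ε : Ω | ∀ δ, Orb G α ω δ ε ↔ Orb G α ω α δ} := fun δ => step5 k₀ hk₀.1 δ
  rcases hB0.subsingleton_or_eq_univ with hs | hu
  · exact hk₀γ (hs hγ2 hγ1)
  · have hω' : ω ∈ {ε : Ω | ∀ δ, Orb G α ω δ ε ↔ Orb G α ω α δ} := by rw [hu]; trivial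
    obtain ⟨g, hg1, hg2⟩ := (hω' ω).2 (Orb_self α ω)
    have : g • α = g • ω := by rw [hg1, hg2]
    exact hω (smul_left_cancel g this).symm

end Cfsg.Agent.S3494
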