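import Mathlib
import Cfsg.Statements.S3495
import Cfsg.Agent.S3494

namespace Cfsg.Agent.S3495

open MulAction

/-- Let a finite group G act faithfully and primitively on a finite set Ω with non-trivial point stabilizers, each acting primitively on every one of its orbits (an extremely primitive group), and suppose G has an elementary abelian normal p-subgroup N acting regularly on Ω (affine type). Then every non-trivial subgroup M of a point stabilizer G_α that is normal in G_α has the same orbits on Ω as G_α, and normalizes no subgroup of N other than 1 and N. -/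
theorem result {G : Type*} [Group G] [Finite G] {Ω : Type*} [Fintype Ω] [MulAction G Ω] [FaithfulSMul G Ω] (hprim : MulAction.IsPreprimitive G Ω) (hH : ∀ α : Ω, MulAction.stabilizer G α ≠ ⊥) (hep : ∀ (α : Ω) (ω : Ω), MulAction.IsPreprimitive (MulAction.stabilizer G α) (MulAction.orbit (MulAction.stabilizer G α) ω))
    (N : Subgroup G) [N.Normal] (hNc : IsMulCommutative N) (p : ℕ) (hp : p.Prime) (hNp : ∀ n ∈ N, n ^ p = 1)
    (hNtr : MulAction.IsPretransitive N Ω) (hNreg : ∀ ω : Ω, MulAction.stabilizer N ω = ⊥) (α : Ω) (M : Subgroup G) (hM : M ≠ ⊥) (hMle : M ≤ MulAction.stabilizer G α)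
    (hMn : MulAction.stabilizer G α ≤ Subgroup.normalizer (M : Set G)) :
    (∀ ω : Ω, MulAction.orbit M ω = MulAction.orbit (MulAction.stabilizer G α) ω) ∧
    (∀ L : Subgroup G, L ≤ N → M ≤ Subgroup.normalizer (L : Set G) → L = ⊥ ∨ L = N) := by
  have := hprim
  have hNnormal : N.Normal := inferInstance
  have hMfix : ∀ m ∈ M, m • α = α := fun m hm => mem_stabilizer_iff.1 (hMle hm)
  have hMconj : ∀ s : G, s • α = α → ∀ m ∈ M, s * m * s⁻¹ ∈ M := by
    intro s hs m hm
    have := hMn (mem_stabilizer_iff.2 hs)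
    exact (Subgroup.mem_normalizer_iff.1 this m).1 hm
  have part1 : ∀ ω : Ω, MulAction.orbit M ω = MulAction.orbit (MulAction.stabilizer G α) ω := by
    intro ω
    by_cases hω : ω = α
    · ext x
      constructor
      · rintro ⟨m, rfl⟩
        exact ⟨⟨m.1, hMle m.2⟩, rfl⟩
      · rintro ⟨s, rfl⟩
        refine ⟨1, ?_⟩
        show (1 : M) • ω = (s : G) • ω
        rw [one_smul, hω]
        exact (mem_stabilizer_iff.1 s.2).symm
    · obtain ⟨m₀, hm₀, x₀, hx₀, hmx⟩ : ∃ m ∈ M, ∃ x ∈ MulAction.orbit (MulAction.stabilizer G α) ω, m • x ≠ x := by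
        by_contra hcon
        push Not at hcon
        apply hM
        rw [Subgroup.eq_bot_iff_forall]
        intro m hm
        have := Cfsg.Agent.S3494.result hprim hH hep α ω hω ⟨m, hMle hm⟩ (fun x hx => hcon m hm x hx)
        exact congrArg Subtype.val this
      have hnorm : (M.subgroupOf (MulAction.stabilizer G α)).Normal := by
        refine ⟨fun n hn t => ?_⟩
        rw [Subgroup.mem_subgroupOf] at hn ⊢
        exact hMconj (t : G) (mem_stabilizer_iff.1 t.2) _ hn
      have := hep α ω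
      have hB : IsBlock (MulAction.stabilizer G α)
          (MulAction.orbit (M.subgroupOf (MulAction.stabilizer G α))
            (⟨x₀, hx₀⟩ : MulAction.orbit (MulAction.stabilizer G α) ω)) :=
        IsBlock.orbit_of_normal _
      rcases hB.subsingleton_or_eq_univ with hs | hu
      · exfalso
        have m1 : (⟨x₀, hx₀⟩ : MulAction.orbit (MulAction.stabilizer G α) ω) ∈
            MulAction.orbit (M.subgroupOf (MulAction.stabilizer G α))
            (⟨x₀, hx₀⟩ : MulAction.orbit (MulAction.stabilizer G α) ω) :=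
          MulAction.mem_orbit_self _
        have m2 : ((⟨⟨m₀, hMle hm₀⟩, Subgroup.mem_subgroupOf.2 hm₀⟩ :
              (M.subgroupOf (MulAction.stabilizer G α))) •
            (⟨x₀, hx₀⟩ : MulAction.orbit (MulAction.stabilizer G α) ω)) ∈
            MulAction.orbit (M.subgroupOf (MulAction.stabilizer G α))
            (⟨x₀, hx₀⟩ : MulAction.orbit (MulAction.stabilizer G α) ω) :=
          MulAction.mem_orbit _ _
        exact hmx (congrArg Subtype.val (hs m2 m1))
      · have htr : ∀ y ∈ MulAction.orbit (MulAction.stabilizer G α) ω, ∃ m ∈ M, m • x₀ = y := by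
          intro y hy
          have hmem : (⟨y, hy⟩ : MulAction.orbit (MulAction.stabilizer G α) ω) ∈
              MulAction.orbit (M.subgroupOf (MulAction.stabilizer G α))
              (⟨x₀, hx₀⟩ : MulAction.orbit (MulAction.stabilizer G α) ω) := by
            rw [hu]; trivial
          obtain ⟨n, hn⟩ := hmem
          exact ⟨((n : MulAction.stabilizer G α) : G), Subgroup.mem_subgroupOf.1 n.2,
            congrArg Subtype.val hn⟩
        ext y
        constructor
        · rintro ⟨m, rfl⟩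
          exact ⟨⟨m.1, hMle m.2⟩, rfl⟩
        · intro hy
          obtain ⟨m₁, hm₁, h1⟩ := htr ω (MulAction.mem_orbit_self ω)
          obtain ⟨m₂, hm₂, h2⟩ := htr y hy
          refine ⟨⟨m₂ * m₁⁻¹, M.mul_mem hm₂ (M.inv_mem hm₁)⟩, ?_⟩
          show (m₂ * m₁⁻¹) • ω = y
          rw [mul_smul, ← h1, inv_smul_smul, h2]
  refine ⟨part1, ?_⟩
  intro L hLN hML
  by_cases hL : L = ⊥
  · exact Or.inl hL
  right
  have hreg : ∀ n ∈ N, n • α = α → n = 1 := by
    intro n hn h
    have h1 : (⟨n, hn⟩ : N) ∈ MulAction.stabilizer N α := h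
    rw [hNreg α, Subgroup.mem_bot] at h1
    exact congrArg Subtype.val h1
  have hNcomm : ∀ a ∈ N, ∀ b ∈ N, a * b = b * a := fun a ha b hb =>
    congrArg Subtype.val (hNc.is_comm.comm ⟨a, ha⟩ ⟨b, hb⟩)
  have hGL : ∀ s : G, s • α = α → ∀ l ∈ L, s * l * s⁻¹ ∈ L := by
    intro s hs l hl
    have h1 : s • (l • α) ∈ MulAction.orbit (MulAction.stabilizer G α) (l • α) :=
      ⟨⟨s, mem_stabilizer_iff.2 hs⟩, rfl⟩
    rw [← part1 (l • α)] at h1
    obtain ⟨m, hm⟩ := h1
    have hm' : (m : G) • (l • α) = s • (l • α) := hm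
    have h2 : (m : G) * l * (m : G)⁻¹ ∈ L := (Subgroup.mem_normalizer_iff.1 (hML m.2) l).1 hl
    have hmα : (m : G)⁻¹ • α = α := by rw [inv_smul_eq_iff, hMfix m m.2]
    have hsα : s⁻¹ • α = α := by rw [inv_smul_eq_iff, hs]
    have h3 : ((m : G) * l * (m : G)⁻¹) • α = (s * l * s⁻¹) • α := by
      rw [mul_smul, mul_smul, hmα, mul_smul, mul_smul, hsα]
      exact hm'
    have hN1 : (m : G) * l * (m : G)⁻¹ ∈ N := hLN h2
    have hN2 : s * l * s⁻¹ ∈ N := hNnormal.conj_mem l (hLN hl) s
    have h4 : ((s * l * s⁻¹)⁻¹ * ((m : G) * l * (m : G)⁻¹)) • α = α := by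
      rw [mul_smul, h3, inv_smul_smul]
    have h5 := hreg _ (N.mul_mem (N.inv_mem hN2) hN1) h4
    rw [inv_mul_eq_one.1 h5]
    exact h2
  have hLnormal : L.Normal := by
    refine ⟨fun l hl g => ?_⟩
    obtain ⟨n, hn⟩ := MulAction.exists_smul_eq N α (g • α)
    have hn' : (n : G) • α = g • α := hn
    have hs : ((n : G)⁻¹ * g) • α = α := by rw [mul_smul, inv_smul_eq_iff]; exact hn'.symm
    have h1 := hGL _ hs l hl
    have h2 : (n : G) * ((n : G)⁻¹ * g * l * ((n : G)⁻¹ * g)⁻¹)
        = ((n : G)⁻¹ * g * l * ((n : G)⁻¹ * g)⁻¹) * (n : G) := hNcomm _ n.2 _ (hLN h1)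
    have h3 : g * l * g⁻¹ = (n : G)⁻¹ * g * l * ((n : G)⁻¹ * g)⁻¹ := by
      calc g * l * g⁻¹ = ((n : G) * ((n : G)⁻¹ * g * l * ((n : G)⁻¹ * g)⁻¹)) * (n : G)⁻¹ := by group
        _ = (n : G)⁻¹ * g * l * ((n : G)⁻¹ * g)⁻¹ := by rw [h2]; group
    rw [h3]; exact h1
  have hB : IsBlock G (MulAction.orbit L α) := IsBlock.orbit_of_normal α
  rcases hB.subsingleton_or_eq_univ with hs | hu
  · exfalso
    apply hL
    rw [Subgroup.eq_bot_iff_forall]
    intro l hl
    have h1 : l • α ∈ MulAction.orbit L α := ⟨⟨l, hl⟩, rfl⟩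
    have h2 : α ∈ MulAction.orbit L α := MulAction.mem_orbit_self α
    exact hreg l (hLN hl) (hs h1 h2)
  · apply le_antisymm hLN
    intro n hn
    have h1 : n • α ∈ MulAction.orbit L α := by rw [hu]; trivial
    obtain ⟨l, hl⟩ := h1
    have hl' : (l : G) • α = n • α := hl
    have h2 : ((l : G)⁻¹ * n) • α = α := by rw [mul_smul, inv_smul_eq_iff]; exact hl'.symm
    have h3 := hreg _ (N.mul_mem (N.inv_mem (hLN l.2)) hn) h2
    rw [← inv_mul_eq_one.1 h3]
    exact l.2

end Cfsg.Agent.S3495
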