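import Mathlib
import Cfsg.Statements.S3497
import Cfsg.Agent.S3494

set_option autoImplicit false
set_option linter.style.haveILetI false
open Cfsg

namespace Cfsg.Agent.S3497

open MulAction

/-- A group acting with one fixed point and freely elsewhere has order dividing `|Ω| - 1`. -/
lemma card_dvd_sub_one {N : Type*} [Group N] [Finite N] {Ω : Type*} [Fintype Ω] [MulAction N Ω] (α : Ω)
    (hα : ∀ n : N, n • α = α) (hfree : ∀ ω : Ω, ω ≠ α → ∀ n : N, n • ω = ω → n = 1) :
    Nat.card N ∣ Fintype.card Ω - 1 := by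
  classical
  let S : SubMulAction N Ω :=
    { carrier := {ω | ω ≠ α}
      smul_mem' := by
        intro n ω hω h
        apply hω
        have : n • ω = n • α := by rw [hα]; exact h
        exact smul_left_cancel n this }
  have hstab : ∀ b : S, stabilizer N b = ⊥ := by
    intro b
    rw [Subgroup.eq_bot_iff_forall]
    intro n hn
    have h1 : n • b = b := hn
    have h2 : n • (b : Ω) = (b : Ω) := congrArg Subtype.val h1
    exact hfree _ b.2 n h2
  have e := MulAction.selfEquivOrbitsQuotientProd hstab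
  have h1 : Nat.card S = Nat.card (Quotient (orbitRel N S)) * Nat.card N := by
    rw [Nat.card_congr e, Nat.card_prod]
  have h2 : Nat.card S = Fintype.card Ω - 1 := by
    have : Nat.card S = Nat.card {ω : Ω // ω ≠ α} := rfl
    rw [this, Nat.card_eq_fintype_card, Fintype.card_subtype_compl, Fintype.card_subtype_eq]
  rw [← h2, h1]
  exact dvd_mul_left _ _

/-- Conjugation on a normal elementary abelian subgroup of order `p ^ e` as a homomorphism to
`GL_e(p)`, with kernel the centralizer. -/
lemma gl_hom {H : Type*} [Group H] [Finite H] (F : Subgroup H) (hFn : F.Normal) (p e : ℕ) (hp : p.Prime)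
    (hcomm : ∀ x ∈ F, ∀ y ∈ F, x * y = y * x) (hexp : ∀ x ∈ F, x ^ p = 1) (hcard : Nat.card F = p ^ e) :
    ∃ φ : H →* Matrix.GeneralLinearGroup (Fin e) (ZMod p), ∀ h : H, φ h = 1 ↔ ∀ x ∈ F, h * x = x * h := by
  classical
  haveI : Fact p.Prime := ⟨hp⟩
  haveI := hFn
  letI : CommGroup F := { (inferInstance : Group F) with
    mul_comm := fun a b => Subtype.ext (hcomm a.1 a.2 b.1 b.2) }
  have hnsmul : ∀ x : Additive F, p • x = 0 := by
    intro x
    have h := hexp (Additive.toMul x).1 (Additive.toMul x).2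
    have h' : (Additive.toMul x) ^ p = 1 := Subtype.ext (by simpa using h)
    exact congrArg Additive.ofMul h'
  letI : Module (ZMod p) (Additive F) := AddCommGroup.zmodModule (n := p) hnsmul
  haveI : Finite (Additive F) := inferInstanceAs (Finite F)
  have hfr : Module.finrank (ZMod p) (Additive F) = e := by
    haveI : Fintype (Additive F) := Fintype.ofFinite _
    have h1 := Module.card_eq_pow_finrank (K := ZMod p) (V := Additive F)
    rw [ZMod.card] at h1
    have h2 : Fintype.card (Additive F) = p ^ e := by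
      rw [← Nat.card_eq_fintype_card]
      exact hcard
    rw [h2] at h1
    exact (Nat.pow_right_injective hp.two_le h1).symm
  haveI hMF : Module.Finite (ZMod p) (Additive F) := Module.Finite.of_finite
  haveI hMFree : Module.Free (ZMod p) (Additive F) :=
    Module.Free.of_divisionRing (ZMod p) (Additive F)
  let b : Module.Basis (Fin e) (ZMod p) (Additive F) :=
    @Module.finBasisOfFinrankEq (ZMod p) (Additive F) _ _ _ hMFree _ hMF e hfr
  let ψ : H →* Module.End (ZMod p) (Additive F) :=
    { toFun := fun h => AddMonoidHom.toZModLinearMap p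
        (MonoidHom.toAdditive ((MulAut.conjNormal h : MulAut F).toMonoidHom))
      map_one' := by
        apply LinearMap.ext
        intro x
        show Additive.ofMul ((MulAut.conjNormal (1 : H) : MulAut F) (Additive.toMul x)) = x
        rw [map_one]
        rfl
      map_mul' := by
        intro a c
        apply LinearMap.ext
        intro x
        show Additive.ofMul ((MulAut.conjNormal (a * c) : MulAut F) (Additive.toMul x)) =
          Additive.ofMul ((MulAut.conjNormal a : MulAut F)
            ((MulAut.conjNormal c : MulAut F) (Additive.toMul x)))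
        rw [map_mul]
        rfl }
  let mat : H →* Matrix (Fin e) (Fin e) (ZMod p) :=
    (MonoidHomClass.toMonoidHom (LinearMap.toMatrixAlgEquiv b)).comp ψ
  refine ⟨mat.toHomUnits, ?_⟩
  intro h
  have hψ : ∀ x : F, ((ψ h) (Additive.ofMul x) : Additive F) =
      Additive.ofMul ((MulAut.conjNormal h : MulAut F) x) := fun x => rfl
  constructor
  · intro h1
    have h2 : mat h = 1 := congrArg Units.val h1
    have h3 : ψ h = 1 := by
      have h4 : (LinearMap.toMatrixAlgEquiv b) (ψ h) = (LinearMap.toMatrixAlgEquiv b) 1 := by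
        rw [map_one]; exact h2
      exact (LinearMap.toMatrixAlgEquiv b).injective h4
    intro x hx
    have h5 := hψ ⟨x, hx⟩
    rw [h3] at h5
    have h6 : (⟨x, hx⟩ : F) = (MulAut.conjNormal h : MulAut F) ⟨x, hx⟩ := Additive.ofMul.injective h5
    have h7 := congrArg Subtype.val h6
    rw [MulAut.conjNormal_apply] at h7
    have h7' : x = h * x * h⁻¹ := h7
    calc h * x = (h * x * h⁻¹) * h := by group
      _ = x * h := by rw [← h7']
  · intro hc
    have h3 : ψ h = 1 := by
      apply LinearMap.ext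
      intro x
      show Additive.ofMul ((MulAut.conjNormal h : MulAut F) (Additive.toMul x)) = x
      have : (MulAut.conjNormal h : MulAut F) (Additive.toMul x) = Additive.toMul x := by
        apply Subtype.ext
        rw [MulAut.conjNormal_apply, hc _ (Additive.toMul x).2, mul_inv_cancel_right]
      rw [this]; rfl
    apply Units.ext
    show (LinearMap.toMatrixAlgEquiv b) (ψ h) = 1
    rw [h3, map_one]

/-- Abstract core: a group `H` fixing `α`, with every nontrivial normal subgroup having the same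
orbits as `H`, acting faithfully on each orbit other than `{α}` with maximal point stabilizers. -/
theorem core {H : Type*} [Group H] [Finite H] {Ω : Type*} [Fintype Ω] [MulAction H Ω] (α : Ω)
    (hα : ∀ h : H, h • α = α)
    (hT : ∀ M : Subgroup H, M.Normal → M ≠ ⊥ → ∀ (ω : Ω) (h : H), ∃ m ∈ M, m • ω = h • ω)
    (hF : ∀ ω : Ω, ω ≠ α → ∀ h : H, (∀ g : H, h • (g • ω) = g • ω) → h = 1)
    (hC : ∀ ω : Ω, ω ≠ α → IsCoatom (stabilizer H ω))
    (hH1 : Nontrivial H) (hHp : ¬ (Nat.card H).Prime) (hΩ : ∃ ω : Ω, ω ≠ α) :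
    Subgroup.center H = ⊥ ∧
    IsMulCommutative (Cfsg.fittingSubgroup H) ∧
    ∃ p e : ℕ, p.Prime ∧ Nat.card (Cfsg.fittingSubgroup H) = p ^ e ∧
      (∀ x ∈ Cfsg.fittingSubgroup H, x ^ p = 1) ∧
      (Cfsg.fittingSubgroup H ≠ ⊥ →
        p ^ e ∣ Fintype.card Ω - 1 ∧
        ∃ φ : H →* Matrix.GeneralLinearGroup (Fin e) (ZMod p), φ.ker = Cfsg.fittingSubgroup H) := by
  classical
  obtain ⟨ω₀, hω₀⟩ := hΩ
  have KLi : ∀ A : Subgroup H, A.Normal → A ≠ ⊥ → ∀ ω : Ω, ω ≠ α → ∀ h : H,
      (∀ a ∈ A, h * a = a * h) → h • ω = ω → h = 1 := by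
    intro A hAn hA ω hω h hc hfix
    apply hF ω hω h
    intro g
    obtain ⟨a, ha, hag⟩ := hT A hAn hA ω g
    rw [← hag, ← mul_smul, hc a ha, mul_smul, hfix]
  have KLii : ∀ A : Subgroup H, A.Normal → A ≠ ⊥ → (∀ a ∈ A, ∀ b ∈ A, a * b = b * a) →
      ∀ h : H, (∀ a ∈ A, h * a = a * h) → h ∈ A := by
    intro A hAn hA hab h hc
    obtain ⟨a, ha, hag⟩ := hT A hAn hA ω₀ h
    have h1 : (a⁻¹ * h) • ω₀ = ω₀ := by rw [mul_smul, ← hag, inv_smul_smul]
    have h2 : ∀ b ∈ A, (a⁻¹ * h) * b = b * (a⁻¹ * h) := by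
      intro b hb
      have e1 : a⁻¹ * b = b * a⁻¹ := by
        have := hab a ha b hb
        calc a⁻¹ * b = a⁻¹ * (b * a) * a⁻¹ := by group
          _ = a⁻¹ * (a * b) * a⁻¹ := by rw [this]
          _ = b * a⁻¹ := by group
      calc (a⁻¹ * h) * b = a⁻¹ * (h * b) := by group
        _ = a⁻¹ * (b * h) := by rw [hc b hb]
        _ = (a⁻¹ * b) * h := by group
        _ = (b * a⁻¹) * h := by rw [e1]
        _ = b * (a⁻¹ * h) := by group
    have h3 := KLi A hAn hA ω₀ hω₀ _ h2 h1
    rw [← inv_mul_eq_one.1 h3]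
    exact ha
  have hcenter : Subgroup.center H = ⊥ := by
    by_contra hne
    have hAn : (Subgroup.center H).Normal := inferInstance
    have hstab : stabilizer H ω₀ = ⊥ := by
      rw [Subgroup.eq_bot_iff_forall]
      intro h hh
      exact KLi _ hAn hne ω₀ hω₀ h (fun a ha => (Subgroup.mem_center_iff.1 ha h))
        (mem_stabilizer_iff.1 hh)
    have hco := hC ω₀ hω₀
    rw [hstab] at hco
    apply hHp
    have hcard : Nat.card H ≠ 1 := (Finite.one_lt_card (α := H)).ne'
    obtain ⟨p, hp, hpd⟩ := Nat.exists_prime_and_dvd hcard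
    haveI : Fact p.Prime := ⟨hp⟩
    obtain ⟨x, hx⟩ := exists_prime_orderOf_dvd_card' p hpd
    have hx1 : Subgroup.zpowers x ≠ ⊥ := by
      intro h0
      have hx0 : x = 1 := by
        have := Subgroup.mem_zpowers x
        rw [h0, Subgroup.mem_bot] at this
        exact this
      rw [hx0, orderOf_one] at hx
      exact hp.one_lt.ne hx
    have h2 := hco.2 _ (bot_lt_iff_ne_bot.2 hx1)
    have h3 : Nat.card H = p := by
      rw [← Subgroup.card_top (G := H), ← h2, Nat.card_zpowers, hx]
    rw [h3]; exact hp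
  have hnil : ∀ N : Subgroup H, N.Normal → Group.IsNilpotent N →
      ∀ a ∈ N, ∀ b ∈ N, a * b = b * a := by
    intro N hNn hNnil
    by_cases hN : N = ⊥
    · intro a ha b hb
      rw [hN, Subgroup.mem_bot] at ha hb
      rw [ha, hb]
    obtain ⟨Z, hZ⟩ : ∃ Z : Subgroup H, Z = N ⊓ Subgroup.centralizer (N : Set H) := ⟨_, rfl⟩
    have hZmem : ∀ z, z ∈ Z ↔ z ∈ N ∧ ∀ n ∈ N, n * z = z * n := by
      intro z
      rw [hZ, Subgroup.mem_inf, Subgroup.mem_centralizer_iff]
      rfl
    have hZn : Z.Normal := by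
      refine ⟨fun z hz g => ?_⟩
      rw [hZmem] at hz ⊢
      refine ⟨hNn.conj_mem z hz.1 g, fun n hn => ?_⟩
      have h1 := hz.2 (g⁻¹ * n * g) (by have := hNn.conj_mem n hn g⁻¹; simpa using this)
      calc n * (g * z * g⁻¹) = g * ((g⁻¹ * n * g) * z) * g⁻¹ := by group
        _ = g * (z * (g⁻¹ * n * g)) * g⁻¹ := by rw [h1]
        _ = (g * z * g⁻¹) * n := by group
    have hZne : Z ≠ ⊥ := by
      haveI : Nontrivial N := (Subgroup.nontrivial_iff_ne_bot N).2 hN
      haveI := hNnil
      have hc := Group.IsNilpotent.center_ne_bot (G := N)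
      rw [Ne, Subgroup.eq_bot_iff_forall] at hc
      push Not at hc
      obtain ⟨z, hz, hz1⟩ := hc
      intro hZ0
      have hzZ : (z : H) ∈ Z := by
        rw [hZmem]
        refine ⟨z.2, fun n hn => ?_⟩
        exact congrArg Subtype.val (Subgroup.mem_center_iff.1 hz ⟨n, hn⟩)
      rw [hZ0, Subgroup.mem_bot] at hzZ
      exact hz1 (Subtype.ext hzZ)
    have hZab : ∀ a ∈ Z, ∀ b ∈ Z, a * b = b * a := by
      intro a ha b hb
      exact (((hZmem b).1 hb).2 a ((hZmem a).1 ha).1)
    have hNZ : ∀ a ∈ N, a ∈ Z := by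
      intro a ha
      apply KLii Z hZn hZne hZab
      intro z hz
      exact ((hZmem z).1 hz).2 a ha
    intro a ha b hb
    exact (((hZmem b).1 (hNZ b hb)).2 a ha)
  have huniq : ∀ N₁ N₂ : Subgroup H, N₁.Normal → N₂.Normal → N₁ ≠ ⊥ → N₂ ≠ ⊥ →
      (∀ a ∈ N₁, ∀ b ∈ N₁, a * b = b * a) → (∀ a ∈ N₂, ∀ b ∈ N₂, a * b = b * a) → N₁ = N₂ := by
    intro N₁ N₂ h1n h2n h1 h2 hab1 hab2
    have hDn : (N₁ ⊓ N₂).Normal := by
      haveI := h1n
      haveI := h2n
      infer_instance
    have hD : N₁ ⊓ N₂ ≠ ⊥ := by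
      intro hD0
      apply h2
      rw [Subgroup.eq_bot_iff_forall]
      intro b hb
      have hb1 : b ∈ N₁ := by
        apply KLii N₁ h1n h1 hab1
        intro a ha
        have hc : b * a * b⁻¹ * a⁻¹ ∈ N₁ ⊓ N₂ := by
          refine Subgroup.mem_inf.2 ⟨?_, ?_⟩
          · exact N₁.mul_mem (h1n.conj_mem a ha b) (N₁.inv_mem ha)
          · have : b * (a * b⁻¹ * a⁻¹) ∈ N₂ :=
              N₂.mul_mem hb (h2n.conj_mem b⁻¹ (N₂.inv_mem hb) a)
            have e : b * a * b⁻¹ * a⁻¹ = b * (a * b⁻¹ * a⁻¹) := by group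
            rw [e]; exact this
        rw [hD0, Subgroup.mem_bot] at hc
        calc b * a = (b * a * b⁻¹ * a⁻¹) * (a * b) := by group
          _ = a * b := by rw [hc, one_mul]
      have : b ∈ N₁ ⊓ N₂ := Subgroup.mem_inf.2 ⟨hb1, hb⟩
      rw [hD0, Subgroup.mem_bot] at this
      exact this
    have hDab : ∀ a ∈ N₁ ⊓ N₂, ∀ b ∈ N₁ ⊓ N₂, a * b = b * a := fun a ha b hb =>
      hab1 a (Subgroup.mem_inf.1 ha).1 b (Subgroup.mem_inf.1 hb).1
    apply le_antisymm
    · intro a ha
      have : a ∈ N₁ ⊓ N₂ :=
        KLii _ hDn hD hDab a (fun d hd => hab1 a ha d (Subgroup.mem_inf.1 hd).1)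
      exact (Subgroup.mem_inf.1 this).2
    · intro a ha
      have : a ∈ N₁ ⊓ N₂ :=
        KLii _ hDn hD hDab a (fun d hd => hab2 a ha d (Subgroup.mem_inf.1 hd).2)
      exact (Subgroup.mem_inf.1 this).1
  obtain ⟨F, hFdef⟩ : ∃ F : Subgroup H, F = Cfsg.fittingSubgroup H := ⟨_, rfl⟩
  have hFcases : F = ⊥ ∨ (F.Normal ∧ F ≠ ⊥ ∧ ∀ a ∈ F, ∀ b ∈ F, a * b = b * a) := by
    by_cases hex : ∃ N : Subgroup H, N.Normal ∧ Group.IsNilpotent N ∧ N ≠ ⊥
    · right
      obtain ⟨N₀, hn0, hnil0, hne0⟩ := hex
      have hF : F = N₀ := by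
        rw [hFdef]
        unfold Cfsg.fittingSubgroup
        apply le_antisymm
        · apply sSup_le
          rintro N ⟨hNn, hNnil⟩
          by_cases hN : N = ⊥
          · rw [hN]; exact bot_le
          · exact (huniq N N₀ hNn hn0 hN hne0 (hnil N hNn hNnil) (hnil N₀ hn0 hnil0)).le
        · exact le_sSup ⟨hn0, hnil0⟩
      rw [hF]
      exact ⟨hn0, hne0, hnil N₀ hn0 hnil0⟩
    · left
      push Not at hex
      rw [hFdef, eq_bot_iff]
      unfold Cfsg.fittingSubgroup
      apply sSup_le
      rintro N ⟨hNn, hNnil⟩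
      rw [hex N hNn hNnil]
  have hFab : ∀ a ∈ F, ∀ b ∈ F, a * b = b * a := by
    rcases hFcases with h0 | ⟨_, _, hab⟩
    · intro a ha b hb
      rw [h0, Subgroup.mem_bot] at ha hb
      rw [ha, hb]
    · exact hab
  refine ⟨hcenter, ?_, ?_⟩
  · rw [← hFdef]
    exact ⟨⟨fun a b => Subtype.ext (hFab a.1 a.2 b.1 b.2)⟩⟩
  · rw [← hFdef]
    rcases hFcases with h0 | ⟨hFn, hFne, hab⟩
    · refine ⟨2, 0, Nat.prime_two, ?_, ?_, ?_⟩
      · rw [h0]; simp
      · intro x hx
        rw [h0, Subgroup.mem_bot] at hx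
        rw [hx, one_pow]
      · intro hne; exact absurd h0 hne
    · have hcardF : Nat.card F ≠ 1 := by
        intro h1
        exact hFne (Subgroup.card_eq_one.1 h1)
      obtain ⟨p, hp, hpd⟩ := Nat.exists_prime_and_dvd hcardF
      haveI : Fact p.Prime := ⟨hp⟩
      obtain ⟨x, hx⟩ := exists_prime_orderOf_dvd_card' p hpd
      obtain ⟨P, hPmem⟩ : ∃ P : Subgroup H, ∀ y, y ∈ P ↔ y ∈ F ∧ y ^ p = 1 :=
        ⟨{ carrier := {y | y ∈ F ∧ y ^ p = 1}
           mul_mem' := by
            rintro a b ⟨ha, ha'⟩ ⟨hb, hb'⟩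
            refine ⟨F.mul_mem ha hb, ?_⟩
            have hc : Commute a b := hab a ha b hb
            rw [hc.mul_pow, ha', hb', one_mul]
           one_mem' := ⟨F.one_mem, one_pow _⟩
           inv_mem' := by
            rintro a ⟨ha, ha'⟩
            exact ⟨F.inv_mem ha, by rw [inv_pow, ha', inv_one]⟩ }, fun y => Iff.rfl⟩
      have hPn : P.Normal := by
        refine ⟨fun y hy g => ?_⟩
        rw [hPmem] at hy ⊢
        refine ⟨hFn.conj_mem y hy.1 g, ?_⟩
        rw [conj_pow, hy.2, mul_one, mul_inv_cancel]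
      have hPne : P ≠ ⊥ := by
        intro h0
        have hxP : (x : H) ∈ P := by
          rw [hPmem]
          refine ⟨x.2, ?_⟩
          have := pow_orderOf_eq_one x
          rw [hx] at this
          have h2 := congrArg Subtype.val this
          simpa using h2
        rw [h0, Subgroup.mem_bot] at hxP
        have hx0 : x = 1 := Subtype.ext hxP
        rw [hx0, orderOf_one] at hx
        exact hp.one_lt.ne hx
      have hPab : ∀ a ∈ P, ∀ b ∈ P, a * b = b * a := fun a ha b hb =>
        hab a ((hPmem a).1 ha).1 b ((hPmem b).1 hb).1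
      have hPF : P = F := huniq P F hPn hFn hPne hFne hPab hab
      have hexp : ∀ y ∈ F, y ^ p = 1 := by
        intro y hy
        rw [← hPF] at hy
        exact ((hPmem y).1 hy).2
      have hpg : IsPGroup p F := by
        intro y
        refine ⟨1, ?_⟩
        rw [pow_one]
        exact Subtype.ext (by simpa using hexp y.1 y.2)
      obtain ⟨e, he⟩ := IsPGroup.iff_card.1 hpg
      refine ⟨p, e, hp, he, hexp, fun _ => ⟨?_, ?_⟩⟩
      · rw [← he]
        apply card_dvd_sub_one α
        · intro n; exact hα n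
        · intro ω hω n hn
          have := KLi F hFn hFne ω hω (n : H) (fun a ha => hab n n.2 a ha) hn
          exact Subtype.ext this
      · obtain ⟨φ, hφ⟩ := gl_hom F hFn p e hp hab hexp he
        refine ⟨φ, ?_⟩
        ext h
        rw [MonoidHom.mem_ker, hφ]
        constructor
        · intro hc
          exact KLii F hFn hFne hab h hc
        · intro hh a ha
          exact hab h hh a ha

/-- Restrictions on the point stabilizer of an extremely primitive group. Let a finite group G act faithfully and primitively on a finite set Ω with point stabilizers H = G_α whose order is neither 1 nor a prime, each acting primitively on every one of its orbits. Then H has trivial center, the Fitting subgroup F(H) is an elementary abelian p-group for some prime p, and if F(H) ≠ 1 has order p ^ e then p ^ e divides the number of points minus one and H / F(H) embeds in GL_e(p) (there is a homomorphism from H to GL_e(p) with kernel exactly F(H)). -/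
theorem result {G : Type*} [Group G] [Finite G] {Ω : Type*} [Fintype Ω] [MulAction G Ω] [FaithfulSMul G Ω] (hprim : MulAction.IsPreprimitive G Ω) (hep : ∀ (α : Ω) (ω : Ω), MulAction.IsPreprimitive (MulAction.stabilizer G α) (MulAction.orbit (MulAction.stabilizer G α) ω)) (α : Ω)
    (hH1 : MulAction.stabilizer G α ≠ ⊥) (hHp : ¬ (Nat.card (MulAction.stabilizer G α)).Prime) :
    Subgroup.center (MulAction.stabilizer G α) = ⊥ ∧
    IsMulCommutative (Cfsg.fittingSubgroup (MulAction.stabilizer G α)) ∧
    ∃ p e : ℕ, p.Prime ∧ Nat.card (Cfsg.fittingSubgroup (MulAction.stabilizer G α)) = p ^ e ∧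
      (∀ x ∈ Cfsg.fittingSubgroup (MulAction.stabilizer G α), x ^ p = 1) ∧
      (Cfsg.fittingSubgroup (MulAction.stabilizer G α) ≠ ⊥ →
        p ^ e ∣ Fintype.card Ω - 1 ∧
        ∃ φ : MulAction.stabilizer G α →* GL (Fin e) (ZMod p), φ.ker = Cfsg.fittingSubgroup (MulAction.stabilizer G α)) := by
  classical
  haveI : IsPretransitive G Ω := hprim.toIsPretransitive
  have hH : ∀ β : Ω, MulAction.stabilizer G β ≠ ⊥ := by
    intro β h0
    apply hH1
    obtain ⟨g, hg⟩ := MulAction.exists_smul_eq G α β
    rw [Subgroup.eq_bot_iff_forall]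
    intro h hh
    have h1 : g * h * g⁻¹ ∈ MulAction.stabilizer G β := by
      rw [mem_stabilizer_iff, ← hg, mul_smul, mul_smul, inv_smul_smul, mem_stabilizer_iff.1 hh]
    rw [h0, Subgroup.mem_bot] at h1
    calc h = g⁻¹ * (g * h * g⁻¹) * g := by group
      _ = 1 := by rw [h1]; group
  haveI hnt : Nontrivial (MulAction.stabilizer G α) := (Subgroup.nontrivial_iff_ne_bot _).2 hH1
  have hF : ∀ ω : Ω, ω ≠ α → ∀ h : MulAction.stabilizer G α,
      (∀ g : MulAction.stabilizer G α, h • (g • ω) = g • ω) → h = 1 := by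
    intro ω hω h hfix
    apply Cfsg.Agent.S3494.result hprim hH hep α ω hω h
    rintro x ⟨g, rfl⟩
    exact hfix g
  have hα : ∀ h : MulAction.stabilizer G α, h • α = α := fun h => h.2
  have hT : ∀ M : Subgroup (MulAction.stabilizer G α), M.Normal → M ≠ ⊥ →
      ∀ (ω : Ω) (h : MulAction.stabilizer G α), ∃ m ∈ M, m • ω = h • ω := by
    intro M hMn hM ω h
    by_cases hω : ω = α
    · refine ⟨1, M.one_mem, ?_⟩
      rw [one_smul, hω]
      exact (hα h).symm
    · have := hep α ω
      have hB : IsBlock (MulAction.stabilizer G α)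
          (MulAction.orbit M (⟨ω, MulAction.mem_orbit_self ω⟩ :
            MulAction.orbit (MulAction.stabilizer G α) ω)) := by
        haveI := hMn
        exact IsBlock.orbit_of_normal _
      rcases hB.subsingleton_or_eq_univ with hs | hu
      · exfalso
        apply hM
        rw [Subgroup.eq_bot_iff_forall]
        intro m hm
        apply hF ω hω m
        intro g
        have hm' : g⁻¹ * m * g ∈ M := by
          have := hMn.conj_mem m hm g⁻¹
          simpa using this
        have m1 : (⟨ω, MulAction.mem_orbit_self ω⟩ : MulAction.orbit (MulAction.stabilizer G α) ω) ∈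
            MulAction.orbit M (⟨ω, MulAction.mem_orbit_self ω⟩ :
              MulAction.orbit (MulAction.stabilizer G α) ω) :=
          MulAction.mem_orbit_self _
        have m2 : ((⟨g⁻¹ * m * g, hm'⟩ : M) • (⟨ω, MulAction.mem_orbit_self ω⟩ :
              MulAction.orbit (MulAction.stabilizer G α) ω)) ∈
            MulAction.orbit M (⟨ω, MulAction.mem_orbit_self ω⟩ :
              MulAction.orbit (MulAction.stabilizer G α) ω) :=
          MulAction.mem_orbit _ _
        have h3 : (g⁻¹ * m * g) • ω = ω := congrArg Subtype.val (hs m2 m1)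
        calc m • (g • ω) = g • ((g⁻¹ * m * g) • ω) := by
              rw [← mul_smul, ← mul_smul]; congr 1; group
          _ = g • ω := by rw [h3]
      · have hmem : (⟨h • ω, ⟨h, rfl⟩⟩ : MulAction.orbit (MulAction.stabilizer G α) ω) ∈
            MulAction.orbit M (⟨ω, MulAction.mem_orbit_self ω⟩ :
              MulAction.orbit (MulAction.stabilizer G α) ω) := by
          rw [hu]; trivial
        obtain ⟨n, hn⟩ := hmem
        exact ⟨n.1, n.2, congrArg Subtype.val hn⟩
  have hC : ∀ ω : Ω, ω ≠ α → IsCoatom (stabilizer (MulAction.stabilizer G α) ω) := by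
    intro ω hω
    have := hep α ω
    haveI : Nontrivial (MulAction.orbit (MulAction.stabilizer G α) ω) := by
      by_contra hns
      rw [not_nontrivial_iff_subsingleton] at hns
      obtain ⟨h, hh⟩ := exists_ne (1 : MulAction.stabilizer G α)
      apply hh
      apply hF ω hω h
      intro g
      have e1 : ∀ k : MulAction.stabilizer G α, k • ω = ω := by
        intro k
        have := hns.elim (⟨k • ω, ⟨k, rfl⟩⟩ : MulAction.orbit (MulAction.stabilizer G α) ω)
          ⟨ω, MulAction.mem_orbit_self ω⟩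
        exact congrArg Subtype.val this
      rw [e1 g, e1 h]
    have hco := IsPreprimitive.isCoatom_stabilizer_of_isPreprimitive
      (G := MulAction.stabilizer G α)
      (⟨ω, MulAction.mem_orbit_self ω⟩ : MulAction.orbit (MulAction.stabilizer G α) ω)
    have heq : MulAction.stabilizer (MulAction.stabilizer G α)
        (⟨ω, MulAction.mem_orbit_self ω⟩ : MulAction.orbit (MulAction.stabilizer G α) ω)
        = MulAction.stabilizer (MulAction.stabilizer G α) ω := by
      ext k
      rw [mem_stabilizer_iff, mem_stabilizer_iff]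
      constructor
      · intro hk; exact congrArg Subtype.val hk
      · intro hk; exact Subtype.ext hk
    rw [heq] at hco
    exact hco
  have hΩ : ∃ ω : Ω, ω ≠ α := by
    obtain ⟨h, hh⟩ := exists_ne (1 : MulAction.stabilizer G α)
    by_contra hcon
    push Not at hcon
    apply hh
    apply Subtype.ext
    apply FaithfulSMul.eq_of_smul_eq_smul (α := Ω)
    intro ω
    show (h : G) • ω = (1 : G) • ω
    rw [hcon ω, one_smul]
    exact h.2
  exact core α hα hT hF hC hnt hHp hΩ

end Cfsg.Agent.S3497
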