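import Mathlib
import Cfsg.Statements.S3496
import Cfsg.Agent.S3494
import Cfsg.Agent.S3495
import Cfsg.Agent.S3497
import Cfsg.Agent.Lib.Helper9.IrredAbelian

set_option autoImplicit false
set_option linter.style.haveILetI false
open Cfsg

namespace Cfsg.Agent.S3496

open MulAction
open scoped commutatorElement

/-- A nontrivial solvable group has a nontrivial abelian normal subgroup. -/
lemma exists_abelian_normal {K : Type*} [Group K] [Group.IsSolvable K] [Nontrivial K] :
    ∃ B : Subgroup K, B.Normal ∧ B ≠ ⊥ ∧ ∀ a ∈ B, ∀ b ∈ B, a * b = b * a := by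
  classical
  have hsol : ∃ n : ℕ, derivedSeries K n = ⊥ := (Group.isSolvable_def K).1 inferInstance
  have h0 : Nat.find hsol ≠ 0 := by
    intro h
    have := Nat.find_spec hsol
    rw [h, derivedSeries_zero] at this
    exact top_ne_bot this
  obtain ⟨n, hn⟩ := Nat.exists_eq_succ_of_ne_zero h0
  have hspec := Nat.find_spec hsol
  rw [hn, derivedSeries_succ] at hspec
  have hmin : derivedSeries K n ≠ ⊥ := Nat.find_min hsol (by rw [hn]; exact Nat.lt_succ_self n)
  refine ⟨derivedSeries K n, derivedSeries_normal K n, hmin, ?_⟩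
  intro a ha b hb
  have hc : ⁅a, b⁆ ∈ ⁅derivedSeries K n, derivedSeries K n⁆ :=
    Subgroup.commutator_mem_commutator ha hb
  rw [hspec, Subgroup.mem_bot] at hc
  exact (commutatorElement_eq_one_iff_commute.1 hc).eq

/-- The elements of order dividing a prime `r` in an abelian normal subgroup. -/
lemma exists_prime_exp {K : Type*} [Group K] [Finite K] (B : Subgroup K) (hBn : B.Normal)
    (hab : ∀ a ∈ B, ∀ b ∈ B, a * b = b * a) (r : ℕ) (hr : r.Prime) (hrd : r ∣ Nat.card B) :
    ∃ P : Subgroup K, P.Normal ∧ P ≠ ⊥ ∧ P ≤ B ∧ (∀ a ∈ P, ∀ b ∈ P, a * b = b * a) ∧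
      ∀ y ∈ P, y ^ r = 1 := by
  classical
  haveI : Fact r.Prime := ⟨hr⟩
  obtain ⟨x, hx⟩ := exists_prime_orderOf_dvd_card' r hrd
  obtain ⟨P, hPmem⟩ : ∃ P : Subgroup K, ∀ y, y ∈ P ↔ y ∈ B ∧ y ^ r = 1 :=
    ⟨{ carrier := {y | y ∈ B ∧ y ^ r = 1}
       mul_mem' := by
        rintro a b ⟨ha, ha'⟩ ⟨hb, hb'⟩
        refine ⟨B.mul_mem ha hb, ?_⟩
        have hc : Commute a b := hab a ha b hb
        rw [hc.mul_pow, ha', hb', one_mul]
       one_mem' := ⟨B.one_mem, one_pow _⟩
       inv_mem' := by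
        rintro a ⟨ha, ha'⟩
        exact ⟨B.inv_mem ha, by rw [inv_pow, ha', inv_one]⟩ }, fun y => Iff.rfl⟩
  refine ⟨P, ?_, ?_, fun y hy => ((hPmem y).1 hy).1, ?_, fun y hy => ((hPmem y).1 hy).2⟩
  · refine ⟨fun y hy g => ?_⟩
    rw [hPmem] at hy ⊢
    refine ⟨hBn.conj_mem y hy.1 g, ?_⟩
    rw [conj_pow, hy.2, mul_one, mul_inv_cancel]
  · intro h0
    have hxP : (x : K) ∈ P := by
      rw [hPmem]
      refine ⟨x.2, ?_⟩
      have := pow_orderOf_eq_one x
      rw [hx] at this
      have h2 := congrArg Subtype.val this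
      simpa using h2
    rw [h0, Subgroup.mem_bot] at hxP
    have hx0 : x = 1 := Subtype.ext hxP
    rw [hx0, orderOf_one] at hx
    exact hr.one_lt.ne hx
  · exact fun a ha b hb => hab a ((hPmem a).1 ha).1 b ((hPmem b).1 hb).1

/-- The soluble extremely primitive groups. Let a finite solvable group G act faithfully and primitively on a finite set Ω with p ^ d points (p prime), with non-trivial point stabilizers each acting primitively on every one of its orbits. Then there is a prime q such that every orbit of a point stabilizer G_α other than {α} has exactly q points, q divides p ^ d − 1 but no p ^ i − 1 with 0 < i < d, and G_α has a normal subgroup T of order q with G_α generated by T and one further element and the order of G_α dividing q·d (so G_α is cyclic of order q, or an extension of T by a cyclic group of order dividing d). -/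
theorem result {G : Type*} [Group G] [Finite G] {Ω : Type*} [Fintype Ω] [MulAction G Ω] [FaithfulSMul G Ω] [Group.IsSolvable G] (p d : ℕ) (hp : p.Prime) (hcard : Fintype.card Ω = p ^ d)
    (hprim : MulAction.IsPreprimitive G Ω) (hH : ∀ α : Ω, MulAction.stabilizer G α ≠ ⊥) (hep : ∀ (α : Ω) (ω : Ω), MulAction.IsPreprimitive (MulAction.stabilizer G α) (MulAction.orbit (MulAction.stabilizer G α) ω)) (α : Ω) :
    ∃ q : ℕ, q.Prime ∧ (∀ ω : Ω, ω ≠ α → Nat.card (MulAction.orbit (MulAction.stabilizer G α) ω) = q) ∧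
      q ∣ p ^ d - 1 ∧ (∀ i : ℕ, 0 < i → i < d → ¬ q ∣ p ^ i - 1) ∧
      ∃ T : Subgroup G, T ≤ MulAction.stabilizer G α ∧ MulAction.stabilizer G α ≤ Subgroup.normalizer (T : Set G) ∧ Nat.card T = q ∧
        (∃ h : G, MulAction.stabilizer G α = T ⊔ Subgroup.zpowers h) ∧ Nat.card (MulAction.stabilizer G α) ∣ q * d := by
  classical
  haveI : IsPretransitive G Ω := hprim.toIsPretransitive
  haveI : Fact p.Prime := ⟨hp⟩
  have hGnt : Nontrivial G := by
    obtain ⟨g, hg, hg1⟩ : ∃ g ∈ MulAction.stabilizer G α, g ≠ 1 := by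
      by_contra hcon
      push Not at hcon
      exact hH α ((Subgroup.eq_bot_iff_forall _).2 hcon)
    exact ⟨⟨g, 1, hg1⟩⟩
  have hnormal_trans : ∀ N : Subgroup G, N.Normal → N ≠ ⊥ → ∀ x y : Ω, ∃ n ∈ N, n • x = y := by
    intro N hNn hN x y
    haveI := hNn
    have hB : IsBlock G (MulAction.orbit N x) := IsBlock.orbit_of_normal x
    rcases hB.subsingleton_or_eq_univ with hs | hu
    · exfalso
      apply hN
      rw [Subgroup.eq_bot_iff_forall]
      intro n hn
      apply FaithfulSMul.eq_of_smul_eq_smul (α := Ω)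
      intro z
      rw [one_smul]
      obtain ⟨g, rfl⟩ := MulAction.exists_smul_eq G x z
      have hn' : g⁻¹ * n * g ∈ N := by
        have := hNn.conj_mem n hn g⁻¹
        simpa using this
      have h1 : (g⁻¹ * n * g) • x ∈ MulAction.orbit N x := ⟨⟨_, hn'⟩, rfl⟩
      have h2 : x ∈ MulAction.orbit N x := MulAction.mem_orbit_self x
      have h3 : (g⁻¹ * n * g) • x = x := hs h1 h2
      calc n • (g • x) = g • ((g⁻¹ * n * g) • x) := by
            rw [← mul_smul, ← mul_smul]; congr 1; group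
        _ = g • x := by rw [h3]
    · have : y ∈ MulAction.orbit N x := by rw [hu]; trivial
      obtain ⟨n, hn⟩ := this
      exact ⟨n.1, n.2, hn⟩
  have hnormal_reg : ∀ N : Subgroup G, N.Normal → N ≠ ⊥ → (∀ a ∈ N, ∀ b ∈ N, a * b = b * a) →
      ∀ n ∈ N, ∀ x : Ω, n • x = x → n = 1 := by
    intro N hNn hN hab n hn x hx
    apply FaithfulSMul.eq_of_smul_eq_smul (α := Ω)
    intro z
    rw [one_smul]
    obtain ⟨m, hm, rfl⟩ := hnormal_trans N hNn hN x z
    rw [← mul_smul, hab n hn m hm, mul_smul, hx]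
  have hcard_reg : ∀ N : Subgroup G, N.Normal → N ≠ ⊥ → (∀ a ∈ N, ∀ b ∈ N, a * b = b * a) →
      Nat.card N = p ^ d := by
    intro N hNn hN hab
    rw [← hcard, ← Nat.card_eq_fintype_card]
    apply Nat.card_congr
    refine Equiv.ofBijective (fun b : N => (b : G) • α) ⟨?_, ?_⟩
    · intro a b hab'
      have hab'' : (a : G) • α = (b : G) • α := hab'
      have h1 : ((a : G)⁻¹ * b) • α = α := by
        rw [mul_smul, ← hab'', inv_smul_smul]
      have h2 := hnormal_reg N hNn hN hab _ (N.mul_mem (N.inv_mem a.2) b.2) α h1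
      exact Subtype.ext (inv_mul_eq_one.1 h2)
    · intro y
      obtain ⟨n, hn, hny⟩ := hnormal_trans N hNn hN α y
      exact ⟨⟨n, hn⟩, hny⟩
  obtain ⟨B₀, hB₀n, hB₀, hB₀ab⟩ := exists_abelian_normal (K := G)
  have hcardB : Nat.card B₀ = p ^ d := hcard_reg B₀ hB₀n hB₀ hB₀ab
  have hd : 0 < d := by
    rcases Nat.eq_zero_or_pos d with h0 | h0
    · exfalso
      rw [h0, pow_zero] at hcardB
      exact hB₀ (Subgroup.card_eq_one.1 hcardB)
    · exact h0
  obtain ⟨A, hAn, hA, hAB, hAab, hAexp⟩ := exists_prime_exp B₀ hB₀n hB₀ab p hp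
    (by rw [hcardB]; exact dvd_pow_self p hd.ne')
  have hcardA : Nat.card A = p ^ d := hcard_reg A hAn hA hAab
  haveI hAnI : A.Normal := hAn
  have hAc : IsMulCommutative A := ⟨⟨fun a b => Subtype.ext (hAab a.1 a.2 b.1 b.2)⟩⟩
  have hAtr : MulAction.IsPretransitive A Ω := by
    refine ⟨fun x y => ?_⟩
    obtain ⟨n, hn, hny⟩ := hnormal_trans A hAn hA x y
    exact ⟨⟨n, hn⟩, hny⟩
  have hAreg : ∀ ω : Ω, MulAction.stabilizer A ω = ⊥ := by
    intro ω
    rw [Subgroup.eq_bot_iff_forall]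
    intro n hn
    exact Subtype.ext (hnormal_reg A hAn hA hAab n.1 n.2 ω hn)
  haveI hHnt : Nontrivial (MulAction.stabilizer G α) :=
    (Subgroup.nontrivial_iff_ne_bot _).2 (hH α)
  obtain ⟨B₁, hB₁n, hB₁, hB₁ab⟩ := exists_abelian_normal (K := MulAction.stabilizer G α)
  have hB₁card : Nat.card B₁ ≠ 1 := fun h => hB₁ (Subgroup.card_eq_one.1 h)
  obtain ⟨q, hq, hqd⟩ := Nat.exists_prime_and_dvd hB₁card
  obtain ⟨T, hTn, hT, hTB, hTab, hTexp⟩ := exists_prime_exp B₁ hB₁n hB₁ab q hq hqd
  obtain ⟨M, hMdef⟩ : ∃ M : Subgroup G, M = T.map (MulAction.stabilizer G α).subtype := ⟨_, rfl⟩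
  have hMmem : ∀ m : G, m ∈ M ↔
      ∃ hm : m ∈ MulAction.stabilizer G α, (⟨m, hm⟩ : MulAction.stabilizer G α) ∈ T := by
    intro m
    rw [hMdef, Subgroup.mem_map]
    constructor
    · rintro ⟨x, hx, rfl⟩
      exact ⟨x.2, hx⟩
    · rintro ⟨hm, hx⟩
      exact ⟨⟨m, hm⟩, hx, rfl⟩
  have hMle : M ≤ MulAction.stabilizer G α := fun m hm => ((hMmem m).1 hm).1
  have hMne : M ≠ ⊥ := by
    intro h0
    apply hT
    rw [Subgroup.eq_bot_iff_forall]
    intro t ht
    have : (t : G) ∈ M := (hMmem _).2 ⟨t.2, ht⟩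
    rw [h0, Subgroup.mem_bot] at this
    exact Subtype.ext this
  have hMconj : ∀ s ∈ MulAction.stabilizer G α, ∀ m ∈ M, s * m * s⁻¹ ∈ M := by
    intro s hs m hm
    obtain ⟨hm1, hm2⟩ := (hMmem m).1 hm
    rw [hMmem]
    refine ⟨(MulAction.stabilizer G α).mul_mem ((MulAction.stabilizer G α).mul_mem hs hm1)
      ((MulAction.stabilizer G α).inv_mem hs), ?_⟩
    exact hTn.conj_mem ⟨m, hm1⟩ hm2 ⟨s, hs⟩
  have hMn : MulAction.stabilizer G α ≤ Subgroup.normalizer (M : Set G) := by
    intro s hs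
    rw [Subgroup.mem_normalizer_iff]
    intro m
    constructor
    · exact hMconj s hs m
    · intro hm
      have := hMconj s⁻¹ ((MulAction.stabilizer G α).inv_mem hs) _ hm
      have e : s⁻¹ * (s * m * s⁻¹) * s⁻¹⁻¹ = m := by group
      rwa [e] at this
  have hMab : ∀ a ∈ M, ∀ b ∈ M, a * b = b * a := by
    intro a ha b hb
    obtain ⟨ha1, ha2⟩ := (hMmem a).1 ha
    obtain ⟨hb1, hb2⟩ := (hMmem b).1 hb
    exact congrArg Subtype.val (hTab _ ha2 _ hb2)
  obtain ⟨part1, part2⟩ := Cfsg.Agent.S3495.result hprim hH hep A hAc p hp hAexp hAtr hAreg α M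
    hMne hMle hMn
  have hS := Cfsg.Agent.S3494.result hprim hH hep α
  have hfixall : ∀ ω : Ω, ω ≠ α → ∀ k ∈ MulAction.stabilizer G α,
      (∀ m ∈ M, k * m = m * k) → k • ω = ω → k = 1 := by
    intro ω hω k hk hkc hkω
    have := hS ω hω ⟨k, hk⟩ (by
      intro x hx
      rw [← part1 ω] at hx
      obtain ⟨m, rfl⟩ := hx
      show k • ((m : G) • ω) = (m : G) • ω
      rw [← mul_smul, hkc m m.2, mul_smul, hkω])
    exact congrArg Subtype.val this
  have hMfree : ∀ ω : Ω, ω ≠ α → ∀ m ∈ M, m • ω = ω → m = 1 := fun ω hω m hm hmω =>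
    hfixall ω hω m (hMle hm) (fun m' hm' => hMab m hm m' hm') hmω
  obtain ⟨ω₀, hω₀⟩ : ∃ ω : Ω, ω ≠ α := by
    obtain ⟨h, hh⟩ := exists_ne (1 : MulAction.stabilizer G α)
    by_contra hcon
    push Not at hcon
    apply hh
    apply Subtype.ext
    apply FaithfulSMul.eq_of_smul_eq_smul (α := Ω)
    intro ω
    show (h : G) • ω = (1 : G) • ω
    rw [hcon ω, one_smul]
    exact h.2
  have hcent : ∀ k ∈ MulAction.stabilizer G α, (∀ m ∈ M, k * m = m * k) → k ∈ M := by
    intro k hk hkc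
    have h1 : k • ω₀ ∈ MulAction.orbit (MulAction.stabilizer G α) ω₀ := ⟨⟨k, hk⟩, rfl⟩
    rw [← part1 ω₀] at h1
    obtain ⟨m, hm⟩ := h1
    have hm' : (m : G) • ω₀ = k • ω₀ := hm
    have h2 : ((m : G)⁻¹ * k) • ω₀ = ω₀ := by rw [mul_smul, ← hm', inv_smul_smul]
    have h3 : ∀ m' ∈ M, ((m : G)⁻¹ * k) * m' = m' * ((m : G)⁻¹ * k) := by
      intro m' hm'
      have e1 : (m : G)⁻¹ * m' = m' * (m : G)⁻¹ := by
        have := hMab m m.2 m' hm'
        calc (m : G)⁻¹ * m' = (m : G)⁻¹ * (m' * m) * (m : G)⁻¹ := by group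
          _ = (m : G)⁻¹ * (m * m') * (m : G)⁻¹ := by rw [this]
          _ = m' * (m : G)⁻¹ := by group
      calc ((m : G)⁻¹ * k) * m' = (m : G)⁻¹ * (k * m') := by group
        _ = (m : G)⁻¹ * (m' * k) := by rw [hkc m' hm']
        _ = ((m : G)⁻¹ * m') * k := by group
        _ = (m' * (m : G)⁻¹) * k := by rw [e1]
        _ = m' * ((m : G)⁻¹ * k) := by group
    have h4 := hfixall ω₀ hω₀ _ ((MulAction.stabilizer G α).mul_mem
      ((MulAction.stabilizer G α).inv_mem (hMle m.2)) hk) h3 h2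
    rw [← inv_mul_eq_one.1 h4]
    exact m.2
  have horb : ∀ ω : Ω, ω ≠ α →
      Nat.card (MulAction.orbit (MulAction.stabilizer G α) ω) = Nat.card M := by
    intro ω hω
    rw [← part1 ω]
    have hst : MulAction.stabilizer M ω = ⊥ := by
      rw [Subgroup.eq_bot_iff_forall]
      intro m hm
      exact Subtype.ext (hMfree ω hω m.1 m.2 hm)
    rw [Nat.card_congr (MulAction.orbitEquivQuotientStabilizer M ω)]
    have : Nat.card (M ⧸ MulAction.stabilizer M ω) = (MulAction.stabilizer M ω).index := rfl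
    rw [this, hst, Subgroup.index_bot]
  -- the linear action on `A`
  letI : CommGroup A := { (inferInstance : Group A) with
    mul_comm := fun a b => Subtype.ext (hAab a.1 a.2 b.1 b.2) }
  have hnsmul : ∀ x : Additive A, p • x = 0 := by
    intro x
    have h := hAexp (Additive.toMul x).1 (Additive.toMul x).2
    have h' : (Additive.toMul x) ^ p = 1 := Subtype.ext (by simpa using h)
    exact congrArg Additive.ofMul h'
  letI : Module (ZMod p) (Additive A) := AddCommGroup.zmodModule (n := p) hnsmul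
  haveI : Finite (Additive A) := inferInstanceAs (Finite A)
  let ψ : G →* Module.End (ZMod p) (Additive A) :=
    { toFun := fun h => AddMonoidHom.toZModLinearMap p
        (MonoidHom.toAdditive ((MulAut.conjNormal h : MulAut A).toMonoidHom))
      map_one' := by
        apply LinearMap.ext
        intro x
        show Additive.ofMul ((MulAut.conjNormal (1 : G) : MulAut A) (Additive.toMul x)) = x
        rw [map_one]
        rfl
      map_mul' := by
        intro a c
        apply LinearMap.ext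
        intro x
        show Additive.ofMul ((MulAut.conjNormal (a * c) : MulAut A) (Additive.toMul x)) =
          Additive.ofMul ((MulAut.conjNormal a : MulAut A)
            ((MulAut.conjNormal c : MulAut A) (Additive.toMul x)))
        rw [map_mul]
        rfl }
  have hψ : ∀ (g : G) (x : A), ((ψ g) (Additive.ofMul x) : Additive A) =
      Additive.ofMul ((MulAut.conjNormal g : MulAut A) x) := fun g x => rfl
  have hψ' : ∀ (g : G) (a : G) (ha : a ∈ A), ((ψ g) (Additive.ofMul (⟨a, ha⟩ : A)) : Additive A) =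
      Additive.ofMul (⟨g * a * g⁻¹, hAn.conj_mem a ha g⟩ : A) := by
    intro g a ha
    rw [hψ]
    exact congrArg Additive.ofMul (Subtype.ext (MulAut.conjNormal_apply g _))
  haveI := hTn
  letI : CommGroup T := { (inferInstance : Group T) with
    mul_comm := fun a b => Subtype.ext (hTab a.1 a.2 b.1 b.2) }
  have hfaith : ∀ t : T, (ψ.comp (MulAction.stabilizer G α).subtype) (T.subtype t) = 1 → t = 1 := by
    intro t ht
    obtain ⟨k, hkdef⟩ : ∃ k : G, k = ((t : MulAction.stabilizer G α) : G) := ⟨_, rfl⟩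
    have hk : ψ k = 1 := by rw [hkdef]; exact ht
    have hkα : k • α = α := by rw [hkdef]; exact (t : MulAction.stabilizer G α).2
    have hcomm : ∀ a ∈ A, k * a * k⁻¹ = a := by
      intro a ha
      have h5 := hψ' k a ha
      rw [hk] at h5
      have h6 := congrArg Subtype.val (Additive.ofMul.injective h5)
      exact h6.symm
    have h1 : k = 1 := by
      apply FaithfulSMul.eq_of_smul_eq_smul (α := Ω)
      intro z
      rw [one_smul]
      obtain ⟨a, ha, rfl⟩ := hnormal_trans A hAn hA α z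
      have e : k * a = (k * a * k⁻¹) * k := by group
      rw [← mul_smul, e, hcomm a ha, mul_smul, hkα]
    apply Subtype.ext
    apply Subtype.ext
    rw [← hkdef, h1]
    rfl
  have hirr : ∀ W : AddSubgroup (Additive A),
      (∀ (t : T), ∀ w ∈ W, (ψ.comp (MulAction.stabilizer G α).subtype) (T.subtype t) w ∈ W) →
      W = ⊥ ∨ W = ⊤ := by
    intro W hW
    obtain ⟨L, hLmem⟩ : ∃ L : Subgroup G,
        ∀ g, g ∈ L ↔ ∃ hg : g ∈ A, Additive.ofMul (⟨g, hg⟩ : A) ∈ W :=
      ⟨{ carrier := {g | ∃ hg : g ∈ A, Additive.ofMul (⟨g, hg⟩ : A) ∈ W}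
         mul_mem' := by
          rintro a b ⟨ha, ha'⟩ ⟨hb, hb'⟩
          exact ⟨A.mul_mem ha hb, W.add_mem ha' hb'⟩
         one_mem' := ⟨A.one_mem, W.zero_mem⟩
         inv_mem' := by
          rintro a ⟨ha, ha'⟩
          exact ⟨A.inv_mem ha, W.neg_mem ha'⟩ }, fun g => Iff.rfl⟩
    have hLA : L ≤ A := fun g hg => ((hLmem g).1 hg).1
    have hLconj : ∀ m ∈ M, ∀ l ∈ L, m * l * m⁻¹ ∈ L := by
      intro m hm l hl
      obtain ⟨hm1, hm2⟩ := (hMmem m).1 hm
      obtain ⟨hl1, hl2⟩ := (hLmem l).1 hl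
      rw [hLmem]
      refine ⟨hAn.conj_mem l hl1 m, ?_⟩
      have h1 := hW ⟨⟨m, hm1⟩, hm2⟩ _ hl2
      have h2 : (ψ m) (Additive.ofMul (⟨l, hl1⟩ : A)) ∈ W := h1
      rw [hψ' m l hl1] at h2
      exact h2
    have hML : M ≤ Subgroup.normalizer (L : Set G) := by
      intro s hs
      rw [Subgroup.mem_normalizer_iff]
      intro l
      constructor
      · exact hLconj s hs l
      · intro hl
        have := hLconj s⁻¹ (M.inv_mem hs) _ hl
        have e : s⁻¹ * (s * l * s⁻¹) * s⁻¹⁻¹ = l := by group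
        rwa [e] at this
    rcases part2 L hLA hML with h0 | h1
    · left
      rw [AddSubgroup.eq_bot_iff_forall]
      intro w hw
      have h2 : ((Additive.toMul w : A) : G) ∈ L := (hLmem _).2 ⟨(Additive.toMul w).2, hw⟩
      rw [h0, Subgroup.mem_bot] at h2
      have h3 : Additive.toMul w = 1 := Subtype.ext h2
      exact congrArg Additive.ofMul h3
    · right
      rw [AddSubgroup.eq_top_iff']
      intro w
      have h2 : ((Additive.toMul w : A) : G) ∈ L := by rw [h1]; exact (Additive.toMul w).2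
      obtain ⟨_, h3⟩ := (hLmem _).1 h2
      exact h3
  have hVcard : Nat.card (Additive A) = p ^ d := hcardA
  obtain ⟨_, hTdvd, hprimdiv, N, hNcent, hNidx, h₀, hh₀⟩ :=
    Cfsg.Agent.Lib.Helper9.h9ia_main (p := p) (d := d) (V := Additive A) hVcard hd
      (ψ.comp (MulAction.stabilizer G α).subtype) T.subtype MulAut.conjNormal
      (fun h t => MulAut.conjNormal_apply h t) hfaith hirr
  have hTexp' : ∀ t : T, t ^ q = 1 := fun t => Subtype.ext (by simpa using hTexp t.1 t.2)
  have hTcard : Nat.card T = q := by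
    rcases (Nat.dvd_prime hq).1 (hTdvd q hTexp') with h1 | h1
    · exact absurd (Subgroup.card_eq_one.1 h1) hT
    · exact h1
  have hMcard : Nat.card M = q := by
    rw [hMdef, Subgroup.card_map_of_injective (Subgroup.subtype_injective _)]
    exact hTcard
  have hNT : ∀ h ∈ N, h ∈ T := by
    intro h hh
    have h1 : (h : G) ∈ M := by
      apply hcent (h : G) h.2
      intro m hm
      obtain ⟨hm1, hm2⟩ := (hMmem m).1 hm
      exact congrArg Subtype.val (hNcent h hh ⟨⟨m, hm1⟩, hm2⟩)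
    obtain ⟨_, h2⟩ := (hMmem _).1 h1
    exact h2
  refine ⟨q, hq, ?_, ?_, ?_, M, hMle, hMn, hMcard, ?_, ?_⟩
  · intro ω hω
    rw [horb ω hω, hMcard]
  · have := Cfsg.Agent.S3497.card_dvd_sub_one (N := M) α
      (fun n => mem_stabilizer_iff.1 (hMle n.2))
      (fun ω hω n hn => Subtype.ext (hMfree ω hω n.1 n.2 hn))
    rw [hMcard, hcard] at this
    exact this
  · exact fun i hi hid => hprimdiv q i hTexp' hi hid
  · refine ⟨(h₀ : G), le_antisymm ?_ ?_⟩
    · intro y hy
      obtain ⟨n, hn⟩ := hh₀ ⟨y, hy⟩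
      have h1 : y * (h₀ : G) ^ n ∈ M := (hMmem _).2 ⟨_, hNT _ hn⟩
      have h2 : y = (y * (h₀ : G) ^ n) * ((h₀ : G) ^ n)⁻¹ := by group
      rw [h2]
      apply Subgroup.mul_mem_sup h1
      exact Subgroup.inv_mem _ (Subgroup.zpow_mem_zpowers _ n)
    · exact sup_le hMle ((Subgroup.zpowers_le).2 h₀.2)
  · have h1 : Nat.card N * N.index = Nat.card (MulAction.stabilizer G α) :=
      Subgroup.card_mul_index N
    have h2 : Nat.card N ∣ Nat.card T := Subgroup.card_dvd_of_le (fun h hh => hNT h hh)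
    rw [← h1, ← hTcard]
    exact Nat.mul_dvd_mul h2 hNidx

end Cfsg.Agent.S3496
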