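import Mathlib
import Cfsg.Statements.S3532
import Cfsg.Agent.S2475

set_option autoImplicit false
open Cfsg

namespace Cfsg.Agent.S3532

/-- The scalar action of the units of a field on its additive group (written multiplicatively). -/
def act (K : Type) [Field K] : Kˣ →* MulAut (Multiplicative K) where
  toFun u :=
    { toFun := fun n => Multiplicative.ofAdd ((u : K) * Multiplicative.toAdd n)
      invFun := fun n => Multiplicative.ofAdd (((u⁻¹ : Kˣ) : K) * Multiplicative.toAdd n)
      left_inv := fun n => by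
        simp
      right_inv := fun n => by
        simp
      map_mul' := fun a b => by
        simp [mul_add] }
  map_one' := by
    ext n
    simp
  map_mul' := fun u v => by
    ext n
    simp [mul_assoc]

theorem act_apply (K : Type) [Field K] (u : Kˣ) (n : Multiplicative K) :
    act K u n = Multiplicative.ofAdd ((u : K) * Multiplicative.toAdd n) := rfl

/-- The "Frobenius-like" group `K ⋊ ⟨ζ⟩`. -/
abbrev Fr (K : Type) [Field K] (ζ : Kˣ) : Type :=
  Multiplicative K ⋊[(act K).comp (Subgroup.zpowers ζ).subtype] (Subgroup.zpowers ζ)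

instance instFiniteFr (K : Type) [Field K] [Finite K] (ζ : Kˣ) : Finite (Fr K ζ) :=
  Finite.of_equiv _ SemidirectProduct.equivProd.symm

instance instSolvableFr (K : Type) [Field K] (ζ : Kˣ) : Group.IsSolvable (Fr K ζ) :=
  Group.isSolvable_of_ker_le_range (SemidirectProduct.inl) (SemidirectProduct.rightHom)
    (le_of_eq SemidirectProduct.range_inl_eq_ker_rightHom.symm)

theorem pow_right (K : Type) [Field K] (ζ : Kˣ) (x : Fr K ζ) (j : ℕ) :
    (x ^ j).right = x.right ^ j :=
  map_pow SemidirectProduct.rightHom x j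

theorem pow_left (K : Type) [Field K] (ζ : Kˣ) (x : Fr K ζ) (j : ℕ) :
    (x ^ j).left = Multiplicative.ofAdd
      ((∑ i ∈ Finset.range j, ((x.right : Kˣ) : K) ^ i) * Multiplicative.toAdd x.left) := by
  induction j with
  | zero => simp
  | succ j ih =>
    rw [pow_succ', SemidirectProduct.mul_left, ih]
    change Multiplicative.ofAdd (Multiplicative.toAdd x.left + ((x.right : Kˣ) : K) *
      ((∑ i ∈ Finset.range j, ((x.right : Kˣ) : K) ^ i) * Multiplicative.toAdd x.left)) = _
    congr 1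
    rw [geom_sum_succ]
    ring

theorem spec_Fr (K : Type) [Field K] [Finite K] (p : ℕ) [Fact p.Prime] [CharP K p] (ζ : Kˣ) :
    Set.range (orderOf : Fr K ζ → ℕ) = {d : ℕ | d ∣ p ∨ d ∣ orderOf ζ} := by
  ext d
  simp only [Set.mem_range, Set.mem_ofPred_eq]
  constructor
  · rintro ⟨x, rfl⟩
    by_cases hx : x.right = 1
    · left
      apply orderOf_dvd_of_pow_eq_one
      ext
      · rw [pow_left, hx]
        simp
      · rw [pow_right, hx]
        simp
    · right
      have h1 : orderOf x = orderOf x.right := by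
        apply orderOf_eq_orderOf_iff.2
        intro n
        constructor
        · intro h
          have h2 := congrArg SemidirectProduct.right h
          rw [pow_right] at h2
          exact h2
        · intro h
          have ha : ((x.right : Kˣ) : K) ≠ 1 := by
            intro h3
            apply hx
            apply Subtype.ext
            apply Units.ext
            simpa using h3
          have han : ((x.right : Kˣ) : K) ^ n = 1 := by
            have h3 := congrArg (fun y : Subgroup.zpowers ζ => ((y : Kˣ) : K)) h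
            simpa using h3
          have hs : (∑ i ∈ Finset.range n, ((x.right : Kˣ) : K) ^ i) = 0 := by
            have h4 := geom_sum_mul ((x.right : Kˣ) : K) n
            rw [han, sub_self] at h4
            exact (mul_eq_zero.1 h4).resolve_right (sub_ne_zero.2 ha)
          ext
          · rw [pow_left, hs]
            simp
          · rw [pow_right, h]
            rfl
      rw [h1, ← Subgroup.orderOf_coe]
      exact orderOf_dvd_of_mem_zpowers x.right.2
  · rintro (h | h)
    · rcases (Nat.dvd_prime (Fact.out : p.Prime)).1 h with rfl | rfl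
      · exact ⟨1, orderOf_one⟩
      · refine ⟨SemidirectProduct.inl (Multiplicative.ofAdd 1), ?_⟩
        rw [orderOf_injective _ SemidirectProduct.inl_injective]
        apply orderOf_eq_prime
        · rw [← ofAdd_nsmul, nsmul_eq_mul, mul_one, CharP.cast_eq_zero, ofAdd_zero]
        · intro h2
          have h3 : (1 : K) = 0 := Multiplicative.ofAdd.injective h2
          exact one_ne_zero h3
    · obtain ⟨e, he⟩ := h
      have hpos : 0 < orderOf ζ := orderOf_pos ζ
      have he0 : e ≠ 0 := by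
        rintro rfl
        rw [mul_zero] at he
        omega
      refine ⟨SemidirectProduct.inr ⟨ζ ^ e, Subgroup.npow_mem_zpowers ζ e⟩, ?_⟩
      rw [orderOf_injective _ SemidirectProduct.inr_injective, ← Subgroup.orderOf_coe]
      change orderOf (ζ ^ e) = d
      rw [orderOf_pow_of_dvd he0 (Dvd.intro_left d he.symm), he]
      exact Nat.mul_div_cancel d (Nat.pos_of_ne_zero he0)

theorem exists_field_unit (p m : ℕ) [Fact p.Prime] (hm : 0 < m) (hpm : p.Coprime m) :
    ∃ k : ℕ, k ≠ 0 ∧ ∃ ζ : (GaloisField p k)ˣ, orderOf ζ = m := by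
  have hp := (Fact.out : p.Prime)
  have hk : Nat.totient m ≠ 0 := (Nat.totient_pos.2 hm).ne'
  refine ⟨Nat.totient m, hk, ?_⟩
  have hdvd : m ∣ p ^ Nat.totient m - 1 := by
    have h1 := Nat.ModEq.pow_totient hpm
    exact (Nat.modEq_iff_dvd' (Nat.one_le_pow _ _ hp.pos)).1 h1.symm
  have hcard : Nat.card (GaloisField p (Nat.totient m))ˣ = p ^ Nat.totient m - 1 := by
    rw [Nat.card_units, GaloisField.card p _ hk]
  obtain ⟨g, hg⟩ := IsCyclic.exists_generator (α := (GaloisField p (Nat.totient m))ˣ)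
  have hog : orderOf g = p ^ Nat.totient m - 1 := by
    rw [orderOf_eq_card_of_forall_mem_zpowers hg, hcard]
  have hpos : 0 < orderOf g := orderOf_pos g
  obtain ⟨e, he⟩ := hdvd
  have he0 : e ≠ 0 := by
    rintro rfl
    rw [mul_zero] at he
    omega
  refine ⟨g ^ e, ?_⟩
  rw [orderOf_pow_of_dvd he0 (by rw [hog, he]; exact Dvd.intro_left m rfl), hog, he]
  exact Nat.mul_div_cancel m (Nat.pos_of_ne_zero he0)

theorem range_orderOf_prod (A B : Type*) [Monoid A] [Monoid B] :
    Set.range (orderOf : A × B → ℕ) =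
      {d : ℕ | ∃ a ∈ Set.range (orderOf : A → ℕ), ∃ b ∈ Set.range (orderOf : B → ℕ),
        d = Nat.lcm a b} := by
  ext d
  constructor
  · rintro ⟨⟨a, b⟩, rfl⟩
    exact ⟨orderOf a, ⟨a, rfl⟩, orderOf b, ⟨b, rfl⟩, Prod.orderOf (a, b)⟩
  · rintro ⟨_, ⟨a, rfl⟩, _, ⟨b, rfl⟩, rfl⟩
    exact ⟨(a, b), Prod.orderOf (a, b)⟩

theorem spec_combine (p m₂ m₃ : ℕ) :
    {d : ℕ | ∃ a ∈ {d : ℕ | d ∣ p ∨ d ∣ m₂}, ∃ b ∈ {d : ℕ | d ∣ p ∨ d ∣ m₃}, d = Nat.lcm a b} =
    {d : ℕ | ∃ a ∈ {m : ℕ | m ∣ p ∨ m ∣ m₂ ∨ m ∣ m₃},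
      ∃ b ∈ {m : ℕ | m ∣ p ∨ m ∣ m₂ ∨ m ∣ m₃}, d = Nat.lcm a b} := by
  ext d
  simp only [Set.mem_ofPred_eq]
  constructor
  · rintro ⟨a, ha, b, hb, rfl⟩
    refine ⟨a, ?_, b, ?_, rfl⟩
    · rcases ha with h | h
      · exact Or.inl h
      · exact Or.inr (Or.inl h)
    · rcases hb with h | h
      · exact Or.inl h
      · exact Or.inr (Or.inr h)
  · rintro ⟨a, ha, b, hb, rfl⟩
    rcases ha with ha | ha | ha <;> rcases hb with hb | hb | hb
    · exact ⟨Nat.lcm a b, Or.inl (Nat.lcm_dvd ha hb), 1, Or.inl (one_dvd _),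
        (Nat.lcm_one_right _).symm⟩
    · exact ⟨b, Or.inr hb, a, Or.inl ha, Nat.lcm_comm a b⟩
    · exact ⟨a, Or.inl ha, b, Or.inr hb, rfl⟩
    · exact ⟨a, Or.inr ha, b, Or.inl hb, rfl⟩
    · exact ⟨Nat.lcm a b, Or.inr (Nat.lcm_dvd ha hb), 1, Or.inl (one_dvd _),
        (Nat.lcm_one_right _).symm⟩
    · exact ⟨a, Or.inr ha, b, Or.inr hb, rfl⟩
    · exact ⟨b, Or.inl hb, a, Or.inr ha, Nat.lcm_comm a b⟩
    · exact ⟨b, Or.inr hb, a, Or.inr ha, Nat.lcm_comm a b⟩
    · exact ⟨1, Or.inl (one_dvd _), Nat.lcm a b, Or.inr (Nat.lcm_dvd ha hb),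
        (Nat.lcm_one_left _).symm⟩

/-- Let q ≥ 4 be a prime power and L = PSL(2,q). There is a finite solvable group with the same set of element orders as L × L (so L × L is not determined by its spectrum). -/
theorem result {F : Type*} [Field F] [Fintype F] (hF : 4 ≤ Fintype.card F) :
    ∃ (H : Type) (_ : Group H) (_ : Finite H), Group.IsSolvable H ∧
      Set.range (orderOf : H → ℕ) = Set.range (orderOf : Matrix.ProjectiveSpecialLinearGroup (Fin 2) F × Matrix.ProjectiveSpecialLinearGroup (Fin 2) F → ℕ) := by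
  obtain ⟨p, hchar⟩ := CharP.exists F
  have := hchar
  have : Fact p.Prime := ⟨CharP.char_is_prime F p⟩
  have hp := (Fact.out : p.Prime)
  obtain ⟨n, -, hq⟩ := FiniteField.card F p
  have hpq : p ∣ Fintype.card F := by
    rw [hq]
    exact dvd_pow_self p n.ne_zero
  have hspec := Cfsg.Agent.S2475.result (F := F) p hF
  generalize Fintype.card F = q at hF hpq hspec
  have hg : Nat.gcd 2 (q - 1) ∣ q - 1 := Nat.gcd_dvd_right _ _
  have hgpos : 0 < Nat.gcd 2 (q - 1) := Nat.gcd_pos_of_pos_left _ (by norm_num)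
  have hg3 : Nat.gcd 2 (q - 1) ∣ q + 1 := by
    have h1 := Nat.dvd_add hg (Nat.gcd_dvd_left 2 (q - 1))
    rwa [show q - 1 + 2 = q + 1 by omega] at h1
  have hm2dvd : (q - 1) / Nat.gcd 2 (q - 1) ∣ q - 1 := Nat.div_dvd_of_dvd hg
  have hm3dvd : (q + 1) / Nat.gcd 2 (q - 1) ∣ q + 1 := Nat.div_dvd_of_dvd hg3
  have hm2pos : 0 < (q - 1) / Nat.gcd 2 (q - 1) :=
    Nat.div_pos (Nat.le_of_dvd (by omega) hg) hgpos
  have hm3pos : 0 < (q + 1) / Nat.gcd 2 (q - 1) :=
    Nat.div_pos (Nat.le_of_dvd (by omega) hg3) hgpos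
  have hcop2 : p.Coprime ((q - 1) / Nat.gcd 2 (q - 1)) := by
    have h1 : p.Coprime (q - 1) := by
      rw [Nat.Prime.coprime_iff_not_dvd hp]
      intro h
      have h2 : p ∣ q - 1 + 1 := by
        rw [show q - 1 + 1 = q by omega]
        exact hpq
      have h3 : p ∣ 1 := (Nat.dvd_add_right h).1 h2
      exact hp.one_lt.ne' (Nat.dvd_one.1 h3)
    exact Nat.Coprime.coprime_dvd_right hm2dvd h1
  have hcop3 : p.Coprime ((q + 1) / Nat.gcd 2 (q - 1)) := by
    have h1 : p.Coprime (q + 1) := by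
      rw [Nat.Prime.coprime_iff_not_dvd hp]
      intro h
      have h3 : p ∣ 1 := (Nat.dvd_add_right hpq).1 h
      exact hp.one_lt.ne' (Nat.dvd_one.1 h3)
    exact Nat.Coprime.coprime_dvd_right hm3dvd h1
  obtain ⟨k₂, hk₂, ζ₂, hζ₂⟩ := exists_field_unit p _ hm2pos hcop2
  obtain ⟨k₃, hk₃, ζ₃, hζ₃⟩ := exists_field_unit p _ hm3pos hcop3
  refine ⟨Fr (GaloisField p k₂) ζ₂ × Fr (GaloisField p k₃) ζ₃, inferInstance, inferInstance,
    inferInstance, ?_⟩
  rw [range_orderOf_prod, range_orderOf_prod, spec_Fr _ p, spec_Fr _ p, hζ₂, hζ₃, hspec]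
  exact spec_combine p _ _

end Cfsg.Agent.S3532
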