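import Mathlib
import Cfsg.Statements.S3554
import Cfsg.Agent.Lib.Helper8.SubgroupCount
import Cfsg.Agent.Lib.Helper8.Basic

set_option autoImplicit false
open Cfsg

namespace Cfsg.Agent.S3554

open Cfsg.Agent.Lib.Helper8

/-- Let G act faithfully and transitively on a finite set and suppose G has a non-trivial cyclic normal subgroup. Then some element of G of prime order fixes no point. -/
theorem result {G Ω : Type*} [Group G] [Finite G] [MulAction G Ω] [FaithfulSMul G Ω] [Finite Ω]
    (htrans : MulAction.IsPretransitive G Ω) (C : Subgroup G) (hC : C.Normal) (hC1 : C ≠ ⊥) (hcyc : IsCyclic ↥C) :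
    ∃ g : G, (orderOf g).Prime ∧ ∀ ω : Ω, g • ω ≠ ω := by
  classical
  have hcard : Nat.card C ≠ 1 := by
    intro h
    exact hC1 (Subgroup.card_eq_one.1 h)
  obtain ⟨q, hq, hqd⟩ := Nat.exists_prime_and_dvd hcard
  haveI : Fact q.Prime := ⟨hq⟩
  obtain ⟨c, hc⟩ := exists_prime_orderOf_dvd_card' (G := C) q hqd
  refine ⟨(c : G), by rw [Subgroup.orderOf_coe, hc]; exact hq, ?_⟩
  intro ω hω
  have hall : ∀ ω' : Ω, (c : G) • ω' = ω' := by
    intro ω'
    obtain ⟨g, rfl⟩ := MulAction.exists_smul_eq G ω ω'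
    have hgc : g * (c : G) * g⁻¹ ∈ C := hC.conj_mem _ c.2 g
    have hfix : g * (c : G) * g⁻¹ ∈ MulAction.stabilizer G (g • ω) := by
      rw [MulAction.mem_stabilizer_iff, ← mul_smul, inv_mul_cancel_right, mul_smul, hω]
    haveI := hcyc
    have hz : Subgroup.zpowers (⟨g * (c : G) * g⁻¹, hgc⟩ : C) = Subgroup.zpowers c := by
      apply h8_cyclic_subgroup_eq_of_card_eq
      rw [Nat.card_zpowers, Nat.card_zpowers, hc, ← Subgroup.orderOf_coe]
      simp only []
      rw [h8_orderOf_conj, Subgroup.orderOf_coe, hc]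
    have hcm : c ∈ Subgroup.zpowers (⟨g * (c : G) * g⁻¹, hgc⟩ : C) := by
      rw [hz]; exact Subgroup.mem_zpowers c
    obtain ⟨i, hi⟩ := Subgroup.mem_zpowers_iff.1 hcm
    have hi' : (c : G) = (g * (c : G) * g⁻¹) ^ i := by
      have h5 := congrArg Subtype.val hi
      rw [Subgroup.coe_zpow] at h5
      exact h5.symm
    have := Subgroup.zpow_mem _ hfix i
    rw [← hi', MulAction.mem_stabilizer_iff] at this
    exact this
  have h1 : (c : G) = 1 := FaithfulSMul.eq_of_smul_eq_smul (α := Ω) (fun a => by rw [hall a, one_smul])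
  have h2 : c = 1 := Subtype.ext h1
  rw [h2, orderOf_one] at hc
  exact hq.one_lt.ne hc

end Cfsg.Agent.S3554
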