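import Mathlib
import Cfsg.Statements.S3555

set_option autoImplicit false
open Cfsg
open scoped Pointwise

namespace Cfsg.Agent.S3555

section Count

/-- number of fixed points of `g` -/
def fixc {G : Type*} (Ω : Type*) [Group G] [MulAction G Ω] [Fintype Ω] [DecidableEq Ω]
    (g : G) : ℕ := (Finset.univ.filter (fun ω : Ω => g • ω = ω)).card

/-- size of the stabilizer of `ω` -/
def stabc (G : Type*) {Ω : Type*} [Group G] [MulAction G Ω] [Fintype G] [DecidableEq Ω]
    (ω : Ω) : ℕ := (Finset.univ.filter (fun g : G => g • ω = ω)).card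

/-- size of the two-point stabilizer -/
def pairc (G : Type*) {Ω : Type*} [Group G] [MulAction G Ω] [Fintype G] [DecidableEq Ω]
    (ω ω' : Ω) : ℕ := (Finset.univ.filter (fun g : G => g • ω = ω ∧ g • ω' = ω')).card

/-- the set of derangements -/
def derS (G Ω : Type*) [Group G] [MulAction G Ω] [Fintype G] [Fintype Ω] [DecidableEq Ω] :
    Finset G := Finset.univ.filter (fun g : G => ∀ ω : Ω, g • ω ≠ ω)

variable {G Ω : Type*} [Group G] [MulAction G Ω] [Fintype G] [Fintype Ω] [DecidableEq Ω]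

theorem E1 : ∑ g : G, fixc Ω g = ∑ ω : Ω, stabc G ω := by
  simp only [fixc, stabc, Finset.card_filter]
  exact Finset.sum_comm

theorem E2 [MulAction.IsPretransitive G Ω] (ω : Ω) :
    stabc G ω * Fintype.card Ω = Fintype.card G := by
  have h1 : stabc G ω = Nat.card (MulAction.stabilizer G ω) := by
    rw [Nat.card_eq_fintype_card, Fintype.card_subtype]
    rfl
  have h2 := Subgroup.card_mul_index (MulAction.stabilizer G ω)
  rw [MulAction.index_stabilizer_of_transitive, Nat.card_eq_fintype_card (α := Ω),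
    Nat.card_eq_fintype_card (α := G)] at h2
  rw [h1]
  exact h2

theorem E2' [MulAction.IsPretransitive G Ω] [Nonempty Ω] :
    ∑ g : G, fixc Ω g = Fintype.card G := by
  have h : (∑ ω : Ω, stabc G ω) * Fintype.card Ω = Fintype.card G * Fintype.card Ω := by
    rw [Finset.sum_mul, Finset.sum_congr rfl (fun ω _ => E2 (G := G) ω), Finset.sum_const,
      Finset.card_univ, smul_eq_mul, mul_comm]
  rw [E1]
  exact Nat.eq_of_mul_eq_mul_right Fintype.card_pos h

theorem E3 : ∑ g : G, fixc Ω g ^ 2 = ∑ ω : Ω, ∑ ω' : Ω, pairc G ω ω' := by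
  have h1 : ∀ g : G, fixc Ω g ^ 2 =
      ∑ ω : Ω, ∑ ω' : Ω, (if g • ω = ω ∧ g • ω' = ω' then 1 else 0) := by
    intro g
    simp only [fixc, Finset.card_filter, sq, Finset.sum_mul_sum]
    refine Finset.sum_congr rfl (fun ω _ => Finset.sum_congr rfl (fun ω' _ => ?_))
    by_cases h : g • ω = ω <;> by_cases h' : g • ω' = ω' <;> simp [h, h']
  simp only [h1, pairc, Finset.card_filter]
  rw [Finset.sum_comm]
  refine Finset.sum_congr rfl (fun ω _ => ?_)
  rw [Finset.sum_comm]

theorem E4 (ω : Ω) :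
    ∑ ω' : Ω, pairc G ω ω' = stabc G ω + ∑ ω' ∈ Finset.univ.erase ω, pairc G ω ω' := by
  rw [← Finset.add_sum_erase Finset.univ (fun ω' => pairc G ω ω') (Finset.mem_univ ω)]
  congr 1
  simp only [pairc, stabc, and_self]

theorem E34 : ∑ g : G, fixc Ω g ^ 2 =
    ∑ g : G, fixc Ω g + ∑ ω : Ω, ∑ ω' ∈ Finset.univ.erase ω, pairc G ω ω' := by
  rw [E3, E1, ← Finset.sum_add_distrib]
  exact Finset.sum_congr rfl (fun ω _ => E4 ω)

theorem E5i (hsq : ∀ g : G, (∀ ω : Ω, g • ω ≠ ω) → g * g = 1) (ω ω' : Ω) :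
    ((derS G Ω).filter (fun g => g • ω = ω')).card ≤ pairc G ω ω' := by
  by_cases hemp : (derS G Ω).filter (fun g => g • ω = ω') = ∅
  · rw [hemp]
    simp
  · obtain ⟨t, ht⟩ := Finset.nonempty_iff_ne_empty.2 hemp
    simp only [derS, Finset.mem_filter, Finset.mem_univ, true_and] at ht
    have ht2 : t * t = 1 := hsq t ht.1
    unfold pairc
    apply Finset.card_le_card_of_injOn (fun d => t⁻¹ * d)
    · intro d hd
      simp only [derS, Finset.coe_filter, Finset.mem_filter, Finset.mem_univ, true_and,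
        Set.mem_ofPred_eq] at hd ⊢
      have hd2 : d * d = 1 := hsq d hd.1
      constructor
      · rw [mul_smul, hd.2, inv_smul_eq_iff, ht.2]
      · rw [mul_smul, inv_smul_eq_iff]
        have h1 : d • ω' = ω := by
          rw [← hd.2, ← mul_smul, hd2, one_smul]
        have h2 : t • ω' = ω := by
          rw [← ht.2, ← mul_smul, ht2, one_smul]
        rw [h1, h2]
    · intro d _ d' _ h
      exact mul_left_cancel h

theorem E5 (hsq : ∀ g : G, (∀ ω : Ω, g • ω ≠ ω) → g * g = 1) :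
    Fintype.card Ω * (derS G Ω).card ≤ ∑ ω : Ω, ∑ ω' ∈ Finset.univ.erase ω, pairc G ω ω' := by
  have h1 : ∀ ω : Ω, (derS G Ω).card ≤ ∑ ω' ∈ Finset.univ.erase ω, pairc G ω ω' := by
    intro ω
    have hmaps : ((derS G Ω : Finset G) : Set G).MapsTo (fun g : G => g • ω)
        (Finset.univ.erase ω : Finset Ω) := by
      intro g hg
      simp only [derS, Finset.coe_filter, Finset.mem_univ, true_and, Set.mem_ofPred_eq] at hg
      simp only [Finset.coe_erase, Finset.coe_univ, Set.mem_sdiff, Set.mem_univ,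
        Set.mem_singleton_iff, true_and]
      exact hg ω
    rw [Finset.card_eq_sum_card_fiberwise hmaps]
    exact Finset.sum_le_sum (fun ω' _ => E5i hsq ω ω')
  calc Fintype.card Ω * (derS G Ω).card = ∑ _ω : Ω, (derS G Ω).card := by
        rw [Finset.sum_const, Finset.card_univ, smul_eq_mul]
    _ ≤ _ := Finset.sum_le_sum (fun ω _ => h1 ω)

theorem key [MulAction.IsPretransitive G Ω] [Nonempty Ω]
    (hsq : ∀ g : G, (∀ ω : Ω, g • ω ≠ ω) → g * g = 1) (g : G) (ω₀ : Ω) (hg : g • ω₀ = ω₀) :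
    fixc Ω g = 1 ∨ fixc Ω g = Fintype.card Ω := by
  have hsum : ∑ g : G, ((fixc Ω g : ℤ) - 1) * ((fixc Ω g : ℤ) - Fintype.card Ω) =
      ((∑ ω : Ω, ∑ ω' ∈ Finset.univ.erase ω, pairc G ω ω' : ℕ) : ℤ) := by
    have h1 : ∀ g : G, ((fixc Ω g : ℤ) - 1) * ((fixc Ω g : ℤ) - Fintype.card Ω) =
        (fixc Ω g : ℤ) ^ 2 - (Fintype.card Ω + 1) * (fixc Ω g : ℤ) + Fintype.card Ω := by
      intro g
      ring
    rw [Finset.sum_congr rfl (fun g _ => h1 g), Finset.sum_add_distrib, Finset.sum_sub_distrib,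
      ← Finset.mul_sum, Finset.sum_const, Finset.card_univ, nsmul_eq_mul]
    have h2 : (∑ g : G, (fixc Ω g : ℤ) ^ 2) = (∑ g : G, (fixc Ω g : ℤ)) +
        ((∑ ω : Ω, ∑ ω' ∈ Finset.univ.erase ω, pairc G ω ω' : ℕ) : ℤ) := by
      exact_mod_cast E34 (G := G) (Ω := Ω)
    have h3 : (∑ g : G, (fixc Ω g : ℤ)) = Fintype.card G := by
      exact_mod_cast E2' (G := G) (Ω := Ω)
    rw [h2, h3]
    ring
  have hsplit : ∑ g : G, ((fixc Ω g : ℤ) - 1) * ((fixc Ω g : ℤ) - Fintype.card Ω) =
      (Fintype.card Ω : ℤ) * (derS G Ω).card +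
      ∑ g ∈ Finset.univ.filter (fun g : G => ¬ ∀ ω : Ω, g • ω ≠ ω),
        ((fixc Ω g : ℤ) - 1) * ((fixc Ω g : ℤ) - Fintype.card Ω) := by
    rw [← Finset.sum_filter_add_sum_filter_not Finset.univ (fun g : G => ∀ ω : Ω, g • ω ≠ ω)]
    congr 1
    have h1 : ∀ g ∈ Finset.univ.filter (fun g : G => ∀ ω : Ω, g • ω ≠ ω),
        ((fixc Ω g : ℤ) - 1) * ((fixc Ω g : ℤ) - Fintype.card Ω) = (Fintype.card Ω : ℤ) := by
      intro g hg
      have hc : fixc Ω g = 0 := by
        unfold fixc
        rw [Finset.card_eq_zero, Finset.filter_eq_empty_iff]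
        intro ω _
        exact (Finset.mem_filter.1 hg).2 ω
      rw [hc]
      simp
    rw [Finset.sum_congr rfl h1, Finset.sum_const, nsmul_eq_mul, mul_comm]
    rfl
  have hnonpos : ∀ g ∈ Finset.univ.filter (fun g : G => ¬ ∀ ω : Ω, g • ω ≠ ω),
      ((fixc Ω g : ℤ) - 1) * ((fixc Ω g : ℤ) - Fintype.card Ω) ≤ 0 := by
    intro g hg
    have hg' := (Finset.mem_filter.1 hg).2
    push Not at hg'
    obtain ⟨ω, hω⟩ := hg'
    have h1 : 1 ≤ fixc Ω g :=
      Finset.card_pos.2 ⟨ω, Finset.mem_filter.2 ⟨Finset.mem_univ _, hω⟩⟩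
    have h2 : fixc Ω g ≤ Fintype.card Ω := Finset.card_le_univ _
    have h1' : (1 : ℤ) ≤ fixc Ω g := by exact_mod_cast h1
    have h2' : (fixc Ω g : ℤ) ≤ Fintype.card Ω := by exact_mod_cast h2
    exact mul_nonpos_of_nonneg_of_nonpos (sub_nonneg.2 h1') (sub_nonpos.2 h2')
  have hzero : ∀ g ∈ Finset.univ.filter (fun g : G => ¬ ∀ ω : Ω, g • ω ≠ ω),
      ((fixc Ω g : ℤ) - 1) * ((fixc Ω g : ℤ) - Fintype.card Ω) = 0 := by
    have hge : 0 ≤ ∑ g ∈ Finset.univ.filter (fun g : G => ¬ ∀ ω : Ω, g • ω ≠ ω),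
        ((fixc Ω g : ℤ) - 1) * ((fixc Ω g : ℤ) - Fintype.card Ω) := by
      have h5 : ((Fintype.card Ω * (derS G Ω).card : ℕ) : ℤ) ≤
          ((∑ ω : Ω, ∑ ω' ∈ Finset.univ.erase ω, pairc G ω ω' : ℕ) : ℤ) := by
        exact_mod_cast E5 hsq
      push_cast at h5
      have h6 := hsum
      have h7 := hsplit
      push_cast at h6
      linarith
    have hle := Finset.sum_nonpos hnonpos
    exact (Finset.sum_eq_zero_iff_of_nonpos hnonpos).1 (le_antisymm hle hge)
  have hgmem : g ∈ Finset.univ.filter (fun g : G => ¬ ∀ ω : Ω, g • ω ≠ ω) := by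
    rw [Finset.mem_filter]
    exact ⟨Finset.mem_univ _, fun h => h ω₀ hg⟩
  have hz := hzero g hgmem
  rcases mul_eq_zero.1 hz with h | h
  · left
    have h' : (fixc Ω g : ℤ) = 1 := by linarith
    exact_mod_cast h'
  · right
    have h' : (fixc Ω g : ℤ) = Fintype.card Ω := by linarith
    exact_mod_cast h'

end Count

theorem fix_unique {G Ω : Type*} [Group G] [Finite G] [MulAction G Ω] [FaithfulSMul G Ω] [Finite Ω]
    (htrans : MulAction.IsPretransitive G Ω) (hsq : ∀ g : G, (∀ ω : Ω, g • ω ≠ ω) → g * g = 1)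
    (g : G) (hg : g ≠ 1) (ω₁ ω₂ : Ω) (h₁ : g • ω₁ = ω₁) (h₂ : g • ω₂ = ω₂) : ω₁ = ω₂ := by
  classical
  have : Fintype G := Fintype.ofFinite G
  have : Fintype Ω := Fintype.ofFinite Ω
  have : Nonempty Ω := ⟨ω₁⟩
  rcases key hsq g ω₁ h₁ with hc | hc
  · exact Finset.card_le_one.1 (le_of_eq hc) ω₁ (Finset.mem_filter.2 ⟨Finset.mem_univ _, h₁⟩) ω₂
      (Finset.mem_filter.2 ⟨Finset.mem_univ _, h₂⟩)
  · have huniv := (Finset.card_eq_iff_eq_univ _).1 hc
    exfalso
    apply hg
    apply FaithfulSMul.eq_of_smul_eq_smul (α := Ω)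
    intro ω
    rw [one_smul]
    have hmem : ω ∈ Finset.univ.filter (fun ω : Ω => g • ω = ω) := by
      rw [huniv]
      exact Finset.mem_univ _
    exact (Finset.mem_filter.1 hmem).2

/-- Let G act faithfully and transitively on a finite set and suppose every element of G fixing no point is an involution. Then either G is an elementary abelian 2-group, or G is a Frobenius group whose Frobenius kernel is an elementary abelian 2-group: G has a Frobenius complement H, and the elements lying in no conjugate of H, together with the identity, pairwise commute and square to the identity. -/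
theorem result {G Ω : Type*} [Group G] [Finite G] [MulAction G Ω] [FaithfulSMul G Ω] [Finite Ω]
    (htrans : MulAction.IsPretransitive G Ω) (hinv : ∀ g : G, (∀ ω : Ω, g • ω ≠ ω) → orderOf g = 2) :
    (IsMulCommutative G ∧ ∀ g : G, g ^ 2 = 1) ∨
    (∃ H : Subgroup G, Cfsg.IsFrobeniusComplement H ∧
      (∀ x ∈ Cfsg.frobeniusKernel H, x ^ 2 = 1) ∧
      ∀ x ∈ Cfsg.frobeniusKernel H, ∀ y ∈ Cfsg.frobeniusKernel H, x * y = y * x) := by
  have hsq : ∀ g : G, (∀ ω : Ω, g • ω ≠ ω) → g * g = 1 := by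
    intro g hg
    rw [← sq, ← hinv g hg]
    exact pow_orderOf_eq_one g
  have hF : ∀ g : G, g ≠ 1 → ∀ ω₁ ω₂ : Ω, g • ω₁ = ω₁ → g • ω₂ = ω₂ → ω₁ = ω₂ :=
    fun g hg ω₁ ω₂ h₁ h₂ => fix_unique htrans hsq g hg ω₁ ω₂ h₁ h₂
  by_cases hreg : ∀ g : G, g ≠ 1 → ∀ ω : Ω, g • ω ≠ ω
  · left
    have hall : ∀ g : G, g * g = 1 := by
      intro g
      by_cases hg : g = 1
      · rw [hg, one_mul]
      · exact hsq g (hreg g hg)
    refine ⟨⟨⟨fun a b => ?_⟩⟩, fun g => by rw [sq]; exact hall g⟩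
    have ha' : a⁻¹ = a := inv_eq_of_mul_eq_one_left (hall a)
    have hb' : b⁻¹ = b := inv_eq_of_mul_eq_one_left (hall b)
    have hab' : (a * b)⁻¹ = a * b := inv_eq_of_mul_eq_one_left (hall (a * b))
    rw [mul_inv_rev, ha', hb'] at hab'
    exact hab'.symm
  · right
    push Not at hreg
    obtain ⟨g₀, hg₀, α, hα⟩ := hreg
    have := htrans
    have hker : ∀ x ∈ Cfsg.frobeniusKernel (MulAction.stabilizer G α), x ≠ 1 →
        ∀ ω : Ω, x • ω ≠ ω := by
      intro x hx hx1 ω hω
      rcases hx with h | h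
      · exact hx1 h
      · obtain ⟨k, rfl⟩ := MulAction.exists_smul_eq G α ω
        apply h k
        rw [Subgroup.mem_pointwise_smul_iff_inv_smul_mem]
        have h1 : k⁻¹ * x * k ∈ MulAction.stabilizer G α := by
          rw [MulAction.mem_stabilizer_iff, mul_smul, mul_smul, inv_smul_eq_iff]
          exact hω
        simpa [MulAut.smul_def, MulAut.conj_inv_apply] using h1
    refine ⟨MulAction.stabilizer G α, ⟨?_, ?_, ?_⟩, ?_, ?_⟩
    · intro h
      have h1 : g₀ ∈ MulAction.stabilizer G α := hα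
      rw [h, Subgroup.mem_bot] at h1
      exact hg₀ h1
    · intro h
      apply hg₀
      apply FaithfulSMul.eq_of_smul_eq_smul (α := Ω)
      intro ω
      rw [one_smul]
      obtain ⟨k, rfl⟩ := MulAction.exists_smul_eq G α ω
      have h1 : k⁻¹ * g₀ * k ∈ MulAction.stabilizer G α := by
        rw [h]
        exact Subgroup.mem_top _
      rw [MulAction.mem_stabilizer_iff, mul_smul, mul_smul, inv_smul_eq_iff] at h1
      exact h1
    · intro g hg
      rw [eq_bot_iff]
      intro x hx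
      rw [Subgroup.mem_inf] at hx
      rw [Subgroup.mem_bot]
      by_contra hx1
      have h1 : x • α = α := hx.1
      have h2 : x • (g • α) = g • α := by
        have h3 := hx.2
        rw [Subgroup.mem_pointwise_smul_iff_inv_smul_mem] at h3
        have h4 : g⁻¹ * x * g ∈ MulAction.stabilizer G α := by
          simpa [MulAut.smul_def, MulAut.conj_inv_apply] using h3
        rw [MulAction.mem_stabilizer_iff, mul_smul, mul_smul, inv_smul_eq_iff] at h4
        exact h4
      have h5 := hF x hx1 α (g • α) h1 h2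
      exact hg (by rw [MulAction.mem_stabilizer_iff]; exact h5.symm)
    · intro x hx
      by_cases hx1 : x = 1
      · rw [hx1, one_pow]
      · rw [sq]
        exact hsq x (hker x hx hx1)
    · intro x hx y hy
      by_cases hx1 : x = 1
      · rw [hx1, one_mul, mul_one]
      by_cases hy1 : y = 1
      · rw [hy1, one_mul, mul_one]
      by_cases hxy : x = y
      · rw [hxy]
      have hxD := hker x hx hx1
      have hyD := hker y hy hy1
      have hx2 := hsq x hxD
      have hy2 := hsq y hyD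
      have hxi : x⁻¹ = x := inv_eq_of_mul_eq_one_left hx2
      have hyi : y⁻¹ = y := inv_eq_of_mul_eq_one_left hy2
      have hxyne : x * y ≠ 1 := by
        intro h
        have h1 := eq_inv_of_mul_eq_one_left h
        rw [hyi] at h1
        exact hxy h1
      have hxyD : ∀ ω : Ω, (x * y) • ω ≠ ω := by
        intro ω hω
        have h1 : (x * y) • (x • ω) = x • ω := by
          have h2 : (y * x) • ω = ω := by
            have h3 : y * x = (x * y)⁻¹ := by rw [mul_inv_rev, hxi, hyi]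
            rw [h3, inv_smul_eq_iff, hω]
          rw [mul_smul, ← mul_smul y x, h2]
        have h3 := hF (x * y) hxyne ω (x • ω) hω h1
        exact hxD ω h3.symm
      have h4 := hsq (x * y) hxyD
      have h5 : (x * y)⁻¹ = x * y := inv_eq_of_mul_eq_one_left h4
      rw [mul_inv_rev, hxi, hyi] at h5
      exact h5.symm

end Cfsg.Agent.S3555
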