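import Cfsg.Statements.S5914
import Cfsg.Agent.Lib.Helper3.Sidki2

set_option autoImplicit false
open Cfsg

namespace Cfsg.Agent.S5914

open Cfsg.Agent.Lib.Helper3

/-- Type-0 copy of a finite simple group. -/
theorem cs_small_copy {T : Type*} [Group T] [Finite T] [IsSimpleGroup T] :
    ∃ (S : Type) (_ : Group S) (_ : IsSimpleGroup S), Nonempty (T ≃* S) := by
  classical
  have hsm : Small.{0} T := Countable.toSmall T
  exact ⟨Shrink.{0} T, inferInstance, (Shrink.mulEquiv (α := T)).isSimpleGroup,
    ⟨(Shrink.mulEquiv (α := T)).symm⟩⟩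

/-- `M` is a normal subgroup that is an internal direct power of `N`. -/
def CsGood {G : Type*} [Group G] (N M : Subgroup G) : Prop :=
  M.Normal ∧ ∃ n : ℕ, ∃ f : (Fin n → N) →* G, Function.Injective f ∧ f.range = M

/-- The shear automorphism of a power of a commutative group. -/
def csShear {S : Type*} [Group S] {n : ℕ} (hcomm : ∀ a b : S, a * b = b * a) (i j : Fin n)
    (hji : j ≠ i) : (Fin n → S) ≃* (Fin n → S) where
  toFun x := Function.update x j (x j * x i)
  invFun x := Function.update x j (x j * (x i)⁻¹)
  left_inv := by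
    intro x
    funext k
    show Function.update (Function.update x j (x j * x i)) j
      (Function.update x j (x j * x i) j * (Function.update x j (x j * x i) i)⁻¹) k = x k
    by_cases hk : k = j
    · rw [hk, Function.update_self, Function.update_self, Function.update_of_ne hji.symm,
        mul_inv_cancel_right]
    · rw [Function.update_of_ne hk, Function.update_of_ne hk]
  right_inv := by
    intro x
    funext k
    show Function.update (Function.update x j (x j * (x i)⁻¹)) j
      (Function.update x j (x j * (x i)⁻¹) j * (Function.update x j (x j * (x i)⁻¹) i)) k = x k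
    by_cases hk : k = j
    · rw [hk, Function.update_self, Function.update_self, Function.update_of_ne hji.symm,
        inv_mul_cancel_right]
    · rw [Function.update_of_ne hk, Function.update_of_ne hk]
  map_mul' := by
    intro x y
    funext k
    show Function.update (x * y) j ((x j * y j) * (x i * y i)) k =
      Function.update x j (x j * x i) k * Function.update y j (y j * y i) k
    by_cases hk : k = j
    · rw [hk, Function.update_self, Function.update_self, Function.update_self, mul_assoc,
        mul_assoc]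
      congr 1
      rw [← mul_assoc, hcomm (y j), mul_assoc]
    · rw [Function.update_of_ne hk, Function.update_of_ne hk, Function.update_of_ne hk]
      rfl

/-- Coordinate permutation automorphism of a power. -/
def csPerm {S : Type*} [Group S] {n : ℕ} (σ : Equiv.Perm (Fin n)) :
    (Fin n → S) ≃* (Fin n → S) where
  toFun x := fun k => x (σ k)
  invFun x := fun k => x (σ.symm k)
  left_inv x := by funext k; simp
  right_inv x := by funext k; simp
  map_mul' x y := rfl

theorem cs_backward {S : Type*} [Group S] [IsSimpleGroup S] {n : ℕ} (H : Subgroup (Fin n → S))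
    (hH : ∀ φ : (Fin n → S) ≃* (Fin n → S), ∀ x ∈ H, φ x ∈ H) : H = ⊥ ∨ H = ⊤ := by
  classical
  by_cases hbot : H = ⊥
  · exact Or.inl hbot
  right
  obtain ⟨h, hh, hh1⟩ : ∃ h ∈ H, h ≠ 1 := by
    by_contra hcon
    push Not at hcon
    exact hbot ((Subgroup.eq_bot_iff_forall _).mpr hcon)
  obtain ⟨i, hi⟩ : ∃ i, h i ≠ 1 := by
    by_contra hcon
    push Not at hcon
    exact hh1 (funext hcon)
  have hHn : H.Normal := by
    constructor
    intro x hx g
    exact hH (MulAut.conj g) x hx
  have step1 : ∃ j, ∃ s : S, s ≠ 1 ∧ Pi.mulSingle j s ∈ H := by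
    by_cases hcomm : ∀ a b : S, a * b = b * a
    · by_cases hj : ∃ j, j ≠ i
      · obtain ⟨j, hji⟩ := hj
        refine ⟨j, h i, hi, ?_⟩
        have h1 : csShear hcomm i j hji h * h⁻¹ ∈ H :=
          H.mul_mem (hH (csShear hcomm i j hji) h hh) (H.inv_mem hh)
        have h2 : csShear hcomm i j hji h * h⁻¹ = Pi.mulSingle j (h i) := by
          funext k
          show Function.update h j (h j * h i) k * (h k)⁻¹ = (Pi.mulSingle j (h i) : Fin n → S) k
          by_cases hk : k = j
          · rw [hk, Function.update_self, Pi.mulSingle_eq_same, hcomm (h j), mul_inv_cancel_right]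
          · rw [Function.update_of_ne hk, Pi.mulSingle_eq_of_ne hk, mul_inv_cancel]
        rw [← h2]; exact h1
      · push Not at hj
        refine ⟨i, h i, hi, ?_⟩
        have h2 : h = Pi.mulSingle i (h i) := by
          funext k
          rw [hj k, Pi.mulSingle_eq_same]
        rw [← h2]; exact hh
    · have hcen : Subgroup.center S = ⊥ := by
        rcases (inferInstance : (Subgroup.center S).Normal).eq_bot_or_eq_top with h0 | h0
        · exact h0
        · exfalso; apply hcomm; intro a b
          have ha : a ∈ Subgroup.center S := by rw [h0]; exact Subgroup.mem_top a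
          exact (Subgroup.mem_center_iff.mp ha b).symm
      have hnc : h i ∉ Subgroup.center S := by
        rw [hcen, Subgroup.mem_bot]; exact hi
      rw [Subgroup.mem_center_iff] at hnc
      push Not at hnc
      obtain ⟨t, ht⟩ := hnc
      refine ⟨i, t * h i * t⁻¹ * (h i)⁻¹, ?_, ?_⟩
      · intro h0
        apply ht
        have h3 := mul_inv_eq_one.mp h0
        rw [mul_inv_eq_iff_eq_mul] at h3
        exact h3
      · have h1 : Pi.mulSingle i t * h * (Pi.mulSingle i t)⁻¹ * h⁻¹ ∈ H :=
          H.mul_mem (hHn.conj_mem h hh _) (H.inv_mem hh)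
        have h2 : Pi.mulSingle i t * h * (Pi.mulSingle i t)⁻¹ * h⁻¹ =
            Pi.mulSingle i (t * h i * t⁻¹ * (h i)⁻¹) := by
          funext k
          show (Pi.mulSingle i t : Fin n → S) k * h k * ((Pi.mulSingle i t : Fin n → S) k)⁻¹ * (h k)⁻¹ = _
          by_cases hk : k = i
          · rw [hk, Pi.mulSingle_eq_same, Pi.mulSingle_eq_same]
          · rw [Pi.mulSingle_eq_of_ne hk, Pi.mulSingle_eq_of_ne hk, one_mul, inv_one, mul_one,
              mul_inv_cancel]
        rw [← h2]; exact h1
  obtain ⟨j, s, hs1, hsH⟩ := step1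
  have step2 : ∀ s' : S, Pi.mulSingle j s' ∈ H := by
    have hKn : (H.comap (MonoidHom.mulSingle (fun _ : Fin n => S) j)).Normal := hHn.comap _
    rcases hKn.eq_bot_or_eq_top with h0 | h0
    · exfalso
      have h3 : s ∈ H.comap (MonoidHom.mulSingle (fun _ : Fin n => S) j) := hsH
      rw [h0, Subgroup.mem_bot] at h3
      exact hs1 h3
    · intro s'
      have h3 : s' ∈ H.comap (MonoidHom.mulSingle (fun _ : Fin n => S) j) := by
        rw [h0]; exact Subgroup.mem_top _
      exact h3
  have step3 : ∀ k (s' : S), Pi.mulSingle k s' ∈ H := by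
    intro k s'
    have h1 := hH (csPerm (Equiv.swap j k)) _ (step2 s')
    have h2 : csPerm (Equiv.swap j k) (Pi.mulSingle j s') = Pi.mulSingle k s' := by
      funext l
      show (Pi.mulSingle j s' : Fin n → S) (Equiv.swap j k l) = (Pi.mulSingle k s' : Fin n → S) l
      by_cases hl : l = k
      · rw [hl, Equiv.swap_apply_right, Pi.mulSingle_eq_same, Pi.mulSingle_eq_same]
      · rw [Pi.mulSingle_eq_of_ne hl, Pi.mulSingle_eq_of_ne]
        intro h3
        apply hl
        have h4 := congrArg (Equiv.swap j k) h3
        rw [Equiv.swap_apply_self, Equiv.swap_apply_left] at h4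
        exact h4
    rw [← h2]; exact h1
  rw [eq_top_iff]
  intro x _
  exact Subgroup.pi_mem_of_mulSingle_mem x (fun k => step3 k (x k))

theorem cs_forward {G : Type*} [Group G] [Finite G] [Nontrivial G]
    (hchar : ∀ H : Subgroup G, H.Characteristic → H = ⊥ ∨ H = ⊤) :
    ∃ N : Subgroup G, IsSimpleGroup N ∧ ∃ n : ℕ, 1 ≤ n ∧ Nonempty (G ≃* (Fin n → N)) := by
  classical
  obtain ⟨N, hN⟩ := sk_exists_minNormal (⊤ : Subgroup G) (fun h => bot_ne_top h.symm)
  have hNn := hN.normal
  have himg_normal : ∀ φ : G ≃* G, (N.map φ.toMonoidHom).Normal := fun φ =>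
    hNn.map φ.toMonoidHom φ.surjective
  have himg_min : ∀ φ : G ≃* G, ∀ K : Subgroup G, K.Normal → K ≤ N.map φ.toMonoidHom →
      K = ⊥ ∨ K = N.map φ.toMonoidHom := by
    intro φ K hK hle
    have h1 : (K.comap φ.toMonoidHom).Normal := hK.comap _
    have h2 : K.comap φ.toMonoidHom ≤ N := by
      intro x hx
      have h3 : φ x ∈ N.map φ.toMonoidHom := hle hx
      obtain ⟨y, hy, hyx⟩ := h3
      have h4 : y = x := φ.injective hyx
      rw [← h4]; exact hy
    have h4 : (K.comap φ.toMonoidHom).map φ.toMonoidHom = K :=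
      Subgroup.map_comap_eq_self_of_surjective φ.surjective K
    rcases hN.min _ h1 h2 with h5 | h5
    · left; rw [← h4, h5, Subgroup.map_bot]
    · right; rw [← h4, h5]
  have hCchar : (⨆ φ : G ≃* G, N.map φ.toMonoidHom).Characteristic := by
    rw [Subgroup.characteristic_iff_map_le]
    intro ψ
    rw [Subgroup.map_iSup]
    apply iSup_le
    intro φ
    rw [Subgroup.map_map]
    exact le_iSup (fun φ : G ≃* G => N.map φ.toMonoidHom) (φ.trans ψ)
  have hNleC : N ≤ ⨆ φ : G ≃* G, N.map φ.toMonoidHom := by
    have h1 : N.map (MulEquiv.refl G).toMonoidHom = N := by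
      ext x; constructor
      · rintro ⟨y, hy, rfl⟩; exact hy
      · intro hx; exact ⟨x, hx, rfl⟩
    exact h1.symm.le.trans (le_iSup (fun φ : G ≃* G => N.map φ.toMonoidHom) (MulEquiv.refl G))
  have hCtop : (⨆ φ : G ≃* G, N.map φ.toMonoidHom) = ⊤ := by
    rcases hchar _ hCchar with h | h
    · exfalso; apply hN.ne; rw [eq_bot_iff, ← h]; exact hNleC
    · exact h
  -- G = N C_G(N)
  have hNC : N ⊔ Subgroup.centralizer (N : Set G) = ⊤ := by
    rw [eq_top_iff, ← hCtop]
    apply iSup_le
    intro φ
    by_cases hd : N ⊓ N.map φ.toMonoidHom = ⊥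
    · refine le_trans ?_ le_sup_right
      intro x hx
      rw [Subgroup.mem_centralizer_iff]
      intro y hy
      exact (Subgroup.commute_of_normal_of_disjoint N (N.map φ.toMonoidHom) hNn (himg_normal φ)
        (disjoint_iff.mpr hd) y x hy hx).eq
    · have h0 : (N ⊓ N.map φ.toMonoidHom).Normal := by
        have := hNn; have := himg_normal φ; infer_instance
      have h1 : N ⊓ N.map φ.toMonoidHom = N := by
        rcases hN.min _ h0 inf_le_left with h | h
        · exact absurd h hd
        · exact h
      have h2 : N ≤ N.map φ.toMonoidHom := inf_eq_left.mp h1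
      rcases himg_min φ N hNn h2 with h | h
      · exact absurd h hN.ne
      · exact h.symm.le.trans le_sup_left
  have hsimple : IsSimpleGroup N := by
    rw [Subgroup.isSimpleGroup_iff]
    refine ⟨hN.ne, ?_⟩
    intro K hKN hKn
    have hKG : K.Normal := by
      have h1 : Subgroup.normalizer (K : Set G) = ⊤ := by
        rw [eq_top_iff, ← hNC]
        apply sup_le
        · exact (Subgroup.normal_subgroupOf_iff_le_normalizer hKN).mp hKn
        · exact (Subgroup.centralizer_le hKN).trans (Subgroup.centralizer_le_normalizer _)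
      exact Subgroup.normalizer_eq_top_iff.mp h1
    exact hN.min K hKG hKN
  have hgood_exists : ∃ n : ℕ, ∃ f : (Fin n → N) →* G, Function.Injective f ∧ f.range = ⊤ := by
    have hbot : CsGood N ⊥ := by
      refine ⟨Subgroup.normal_bot, 0, 1, ?_, ?_⟩
      · intro a b _; exact Subsingleton.elim a b
      · rw [eq_bot_iff]
        rintro x ⟨a, rfl⟩
        rw [Subgroup.mem_bot]; rfl
    have hne : Nonempty {M : Subgroup G // CsGood N M} := ⟨⟨⊥, hbot⟩⟩
    obtain ⟨⟨M, hMgood⟩, hMmax⟩ :=
      Finite.exists_max (fun M : {M : Subgroup G // CsGood N M} => Nat.card M.1)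
    obtain ⟨hMn, n, f, hfinj, hfrange⟩ : CsGood N M := hMgood
    have hall : ∀ φ : G ≃* G, N.map φ.toMonoidHom ≤ M := by
      intro φ
      by_contra hnot
      have hdisj : M ⊓ N.map φ.toMonoidHom = ⊥ := by
        have h0 : (M ⊓ N.map φ.toMonoidHom).Normal := by
          have := hMn; have := himg_normal φ; infer_instance
        rcases himg_min φ _ h0 inf_le_right with h | h
        · exact h
        · exact absurd (inf_eq_right.mp h) hnot
      have hcomm : ∀ a : Fin n → N, ∀ b : N, f a * φ (b : G) = φ (b : G) * f a := by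
        intro a b
        have ha : f a ∈ M := by rw [← hfrange]; exact ⟨a, rfl⟩
        have hb : φ (b : G) ∈ N.map φ.toMonoidHom := ⟨b, b.2, rfl⟩
        exact (Subgroup.commute_of_normal_of_disjoint _ _ hMn (himg_normal φ)
          (disjoint_iff.mpr hdisj) _ _ ha hb).eq
      obtain ⟨f', hf'⟩ : ∃ f' : (Fin (n + 1) → N) →* G,
          ∀ x, f' x = f (fun i => x i.succ) * φ ((x 0 : N) : G) := by
        refine ⟨{ toFun := fun x => f (fun i => x i.succ) * φ ((x 0 : N) : G)
                  map_one' := ?_
                  map_mul' := ?_ }, fun x => rfl⟩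
        · show f 1 * φ ((1 : N) : G) = 1
          rw [map_one, Subgroup.coe_one, map_one, one_mul]
        · intro x y
          show f ((fun i => x i.succ) * (fun i => y i.succ)) * φ (((x 0 * y 0 : N)) : G) =
            (f (fun i => x i.succ) * φ ((x 0 : N) : G)) * (f (fun i => y i.succ) * φ ((y 0 : N) : G))
          rw [map_mul, Subgroup.coe_mul, map_mul, mul_assoc, mul_assoc]
          congr 1
          rw [← mul_assoc, hcomm, mul_assoc]
      have hf'inj : Function.Injective f' := by
        rw [injective_iff_map_eq_one]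
        intro x hx
        have hx' : f (fun i => x i.succ) * φ ((x 0 : N) : G) = 1 := by rw [← hf']; exact hx
        have h1 : f (fun i => x i.succ) ∈ M ⊓ N.map φ.toMonoidHom := by
          refine Subgroup.mem_inf.mpr ⟨by rw [← hfrange]; exact ⟨_, rfl⟩, ?_⟩
          have h2 : f (fun i => x i.succ) = (φ ((x 0 : N) : G))⁻¹ := eq_inv_of_mul_eq_one_left hx'
          rw [h2]
          exact Subgroup.inv_mem _ ⟨((x 0 : N) : G), (x 0).2, rfl⟩
        rw [hdisj, Subgroup.mem_bot] at h1
        have h3 : (fun i => x i.succ) = (1 : Fin n → N) := by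
          apply hfinj; rw [h1, map_one]
        rw [h1, one_mul] at hx'
        have h4 : ((x 0 : N) : G) = 1 := φ.injective (hx'.trans (map_one φ).symm)
        funext i
        refine Fin.cases ?_ (fun j => ?_) i
        · exact Subtype.ext h4
        · exact congrFun h3 j
      have hf'range : f'.range = M ⊔ N.map φ.toMonoidHom := by
        apply le_antisymm
        · rintro _ ⟨x, rfl⟩
          rw [hf']
          exact Subgroup.mul_mem _ (Subgroup.mem_sup_left (by rw [← hfrange]; exact ⟨_, rfl⟩))
            (Subgroup.mem_sup_right ⟨((x 0 : N) : G), (x 0).2, rfl⟩)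
        · apply sup_le
          · rw [← hfrange]
            rintro _ ⟨a, rfl⟩
            refine ⟨Fin.cons 1 a, ?_⟩
            rw [hf']
            have e1 : (fun i : Fin n => (Fin.cons 1 a : Fin (n + 1) → N) i.succ) = a := by
              funext i; rw [Fin.cons_succ]
            rw [e1, Fin.cons_zero, Subgroup.coe_one, map_one, mul_one]
          · rintro _ ⟨b, hb, rfl⟩
            refine ⟨Fin.cons ⟨b, hb⟩ 1, ?_⟩
            rw [hf']
            have e1 : (fun i : Fin n => (Fin.cons ⟨b, hb⟩ 1 : Fin (n + 1) → N) i.succ) = 1 := by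
              funext i; rw [Fin.cons_succ]
            rw [e1, Fin.cons_zero, map_one, one_mul]
            rfl
      have hgood' : CsGood N (M ⊔ N.map φ.toMonoidHom) := by
        have h0 : (M ⊔ N.map φ.toMonoidHom).Normal := by
          have := hMn; have := himg_normal φ; infer_instance
        exact ⟨h0, n + 1, f', hf'inj, hf'range⟩
      have hle : Nat.card ↥(M ⊔ N.map φ.toMonoidHom) ≤ Nat.card ↥M := hMmax ⟨_, hgood'⟩
      have heq : M = M ⊔ N.map φ.toMonoidHom := Subgroup.eq_of_le_of_card_ge le_sup_left hle
      exact hnot (le_sup_right.trans heq.ge)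
    have hMtop : M = ⊤ := by
      rw [eq_top_iff, ← hCtop]; exact iSup_le hall
    exact ⟨n, f, hfinj, by rw [hfrange, hMtop]⟩
  obtain ⟨n, f, hfinj, hfrange⟩ := hgood_exists
  have hsurj : Function.Surjective f := MonoidHom.range_eq_top.mp hfrange
  refine ⟨N, hsimple, n, ?_, ⟨(MulEquiv.ofBijective f ⟨hfinj, hsurj⟩).symm⟩⟩
  by_contra hn
  have hn0 : n = 0 := by omega
  subst hn0
  obtain ⟨a, b, hab⟩ := exists_pair_ne G
  obtain ⟨x, rfl⟩ := hsurj a
  obtain ⟨y, rfl⟩ := hsurj b
  exact hab (by rw [Subsingleton.elim x y])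

/-- A non-trivial finite group G is characteristically simple (its only characteristic subgroups are 1 and G) if and only if G is isomorphic to a direct power S^n (n ≥ 1) of some simple group S (possibly cyclic of prime order). -/
theorem result {G : Type*} [Group G] [Finite G] [Nontrivial G] :
    (∀ H : Subgroup G, H.Characteristic → H = ⊥ ∨ H = ⊤) ↔
    ∃ (S : Type) (_ : Group S) (_ : IsSimpleGroup S) (n : ℕ), 1 ≤ n ∧ Nonempty (G ≃* (Fin n → S)) := by
  constructor
  · intro hchar
    obtain ⟨N, hsimple, n, hn, ⟨e⟩⟩ := cs_forward hchar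
    have := hsimple
    obtain ⟨S, iS, hS, ⟨e'⟩⟩ := cs_small_copy (T := N)
    exact ⟨S, iS, hS, n, hn, ⟨e.trans (MulEquiv.piCongrRight (fun _ => e'))⟩⟩
  · rintro ⟨S, iS, hS, n, hn, ⟨e⟩⟩ H hH
    have key := cs_backward (H.map e.toMonoidHom) (by
      intro φ x hx
      obtain ⟨g, hg, rfl⟩ := hx
      have h1 := (Subgroup.characteristic_iff_le_comap.mp hH) (e.trans (φ.trans e.symm)) hg
      refine ⟨e.symm (φ (e g)), h1, ?_⟩
      exact e.apply_symm_apply _)
    rcases key with h | h
    · left
      rw [eq_bot_iff]
      intro g hg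
      have h2 : e g ∈ H.map e.toMonoidHom := ⟨g, hg, rfl⟩
      rw [h, Subgroup.mem_bot] at h2
      rw [Subgroup.mem_bot]
      exact e.injective (h2.trans (map_one e).symm)
    · right
      rw [eq_top_iff]
      intro g _
      have h2 : e g ∈ H.map e.toMonoidHom := by rw [h]; exact Subgroup.mem_top _
      obtain ⟨g', hg', hgg⟩ := h2
      rw [← e.injective hgg]; exact hg'

end Cfsg.Agent.S5914
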