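import Cfsg.Statements.S3680
import Cfsg.Agent.S5914
import Cfsg.Agent.Lib.Helper3.Sidki2

set_option autoImplicit false
open Cfsg

namespace Cfsg.Agent.S3680

open Cfsg.Agent.Lib.Helper3

/-- Elementwise transitivity of a nontrivial normal subgroup of a faithful preprimitive group. -/
theorem soc_trans {G Ω : Type*} [Group G] [MulAction G Ω] [FaithfulSMul G Ω]
    (hprim : MulAction.IsPreprimitive G Ω) (M : Subgroup G) (hMn : M.Normal) (hM : M ≠ ⊥) :
    ∀ ω ω' : Ω, ∃ m ∈ M, m • ω = ω' := by
  have hfix : MulAction.fixedPoints M Ω ≠ Set.univ := by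
    intro h
    apply hM
    rw [eq_bot_iff]
    intro m hm
    rw [Subgroup.mem_bot]
    apply FaithfulSMul.eq_of_smul_eq_smul (α := Ω)
    intro a
    have ha : a ∈ MulAction.fixedPoints M Ω := by rw [h]; exact Set.mem_univ a
    rw [one_smul]
    exact ha ⟨m, hm⟩
  have := hMn
  have hpt : MulAction.IsPretransitive M Ω :=
    MulAction.IsQuasiPreprimitive.isPretransitive_of_normal hfix
  intro ω ω'
  obtain ⟨m, hm⟩ := hpt.exists_smul_eq ω ω'
  exact ⟨m, m.2, hm⟩

/-- The centralizer of a transitive subgroup is semiregular. -/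
theorem soc_semi {G Ω : Type*} [Group G] [MulAction G Ω] [FaithfulSMul G Ω] (M : Subgroup G)
    (hMt : ∀ ω ω' : Ω, ∃ m ∈ M, m • ω = ω') (c : G)
    (hc : c ∈ Subgroup.centralizer (M : Set G)) (ω : Ω) (hfix : c • ω = ω) : c = 1 := by
  apply FaithfulSMul.eq_of_smul_eq_smul (α := Ω)
  intro a
  obtain ⟨m, hm, rfl⟩ := hMt ω a
  rw [one_smul, ← mul_smul, ← (Subgroup.mem_centralizer_iff.mp hc m hm), mul_smul, hfix]

/-- A transitive subgroup of a semiregular group is everything. -/
theorem soc_eq_of_trans_le_semi {G Ω : Type*} [Group G] [MulAction G Ω] (ω : Ω)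
    (M C : Subgroup G) (hle : M ≤ C) (hMt : ∀ ω ω' : Ω, ∃ m ∈ M, m • ω = ω')
    (hCs : ∀ c ∈ C, ∀ ω : Ω, c • ω = ω → c = 1) : M = C := by
  apply le_antisymm hle
  intro c hc
  obtain ⟨m, hm, hmc⟩ := hMt ω (c • ω)
  have h1 : m⁻¹ * c = 1 := hCs _ (C.mul_mem (C.inv_mem (hle hm)) hc) ω
    (by rw [mul_smul, ← hmc, inv_smul_smul])
  have h2 : c = m := by rw [← mul_one m, ← h1, mul_inv_cancel_left]
  rw [h2]; exact hm

/-- Two commuting regular subgroups are isomorphic. -/
theorem soc_reg_iso {G Ω : Type*} [Group G] [MulAction G Ω] (M C : Subgroup G) (ω₀ : Ω)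
    (hcomm : ∀ m ∈ M, ∀ c ∈ C, m * c = c * m)
    (hMt : ∀ ω ω' : Ω, ∃ m ∈ M, m • ω = ω') (hMs : ∀ m ∈ M, ∀ ω : Ω, m • ω = ω → m = 1)
    (hCt : ∀ ω ω' : Ω, ∃ c ∈ C, c • ω = ω') (hCs : ∀ c ∈ C, ∀ ω : Ω, c • ω = ω → c = 1) :
    ∃ θ : M →* G, Function.Injective θ ∧ θ.range = C := by
  classical
  have hex : ∀ m : M, ∃ c : G, c ∈ C ∧ c • ω₀ = (m : G)⁻¹ • ω₀ := fun m => by
    obtain ⟨c, hc, h⟩ := hCt ω₀ ((m : G)⁻¹ • ω₀); exact ⟨c, hc, h⟩
  choose θ hθC hθ using hex
  have huniq : ∀ c ∈ C, ∀ c' ∈ C, c • ω₀ = c' • ω₀ → c = c' := by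
    intro c hc c' hc' h
    have h1 : c'⁻¹ * c = 1 := hCs _ (C.mul_mem (C.inv_mem hc') hc) ω₀
      (by rw [mul_smul, h, inv_smul_smul])
    rw [← mul_one c', ← h1, mul_inv_cancel_left]
  have hmul : ∀ a b : M, θ (a * b) = θ a * θ b := by
    intro a b
    apply huniq _ (hθC _) _ (C.mul_mem (hθC a) (hθC b))
    rw [hθ, mul_smul, hθ b, Subgroup.coe_mul, mul_inv_rev, mul_smul]
    rw [← mul_smul (θ a), ← hcomm _ (M.inv_mem b.2) _ (hθC a), mul_smul, hθ a]
  refine ⟨MonoidHom.mk' θ hmul, ?_, ?_⟩
  · rw [injective_iff_map_eq_one]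
    intro m hm
    have h1 : θ m = 1 := hm
    have h2 := hθ m
    rw [h1, one_smul] at h2
    have h3 : (m : G)⁻¹ = 1 := hMs _ (M.inv_mem m.2) ω₀ h2.symm
    exact Subtype.ext (inv_eq_one.mp h3)
  · apply le_antisymm
    · rintro _ ⟨m, rfl⟩; exact hθC m
    · intro c hc
      obtain ⟨m, hm, hmc⟩ := hMt ω₀ (c • ω₀)
      refine ⟨⟨m⁻¹, M.inv_mem hm⟩, ?_⟩
      apply huniq _ (hθC _) _ hc
      show θ ⟨m⁻¹, M.inv_mem hm⟩ • ω₀ = c • ω₀
      rw [hθ]
      show (m⁻¹)⁻¹ • ω₀ = c • ω₀
      rw [inv_inv, hmc]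

/-- Glue two embedded powers along a direct product of normal subgroups. -/
theorem soc_combine {G T : Type*} [Group G] [Group T] {a b : ℕ} (M C : Subgroup G)
    (hMn : M.Normal) (hCn : C.Normal) (hdisj : M ⊓ C = ⊥) (f₁ : (Fin a → T) →* G)
    (f₂ : (Fin b → T) →* G) (h₁ : Function.Injective f₁) (h₂ : Function.Injective f₂)
    (hr₁ : f₁.range = M) (hr₂ : f₂.range = C) :
    ∃ F : (Fin (a + b) → T) →* G, Function.Injective F ∧ F.range = M ⊔ C := by
  have hcomm : ∀ x y, f₁ x * f₂ y = f₂ y * f₁ x := by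
    intro x y
    exact (Subgroup.commute_of_normal_of_disjoint _ _ hMn hCn (disjoint_iff.mpr hdisj) _ _
      (by rw [← hr₁]; exact ⟨x, rfl⟩) (by rw [← hr₂]; exact ⟨y, rfl⟩)).eq
  obtain ⟨F, hF⟩ : ∃ F : (Fin (a + b) → T) →* G, ∀ x, F x =
      f₁ (fun i => x (Fin.castAdd b i)) * f₂ (fun j => x (Fin.natAdd a j)) := by
    refine ⟨{ toFun := fun x => f₁ (fun i => x (Fin.castAdd b i)) *
                f₂ (fun j => x (Fin.natAdd a j))
              map_one' := ?_
              map_mul' := ?_ }, fun x => rfl⟩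
    · show f₁ 1 * f₂ 1 = 1
      rw [map_one, map_one, one_mul]
    · intro x y
      show f₁ ((fun i => x (Fin.castAdd b i)) * (fun i => y (Fin.castAdd b i))) *
          f₂ ((fun j => x (Fin.natAdd a j)) * (fun j => y (Fin.natAdd a j))) =
        (f₁ (fun i => x (Fin.castAdd b i)) * f₂ (fun j => x (Fin.natAdd a j))) *
          (f₁ (fun i => y (Fin.castAdd b i)) * f₂ (fun j => y (Fin.natAdd a j)))
      rw [map_mul, map_mul, mul_assoc, mul_assoc]
      congr 1
      rw [← mul_assoc, hcomm, mul_assoc]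
  refine ⟨F, ?_, ?_⟩
  · rw [injective_iff_map_eq_one]
    intro x hx
    rw [hF] at hx
    have h1 : f₁ (fun i => x (Fin.castAdd b i)) ∈ M ⊓ C := by
      refine Subgroup.mem_inf.mpr ⟨by rw [← hr₁]; exact ⟨_, rfl⟩, ?_⟩
      rw [eq_inv_of_mul_eq_one_left hx]
      exact C.inv_mem (by rw [← hr₂]; exact ⟨_, rfl⟩)
    rw [hdisj, Subgroup.mem_bot] at h1
    have h3 : (fun i => x (Fin.castAdd b i)) = (1 : Fin a → T) := h₁ (by rw [h1, map_one])
    rw [h1, one_mul] at hx
    have h4 : (fun j => x (Fin.natAdd a j)) = (1 : Fin b → T) := h₂ (by rw [hx, map_one])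
    funext k
    refine Fin.addCases (fun i => ?_) (fun j => ?_) k
    · exact congrFun h3 i
    · exact congrFun h4 j
  · apply le_antisymm
    · rintro _ ⟨x, rfl⟩
      rw [hF]
      exact Subgroup.mul_mem _ (Subgroup.mem_sup_left (by rw [← hr₁]; exact ⟨_, rfl⟩))
        (Subgroup.mem_sup_right (by rw [← hr₂]; exact ⟨_, rfl⟩))
    · apply sup_le
      · rw [← hr₁]
        rintro _ ⟨u, rfl⟩
        refine ⟨Fin.append u 1, ?_⟩
        rw [hF]
        have e1 : (fun i => (Fin.append u (1 : Fin b → T)) (Fin.castAdd b i)) = u := by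
          funext i; rw [Fin.append_left]
        have e2 : (fun j => (Fin.append u (1 : Fin b → T)) (Fin.natAdd a j)) = 1 := by
          funext j; rw [Fin.append_right]
        rw [e1, e2, map_one, mul_one]
      · rw [← hr₂]
        rintro _ ⟨v, rfl⟩
        refine ⟨Fin.append 1 v, ?_⟩
        rw [hF]
        have e1 : (fun i => (Fin.append (1 : Fin a → T) v) (Fin.castAdd b i)) = 1 := by
          funext i; rw [Fin.append_left]
        have e2 : (fun j => (Fin.append (1 : Fin a → T) v) (Fin.natAdd a j)) = v := by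
          funext j; rw [Fin.append_right]
        rw [e1, e2, map_one, one_mul]

/-- A minimal normal subgroup is characteristically simple. -/
theorem soc_char_simple {G : Type*} [Group G] (M : Subgroup G) (hM : SkMinNormal M) :
    ∀ K : Subgroup M, K.Characteristic → K = ⊥ ∨ K = ⊤ := by
  intro K hK
  have hMn := hM.normal
  have hKn : (K.map M.subtype).Normal := by
    constructor
    intro x hx g
    obtain ⟨k, hk, rfl⟩ := hx
    have h1 : MulAut.conjNormal g k ∈ K :=
      (Subgroup.characteristic_iff_le_comap.mp hK) (MulAut.conjNormal g) hk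
    exact ⟨MulAut.conjNormal g k, h1, MulAut.conjNormal_apply g k⟩
  rcases hM.min _ hKn (Subgroup.map_subtype_le K) with h | h
  · left
    rw [eq_bot_iff]; intro k hk
    have h2 : (k : G) ∈ K.map M.subtype := ⟨k, hk, rfl⟩
    rw [h, Subgroup.mem_bot] at h2
    rw [Subgroup.mem_bot]; exact Subtype.ext h2
  · right
    rw [eq_top_iff]; intro k _
    have h2 : (k : G) ∈ K.map M.subtype := by rw [h]; exact k.2
    obtain ⟨k', hk', hkk⟩ := h2
    rw [← Subtype.ext hkk]
    exact hk'

/-- The `p`-torsion of an abelian subgroup. -/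
def socTors {G : Type*} [Group G] (M : Subgroup G) (p : ℕ)
    (hab : ∀ a ∈ M, ∀ b ∈ M, a * b = b * a) : Subgroup G where
  carrier := {x | x ∈ M ∧ x ^ p = 1}
  mul_mem' := by
    rintro x y ⟨hx, hxp⟩ ⟨hy, hyp⟩
    refine ⟨M.mul_mem hx hy, ?_⟩
    have hc : Commute x y := hab x hx y hy
    rw [hc.mul_pow, hxp, hyp, one_mul]
  one_mem' := ⟨M.one_mem, one_pow p⟩
  inv_mem' := by
    rintro x ⟨hx, hxp⟩
    exact ⟨M.inv_mem hx, by rw [inv_pow, hxp, inv_one]⟩

/-- The socle of a finite primitive permutation group. Let a finite group G act faithfully and primitively on a set Ω, and let N be the subgroup generated by the minimal normal subgroups of G. Then either N is an elementary abelian p-group for some prime p and acts regularly on Ω (transitively with trivial point stabilizers), or N is isomorphic to a direct product of m ≥ 1 copies of a non-abelian simple group. -/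
theorem result {G Ω : Type*} [Group G] [Finite G] [MulAction G Ω] [FaithfulSMul G Ω] [Finite Ω]
    (hprim : MulAction.IsPreprimitive G Ω) (N : Subgroup G)
    (hN : N = sSup {V : Subgroup G | V.Normal ∧ V ≠ ⊥ ∧ ∀ M : Subgroup G, M.Normal → M ≤ V → M = ⊥ ∨ M = V}) :
    (∃ p : ℕ, p.Prime ∧ IsMulCommutative N ∧ (∀ x : N, x ^ p = 1) ∧
      MulAction.IsPretransitive N Ω ∧ ∀ ω : Ω, MulAction.stabilizer N ω = ⊥) ∨
    (∃ (T : Type) (_ : Group T) (m : ℕ), 1 ≤ m ∧ IsSimpleGroup T ∧ ¬ IsMulCommutative T ∧ Nonempty (N ≃* (Fin m → T))) := by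
  classical
  by_cases hex : ∃ M : Subgroup G, SkMinNormal M
  swap
  · -- no minimal normal subgroup: G is trivial
    have hGbot : (⊤ : Subgroup G) = ⊥ := by
      by_contra h
      obtain ⟨M, hM⟩ := sk_exists_minNormal (⊤ : Subgroup G) h
      exact hex ⟨M, hM⟩
    have hNbot : N ≤ ⊥ := by rw [← hGbot]; exact le_top
    have hx1 : ∀ x : N, x = 1 := fun x => Subtype.ext (Subgroup.mem_bot.mp (hNbot x.2))
    left
    refine ⟨2, Nat.prime_two, ⟨⟨fun a b => by rw [hx1 a, hx1 b]⟩⟩, fun x => by rw [hx1 x, one_pow],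
      ⟨fun x y => ?_⟩, fun ω => ?_⟩
    · obtain ⟨g, hg⟩ := hprim.toIsPretransitive.exists_smul_eq x y
      have hg1 : g = 1 := by
        have h0 : g ∈ (⊤ : Subgroup G) := Subgroup.mem_top g
        rw [hGbot, Subgroup.mem_bot] at h0
        exact h0
      exact ⟨1, by rw [one_smul, ← hg, hg1, one_smul]⟩
    · rw [eq_bot_iff]; intro x _; rw [Subgroup.mem_bot]; exact hx1 x
  obtain ⟨M, hM⟩ := hex
  have hMn := hM.normal
  have hΩ : Nonempty Ω := by
    by_contra hΩ
    apply hM.ne
    rw [eq_bot_iff]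
    intro m _
    rw [Subgroup.mem_bot]
    exact FaithfulSMul.eq_of_smul_eq_smul (α := Ω) (fun a => (hΩ ⟨a⟩).elim)
  obtain ⟨ω₀⟩ := hΩ
  have hmemN : ∀ V : Subgroup G, SkMinNormal V → V ≤ N := by
    intro V hV
    rw [hN]
    exact le_sSup ⟨hV.normal, hV.ne, hV.min⟩
  have hNle : ∀ X : Subgroup G, (∀ V : Subgroup G, SkMinNormal V → V ≤ X) → N ≤ X := by
    intro X hX
    rw [hN]
    apply sSup_le
    rintro V ⟨h1, h2, h3⟩
    exact hX V ⟨h1, h2, h3⟩
  have hMt := soc_trans hprim M hMn hM.ne
  have hCs : ∀ c ∈ Subgroup.centralizer (M : Set G), ∀ ω : Ω, c • ω = ω → c = 1 :=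
    fun c hc ω h => soc_semi M hMt c hc ω h
  -- other minimal normal subgroups centralize M
  have hU : ∀ V : Subgroup G, SkMinNormal V → V ≠ M → V ≤ Subgroup.centralizer (M : Set G) := by
    intro V hV hne
    have hVn := hV.normal
    have h0 : (V ⊓ M).Normal := by infer_instance
    have hd : V ⊓ M = ⊥ := by
      rcases hV.min _ h0 inf_le_left with h | h
      · exact h
      · exfalso
        have hle : V ≤ M := inf_eq_left.mp h
        rcases hM.min V hVn hle with h' | h'
        · exact hV.ne h'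
        · exact hne h'
    intro v hv
    rw [Subgroup.mem_centralizer_iff]
    intro m hm
    exact (Subgroup.commute_of_normal_of_disjoint M V hMn hVn
      (disjoint_iff.mpr (by rw [inf_comm]; exact hd)) m v hm hv).eq
  by_cases hab : ∀ a ∈ M, ∀ b ∈ M, a * b = b * a
  · -- abelian case
    have hMleC : M ≤ Subgroup.centralizer (M : Set G) := by
      intro g hg
      rw [Subgroup.mem_centralizer_iff]
      intro h hh
      exact hab h hh g hg
    have hMC : M = Subgroup.centralizer (M : Set G) :=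
      soc_eq_of_trans_le_semi ω₀ M _ hMleC hMt hCs
    have hMs : ∀ m ∈ M, ∀ ω : Ω, m • ω = ω → m = 1 := fun m hm => hCs m (hMleC hm)
    have hNM : N = M := by
      apply le_antisymm
      · apply hNle
        intro V hV
        by_cases hVM : V = M
        · exact hVM.le
        · exact (hU V hV hVM).trans hMC.ge
      · exact hmemN M hM
    have hcard : Nat.card M ≠ 1 := fun h => hM.ne (Subgroup.card_eq_one.mp h)
    obtain ⟨p, hp, hpdvd⟩ := Nat.exists_prime_and_dvd hcard
    have := Fact.mk hp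
    obtain ⟨x, hx⟩ := exists_prime_orderOf_dvd_card' (G := M) p hpdvd
    have hKn : (socTors M p hab).Normal := by
      constructor
      rintro y ⟨hy, hyp⟩ g
      exact ⟨hMn.conj_mem y hy g, by rw [conj_pow, hyp, mul_one, mul_inv_cancel]⟩
    have hKM : socTors M p hab ≤ M := fun y hy => hy.1
    have hKeq : socTors M p hab = M := by
      rcases hM.min _ hKn hKM with h | h
      · exfalso
        have hxK : (x : G) ∈ socTors M p hab := by
          refine ⟨x.2, ?_⟩
          rw [← Subgroup.coe_pow, ← hx, pow_orderOf_eq_one, Subgroup.coe_one]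
        rw [h, Subgroup.mem_bot] at hxK
        have hx1 : x = 1 := Subtype.ext hxK
        rw [hx1, orderOf_one] at hx
        exact hp.one_lt.ne hx
      · exact h
    have hpow : ∀ y ∈ M, y ^ p = 1 := by
      intro y hy
      have hy' : y ∈ socTors M p hab := by rw [hKeq]; exact hy
      exact hy'.2
    left
    refine ⟨p, hp, ⟨⟨fun a b => Subtype.ext (hab a (hNM.le a.2) b (hNM.le b.2))⟩⟩, fun y => ?_,
      ⟨fun u v => ?_⟩, fun ω => ?_⟩
    · apply Subtype.ext
      rw [Subgroup.coe_pow, Subgroup.coe_one]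
      exact hpow _ (hNM.le y.2)
    · obtain ⟨m, hm, h⟩ := hMt u v
      exact ⟨⟨m, hNM.ge hm⟩, h⟩
    · rw [eq_bot_iff]
      intro y hy
      rw [Subgroup.mem_bot]
      have hy' : (y : G) • ω = ω := hy
      exact Subtype.ext (hMs _ (hNM.le y.2) ω hy')
  · -- nonabelian case
    have hchar := soc_char_simple M hM
    have hnt : Nontrivial M := (Subgroup.nontrivial_iff_ne_bot M).mpr hM.ne
    obtain ⟨T, iT, hT, n, hn, ⟨e⟩⟩ := (Cfsg.Agent.S5914.result (G := M)).mp hchar
    have hTnc : ¬ IsMulCommutative T := by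
      intro hc
      apply hab
      intro a ha b hb
      have h1 : (⟨a, ha⟩ : M) * ⟨b, hb⟩ = ⟨b, hb⟩ * ⟨a, ha⟩ := by
        apply e.injective
        rw [map_mul, map_mul]
        funext i
        exact (isMulCommutative_iff.mp hc) _ _
      exact congrArg Subtype.val h1
    have hf₁inj : Function.Injective (M.subtype.comp e.symm.toMonoidHom) :=
      Subtype.val_injective.comp e.symm.injective
    have hf₁range : (M.subtype.comp e.symm.toMonoidHom).range = M := by
      apply le_antisymm
      · rintro _ ⟨x, rfl⟩; exact (e.symm x).2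
      · intro m hm
        refine ⟨e ⟨m, hm⟩, ?_⟩
        show ((e.symm (e ⟨m, hm⟩) : M) : G) = m
        rw [e.symm_apply_apply]
    by_cases hC : Subgroup.centralizer (M : Set G) = ⊥
    · have hNM : N = M := by
        apply le_antisymm
        · apply hNle
          intro V hV
          by_cases hVM : V = M
          · exact hVM.le
          · exfalso
            apply hV.ne
            rw [eq_bot_iff, ← hC]
            exact hU V hV hVM
        · exact hmemN M hM
      right
      exact ⟨T, iT, n, hn, hT, hTnc, ⟨(MulEquiv.subgroupCongr hNM).trans e⟩⟩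
    · have hCn : (Subgroup.centralizer (M : Set G)).Normal := by infer_instance
      have hCt := soc_trans hprim _ hCn hC
      have hMC : M ⊓ Subgroup.centralizer (M : Set G) = ⊥ := by
        have h0 : (M ⊓ Subgroup.centralizer (M : Set G)).Normal := by infer_instance
        rcases hM.min _ h0 inf_le_left with h | h
        · exact h
        · exfalso
          apply hab
          intro a ha b hb
          have hb' : b ∈ Subgroup.centralizer (M : Set G) := (inf_eq_left.mp h) hb
          exact Subgroup.mem_centralizer_iff.mp hb' a ha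
      have hcomm : ∀ m ∈ M, ∀ c ∈ Subgroup.centralizer (M : Set G), m * c = c * m :=
        fun m hm c hc => Subgroup.mem_centralizer_iff.mp hc m hm
      have hMs : ∀ m ∈ M, ∀ ω : Ω, m • ω = ω → m = 1 := by
        intro m hm ω h
        refine soc_semi _ hCt m ?_ ω h
        rw [Subgroup.mem_centralizer_iff]
        intro c hc
        exact (hcomm m hm c hc).symm
      have hCmin : SkMinNormal (Subgroup.centralizer (M : Set G)) := by
        refine ⟨hCn, hC, ?_⟩
        intro K hKn hKle
        by_cases hK : K = ⊥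
        · exact Or.inl hK
        · right
          exact soc_eq_of_trans_le_semi ω₀ K _ hKle (soc_trans hprim K hKn hK) hCs
      have hNMC : N = M ⊔ Subgroup.centralizer (M : Set G) := by
        apply le_antisymm
        · apply hNle
          intro V hV
          by_cases hVM : V = M
          · exact hVM.le.trans le_sup_left
          · exact (hU V hV hVM).trans le_sup_right
        · exact sup_le (hmemN M hM) (hmemN _ hCmin)
      obtain ⟨θ, hθinj, hθrange⟩ := soc_reg_iso M (Subgroup.centralizer (M : Set G)) ω₀ hcomm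
        hMt hMs hCt hCs
      have hf₂inj : Function.Injective (θ.comp e.symm.toMonoidHom) :=
        hθinj.comp e.symm.injective
      have hf₂range : (θ.comp e.symm.toMonoidHom).range = Subgroup.centralizer (M : Set G) := by
        apply le_antisymm
        · rintro _ ⟨x, rfl⟩
          rw [← hθrange]
          exact ⟨e.symm x, rfl⟩
        · intro c hc
          rw [← hθrange] at hc
          obtain ⟨m, rfl⟩ := hc
          refine ⟨e m, ?_⟩
          show θ (e.symm (e m)) = θ m
          rw [e.symm_apply_apply]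
      obtain ⟨F, hFinj, hFrange⟩ := soc_combine M _ hMn hCn hMC _ _ hf₁inj hf₂inj hf₁range
        hf₂range
      right
      exact ⟨T, iT, n + n, by omega, hT, hTnc,
        ⟨((MonoidHom.ofInjective hFinj).trans
          (MulEquiv.subgroupCongr (hFrange.trans hNMC.symm))).symm⟩⟩

end Cfsg.Agent.S3680
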