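import Mathlib
import Cfsg.Statements.S3763
import Cfsg.Agent.S0099

set_option autoImplicit false

namespace Cfsg.Agent.S3763

open scoped commutatorElement Pointwise
open Cfsg.Agent.S0099

universe u v w

theorem elem_closure {G : Type*} [Group G] (S : Set G)
    (hcomm : ∀ a ∈ S, ∀ b ∈ S, a * b = b * a) (hsq : ∀ a ∈ S, a ^ 2 = 1) :
    (∀ a ∈ Subgroup.closure S, ∀ b ∈ Subgroup.closure S, a * b = b * a) ∧
      ∀ a ∈ Subgroup.closure S, a ^ 2 = 1 := by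
  have h1 : ∀ a ∈ Subgroup.closure S, ∀ b ∈ Subgroup.closure S, a * b = b * a := by
    have h2 : S ⊆ Subgroup.centralizer S := fun a ha =>
      Subgroup.mem_centralizer_iff.2 (fun b hb => hcomm b hb a ha)
    have h3 : Subgroup.closure S ≤ Subgroup.centralizer S := (Subgroup.closure_le _).2 h2
    have h4 : S ⊆ Subgroup.centralizer (Subgroup.closure S : Set G) := fun a ha =>
      Subgroup.mem_centralizer_iff.2
        (fun b hb => (Subgroup.mem_centralizer_iff.1 (h3 hb) a ha).symm)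
    have h5 : Subgroup.closure S ≤ Subgroup.centralizer (Subgroup.closure S : Set G) :=
      (Subgroup.closure_le _).2 h4
    intro a ha b hb
    exact (Subgroup.mem_centralizer_iff.1 (h5 hb) a ha)
  refine ⟨h1, ?_⟩
  intro a ha
  induction ha using Subgroup.closure_induction with
  | mem x hx => exact hsq x hx
  | one => exact one_pow 2
  | mul x y hx hy ihx ihy =>
    rw [(show Commute x y from h1 x hx y hy).mul_pow, ihx, ihy, one_mul]
  | inv x hx ih => rw [inv_pow, ih, inv_one]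

theorem elem_adjoin {G : Type*} [Group G] (B : Subgroup G) (x : G)
    (hB : ∀ a ∈ B, ∀ b ∈ B, a * b = b * a) (hBsq : ∀ a ∈ B, a ^ 2 = 1)
    (hx : ∀ a ∈ B, a * x = x * a) (hx2 : x ^ 2 = 1) :
    ∃ A : Subgroup G, B ≤ A ∧ x ∈ A ∧ (∀ a ∈ A, ∀ b ∈ A, a * b = b * a) ∧
      (∀ a ∈ A, a ^ 2 = 1) ∧ (∀ K : Subgroup G, B ≤ K → x ∈ K → A ≤ K) := by
  have hScomm : ∀ a ∈ (B : Set G) ∪ {x}, ∀ b ∈ (B : Set G) ∪ {x}, a * b = b * a := by
    rintro a (ha | ha) b (hb | hb)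
    · exact hB a ha b hb
    · rw [Set.mem_singleton_iff.1 hb]; exact hx a ha
    · rw [Set.mem_singleton_iff.1 ha]; exact (hx b hb).symm
    · rw [Set.mem_singleton_iff.1 ha, Set.mem_singleton_iff.1 hb]
  have hSsq : ∀ a ∈ (B : Set G) ∪ {x}, a ^ 2 = 1 := by
    rintro a (ha | ha)
    · exact hBsq a ha
    · rw [Set.mem_singleton_iff.1 ha]; exact hx2
  obtain ⟨hc, hs⟩ := elem_closure _ hScomm hSsq
  refine ⟨Subgroup.closure ((B : Set G) ∪ {x}), fun a ha => Subgroup.subset_closure (Or.inl ha),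
    Subgroup.subset_closure (Or.inr rfl), hc, hs, ?_⟩
  intro K hBK hxK
  rw [Subgroup.closure_le]
  rintro a (ha | ha)
  · exact hBK ha
  · rw [Set.mem_singleton_iff.1 ha]; exact hxK

theorem mem_ker_kap {E : Type*} [Group E] (hcl : ∀ a b : E, ⁅a, b⁆ ∈ Subgroup.center E)
    (x g : E) : g ∈ (kap hcl x).ker ↔ g * x = x * g := by
  rw [MonoidHom.mem_ker]
  constructor
  · intro h
    have h' : ⁅g, x⁆ = 1 := congrArg Subtype.val h
    exact (commutatorElement_eq_one_iff_commute.1 h').eq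
  · intro h
    exact Subtype.ext (commutatorElement_eq_one_iff_commute.2 h)

theorem card_le_two_mul_inf_ker {G : Type*} {Z : Type*} [Group G] [Group Z] [Finite G]
    (f : G →* Z) (hZ : Nat.card Z = 2) (A : Subgroup G) :
    Nat.card A ≤ 2 * Nat.card ↥(A ⊓ f.ker) := by
  have : Finite Z := Nat.finite_of_card_ne_zero (by rw [hZ]; norm_num)
  have h1 : Nat.card (f.comp A.subtype).ker * (f.comp A.subtype).ker.index = Nat.card A :=
    Subgroup.card_mul_index _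
  have h2 : (f.comp A.subtype).ker.index = Nat.card (f.comp A.subtype).range :=
    Subgroup.index_ker _
  have h3 : Nat.card (f.comp A.subtype).range ≤ 2 := by
    rw [← hZ]; exact Subgroup.card_le_card_group _
  have e : (f.comp A.subtype).ker.map A.subtype = A ⊓ f.ker := by
    ext w
    simp only [Subgroup.mem_map, Subgroup.mem_inf, MonoidHom.mem_ker]
    constructor
    · rintro ⟨a, ha, rfl⟩
      exact ⟨a.2, ha⟩
    · rintro ⟨hw, hfw⟩
      exact ⟨⟨w, hw⟩, hfw, rfl⟩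
  have h4 : Nat.card ↥((f.comp A.subtype).ker.map A.subtype) = Nat.card (f.comp A.subtype).ker :=
    Subgroup.card_map_of_injective A.subtype_injective
  rw [e] at h4
  rw [← h1, ← h4, h2]
  calc Nat.card ↥(A ⊓ f.ker) * Nat.card (f.comp A.subtype).range
      ≤ Nat.card ↥(A ⊓ f.ker) * 2 := Nat.mul_le_mul_left _ h3
    _ = 2 * Nat.card ↥(A ⊓ f.ker) := mul_comm _ _

theorem two_mul_card_le_of_lt {G : Type*} [Group G] [Finite G] (H K : Subgroup G) (hle : H ≤ K)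
    (hne : ∃ g ∈ K, g ∉ H) : 2 * Nat.card H ≤ Nat.card K := by
  obtain ⟨m, hm⟩ := Subgroup.card_dvd_of_le hle
  have hK : 0 < Nat.card K := Nat.card_pos
  have hH : 0 < Nat.card H := Nat.card_pos
  have hm1 : m ≠ 1 := by
    intro h
    rw [h, mul_one] at hm
    have hHK : H = K := Subgroup.eq_of_le_of_card_ge hle (le_of_eq hm)
    obtain ⟨g, hg, hg'⟩ := hne
    exact hg' (hHK ▸ hg)
  have hm0 : m ≠ 0 := by
    intro h
    rw [h, mul_zero] at hm
    omega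
  have h2 : 2 ≤ m := by omega
  rw [hm, mul_comm]
  exact Nat.mul_le_mul_left _ h2

section rank

variable {E : Type u} [Group E] [Finite E]

theorem rank_down (hXS : XS 2 E) (x y : E) (hx2 : x ^ 2 = 1)
    (hz : ⁅x, y⁆ ≠ 1) (k : ℕ) (h : Cfsg.PRankLE 2 (k + 1) E) :
    Cfsg.PRankLE 2 k ↥(Cxy hXS.2.1 x y) := by
  intro AC hAC hsq
  have hBC : AC.map (Cxy hXS.2.1 x y).subtype ≤ Cxy hXS.2.1 x y := by
    rintro _ ⟨a, -, rfl⟩
    exact a.2
  have hBcomm : ∀ a ∈ AC.map (Cxy hXS.2.1 x y).subtype,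
      ∀ b ∈ AC.map (Cxy hXS.2.1 x y).subtype, a * b = b * a := by
    rintro _ ⟨a, ha, rfl⟩ _ ⟨b, hb, rfl⟩
    have h1 := hAC.is_comm.comm ⟨a, ha⟩ ⟨b, hb⟩
    have h2 : a * b = b * a := congrArg Subtype.val h1
    exact congrArg Subtype.val h2
  have hBsq : ∀ a ∈ AC.map (Cxy hXS.2.1 x y).subtype, a ^ 2 = 1 := by
    rintro _ ⟨a, ha, rfl⟩
    have h1 := hsq a ha
    exact congrArg Subtype.val h1
  have hBx : ∀ a ∈ AC.map (Cxy hXS.2.1 x y).subtype, a * x = x * a := fun a ha =>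
    ((mem_Cxy hXS.2.1 x y a).1 (hBC ha)).1
  obtain ⟨A, hBA, hxA, hAc, hAs, -⟩ := elem_adjoin _ x hBcomm hBsq hBx hx2
  have hcard := h A ⟨⟨fun a b => Subtype.ext (hAc a a.2 b b.2)⟩⟩ hAs
  have hxB : x ∉ AC.map (Cxy hXS.2.1 x y).subtype := by
    intro hx
    have h1 := ((mem_Cxy hXS.2.1 x y x).1 (hBC hx)).2
    exact hz (commutatorElement_eq_one_iff_commute.2 h1)
  have h2 := two_mul_card_le_of_lt _ A hBA ⟨x, hxA, hxB⟩
  have h3 : Nat.card ↥(AC.map (Cxy hXS.2.1 x y).subtype) = Nat.card AC :=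
    Subgroup.card_map_of_injective (Subgroup.subtype_injective _)
  rw [pow_succ] at hcard
  omega

theorem rank_up (hXS : XS 2 E) (x y : E) (hx2 : x ^ 2 = 1)
    (k : ℕ) (h : Cfsg.PRankLE 2 k ↥(Cxy hXS.2.1 x y)) :
    Cfsg.PRankLE 2 (k + 1) E := by
  intro A hA hsq
  have hAcomm : ∀ a ∈ A, ∀ b ∈ A, a * b = b * a := fun a ha b hb =>
    congrArg Subtype.val (hA.is_comm.comm ⟨a, ha⟩ ⟨b, hb⟩)
  obtain ⟨A', hA0A', hxA', hA'c, hA's, hmin⟩ := elem_adjoin (A ⊓ (kap hXS.2.1 x).ker) x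
    (fun a ha b hb => hAcomm a (Subgroup.mem_inf.1 ha).1 b (Subgroup.mem_inf.1 hb).1)
    (fun a ha => hsq a (Subgroup.mem_inf.1 ha).1)
    (fun a ha => (mem_ker_kap hXS.2.1 x a).1 (Subgroup.mem_inf.1 ha).2) hx2
  have hA'Kx : A' ≤ (kap hXS.2.1 x).ker :=
    hmin _ inf_le_right ((mem_ker_kap hXS.2.1 x x).2 rfl)
  have hAA' : Nat.card A ≤ Nat.card A' := by
    by_cases hxA : x ∈ A
    · have hle : A ≤ A' := fun a ha =>
        hA0A' (Subgroup.mem_inf.2 ⟨ha, (mem_ker_kap hXS.2.1 x a).2 (hAcomm a ha x hxA)⟩)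
      exact Subgroup.card_le_of_le hle
    · have h1 := card_le_two_mul_inf_ker (kap hXS.2.1 x) hXS.2.2 A
      have h2 := two_mul_card_le_of_lt (A ⊓ (kap hXS.2.1 x).ker) A' hA0A'
        ⟨x, hxA', fun hx => hxA (Subgroup.mem_inf.1 hx).1⟩
      exact h1.trans h2
  have h3 := card_le_two_mul_inf_ker (kap hXS.2.1 y) hXS.2.2 A'
  have hBC : A' ⊓ (kap hXS.2.1 y).ker ≤ Cxy hXS.2.1 x y := by
    intro b hb
    exact (mem_Cxy hXS.2.1 x y b).2 ⟨(mem_ker_kap hXS.2.1 x b).1 (hA'Kx (Subgroup.mem_inf.1 hb).1),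
      (mem_ker_kap hXS.2.1 y b).1 (Subgroup.mem_inf.1 hb).2⟩
  have e : ((A' ⊓ (kap hXS.2.1 y).ker).subgroupOf (Cxy hXS.2.1 x y)).map
      (Cxy hXS.2.1 x y).subtype = A' ⊓ (kap hXS.2.1 y).ker := by
    rw [Subgroup.subgroupOf_map_subtype]
    exact inf_eq_left.2 hBC
  have e2 : Nat.card ↥(((A' ⊓ (kap hXS.2.1 y).ker).subgroupOf (Cxy hXS.2.1 x y)).map
      (Cxy hXS.2.1 x y).subtype)
      = Nat.card ↥((A' ⊓ (kap hXS.2.1 y).ker).subgroupOf (Cxy hXS.2.1 x y)) :=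
    Subgroup.card_map_of_injective (Subgroup.subtype_injective _)
  rw [e] at e2
  have h4 := h ((A' ⊓ (kap hXS.2.1 y).ker).subgroupOf (Cxy hXS.2.1 x y))
    ⟨⟨fun a b => Subtype.ext (Subtype.ext
      (hA'c _ (Subgroup.mem_inf.1 (Subgroup.mem_subgroupOf.1 a.2)).1 _
        (Subgroup.mem_inf.1 (Subgroup.mem_subgroupOf.1 b.2)).1))⟩⟩
    (fun a ha => Subtype.ext (hA's _ (Subgroup.mem_inf.1 (Subgroup.mem_subgroupOf.1 ha)).1))
  rw [pow_succ]
  omega

theorem not_rank0 (hXS : XS 2 E) : ¬ Cfsg.PRankLE 2 0 E := by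
  intro h
  have h1 := h (Subgroup.center E)
    ⟨⟨fun a b => Subtype.ext ((Subgroup.mem_center_iff.1 b.2) a)⟩⟩
    (fun a ha => central_sq hXS a ha)
  rw [hXS.2.2] at h1
  norm_num at h1

theorem not_rank1_of_inv (hXS : XS 2 E) (x : E) (hx2 : x ^ 2 = 1)
    (hxc : x ∉ Subgroup.center E) : ¬ Cfsg.PRankLE 2 1 E := by
  intro h
  obtain ⟨A, hZA, hxA, hAc, hAs, -⟩ := elem_adjoin (Subgroup.center E) x
    (fun a _ b hb => (Subgroup.mem_center_iff.1 hb) a) (fun a ha => central_sq hXS a ha)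
    (fun a ha => ((Subgroup.mem_center_iff.1 ha) x).symm) hx2
  have h1 := h A ⟨⟨fun a b => Subtype.ext (hAc a a.2 b b.2)⟩⟩ hAs
  have h2 := two_mul_card_le_of_lt (Subgroup.center E) A hZA ⟨x, hxA, hxc⟩
  rw [hXS.2.2] at h2
  norm_num at h1
  omega

theorem inv_of_not_rank1 (hXS : XS 2 E)
    (h : ¬ Cfsg.PRankLE 2 1 E) : ∃ x : E, x ^ 2 = 1 ∧ x ∉ Subgroup.center E := by
  by_contra hcon
  push Not at hcon
  apply h
  intro A _ hsq
  have hle : A ≤ Subgroup.center E := fun a ha => hcon a (hsq a ha)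
  have h1 := Subgroup.card_le_of_le hle
  rw [hXS.2.2] at h1
  simpa using h1

theorem rank2_of_card8 (hna : ∃ a b : E, a * b ≠ b * a)
    (h8 : Nat.card E = 8) : Cfsg.PRankLE 2 2 E := by
  intro A hA _
  have hAtop : A ≠ ⊤ := by
    intro htop
    obtain ⟨a, b, hab⟩ := hna
    have ha : a ∈ A := by rw [htop]; exact Subgroup.mem_top a
    have hb : b ∈ A := by rw [htop]; exact Subgroup.mem_top b
    have h1 := hA.is_comm.comm ⟨a, ha⟩ ⟨b, hb⟩
    exact hab (congrArg Subtype.val h1)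
  have h1 : A.index ≠ 1 := fun h => hAtop (Subgroup.index_eq_one.1 h)
  have h2 : A.index ≠ 0 := Subgroup.index_ne_zero_of_finite
  have h3 := Subgroup.card_mul_index A
  rw [h8] at h3
  have h4 : 2 ≤ A.index := by omega
  norm_num
  by_contra hcon
  push Not at hcon
  nlinarith

end rank

theorem rank_bounds : ∀ n : ℕ, ∀ (E : Type u) [Group E] [Finite E], XS 2 E →
    Nat.card E = 2 ^ (2 * n + 1) →
    Cfsg.PRankLE 2 (n + 1) E ∧ ¬ Cfsg.PRankLE 2 (n - 1) E := by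
  intro n
  induction n with
  | zero =>
    intro E _ _ hXS hcard
    refine ⟨?_, not_rank0 hXS⟩
    intro A _ _
    have h1 := Subgroup.card_le_card_group A
    rw [hcard] at h1
    simpa using h1
  | succ m ih =>
    intro E _ _ hXS hcard
    have hna : ∃ a b : E, a * b ≠ b * a := by
      by_contra hcon
      push Not at hcon
      have h1 := (abelian_iff_card hXS).1 hcon
      rw [hcard] at h1
      have h2 : 2 ^ (2 * (m + 1) + 1) = 2 ^ 1 := by rw [h1]; norm_num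
      exact absurd (Nat.pow_right_injective (le_refl 2) h2) (by omega)
    obtain ⟨z, hzc, hz1⟩ := exists_central_ne_one hXS
    rcases Nat.eq_zero_or_pos m with hm | hm
    · subst hm
      have h8 : Nat.card E = 8 := by rw [hcard]; norm_num
      exact ⟨rank2_of_card8 hna h8, not_rank0 hXS⟩
    · have hne8 : Nat.card E ≠ 8 := by
        rw [hcard]
        intro h
        have h2 : 2 ^ (2 * (m + 1) + 1) = 2 ^ 3 := by rw [h]; norm_num
        exact absurd (Nat.pow_right_injective (le_refl 2) h2) (by omega)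
      obtain ⟨x, y, hxy, hx2, hy2⟩ := hyp_pair_big hXS hna z hzc hz1 hne8
      have hz : ⁅x, y⁆ ≠ 1 := by rw [hxy]; exact hz1
      have hCcard : Nat.card ↥(Cxy hXS.2.1 x y) = 2 ^ (2 * m + 1) := by
        have h := Subgroup.card_mul_index (Cxy hXS.2.1 x y)
        rw [index_Cxy hXS x y hz, hcard] at h
        have e : 2 ^ (2 * (m + 1) + 1) = 2 ^ (2 * m + 1) * (2 * 2) := by ring
        rw [e] at h
        exact Nat.eq_of_mul_eq_mul_right (by norm_num) h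
      obtain ⟨i1, i2⟩ := ih ↥(Cxy hXS.2.1 x y) (XS_Cxy hXS x y hz) hCcard
      refine ⟨rank_up hXS x y hx2 (m + 1) i1, fun h => i2 ?_⟩
      have h' : Cfsg.PRankLE 2 ((m - 1) + 1) E := by
        have e : m - 1 + 1 = m + 1 - 1 := by omega
        rw [e]; exact h
      exact rank_down hXS x y hx2 hz (m - 1) h'

theorem main3 : ∀ n : ℕ, ∀ (E₁ : Type u) (E₂ : Type v) [Group E₁] [Group E₂]
    [Finite E₁] [Finite E₂], XS 2 E₁ → XS 2 E₂ →
    Nat.card E₁ = n → Nat.card E₂ = n →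
    (∀ k : ℕ, Cfsg.PRankLE 2 k E₁ ↔ Cfsg.PRankLE 2 k E₂) →
    ∀ (z₁ : E₁) (z₂ : E₂), z₁ ∈ Subgroup.center E₁ → z₁ ≠ 1 →
      z₂ ∈ Subgroup.center E₂ → z₂ ≠ 1 → ∃ φ : E₁ ≃* E₂, φ z₁ = z₂ := by
  intro n
  induction n using Nat.strong_induction_on with
  | _ n ih =>
    intro E₁ E₂ _ _ _ _ h₁ h₂ hn₁ hn₂ hrk z₁ z₂ hz₁c hz₁ hz₂c hz₂
    by_cases hab : ∀ a b : E₁, a * b = b * a
    · have hc₁ : Nat.card E₁ = 2 := (abelian_iff_card h₁).1 hab
      have hc₂ : Nat.card E₂ = 2 := by rw [hn₂, ← hn₁, hc₁]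
      exact iso_card_two hc₁ hc₂ z₁ z₂ hz₁ hz₂
    · have hna₁ : ∃ a b : E₁, a * b ≠ b * a := by
        by_contra hcon
        push Not at hcon
        exact hab hcon
      have hn2 : n ≠ 2 := fun h => hab ((abelian_iff_card h₁).2 (hn₁.trans h))
      have hna₂ : ∃ a b : E₂, a * b ≠ b * a := by
        by_contra hcon
        push Not at hcon
        exact hn2 (hn₂.symm.trans ((abelian_iff_card h₂).1 hcon))
      by_cases h8 : n = 8
      · have c₁ := hn₁.trans h8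
        have c₂ := hn₂.trans h8
        by_cases hT : ∃ x : E₁, x ^ 2 = 1 ∧ x ∉ Subgroup.center E₁
        · obtain ⟨x₁, hx₁, hx₁c⟩ := hT
          have hr : ¬ Cfsg.PRankLE 2 1 E₂ := fun h =>
            not_rank1_of_inv h₁ x₁ hx₁ hx₁c ((hrk 1).2 h)
          obtain ⟨x₂, hx₂, hx₂c⟩ := inv_of_not_rank1 h₂ hr
          obtain ⟨y₁, e₁, b₁⟩ := hyp_of_inv h₁ z₁ hz₁c hz₁ x₁ hx₁ hx₁c
          obtain ⟨y₂, e₂, b₂⟩ := hyp_of_inv h₂ z₂ hz₂c hz₂ x₂ hx₂ hx₂c
          exact glue_small h₁ h₂ c₁ c₂ z₁ z₂ hz₁ hz₂ x₁ y₁ x₂ y₂ e₁ e₂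
            (Or.inl ⟨hx₁, b₁, hx₂, b₂⟩)
        · have hT₂ : ¬ ∃ x : E₂, x ^ 2 = 1 ∧ x ∉ Subgroup.center E₂ := by
            rintro ⟨x₂, hx₂, hx₂c⟩
            have hr : ¬ Cfsg.PRankLE 2 1 E₁ := fun h =>
              not_rank1_of_inv h₂ x₂ hx₂ hx₂c ((hrk 1).1 h)
            exact hT (inv_of_not_rank1 h₁ hr)
          rcases pair_type h₁ hna₁ z₁ hz₁c hz₁ with ⟨x₁, y₁, e₁, a₁, b₁⟩ | ⟨x₁, y₁, e₁, a₁, b₁⟩
          · exfalso
            apply hT
            refine ⟨x₁, a₁, ?_⟩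
            intro hc
            apply hz₁
            rw [← e₁]
            exact commutatorElement_eq_one_iff_commute.2
              ((Subgroup.mem_center_iff.1 hc) y₁).symm
          · rcases pair_type h₂ hna₂ z₂ hz₂c hz₂ with
              ⟨x₂, y₂, e₂, a₂, b₂⟩ | ⟨x₂, y₂, e₂, a₂, b₂⟩
            · exfalso
              apply hT₂
              refine ⟨x₂, a₂, ?_⟩
              intro hc
              apply hz₂
              rw [← e₂]
              exact commutatorElement_eq_one_iff_commute.2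
                ((Subgroup.mem_center_iff.1 hc) y₂).symm
            · exact glue_small h₁ h₂ c₁ c₂ z₁ z₂ hz₁ hz₂ x₁ y₁ x₂ y₂ e₁ e₂
                (Or.inr ⟨a₁, b₁, a₂, b₂⟩)
      · obtain ⟨x₁, y₁, e₁, a₁, b₁⟩ := hyp_pair_big h₁ hna₁ z₁ hz₁c hz₁ (by rw [hn₁]; exact h8)
        obtain ⟨x₂, y₂, e₂, a₂, b₂⟩ := hyp_pair_big h₂ hna₂ z₂ hz₂c hz₂ (by rw [hn₂]; exact h8)
        subst e₁ e₂
        have hm₁ : Nat.card ↥(Cxy h₁.2.1 x₁ y₁) * (2 * 2) = n := by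
          rw [← index_Cxy h₁ x₁ y₁ hz₁, Subgroup.card_mul_index, hn₁]
        have hm₂ : Nat.card ↥(Cxy h₂.2.1 x₂ y₂) * (2 * 2) = n := by
          rw [← index_Cxy h₂ x₂ y₂ hz₂, Subgroup.card_mul_index, hn₂]
        have hpos : 0 < Nat.card ↥(Cxy h₁.2.1 x₁ y₁) := Nat.card_pos
        have hlt : Nat.card ↥(Cxy h₁.2.1 x₁ y₁) < n := by omega
        have hceq₂ : Nat.card ↥(Cxy h₂.2.1 x₂ y₂) = Nat.card ↥(Cxy h₁.2.1 x₁ y₁) := by omega
        have hz1C := center_le_Cxy h₁ x₁ y₁ _ hz₁c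
        have hz2C := center_le_Cxy h₂ x₂ y₂ _ hz₂c
        have hcen₁ : (⟨⁅x₁, y₁⁆, hz1C⟩ : ↥(Cxy h₁.2.1 x₁ y₁)) ∈
            Subgroup.center ↥(Cxy h₁.2.1 x₁ y₁) :=
          Subgroup.mem_center_iff.2
            (fun g => Subtype.ext ((Subgroup.mem_center_iff.1 hz₁c) (g : E₁)))
        have hcen₂ : (⟨⁅x₂, y₂⁆, hz2C⟩ : ↥(Cxy h₂.2.1 x₂ y₂)) ∈
            Subgroup.center ↥(Cxy h₂.2.1 x₂ y₂) :=
          Subgroup.mem_center_iff.2
            (fun g => Subtype.ext ((Subgroup.mem_center_iff.1 hz₂c) (g : E₂)))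
        have hrkC : ∀ k : ℕ, Cfsg.PRankLE 2 k ↥(Cxy h₁.2.1 x₁ y₁) ↔
            Cfsg.PRankLE 2 k ↥(Cxy h₂.2.1 x₂ y₂) := by
          intro k
          constructor
          · intro h
            exact rank_down h₂ x₂ y₂ a₂ hz₂ k ((hrk (k + 1)).1 (rank_up h₁ x₁ y₁ a₁ k h))
          · intro h
            exact rank_down h₁ x₁ y₁ a₁ hz₁ k ((hrk (k + 1)).2 (rank_up h₂ x₂ y₂ a₂ k h))
        obtain ⟨ψ, hψ⟩ := ih _ hlt ↥(Cxy h₁.2.1 x₁ y₁) ↥(Cxy h₂.2.1 x₂ y₂)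
          (XS_Cxy h₁ x₁ y₁ hz₁) (XS_Cxy h₂ x₂ y₂ hz₂) rfl hceq₂ hrkC
          ⟨⁅x₁, y₁⁆, hz1C⟩ ⟨⁅x₂, y₂⁆, hz2C⟩
          hcen₁ (fun h => hz₁ (congrArg Subtype.val h))
          hcen₂ (fun h => hz₂ (congrArg Subtype.val h))
        refine step2 h₁ h₂ (hn₁.trans hn₂.symm) x₁ y₁ x₂ y₂ hz₁ hz₂
          (Or.inl ⟨a₁, b₁, a₂, b₂⟩) ψ ?_
        intro c hc
        have e : c = ⟨⁅x₁, y₁⁆, hz1C⟩ := Subtype.ext hc
        rw [e, hψ]

/-- Let E be an extraspecial 2-group of order 2^(2n+1). Then the largest elementary abelian subgroups of E have order 2^n or 2^(n+1); and two extraspecial 2-groups of the same order whose largest elementary abelian subgroups have the same order are isomorphic. -/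
theorem result {E : Type*} [Group E] [Finite E] (hE : Cfsg.IsExtraspecial 2 E) (n : ℕ) (hn : Nat.card E = 2 ^ (2 * n + 1)) : ((Cfsg.PRankLE 2 n E ∧ ¬ Cfsg.PRankLE 2 (n - 1) E) ∨ (Cfsg.PRankLE 2 (n + 1) E ∧ ¬ Cfsg.PRankLE 2 n E)) ∧ ∀ (E' : Type*) [Group E'] [Finite E'], Cfsg.IsExtraspecial 2 E' → Nat.card E' = Nat.card E → (∀ k : ℕ, Cfsg.PRankLE 2 k E ↔ Cfsg.PRankLE 2 k E') → Nonempty (E ≃* E') := by
  have hX : XS 2 E := xs_of_extraspecial hE
  obtain ⟨r1, r2⟩ := rank_bounds n E hX hn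
  refine ⟨?_, ?_⟩
  · by_cases h : Cfsg.PRankLE 2 n E
    · exact Or.inl ⟨h, r2⟩
    · exact Or.inr ⟨r1, h⟩
  · intro E' _ _ hE' hcard hrk
    have hX' : XS 2 E' := xs_of_extraspecial hE'
    obtain ⟨z₁, hz₁⟩ := exists_central_ne_one hX
    obtain ⟨z₂, hz₂⟩ := exists_central_ne_one hX'
    obtain ⟨φ, -⟩ := main3 (Nat.card E) E E' hX hX' rfl hcard hrk z₁ z₂ hz₁.1 hz₁.2 hz₂.1 hz₂.2
    exact ⟨φ⟩

end Cfsg.Agent.S3763
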