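import Cfsg.Statements.S3808
import Mathlib
import Cfsg.Agent.Lib.Helper1.Layer
import Cfsg.Agent.Lib.Helper3.EA
import Cfsg.Agent.Lib.Helper8.PGroupNormal

set_option autoImplicit false
open Cfsg
open Cfsg.Agent.Lib.Helper8

namespace Cfsg.Agent.S3808

/-- Let S be a finite p-group with an extraspecial subgroup Q of index p. Then either Z(S) = Z(Q), or S = Q·Z(S) and Z(S) has order p². -/
theorem result {S : Type*} [Group S] [Finite S] (p : ℕ) [Fact p.Prime] (hS : IsPGroup p S) (Q : Subgroup S) (hQ : Cfsg.IsExtraspecial p ↥Q) (hQi : Q.index = p) :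
    Subgroup.center S = (Subgroup.center ↥Q).map Q.subtype ∨
      (Q ⊔ Subgroup.center S = ⊤ ∧ Nat.card (Subgroup.center S) = p ^ 2) := by
  have hp := (Fact.out : p.Prime)
  have hQn : Q.Normal := h8_normal_of_index_eq_prime hS Q hQi
  set ZQ : Subgroup S := (Subgroup.center ↥Q).map Q.subtype with hZQ
  have hZQn : ZQ.Normal := Cfsg.Agent.Lib.Helper1.normal_map_subtype_of_characteristic hQn _
  have hZQcard : Nat.card ZQ = p := by
    rw [hZQ, Nat.card_congr ((Subgroup.center ↥Q).equivMapOfInjective Q.subtype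
      Q.subtype_injective).symm.toEquiv]
    exact hQ.2
  have hZQc : ZQ ≤ Subgroup.center S := h8_normal_card_prime_le_center hS ZQ hZQcard
  have hinf : Q ⊓ Subgroup.center S = ZQ := by
    apply le_antisymm
    · intro x hx
      obtain ⟨hxQ, hxc⟩ := Subgroup.mem_inf.1 hx
      refine ⟨⟨x, hxQ⟩, ?_, rfl⟩
      rw [SetLike.mem_coe, Subgroup.mem_center_iff]
      intro g
      apply Subtype.ext
      exact Subgroup.mem_center_iff.1 hxc g
    · exact le_inf (Subgroup.map_subtype_le _) hZQc
  by_cases hle : Subgroup.center S ≤ Q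
  · left
    rw [← hinf]; exact (inf_eq_right.2 hle).symm
  · right
    have htop := h8_eq_top_of_index_prime_of_not_le hp Q _ hQi hle
    refine ⟨htop, ?_⟩
    have h1 := Cfsg.Agent.Lib.Helper3.card_sup_mul_card_inf Q (Subgroup.center S) (by
      rw [Subgroup.normalizer_eq_top_iff.2 inferInstance]; exact le_top)
    rw [htop, hinf, hZQcard, Subgroup.card_top] at h1
    have h2 := Q.card_mul_index
    rw [hQi] at h2
    rw [← h2] at h1
    have hQpos : 0 < Nat.card Q := Nat.card_pos
    have h3 : Nat.card Q * (p * p) = Nat.card Q * Nat.card (Subgroup.center S) := by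
      rw [← h1]; ring
    have h4 := Nat.eq_of_mul_eq_mul_left hQpos h3
    rw [← h4]; ring

end Cfsg.Agent.S3808
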