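import Cfsg.Statements.S3809
import Mathlib
import Cfsg.Agent.Lib.Helper2.Special
import Cfsg.Agent.Lib.Helper8.Extraspecial
import Cfsg.Agent.Lib.Helper8.PGroupNormal

set_option autoImplicit false
open Cfsg
open Cfsg.Agent.Lib.Helper8

namespace Cfsg.Agent.S3809

/-- Let S be a finite p-group with an extraspecial subgroup of index p. Then S has order p^(2+2n) for some n ≥ 1, derived length at most 3, and exponent dividing p³. -/
theorem result {S : Type*} [Group S] [Finite S] (p : ℕ) [Fact p.Prime] (hS : IsPGroup p S) (Q : Subgroup S) (hQ : Cfsg.IsExtraspecial p ↥Q) (hQi : Q.index = p) :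
    (∃ n : ℕ, 1 ≤ n ∧ Nat.card S = p ^ (2 + 2 * n)) ∧ derivedSeries S 3 = ⊥ ∧ ∀ x : S, x ^ (p ^ 3) = 1 := by
  classical
  have hp := (Fact.out : p.Prime)
  have hQn : Q.Normal := h8_normal_of_index_eq_prime hS Q hQi
  obtain ⟨n, hn1, hn⟩ := h8_extraspecial_card hQ
  have hcardS : Nat.card S = p ^ (2 + 2 * n) := by
    rw [← Q.card_mul_index, hQi, hn]; ring
  refine ⟨⟨n, hn1, hcardS⟩, ?_, ?_⟩
  · -- derived length
    have hquot : Nat.card (S ⧸ Q) = p := by rw [← Subgroup.index_eq_card, hQi]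
    have : IsCyclic (S ⧸ Q) := isCyclic_of_prime_card hquot
    let _ : CommGroup (S ⧸ Q) := IsCyclic.commGroup
    have h1 : commutator S ≤ Q := by
      have h := Abelianization.commutator_subset_ker (QuotientGroup.mk' Q)
      rwa [QuotientGroup.ker_mk'] at h
    set ZQ : Subgroup S := (Subgroup.center ↥Q).map Q.subtype with hZQ
    have hQQ : ⁅Q, Q⁆ = ZQ := by
      have h2 := Subgroup.map_commutator (⊤ : Subgroup ↥Q) ⊤ Q.subtype
      rw [← MonoidHom.range_eq_map, Subgroup.range_subtype, ← commutator_def, hQ.1.2.2] at h2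
      exact h2.symm
    have hZZ : ⁅ZQ, ZQ⁆ = ⊥ := by
      rw [Subgroup.commutator_eq_bot_iff_le_centralizer]
      rintro _ ⟨a, ha, rfl⟩
      rw [Subgroup.mem_centralizer_iff]
      rintro _ ⟨b, hb, rfl⟩
      have h3 := Subgroup.mem_center_iff.1 ha b
      exact congrArg Subtype.val h3
    have d1 : derivedSeries S 1 ≤ Q := by
      rw [derivedSeries_succ, derivedSeries_zero, ← commutator_def]; exact h1
    have d2 : derivedSeries S 2 ≤ ZQ := by
      rw [derivedSeries_succ, ← hQQ]; exact Subgroup.commutator_mono d1 d1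
    have d3 : derivedSeries S 3 ≤ ⊥ := by
      rw [derivedSeries_succ, ← hZZ]; exact Subgroup.commutator_mono d2 d2
    exact le_bot_iff.1 d3
  · intro x
    have hxQ : x ^ p ∈ Q := by
      have h1 : ((x : S) : S ⧸ Q) ^ p = 1 := by
        have h2 := pow_card_eq_one' (G := S ⧸ Q) (x := (x : S ⧸ Q))
        rwa [← Subgroup.index_eq_card, hQi] at h2
      rw [← QuotientGroup.mk_pow] at h1
      exact (QuotientGroup.eq_one_iff _).1 h1
    have h3 := Cfsg.Agent.Lib.Helper2.pow_mem_center_of_special hQ.1 (⟨x ^ p, hxQ⟩ : ↥Q)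
    have h4 := Cfsg.Agent.Lib.Helper2.center_pow_eq_one_of_special hQ.1 _ h3
    have h5 := congrArg Subtype.val h4
    have h6 : ((x ^ p) ^ p) ^ p = 1 := by simpa using h5
    rw [← pow_mul, ← pow_mul] at h6
    have h7 : p ^ 3 = p * (p * p) := by ring
    rw [h7]; exact h6

end Cfsg.Agent.S3809
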