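import Mathlib
import Cfsg.Statements.S4400
import Cfsg.Agent.S0012
import Cfsg.Agent.S3763
import Cfsg.Agent.Lib.Helper8.PGroupNormal

set_option autoImplicit false

namespace Cfsg.Agent.S4400

open scoped commutatorElement Pointwise
open Cfsg.Agent.S3763

universe u

section gen

variable {S : Type u} [Group S]

theorem comm_mul' (h k t : S) (hk : ⁅k, t⁆ ∈ Subgroup.center S) :
    ⁅h * k, t⁆ = ⁅h, t⁆ * ⁅k, t⁆ := by
  have h1 : ⁅h * k, t⁆ = h * ⁅k, t⁆ * h⁻¹ * ⁅h, t⁆ := by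
    simp only [commutatorElement_def]; group
  have h2 : h * ⁅k, t⁆ = ⁅k, t⁆ * h := Subgroup.mem_center_iff.1 hk h
  rw [h1, h2, mul_assoc ⁅k, t⁆ h h⁻¹, mul_inv_cancel, mul_one]
  exact (Subgroup.mem_center_iff.1 hk ⁅h, t⁆).symm

theorem comm_inv' (k t : S) (hk : ⁅k, t⁆ ∈ Subgroup.center S) : ⁅k⁻¹, t⁆ = ⁅k, t⁆⁻¹ := by
  have h1 : ⁅k⁻¹, t⁆ = k⁻¹ * ⁅k, t⁆⁻¹ * k := by
    simp only [commutatorElement_def]; group
  have hk' : ⁅k, t⁆⁻¹ ∈ Subgroup.center S := inv_mem hk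
  have h2 : k⁻¹ * ⁅k, t⁆⁻¹ = ⁅k, t⁆⁻¹ * k⁻¹ := Subgroup.mem_center_iff.1 hk' k⁻¹
  rw [h1, h2, inv_mul_cancel_right]

theorem commute_quot' (h y t : S) (hy : ⁅y, t⁆ ∈ Subgroup.center S) (e : ⁅h, t⁆ = ⁅y, t⁆) :
    t * (h * y⁻¹) = (h * y⁻¹) * t := by
  have h1 : ⁅y⁻¹, t⁆ = ⁅y, t⁆⁻¹ := comm_inv' y t hy
  have h2 : ⁅h * y⁻¹, t⁆ = 1 := by
    rw [comm_mul' h y⁻¹ t (by rw [h1]; exact inv_mem hy), h1, e, mul_inv_cancel]
  exact (commutatorElement_eq_one_iff_commute.1 h2).eq.symm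

/-- the subgroup of elements whose commutator with `t` lies in the central subgroup `Z` -/
def dom (Z : Subgroup S) (hZ : Z ≤ Subgroup.center S) (t : S) : Subgroup S where
  carrier := {h | ⁅h, t⁆ ∈ Z}
  one_mem' := by
    show ⁅(1 : S), t⁆ ∈ Z
    rw [commutatorElement_one_left]; exact Z.one_mem
  mul_mem' := by
    intro a b ha hb
    show ⁅a * b, t⁆ ∈ Z
    rw [comm_mul' a b t (hZ hb)]
    exact Z.mul_mem ha hb
  inv_mem' := by
    intro a ha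
    show ⁅a⁻¹, t⁆ ∈ Z
    rw [comm_inv' a t (hZ ha)]
    exact Z.inv_mem ha

theorem mem_dom (Z : Subgroup S) (hZ : Z ≤ Subgroup.center S) (t h : S) :
    h ∈ dom Z hZ t ↔ ⁅h, t⁆ ∈ Z := Iff.rfl

theorem coatom2 {H : Type*} [Group H] (M : Subgroup H) (t : H) (ht : t ∉ M)
    (hM : ∀ h : H, h ∈ M ∨ h * t⁻¹ ∈ M) : IsCoatom M := by
  refine ⟨fun h => ht (by rw [h]; exact Subgroup.mem_top t), ?_⟩
  intro M' hlt
  obtain ⟨m, hmM', hmM⟩ := SetLike.exists_of_lt hlt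
  have htM' : t ∈ M' := by
    rcases hM m with h | h
    · exact absurd h hmM
    · have h1 : m * t⁻¹ ∈ M' := hlt.le h
      have h2 : (m * t⁻¹)⁻¹ * m ∈ M' := M'.mul_mem (M'.inv_mem h1) hmM'
      have h3 : (m * t⁻¹)⁻¹ * m = t := by group
      rw [h3] at h2; exact h2
  rw [eq_top_iff]
  intro h _
  rcases hM h with h1 | h1
  · exact hlt.le h1
  · have h2 : h * t⁻¹ * t ∈ M' := M'.mul_mem (hlt.le h1) htM'
    rw [inv_mul_cancel_right] at h2; exact h2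

theorem coatomC (H : Subgroup S) (Z : Subgroup S) (hZc : Z ≤ Subgroup.center S) (ζ : S)
    (hZ : ∀ w ∈ Z, w = 1 ∨ w = ζ) (hζ1 : ζ ≠ 1) (t w : S) (hH : ∀ h ∈ H, ⁅h, t⁆ ∈ Z)
    (hw : w ∈ H) (hwt : ⁅w, t⁆ = ζ) :
    IsCoatom ((Subgroup.centralizer ({t} : Set S)).subgroupOf H) := by
  apply coatom2 _ (⟨w, hw⟩ : ↥H)
  · intro hmem
    rw [Subgroup.mem_subgroupOf, Subgroup.mem_centralizer_iff] at hmem
    have h1 : t * w = w * t := hmem t rfl
    apply hζ1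
    rw [← hwt]
    exact commutatorElement_eq_one_iff_commute.2 h1.symm
  · intro h
    rcases hZ _ (hH h h.2) with h1 | h1
    · left
      rw [Subgroup.mem_subgroupOf, Subgroup.mem_centralizer_iff]
      intro g hg
      rw [Set.mem_singleton_iff.1 hg]
      exact (commutatorElement_eq_one_iff_commute.1 h1).eq.symm
    · right
      rw [Subgroup.mem_subgroupOf, Subgroup.mem_centralizer_iff]
      intro g hg
      rw [Set.mem_singleton_iff.1 hg]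
      show t * ((h : S) * w⁻¹) = (h : S) * w⁻¹ * t
      exact commute_quot' (h : S) w t (hZc (hH w hw)) (h1.trans hwt.symm)

theorem adj2 (D : Subgroup S) [D.Normal] (c : S) (hc2 : c * c ∈ D) :
    ∀ h ∈ D ⊔ Subgroup.zpowers c, h ∈ D ∨ h * c⁻¹ ∈ D := by
  intro h hh
  have h1 : h ∈ ((D ⊔ Subgroup.zpowers c : Subgroup S) : Set S) := hh
  rw [Subgroup.normal_mul, Set.mem_mul] at h1
  obtain ⟨d, hd, w, hw, rfl⟩ := h1
  obtain ⟨k, rfl⟩ := Subgroup.mem_zpowers_iff.1 hw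
  have hev : ∀ m : ℤ, c ^ (2 * m) ∈ D := by
    intro m
    rw [zpow_mul, zpow_two]
    exact D.zpow_mem hc2 m
  obtain ⟨m, hm | hm⟩ := Int.even_or_odd' k
  · left
    rw [hm]
    exact D.mul_mem hd (hev m)
  · right
    rw [hm, mul_assoc, zpow_add, zpow_one, mul_inv_cancel_right]
    exact D.mul_mem hd (hev m)

theorem chain32 {H : Type*} [Group H] [Finite H] (M₁ M₂ M₃ M₄ M₅ : Subgroup H)
    (t₁ t₂ t₃ t₄ t₅ : H)
    (h1 : t₁ ∉ M₁)
    (h2 : t₂ ∈ M₁ ∧ t₂ ∉ M₂)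
    (h3 : t₃ ∈ M₁ ∧ t₃ ∈ M₂ ∧ t₃ ∉ M₃)
    (h4 : t₄ ∈ M₁ ∧ t₄ ∈ M₂ ∧ t₄ ∈ M₃ ∧ t₄ ∉ M₄)
    (h5 : t₅ ∈ M₁ ∧ t₅ ∈ M₂ ∧ t₅ ∈ M₃ ∧ t₅ ∈ M₄ ∧ t₅ ∉ M₅) :
    32 * Nat.card ↥(M₁ ⊓ M₂ ⊓ M₃ ⊓ M₄ ⊓ M₅) ≤ Nat.card H := by
  have e1 : 2 * Nat.card ↥M₁ ≤ Nat.card H := by
    have := two_mul_card_le_of_lt M₁ ⊤ le_top ⟨t₁, Subgroup.mem_top _, h1⟩
    rwa [Subgroup.card_top] at this
  have e2 : 2 * Nat.card ↥(M₁ ⊓ M₂) ≤ Nat.card ↥M₁ :=
    two_mul_card_le_of_lt _ _ inf_le_left ⟨t₂, h2.1, fun h => h2.2 (Subgroup.mem_inf.1 h).2⟩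
  have e3 : 2 * Nat.card ↥(M₁ ⊓ M₂ ⊓ M₃) ≤ Nat.card ↥(M₁ ⊓ M₂) :=
    two_mul_card_le_of_lt _ _ inf_le_left
      ⟨t₃, Subgroup.mem_inf.2 ⟨h3.1, h3.2.1⟩, fun h => h3.2.2 (Subgroup.mem_inf.1 h).2⟩
  have e4 : 2 * Nat.card ↥(M₁ ⊓ M₂ ⊓ M₃ ⊓ M₄) ≤ Nat.card ↥(M₁ ⊓ M₂ ⊓ M₃) :=
    two_mul_card_le_of_lt _ _ inf_le_left
      ⟨t₄, Subgroup.mem_inf.2 ⟨Subgroup.mem_inf.2 ⟨h4.1, h4.2.1⟩, h4.2.2.1⟩,
        fun h => h4.2.2.2 (Subgroup.mem_inf.1 h).2⟩
  have e5 : 2 * Nat.card ↥(M₁ ⊓ M₂ ⊓ M₃ ⊓ M₄ ⊓ M₅) ≤ Nat.card ↥(M₁ ⊓ M₂ ⊓ M₃ ⊓ M₄) :=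
    two_mul_card_le_of_lt _ _ inf_le_left
      ⟨t₅, Subgroup.mem_inf.2 ⟨Subgroup.mem_inf.2 ⟨Subgroup.mem_inf.2 ⟨h5.1, h5.2.1⟩, h5.2.2.1⟩,
        h5.2.2.2.1⟩, fun h => h5.2.2.2.2 (Subgroup.mem_inf.1 h).2⟩
  omega

theorem frat_bound {H : Type*} [Group H] [Finite H] (hH : IsPGroup 2 H)
    (hr : Cfsg.PRankLE 2 4 (H ⧸ frattini H)) : Nat.card H ≤ 16 * Nat.card (frattini H) := by
  obtain ⟨hc, hp⟩ := Cfsg.Agent.S0012.result 2 hH
  have hcomm : ∀ q₁ q₂ : H ⧸ frattini H, q₁ * q₂ = q₂ * q₁ := by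
    intro q₁ q₂
    obtain ⟨a, rfl⟩ := QuotientGroup.mk_surjective q₁
    obtain ⟨b, rfl⟩ := QuotientGroup.mk_surjective q₂
    rw [← QuotientGroup.mk_mul, ← QuotientGroup.mk_mul]
    apply QuotientGroup.eq.2
    have : (a * b)⁻¹ * (b * a) = ⁅b⁻¹, a⁻¹⁆ := by
      simp only [commutatorElement_def]; group
    rw [this]
    apply hc
    rw [commutator_def]
    exact Subgroup.commutator_mem_commutator (Subgroup.mem_top _) (Subgroup.mem_top _)
  have hexp : ∀ q : H ⧸ frattini H, q ^ 2 = 1 := by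
    intro q
    obtain ⟨a, rfl⟩ := QuotientGroup.mk_surjective q
    rw [← QuotientGroup.mk_pow]
    exact (QuotientGroup.eq_one_iff _).2 (hp a)
  have h1 := hr ⊤ ⟨⟨fun a b => Subtype.ext (hcomm a.1 b.1)⟩⟩ (fun a _ => hexp a)
  rw [Subgroup.card_top, ← Subgroup.index_eq_card] at h1
  have h2 := Subgroup.card_mul_index (frattini H)
  calc Nat.card H = Nat.card (frattini H) * (frattini H).index := h2.symm
    _ ≤ Nat.card (frattini H) * 2 ^ 4 := Nat.mul_le_mul_left _ h1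
    _ = 16 * Nat.card (frattini H) := by ring

theorem cen2 (P : Subgroup S) [hPn : P.Normal] (hZ : Nat.card ↥(Subgroup.center ↥P) = 2) :
    ∃ a ∈ P, a ≠ 1 ∧ a * a = 1 ∧ (∀ s : S, s * a = a * s) ∧
      (∀ p ∈ P, (∀ p' ∈ P, p' * p = p * p') → p = 1 ∨ p = a) ∧
      (∀ x : S, x ∈ (Subgroup.center ↥P).map P.subtype ↔ x = 1 ∨ x = a) := by
  obtain ⟨y, hy1, hyu⟩ := (Nat.card_eq_two_iff' (1 : ↥(Subgroup.center ↥P))).1 hZ
  obtain ⟨a, haP, hay⟩ : ∃ a : S, a ∈ P ∧ a = ((y : ↥P) : S) := ⟨_, (y : ↥P).2, rfl⟩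
  have hcen : ∀ p ∈ P, (∀ p' ∈ P, p' * p = p * p') → p = 1 ∨ p = a := by
    intro p hp hc
    have hmem : (⟨p, hp⟩ : ↥P) ∈ Subgroup.center ↥P := by
      rw [Subgroup.mem_center_iff]
      intro g
      exact Subtype.ext (hc g.1 g.2)
    by_cases h1 : p = 1
    · exact Or.inl h1
    · right
      have h2 : (⟨⟨p, hp⟩, hmem⟩ : ↥(Subgroup.center ↥P)) = y :=
        hyu _ (fun h => h1 (congrArg (fun w : ↥(Subgroup.center ↥P) => ((w : ↥P) : S)) h))
      rw [hay]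
      exact congrArg (fun w : ↥(Subgroup.center ↥P) => ((w : ↥P) : S)) h2
  have hyc : ∀ p' ∈ P, p' * a = a * p' := by
    intro p' hp'
    have := Subgroup.mem_center_iff.1 y.2 ⟨p', hp'⟩
    rw [hay]
    exact congrArg Subtype.val this
  have ha1 : a ≠ 1 := by
    intro h
    apply hy1
    rw [hay] at h
    exact Subtype.ext (Subtype.ext h)
  have hcentral : ∀ s : S, s * a = a * s := by
    intro s
    have hconj : s * a * s⁻¹ ∈ P := hPn.conj_mem _ haP s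
    have h2 := hcen _ hconj (by
      intro p' hp'
      have h3 : s⁻¹ * p' * s ∈ P := by
        have := hPn.conj_mem _ hp' s⁻¹
        rwa [inv_inv] at this
      have h4 := hyc _ h3
      calc p' * (s * a * s⁻¹) = s * ((s⁻¹ * p' * s) * a) * s⁻¹ := by group
        _ = s * (a * (s⁻¹ * p' * s)) * s⁻¹ := by rw [h4]
        _ = (s * a * s⁻¹) * p' := by group)
    rcases h2 with h2 | h2
    · exfalso
      apply ha1
      have : a = s⁻¹ * (s * a * s⁻¹) * s := by group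
      rw [this, h2]; group
    · calc s * a = (s * a * s⁻¹) * s := by group
        _ = a * s := by rw [h2]
  have hsq : a * a = 1 := by
    have h1 : y ^ Nat.card ↥(Subgroup.center ↥P) = 1 := pow_card_eq_one'
    rw [hZ, pow_two] at h1
    rw [hay]
    exact congrArg (fun w : ↥(Subgroup.center ↥P) => ((w : ↥P) : S)) h1
  refine ⟨a, haP, ha1, hsq, hcentral, hcen, ?_⟩
  intro x
  constructor
  · rintro ⟨w, hw, rfl⟩
    exact hcen _ w.2 (fun p' hp' => by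
      have := Subgroup.mem_center_iff.1 hw ⟨p', hp'⟩
      exact congrArg Subtype.val this)
  · rintro (h | h)
    · rw [h]; exact one_mem _
    · rw [h, hay]; exact ⟨(y : ↥P), y.2, rfl⟩

theorem z2 [Finite S] (h2 : IsPGroup 2 S) (P : Subgroup S) (hP : ¬ IsMulCommutative ↥P)
    (a : S) (hcen : ∀ p ∈ P, (∀ p' ∈ P, p' * p = p * p') → p = 1 ∨ p = a) :
    ∃ x ∈ P, ∃ y ∈ P, ⁅y, x⁆ = a := by
  have hPp : IsPGroup 2 ↥P := h2.to_subgroup P
  have hQp : IsPGroup 2 (↥P ⧸ Subgroup.center ↥P) := hPp.to_quotient _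
  have hnt : Nontrivial (↥P ⧸ Subgroup.center ↥P) := by
    by_contra hno
    rw [not_nontrivial_iff_subsingleton] at hno
    apply hP
    refine ⟨⟨fun g h => ?_⟩⟩
    have h1 : (QuotientGroup.mk h : ↥P ⧸ Subgroup.center ↥P) = 1 := Subsingleton.elim _ _
    have h3 : h ∈ Subgroup.center ↥P := (QuotientGroup.eq_one_iff h).1 h1
    exact (Subgroup.mem_center_iff.1 h3 g)
  haveI := hQp.center_nontrivial
  obtain ⟨w, hw1⟩ := exists_ne (1 : ↥(Subgroup.center (↥P ⧸ Subgroup.center ↥P)))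
  obtain ⟨x, hx⟩ := QuotientGroup.mk_surjective (w : ↥P ⧸ Subgroup.center ↥P)
  have hxc : ∀ e : ↥P, ⁅e, x⁆ ∈ Subgroup.center ↥P := by
    intro e
    apply (QuotientGroup.eq_one_iff _).1
    have h1 : ((⁅e, x⁆ : ↥P) : ↥P ⧸ Subgroup.center ↥P) =
        ⁅(e : ↥P ⧸ Subgroup.center ↥P), (x : ↥P ⧸ Subgroup.center ↥P)⁆ :=
      map_commutatorElement (QuotientGroup.mk' (Subgroup.center ↥P)) e x
    rw [h1, hx]
    exact commutatorElement_eq_one_iff_commute.2 (Subgroup.mem_center_iff.1 w.2 _)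
  have hxn : x ∉ Subgroup.center ↥P := by
    intro h
    apply hw1
    apply Subtype.ext
    rw [← hx]
    exact (QuotientGroup.eq_one_iff x).2 h
  have hval : ∀ p ∈ P, ⁅p, (x : S)⁆ = 1 ∨ ⁅p, (x : S)⁆ = a := by
    intro p hp
    have h1 := hxc ⟨p, hp⟩
    apply hcen
    · exact (⁅(⟨p, hp⟩ : ↥P), x⁆ : ↥P).2
    · intro p' hp'
      have := Subgroup.mem_center_iff.1 h1 ⟨p', hp'⟩
      exact congrArg Subtype.val this
  rw [Subgroup.mem_center_iff] at hxn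
  push Not at hxn
  obtain ⟨y, hy⟩ := hxn
  refine ⟨x, x.2, y, y.2, ?_⟩
  rcases hval y y.2 with h | h
  · exfalso
    apply hy
    exact Subtype.ext (commutatorElement_eq_one_iff_commute.1 h).eq
  · exact h

end gen

/-- Let S be a finite 2-group of sectional 2-rank at most 4, and let P and Q be normal non-abelian subgroups of S whose centres have order 2 and are different. Then P and Q commute elementwise and intersect trivially, and PQ contains its own centralizer in S. -/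
theorem result {S : Type*} [Group S] [Finite S] (h2 : IsPGroup 2 S) (hr : Cfsg.SectionalPRankLE 2 4 S)
    (P Q : Subgroup S) [P.Normal] [Q.Normal] (hP : ¬ IsMulCommutative ↥P) (hQ : ¬ IsMulCommutative ↥Q)
    (hZP : Nat.card ↥(Subgroup.center ↥P) = 2) (hZQ : Nat.card ↥(Subgroup.center ↥Q) = 2)
    (hne : (Subgroup.center ↥P).map P.subtype ≠ (Subgroup.center ↥Q).map Q.subtype) :
    ⁅P, Q⁆ = ⊥ ∧ P ⊓ Q = ⊥ ∧ Subgroup.centralizer ((P ⊔ Q : Subgroup S) : Set S) ≤ P ⊔ Q := by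
  obtain ⟨a, haP, ha1, ha2, hac, hacen, haZ⟩ := cen2 P hZP
  obtain ⟨b, hbQ, hb1, hb2, hbc, hbcen, hbZ⟩ := cen2 Q hZQ
  have hab : a ≠ b := by
    intro h
    apply hne
    ext x
    rw [haZ, hbZ, h]
  have hPn : P.Normal := inferInstance
  have hQn : Q.Normal := inferInstance
  have hinf : P ⊓ Q = ⊥ := by
    by_contra hne'
    have h1 := Cfsg.Agent.Lib.Helper8.h8_normal_inf_center_ne_bot h2 (P ⊓ Q) hne'
    rw [Ne, Subgroup.eq_bot_iff_forall] at h1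
    push Not at h1
    obtain ⟨w, hw, hw1⟩ := h1
    obtain ⟨⟨hwP, hwQ⟩, hwc⟩ : (w ∈ P ∧ w ∈ Q) ∧ w ∈ Subgroup.center S := by
      rw [Subgroup.mem_inf, Subgroup.mem_inf] at hw; exact hw
    have hwc' : ∀ s : S, s * w = w * s := Subgroup.mem_center_iff.1 hwc
    have e1 : w = a := by
      rcases hacen w hwP (fun p' _ => hwc' p') with h | h
      · exact absurd h hw1
      · exact h
    have e2 : w = b := by
      rcases hbcen w hwQ (fun p' _ => hwc' p') with h | h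
      · exact absurd h hw1
      · exact h
    exact hab (e1.symm.trans e2)
  have hcomm : ∀ p ∈ P, ∀ q ∈ Q, p * q = q * p := by
    intro p hp q hq
    have h1 : ⁅p, q⁆ ∈ P ⊓ Q := by
      refine Subgroup.mem_inf.2 ⟨?_, ?_⟩
      · have : ⁅p, q⁆ = p * (q * p⁻¹ * q⁻¹) := by simp only [commutatorElement_def]; group
        rw [this]
        exact P.mul_mem hp (hPn.conj_mem _ (P.inv_mem hp) q)
      · have : ⁅p, q⁆ = (p * q * p⁻¹) * q⁻¹ := by simp only [commutatorElement_def]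
        rw [this]
        exact Q.mul_mem (hQn.conj_mem _ hq p) (Q.inv_mem hq)
    rw [hinf, Subgroup.mem_bot] at h1
    exact (commutatorElement_eq_one_iff_commute.1 h1).eq
  refine ⟨?_, hinf, ?_⟩
  · rw [eq_bot_iff, ← hinf]
    exact Subgroup.commutator_le_inf P Q
  · by_contra hnot
    obtain ⟨c₀, hc₀C, hc₀D⟩ := SetLike.not_le_iff_exists.1 hnot
    have hex : ∃ k : ℕ, c₀ ^ (2 ^ k) ∈ P ⊔ Q := by
      obtain ⟨k, hk⟩ := h2 c₀
      exact ⟨k, by rw [hk]; exact one_mem _⟩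
    classical
    obtain ⟨c, hcC, hcD, hc2⟩ : ∃ c ∈ Subgroup.centralizer ((P ⊔ Q : Subgroup S) : Set S),
        c ∉ P ⊔ Q ∧ c * c ∈ P ⊔ Q := by
      have hmin := @Nat.find_min _ _ hex
      have hspec := Nat.find_spec hex
      obtain ⟨m, hm⟩ : ∃ m, Nat.find hex = m + 1 := by
        apply Nat.exists_eq_succ_of_ne_zero
        intro h0
        rw [h0, pow_zero, pow_one] at hspec
        exact hc₀D hspec
      refine ⟨c₀ ^ (2 ^ m), Subgroup.pow_mem _ hc₀C _, hmin (by omega), ?_⟩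
      rw [hm, pow_succ, pow_mul, pow_two] at hspec
      exact hspec
    have hcD' : ∀ d ∈ P ⊔ Q, d * c = c * d :=
      fun d hd => Subgroup.mem_centralizer_iff.1 hcC d hd
    have hPD : ∀ p ∈ P, p ∈ P ⊔ Q := fun p hp => Subgroup.mem_sup_left hp
    have hQD : ∀ q ∈ Q, q ∈ P ⊔ Q := fun q hq => Subgroup.mem_sup_right hq
    obtain ⟨x, hxP, y, hyP, hyx⟩ := z2 h2 P hP a hacen
    obtain ⟨u, huQ, v, hvQ, hvu⟩ := z2 h2 Q hQ b hbcen
    have hZPc : (Subgroup.center ↥P).map P.subtype ≤ Subgroup.center S := by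
      intro w hw
      rw [Subgroup.mem_center_iff]
      rcases (haZ w).1 hw with h | h
      · intro s; rw [h, mul_one, one_mul]
      · intro s; rw [h]; exact hac s
    have hZQc : (Subgroup.center ↥Q).map Q.subtype ≤ Subgroup.center S := by
      intro w hw
      rw [Subgroup.mem_center_iff]
      rcases (hbZ w).1 hw with h | h
      · intro s; rw [h, mul_one, one_mul]
      · intro s; rw [h]; exact hbc s
    have haZP : a ∈ (Subgroup.center ↥P).map P.subtype := (haZ a).2 (Or.inr rfl)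
    have hbZQ : b ∈ (Subgroup.center ↥Q).map Q.subtype := (hbZ b).2 (Or.inr rfl)
    have c1 : ∀ g t : S, g * t = t * g → ⁅g, t⁆ = 1 :=
      fun g t h => commutatorElement_eq_one_iff_commute.2 h
    have hxy : ⁅x, y⁆ = a := by
      rw [← commutatorElement_inv, hyx]; exact inv_eq_of_mul_eq_one_left ha2
    have huv : ⁅u, v⁆ = b := by
      rw [← commutatorElement_inv, hvu]; exact inv_eq_of_mul_eq_one_left hb2
    obtain ⟨H, hHdef⟩ : ∃ H : Subgroup S, H = dom _ hZPc x ⊓ dom _ hZPc y ⊓ dom _ hZQc u ⊓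
        dom _ hZQc v ⊓ ((P ⊔ Q) ⊔ Subgroup.zpowers c) := ⟨_, rfl⟩
    have hHmem : ∀ h : S, h ∈ H ↔ ((((⁅h, x⁆ ∈ (Subgroup.center ↥P).map P.subtype ∧
        ⁅h, y⁆ ∈ (Subgroup.center ↥P).map P.subtype) ∧
        ⁅h, u⁆ ∈ (Subgroup.center ↥Q).map Q.subtype) ∧
        ⁅h, v⁆ ∈ (Subgroup.center ↥Q).map Q.subtype) ∧
        h ∈ (P ⊔ Q) ⊔ Subgroup.zpowers c) := by
      intro h
      rw [hHdef]
      simp only [Subgroup.mem_inf, mem_dom]
    have one1 : (1 : S) ∈ (Subgroup.center ↥P).map P.subtype := one_mem _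
    have one2 : (1 : S) ∈ (Subgroup.center ↥Q).map Q.subtype := one_mem _
    have hxH : x ∈ H := (hHmem x).2 ⟨⟨⟨⟨by rw [c1 x x rfl]; exact one1,
      by rw [hxy]; exact haZP⟩, by rw [c1 x u (hcomm x hxP u huQ)]; exact one2⟩,
      by rw [c1 x v (hcomm x hxP v hvQ)]; exact one2⟩, Subgroup.mem_sup_left (hPD x hxP)⟩
    have hyH : y ∈ H := (hHmem y).2 ⟨⟨⟨⟨by rw [hyx]; exact haZP,
      by rw [c1 y y rfl]; exact one1⟩, by rw [c1 y u (hcomm y hyP u huQ)]; exact one2⟩,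
      by rw [c1 y v (hcomm y hyP v hvQ)]; exact one2⟩, Subgroup.mem_sup_left (hPD y hyP)⟩
    have huH : u ∈ H := (hHmem u).2 ⟨⟨⟨⟨by rw [c1 u x (hcomm x hxP u huQ).symm]; exact one1,
      by rw [c1 u y (hcomm y hyP u huQ).symm]; exact one1⟩, by rw [c1 u u rfl]; exact one2⟩,
      by rw [huv]; exact hbZQ⟩, Subgroup.mem_sup_left (hQD u huQ)⟩
    have hvH : v ∈ H := (hHmem v).2 ⟨⟨⟨⟨by rw [c1 v x (hcomm x hxP v hvQ).symm]; exact one1,
      by rw [c1 v y (hcomm y hyP v hvQ).symm]; exact one1⟩, by rw [hvu]; exact hbZQ⟩,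
      by rw [c1 v v rfl]; exact one2⟩, Subgroup.mem_sup_left (hQD v hvQ)⟩
    have hcH : c ∈ H := (hHmem c).2 ⟨⟨⟨⟨by rw [c1 c x (hcD' x (hPD x hxP)).symm]; exact one1,
      by rw [c1 c y (hcD' y (hPD y hyP)).symm]; exact one1⟩,
      by rw [c1 c u (hcD' u (hQD u huQ)).symm]; exact one2⟩,
      by rw [c1 c v (hcD' v (hQD v hvQ)).symm]; exact one2⟩,
      Subgroup.mem_sup_right (Subgroup.mem_zpowers c)⟩
    have hM1 := coatomC H _ hZPc a (fun w hw => (haZ w).1 hw) ha1 x y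
      (fun h hh => ((hHmem h).1 hh).1.1.1.1) hyH hyx
    have hM2 := coatomC H _ hZPc a (fun w hw => (haZ w).1 hw) ha1 y x
      (fun h hh => ((hHmem h).1 hh).1.1.1.2) hxH hxy
    have hM3 := coatomC H _ hZQc b (fun w hw => (hbZ w).1 hw) hb1 u v
      (fun h hh => ((hHmem h).1 hh).1.1.2) hvH hvu
    have hM4 := coatomC H _ hZQc b (fun w hw => (hbZ w).1 hw) hb1 v u
      (fun h hh => ((hHmem h).1 hh).1.2) huH huv
    have hM5 : IsCoatom ((P ⊔ Q).subgroupOf H) :=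
      coatom2 _ (⟨c, hcH⟩ : ↥H) (by rw [Subgroup.mem_subgroupOf]; exact hcD) (fun h => by
        rcases adj2 (P ⊔ Q) c hc2 h ((hHmem h).1 h.2).2 with h1 | h1
        · left; exact Subgroup.mem_subgroupOf.2 h1
        · right; exact Subgroup.mem_subgroupOf.2 h1)
    have mc : ∀ (t : S) (g : ↥H), g ∈ (Subgroup.centralizer ({t} : Set S)).subgroupOf H ↔
        t * (g : S) = g * t := by
      intro t g
      rw [Subgroup.mem_subgroupOf, Subgroup.mem_centralizer_iff]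
      constructor
      · intro h; exact h t rfl
      · intro h k hk; rw [Set.mem_singleton_iff.1 hk]; exact h
    have nyx : x * y ≠ y * x := fun h => ha1 (by rw [← hyx]; exact c1 y x h.symm)
    have nvu : u * v ≠ v * u := fun h => hb1 (by rw [← hvu]; exact c1 v u h.symm)
    have hch := chain32 ((Subgroup.centralizer ({x} : Set S)).subgroupOf H)
      ((Subgroup.centralizer ({y} : Set S)).subgroupOf H)
      ((Subgroup.centralizer ({u} : Set S)).subgroupOf H)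
      ((Subgroup.centralizer ({v} : Set S)).subgroupOf H)
      ((P ⊔ Q).subgroupOf H)
      (⟨y, hyH⟩ : ↥H) ⟨x, hxH⟩ ⟨v, hvH⟩ ⟨u, huH⟩ ⟨c, hcH⟩
      (fun h => nyx ((mc x _).1 h))
      ⟨(mc x _).2 rfl, fun h => nyx ((mc y _).1 h).symm⟩
      ⟨(mc x _).2 (hcomm x hxP v hvQ), (mc y _).2 (hcomm y hyP v hvQ),
        fun h => nvu ((mc u _).1 h)⟩
      ⟨(mc x _).2 (hcomm x hxP u huQ), (mc y _).2 (hcomm y hyP u huQ), (mc u _).2 rfl,
        fun h => nvu ((mc v _).1 h).symm⟩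
      ⟨(mc x _).2 (hcD' x (hPD x hxP)), (mc y _).2 (hcD' y (hPD y hyP)),
        (mc u _).2 (hcD' u (hQD u huQ)), (mc v _).2 (hcD' v (hQD v hvQ)),
        fun h => hcD (Subgroup.mem_subgroupOf.1 h)⟩
    have hfr : frattini ↥H ≤ (Subgroup.centralizer ({x} : Set S)).subgroupOf H ⊓
        (Subgroup.centralizer ({y} : Set S)).subgroupOf H ⊓
        (Subgroup.centralizer ({u} : Set S)).subgroupOf H ⊓
        (Subgroup.centralizer ({v} : Set S)).subgroupOf H ⊓ (P ⊔ Q).subgroupOf H :=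
      le_inf (le_inf (le_inf (le_inf (frattini_le_coatom hM1) (frattini_le_coatom hM2))
        (frattini_le_coatom hM3)) (frattini_le_coatom hM4)) (frattini_le_coatom hM5)
    have hcard := Subgroup.card_le_of_le hfr
    have hb := frat_bound (h2.to_subgroup H) (hr H (frattini ↥H))
    have hpos : 0 < Nat.card ↥(frattini ↥H) := Nat.card_pos
    omega

end Cfsg.Agent.S4400
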