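import Mathlib
import Cfsg.Statements.S3810
import Cfsg.Agent.Lib.Helper8.PGroupNormal
import Cfsg.Agent.S4400

namespace Cfsg.Agent.S3810

open scoped commutatorElement
open Cfsg.Agent.Lib.Helper8

theorem p_mul_card_le {S : Type*} [Group S] [Finite S] {p : ℕ} [Fact p.Prime] (hS : IsPGroup p S)
    (H K : Subgroup S) (hle : H ≤ K) (hne : ∃ g ∈ K, g ∉ H) : p * Nat.card H ≤ Nat.card K := by
  have hp := (Fact.out : p.Prime)
  obtain ⟨m, hm⟩ := Subgroup.card_dvd_of_le hle
  have hK : 0 < Nat.card K := Nat.card_pos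
  have hH : 0 < Nat.card H := Nat.card_pos
  have hm1 : m ≠ 1 := by
    intro h
    rw [h, mul_one] at hm
    have hHK : H = K := Subgroup.eq_of_le_of_card_ge hle (le_of_eq hm)
    obtain ⟨g, hg, hg'⟩ := hne
    exact hg' (hHK ▸ hg)
  obtain ⟨k, hk⟩ := IsPGroup.iff_card.1 (hS.to_subgroup K)
  have hmd : m ∣ p ^ k := by rw [← hk, hm]; exact Dvd.intro_left _ rfl
  obtain ⟨j, -, hj⟩ := (Nat.dvd_prime_pow hp).1 hmd
  have hj0 : j ≠ 0 := by
    rintro rfl
    exact hm1 (by simpa using hj)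
  have hpm : p ≤ m := by rw [hj]; exact Nat.le_self_pow hj0 p
  rw [hm, mul_comm]
  exact Nat.mul_le_mul_left _ hpm

/-- the commutator homomorphism `s ↦ ⁅s, b⁆` into a central subgroup. -/
noncomputable def kap {S : Type*} [Group S] (Z : Subgroup S) (hZ : Z ≤ Subgroup.center S)
    (D : Subgroup S) (b : S) (hb : ∀ s ∈ D, ⁅s, b⁆ ∈ Z) : ↥D →* ↥Z :=
  MonoidHom.mk' (fun s => ⟨⁅(s : S), b⁆, hb s s.2⟩)
    (fun a c => Subtype.ext (Cfsg.Agent.S4400.comm_mul' (a : S) (c : S) b (hZ (hb c c.2))))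

theorem kap_apply {S : Type*} [Group S] (Z : Subgroup S) (hZ : Z ≤ Subgroup.center S)
    (D : Subgroup S) (b : S) (hb : ∀ s ∈ D, ⁅s, b⁆ ∈ Z) (s : ↥D) :
    ((kap Z hZ D b hb s : ↥Z) : S) = ⁅(s : S), b⁆ := rfl

/-- Let S be a finite p-group with an extraspecial subgroup of index p. Then S has an abelian subgroup of index p if and only if S has order p⁴. -/
theorem result {S : Type*} [Group S] [Finite S] (p : ℕ) [Fact p.Prime] (hS : IsPGroup p S) (Q : Subgroup S) (hQ : Cfsg.IsExtraspecial p ↥Q) (hQi : Q.index = p) :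
    (∃ A : Subgroup S, IsMulCommutative ↥A ∧ A.index = p) ↔ Nat.card S = p ^ 4 := by
  have hp := (Fact.out : p.Prime)
  have hppos : 0 < p := hp.pos
  obtain ⟨Zq, hZq⟩ : ∃ Zq : Subgroup S, Zq = (Subgroup.center ↥Q).map Q.subtype := ⟨_, rfl⟩
  have F1 : ∀ a ∈ Q, ∀ b ∈ Q, ⁅a, b⁆ ∈ Zq := by
    intro a ha b hb
    have h1 : (⁅(⟨a, ha⟩ : ↥Q), ⟨b, hb⟩⁆ : ↥Q) ∈ commutator ↥Q :=
      Subgroup.commutator_mem_commutator (Subgroup.mem_top _) (Subgroup.mem_top _)
    rw [hQ.1.2.2] at h1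
    rw [hZq]
    exact Subgroup.mem_map.2 ⟨_, h1, rfl⟩
  have F2 : Nat.card Zq = p := by
    rw [hZq, Subgroup.card_map_of_injective Q.subtype_injective]
    exact hQ.2
  have F3 : ∀ z ∈ Zq, z ∈ Q ∧ ∀ q ∈ Q, q * z = z * q := by
    intro z hz
    rw [hZq] at hz
    obtain ⟨c, hc, rfl⟩ := Subgroup.mem_map.1 hz
    refine ⟨c.2, fun q hq => ?_⟩
    exact congrArg Subtype.val (Subgroup.mem_center_iff.1 hc ⟨q, hq⟩)
  have F4 : ∀ x ∈ Q, (∀ q ∈ Q, q * x = x * q) → x ∈ Zq := by
    intro x hx h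
    rw [hZq]
    exact Subgroup.mem_map.2 ⟨⟨x, hx⟩, Subgroup.mem_center_iff.2 (fun g => Subtype.ext (h g g.2)), rfl⟩
  have hQn : Q.Normal := h8_normal_of_index_eq_prime hS Q hQi
  have hZn : Zq.Normal := by
    refine ⟨fun z hz s => ?_⟩
    have hzQ := (F3 z hz).1
    have h1 : s * z * s⁻¹ ∈ Q := hQn.conj_mem z hzQ s
    refine F4 _ h1 (fun q hq => ?_)
    have h2 : s⁻¹ * q * s ∈ Q := by
      have := hQn.conj_mem q hq s⁻¹
      rwa [inv_inv] at this
    have h3 := (F3 z hz).2 _ h2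
    calc q * (s * z * s⁻¹) = s * ((s⁻¹ * q * s) * z) * s⁻¹ := by group
      _ = s * (z * (s⁻¹ * q * s)) * s⁻¹ := by rw [h3]
      _ = s * z * s⁻¹ * q := by group
  have F7 : Zq ≤ Subgroup.center S := h8_normal_card_prime_le_center hS Zq F2
  have hZQ : Zq ≤ Q := fun z hz => (F3 z hz).1
  -- a noncommuting pair
  obtain ⟨a, ha, b, hb, hab⟩ : ∃ a ∈ Q, ∃ b ∈ Q, a * b ≠ b * a := by
    by_contra hcon
    push Not at hcon
    have h1 : commutator ↥Q = ⊥ := by
      rw [commutator_eq_closure, eq_bot_iff, Subgroup.closure_le]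
      rintro _ ⟨x, y, rfl⟩
      rw [SetLike.mem_coe, Subgroup.mem_bot]
      apply Subtype.ext
      have := hcon x x.2 y y.2
      show (x : S) * y * (x : S)⁻¹ * (y : S)⁻¹ = 1
      rw [this]; group
    have h2 := hQ.2
    rw [← hQ.1.2.2, h1, Subgroup.card_bot] at h2
    exact hp.one_lt.ne' h2.symm
  have haZ : a ∉ Zq := fun h => hab ((F3 a h).2 b hb).symm
  have hcardQS : Nat.card Q * p = Nat.card S := by
    have := Q.card_mul_index
    rwa [hQi] at this
  -- lower bound on Q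
  have hQlow : p * p * p ≤ Nat.card Q := by
    have h1 : p * Nat.card Zq ≤ Nat.card ↥(Subgroup.centralizer ({a} : Set S) ⊓ Q) := by
      apply p_mul_card_le hS
      · intro z hz
        refine Subgroup.mem_inf.2 ⟨?_, hZQ hz⟩
        rw [Subgroup.mem_centralizer_iff]
        intro h hh
        rw [Set.mem_singleton_iff.1 hh]
        exact (F3 z hz).2 a ha
      · refine ⟨a, Subgroup.mem_inf.2 ⟨?_, ha⟩, haZ⟩
        rw [Subgroup.mem_centralizer_iff]
        intro h hh
        rw [Set.mem_singleton_iff.1 hh]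
    have h2 : p * Nat.card ↥(Subgroup.centralizer ({a} : Set S) ⊓ Q) ≤ Nat.card Q := by
      apply p_mul_card_le hS _ _ inf_le_right
      refine ⟨b, hb, fun h => ?_⟩
      have := (Subgroup.mem_centralizer_iff.1 (Subgroup.mem_inf.1 h).1) a rfl
      exact hab this
    rw [F2] at h1
    calc p * p * p = p * (p * p) := by ring
      _ ≤ p * Nat.card ↥(Subgroup.centralizer ({a} : Set S) ⊓ Q) := Nat.mul_le_mul_left _ h1
      _ ≤ Nat.card Q := h2
  constructor
  · rintro ⟨A, hA, hAi⟩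
    have hDcomm : ∀ x ∈ A ⊓ Q, ∀ y ∈ A ⊓ Q, x * y = y * x := by
      intro x hx y hy
      exact congrArg Subtype.val
        (hA.is_comm.comm ⟨x, (Subgroup.mem_inf.1 hx).1⟩ ⟨y, (Subgroup.mem_inf.1 hy).1⟩)
    have hcardD : Nat.card Q ≤ Nat.card ↥(A ⊓ Q) * p := by
      have h1 := (A ⊓ Q).card_mul_index
      have h2 : (A ⊓ Q).index ≤ A.index * Q.index := Subgroup.index_inf_le
      rw [hAi, hQi] at h2
      have h3 : Nat.card Q * p ≤ Nat.card ↥(A ⊓ Q) * (p * p) := by
        rw [hcardQS, ← h1]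
        exact Nat.mul_le_mul_left _ h2
      have h4 : Nat.card Q * p ≤ (Nat.card ↥(A ⊓ Q) * p) * p := by
        rw [mul_assoc]; exact h3
      exact Nat.le_of_mul_le_mul_right h4 hppos
    obtain ⟨x, hxQ, hxD⟩ : ∃ x ∈ Q, x ∉ A ⊓ Q := by
      by_contra hcon
      push Not at hcon
      exact hab (hDcomm a (hcon a ha) b (hcon b hb))
    have hM : (A ⊓ Q) ⊔ Subgroup.zpowers x = Q := by
      have hle : (A ⊓ Q) ⊔ Subgroup.zpowers x ≤ Q :=
        sup_le inf_le_right (by rw [Subgroup.zpowers_le]; exact hxQ)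
      apply Subgroup.eq_of_le_of_card_ge hle
      have h1 : p * Nat.card ↥(A ⊓ Q) ≤ Nat.card ↥((A ⊓ Q) ⊔ Subgroup.zpowers x) :=
        p_mul_card_le hS _ _ le_sup_left
          ⟨x, Subgroup.mem_sup_right (Subgroup.mem_zpowers x), hxD⟩
      calc Nat.card Q ≤ Nat.card ↥(A ⊓ Q) * p := hcardD
        _ = p * Nat.card ↥(A ⊓ Q) := mul_comm _ _
        _ ≤ _ := h1
    have hker : ∀ c ∈ A ⊓ Q, c * x = x * c → c ∈ Zq := by
      intro c hc hcx
      refine F4 c (Subgroup.mem_inf.1 hc).2 (fun q hq => ?_)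
      have h1 : (A ⊓ Q) ⊔ Subgroup.zpowers x ≤ Subgroup.centralizer ({c} : Set S) := by
        refine sup_le ?_ ?_
        · intro d hd
          rw [Subgroup.mem_centralizer_iff]
          intro h hh
          rw [Set.mem_singleton_iff.1 hh]
          exact hDcomm c hc d hd
        · rw [Subgroup.zpowers_le, Subgroup.mem_centralizer_iff]
          intro h hh
          rw [Set.mem_singleton_iff.1 hh]
          exact hcx
      rw [hM] at h1
      exact ((Subgroup.mem_centralizer_iff.1 (h1 hq)) c rfl).symm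
    -- the commutator hom on D
    have hbD : ∀ s ∈ A ⊓ Q, ⁅s, x⁆ ∈ Zq := fun s hs => F1 s (Subgroup.mem_inf.1 hs).2 x hxQ
    have hcardD2 : Nat.card ↥(A ⊓ Q) ≤ p * p := by
      have h1 := (kap Zq F7 (A ⊓ Q) x hbD).ker.card_mul_index
      rw [Subgroup.index_ker] at h1
      have h2 : Nat.card ↥(kap Zq F7 (A ⊓ Q) x hbD).range ≤ p := by
        rw [← F2]; exact Subgroup.card_le_card_group _
      have h3 : Nat.card ↥(kap Zq F7 (A ⊓ Q) x hbD).ker ≤ p := by
        rw [← F2]
        have hmem : ∀ k : ↥(kap Zq F7 (A ⊓ Q) x hbD).ker, ((k : ↥(A ⊓ Q)) : S) ∈ Zq := by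
          intro k
          have hk : kap Zq F7 (A ⊓ Q) x hbD k = 1 := k.2
          have hk' : ⁅((k : ↥(A ⊓ Q)) : S), x⁆ = 1 := by
            have := congrArg Subtype.val hk
            rwa [kap_apply] at this
          exact hker _ (k : ↥(A ⊓ Q)).2 (commutatorElement_eq_one_iff_commute.1 hk').eq
        apply Nat.card_le_card_of_injective
          (fun (k : ↥(kap Zq F7 (A ⊓ Q) x hbD).ker) => (⟨(k.1 : S), hmem k⟩ : ↥Zq))
        intro k₁ k₂ h
        apply Subtype.ext
        apply Subtype.ext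
        simpa using h
      rw [← h1]
      exact Nat.mul_le_mul h3 h2
    have hQup : Nat.card Q ≤ p * p * p := by
      calc Nat.card Q ≤ Nat.card ↥(A ⊓ Q) * p := hcardD
        _ ≤ p * p * p := Nat.mul_le_mul_right _ hcardD2
    have hQeq : Nat.card Q = p * p * p := le_antisymm hQup hQlow
    rw [← hcardQS, hQeq]; ring
  · intro hcard
    have hQeq : Nat.card Q = p * p * p := by
      have h1 : Nat.card Q * p = (p * p * p) * p := by rw [hcardQS, hcard]; ring
      exact Nat.eq_of_mul_eq_mul_right hppos h1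
    -- find b₀ ∈ Q ∖ Zq with [S, b₀] ≤ Zq
    obtain ⟨b₀, hb₀Q, hb₀Z, hb₀⟩ : ∃ b₀ ∈ Q, b₀ ∉ Zq ∧ ∀ s : S, ⁅s, b₀⁆ ∈ Zq := by
      have hQbar : (Q.map (QuotientGroup.mk' Zq)).Normal :=
        Subgroup.Normal.map hQn _ (QuotientGroup.mk'_surjective Zq)
      have hne : Q.map (QuotientGroup.mk' Zq) ≠ ⊥ := by
        intro h
        have h1 : (QuotientGroup.mk' Zq) a ∈ Q.map (QuotientGroup.mk' Zq) :=
          Subgroup.mem_map_of_mem _ ha
        rw [h, Subgroup.mem_bot] at h1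
        exact haZ ((QuotientGroup.eq_one_iff a).1 h1)
      have h := h8_normal_inf_center_ne_bot (hS.to_quotient Zq) (Q.map (QuotientGroup.mk' Zq)) hne
      obtain ⟨y, hy, hy1⟩ : ∃ y ∈ Q.map (QuotientGroup.mk' Zq) ⊓ Subgroup.center (S ⧸ Zq), y ≠ 1 := by
        by_contra hcon
        push Not at hcon
        exact h ((Subgroup.eq_bot_iff_forall _).2 hcon)
      obtain ⟨b₀, hb₀Q, rfl⟩ := Subgroup.mem_map.1 (Subgroup.mem_inf.1 hy).1
      refine ⟨b₀, hb₀Q, fun h => hy1 ((QuotientGroup.eq_one_iff b₀).2 h), fun s => ?_⟩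
      have hc := Subgroup.mem_center_iff.1 (Subgroup.mem_inf.1 hy).2 ((QuotientGroup.mk' Zq) s)
      apply (QuotientGroup.eq_one_iff _).1
      have h2 : ((⁅s, b₀⁆ : S) : S ⧸ Zq) = ⁅(QuotientGroup.mk' Zq) s, (QuotientGroup.mk' Zq) b₀⁆ := by
        rw [← map_commutatorElement]; rfl
      rw [h2, commutatorElement_def, hc]
      group
    have hbT : ∀ s ∈ (⊤ : Subgroup S), ⁅s, b₀⁆ ∈ Zq := fun s _ => hb₀ s
    -- A := C_S(b₀)
    obtain ⟨A, hAdef⟩ : ∃ A : Subgroup S, A = Subgroup.centralizer ({b₀} : Set S) := ⟨_, rfl⟩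
    have hAmem : ∀ s : S, s ∈ A ↔ s * b₀ = b₀ * s := by
      intro s
      rw [hAdef, Subgroup.mem_centralizer_iff]
      constructor
      · intro h; exact (h b₀ rfl).symm
      · intro h x hx
        rw [Set.mem_singleton_iff.1 hx]; exact h.symm
    -- index of A
    have hAidx : A.index = p := by
      have hker : ((kap Zq F7 ⊤ b₀ hbT).ker.map (Subgroup.subtype ⊤)) = A := by
        ext s
        rw [hAmem]
        constructor
        · rintro ⟨k, hk, rfl⟩
          have hk1 : kap Zq F7 ⊤ b₀ hbT k = 1 := hk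
          have hk' : ⁅(k : S), b₀⁆ = 1 := by
            have := congrArg Subtype.val hk1
            rwa [kap_apply] at this
          exact (commutatorElement_eq_one_iff_commute.1 hk').eq
        · intro h
          refine ⟨⟨s, Subgroup.mem_top s⟩, ?_, rfl⟩
          show kap Zq F7 ⊤ b₀ hbT ⟨s, Subgroup.mem_top s⟩ = 1
          apply Subtype.ext
          rw [kap_apply]
          exact commutatorElement_eq_one_iff_commute.2 h
      have hcardA : Nat.card A = Nat.card ↥(kap Zq F7 ⊤ b₀ hbT).ker := by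
        rw [← hker, Subgroup.card_map_of_injective (Subgroup.subtype_injective _)]
      have h1 := (kap Zq F7 ⊤ b₀ hbT).ker.card_mul_index
      rw [Subgroup.index_ker] at h1
      have hcardT : Nat.card ↥(⊤ : Subgroup S) = Nat.card S := Subgroup.card_top
      have h2 : Nat.card ↥(kap Zq F7 ⊤ b₀ hbT).range ∣ p := by
        rw [← F2]; exact Subgroup.card_subgroup_dvd_card _
      have h3 : Nat.card ↥(kap Zq F7 ⊤ b₀ hbT).range = p := by
        rcases (Nat.dvd_prime hp).1 h2 with h | h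
        · exfalso
          have hbot : (kap Zq F7 ⊤ b₀ hbT).range = ⊥ := Subgroup.card_eq_one.1 h
          apply hb₀Z
          refine F4 b₀ hb₀Q (fun q _ => ?_)
          have hq : kap Zq F7 ⊤ b₀ hbT ⟨q, Subgroup.mem_top q⟩ ∈ (kap Zq F7 ⊤ b₀ hbT).range :=
            ⟨_, rfl⟩
          rw [hbot, Subgroup.mem_bot] at hq
          have hq' : ⁅q, b₀⁆ = 1 := by
            have := congrArg Subtype.val hq
            rwa [kap_apply] at this
          exact (commutatorElement_eq_one_iff_commute.1 hq').eq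
        · exact h
      have h4 := A.card_mul_index
      rw [hcardA] at h4
      rw [h3, hcardT] at h1
      have h5 : Nat.card ↥(kap Zq F7 ⊤ b₀ hbT).ker * A.index
          = Nat.card ↥(kap Zq F7 ⊤ b₀ hbT).ker * p := by rw [h4, h1]
      exact Nat.eq_of_mul_eq_mul_left Nat.card_pos h5
    have hAcard : Nat.card A = p * p * p := by
      have h1 := A.card_mul_index
      rw [hAidx, hcard] at h1
      have h2 : Nat.card A * p = (p * p * p) * p := by rw [h1]; ring
      exact Nat.eq_of_mul_eq_mul_right hppos h2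
    -- B := Zq ⊔ ⟨b₀⟩ is central in A
    have hBA : Zq ⊔ Subgroup.zpowers b₀ ≤ A := by
      refine sup_le ?_ ?_
      · intro z hz
        rw [hAmem]
        exact Subgroup.mem_center_iff.1 (F7 hz) b₀ |>.symm
      · rw [Subgroup.zpowers_le, hAmem]
    have hBc : ∀ g ∈ Zq ⊔ Subgroup.zpowers b₀, ∀ x ∈ A, x * g = g * x := by
      have hle : Zq ⊔ Subgroup.zpowers b₀ ≤ Subgroup.centralizer (A : Set S) := by
        refine sup_le ?_ ?_
        · intro z hz
          rw [Subgroup.mem_centralizer_iff]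
          intro h _
          exact Subgroup.mem_center_iff.1 (F7 hz) h
        · rw [Subgroup.zpowers_le, Subgroup.mem_centralizer_iff]
          intro h hh
          exact ((hAmem h).1 hh)
      intro g hg x hx
      exact (Subgroup.mem_centralizer_iff.1 (hle hg)) x hx
    have hBcard : p * p ≤ Nat.card ↥(Zq ⊔ Subgroup.zpowers b₀) := by
      have := p_mul_card_le hS Zq (Zq ⊔ Subgroup.zpowers b₀) le_sup_left
        ⟨b₀, Subgroup.mem_sup_right (Subgroup.mem_zpowers b₀), hb₀Z⟩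
      rwa [F2] at this
    have hAcomm : ∀ a₁ ∈ A, ∀ a₂ ∈ A, a₁ * a₂ = a₂ * a₁ := by
      intro a₁ ha₁ a₂ ha₂
      by_cases h1 : a₁ ∈ Zq ⊔ Subgroup.zpowers b₀
      · exact (hBc a₁ h1 a₂ ha₂).symm
      · have hB1 : (Zq ⊔ Subgroup.zpowers b₀) ⊔ Subgroup.zpowers a₁ = A := by
          have hle : (Zq ⊔ Subgroup.zpowers b₀) ⊔ Subgroup.zpowers a₁ ≤ A :=
            sup_le hBA (by rw [Subgroup.zpowers_le]; exact ha₁)
          apply Subgroup.eq_of_le_of_card_ge hle
          have h2 := p_mul_card_le hS (Zq ⊔ Subgroup.zpowers b₀)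
            ((Zq ⊔ Subgroup.zpowers b₀) ⊔ Subgroup.zpowers a₁) le_sup_left
            ⟨a₁, Subgroup.mem_sup_right (Subgroup.mem_zpowers a₁), h1⟩
          calc Nat.card A = p * (p * p) := by rw [hAcard]; ring
            _ ≤ p * Nat.card ↥(Zq ⊔ Subgroup.zpowers b₀) := Nat.mul_le_mul_left _ hBcard
            _ ≤ _ := h2
        have hle2 : (Zq ⊔ Subgroup.zpowers b₀) ⊔ Subgroup.zpowers a₁
            ≤ Subgroup.centralizer ({a₁} : Set S) := by
          refine sup_le ?_ ?_
          · intro g hg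
            rw [Subgroup.mem_centralizer_iff]
            intro h hh
            rw [Set.mem_singleton_iff.1 hh]
            exact hBc g hg a₁ ha₁
          · rw [Subgroup.zpowers_le, Subgroup.mem_centralizer_iff]
            intro h hh
            rw [Set.mem_singleton_iff.1 hh]
        rw [hB1] at hle2
        exact (Subgroup.mem_centralizer_iff.1 (hle2 ha₂)) a₁ rfl
    exact ⟨A, ⟨⟨fun x y => Subtype.ext (hAcomm x x.2 y y.2)⟩⟩, hAidx⟩

end Cfsg.Agent.S3810
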