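import Mathlib
import Cfsg.Statements.S3864
import Cfsg.Agent.S1924
import Cfsg.Agent.Lib.Helper8.Basic
import Cfsg.Agent.Lib.Helper7.Coprime

set_option autoImplicit false
open Cfsg
open Cfsg.Agent.Lib.Helper8
open DihedralGroup

namespace Cfsg.Agent.S3864

variable {m : ℕ}

theorem z2_01 : (0 : ZMod 2) ≠ 1 := by decide

theorem mz2 : ∀ a : Multiplicative (ZMod 2),
    a = Multiplicative.ofAdd (0 : ZMod 2) ∨ a = Multiplicative.ofAdd (1 : ZMod 2) := by decide

def par (h2 : 2 ∣ m) : ZMod m →+* ZMod 2 := ZMod.castHom h2 (ZMod 2)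

def fval (h2 : 2 ∣ m) (a : ZMod 2) : DihedralGroup m → ZMod 2
  | r i => par h2 i
  | sr i => par h2 i + a

theorem fval_mul (h2 : 2 ∣ m) (a : ZMod 2) (x y : DihedralGroup m) :
    fval h2 a (x * y) = fval h2 a x + fval h2 a y := by
  rcases x with i | i <;> rcases y with j | j
  · show par h2 (i + j) = par h2 i + par h2 j
    exact map_add _ _ _
  · show par h2 (j - i) + a = par h2 i + (par h2 j + a)
    rw [map_sub, CharTwo.sub_eq_add]; ring
  · show par h2 (i + j) + a = par h2 i + a + par h2 j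
    rw [map_add]; ring
  · show par h2 (j - i) = par h2 i + a + (par h2 j + a)
    rw [map_sub, CharTwo.sub_eq_add]
    have : a + a = 0 := CharTwo.add_self_eq_zero a
    linear_combination -this

def fhom (h2 : 2 ∣ m) (a : ZMod 2) : DihedralGroup m →* Multiplicative (ZMod 2) :=
  MonoidHom.mk' (fun x => Multiplicative.ofAdd (fval h2 a x)) (fun x y => by
    rw [fval_mul]; rfl)

theorem fhom_apply (h2 : 2 ∣ m) (a : ZMod 2) (x : DihedralGroup m) :
    fhom h2 a x = Multiplicative.ofAdd (fval h2 a x) := rfl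

theorem inv_cases (hm : 4 ∣ m) [NeZero m] (x : DihedralGroup m) (hx : orderOf x = 2) :
    x = r ((m / 2 : ℕ) : ZMod m) ∨ ∃ i, x = sr i := by
  rcases x with i | i
  · left
    have h1 : (r i : DihedralGroup m) ^ 2 = 1 := by rw [← hx]; exact pow_orderOf_eq_one _
    rw [r_pow, one_def] at h1
    have h2 : i * ((2 : ℕ) : ZMod m) = 0 := by injection h1
    have hi : i ≠ 0 := by
      rintro rfl
      rw [r_zero, orderOf_one] at hx
      norm_num at hx
    have h3 : ((i.val * 2 : ℕ) : ZMod m) = 0 := by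
      rw [Nat.cast_mul, ZMod.natCast_zmod_val]; exact h2
    rw [ZMod.natCast_eq_zero_iff] at h3
    have h4 : i.val < m := ZMod.val_lt i
    have h5 : i.val ≠ 0 := fun h => hi ((ZMod.val_eq_zero i).mp h)
    obtain ⟨q, hq⟩ := h3
    obtain ⟨t, ht⟩ := hm
    have hq2 : q < 2 := by
      by_contra h
      push_neg at h
      nlinarith
    have hq0 : q ≠ 0 := by
      rintro rfl
      omega
    have hq1 : q = 1 := by omega
    subst hq1
    have : i.val = m / 2 := by omega
    rw [← this, ZMod.natCast_zmod_val]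
  · exact Or.inr ⟨i, rfl⟩

theorem sr_conj (h2 : 2 ∣ m) [NeZero m] (i : ZMod m) :
    ∃ j k : ZMod m, (j = 0 ∨ j = 1) ∧ par h2 j = par h2 i ∧ sr i = r k * sr j * (r k)⁻¹ := by
  have hi : ((i.val : ℕ) : ZMod m) = i := ZMod.natCast_zmod_val i
  have h20 : (2 : ZMod 2) = 0 := rfl
  rcases Nat.even_or_odd' i.val with ⟨q, hq | hq⟩
  · refine ⟨0, -(q : ZMod m), Or.inl rfl, ?_, ?_⟩
    · rw [← hi, hq, map_zero, map_natCast]
      push_cast
      rw [h20, zero_mul]
    · rw [inv_r, r_mul_sr, sr_mul_r]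
      congr 1
      rw [← hi, hq]
      push_cast
      ring
  · refine ⟨1, -(q : ZMod m), Or.inr rfl, ?_, ?_⟩
    · rw [← hi, hq, map_one, map_natCast]
      push_cast
      rw [h20, zero_mul, zero_add]
    · rw [inv_r, r_mul_sr, sr_mul_r]
      congr 1
      rw [← hi, hq]
      push_cast
      ring

theorem gen [NeZero m] (H : Subgroup (DihedralGroup m)) (h0 : sr 0 ∈ H) (h1 : sr 1 ∈ H)
    (x : DihedralGroup m) : x ∈ H := by
  have hr1 : r 1 ∈ H := by
    have := H.mul_mem h0 h1
    rwa [sr_mul_sr, sub_zero] at this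
  have hr : ∀ i : ZMod m, r i ∈ H := by
    intro i
    have := H.pow_mem hr1 i.val
    rwa [r_one_pow, ZMod.natCast_zmod_val] at this
  rcases x with i | i
  · exact hr i
  · have := H.mul_mem h0 (hr i)
    rwa [sr_mul_r, zero_add] at this

theorem z_eq (hm : 4 ∣ m) :
    (r ((m / 2 : ℕ) : ZMod m) : DihedralGroup m) =
      (r 1 * sr 0 * (r 1)⁻¹ * (sr 0)⁻¹) ^ (m / 4) := by
  rw [inv_r, inv_sr, r_mul_sr, sr_mul_r, sr_mul_sr, r_pow]
  congr 1
  obtain ⟨t, rfl⟩ := hm
  have h1 : 4 * t / 2 = 2 * t := by omega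
  have h2 : 4 * t / 4 = t := by omega
  rw [h1, h2]
  push_cast
  ring

theorem comm_mem {G : Type*} [Group G] (N : Subgroup G) [N.Normal]
    (hc : ∀ a b : G ⧸ N, a * b = b * a) (a b : G) : a * b * a⁻¹ * b⁻¹ ∈ N := by
  rw [← QuotientGroup.eq_one_iff]
  rw [QuotientGroup.mk_mul, QuotientGroup.mk_mul, QuotientGroup.mk_mul,
    hc (a : G ⧸ N) (b : G ⧸ N)]
  simp

theorem quot_comm {G : Type*} [Group G] [Finite G] (N : Subgroup G) [N.Normal]
    (h : N.index = 2 ∨ N.index = 4) : ∀ a b : G ⧸ N, a * b = b * a := by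
  haveI : Fact (Nat.Prime 2) := ⟨Nat.prime_two⟩
  rcases h with h | h
  · have hc : Nat.card (G ⧸ N) = 2 := by rw [← Subgroup.index_eq_card]; exact h
    have hcyc := isCyclic_of_prime_card hc
    intro a b
    exact hcyc.isMulCommutative.is_comm.comm a b
  · have hc : Nat.card (G ⧸ N) = 2 ^ 2 := by rw [← Subgroup.index_eq_card]; exact h
    exact (IsPGroup.isMulCommutative_of_card_eq_prime_sq hc).is_comm.comm

theorem main {G : Type*} [Group G] [Finite G] (P : Sylow 2 G) (m : ℕ) (hm : 4 ∣ m) [NeZero m]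
    (e : ↥(P : Subgroup G) ≃* DihedralGroup m) :
    (Nat.card {C : ConjClasses G // ∃ g : G, ConjClasses.mk g = C ∧ orderOf g = 2} = 1 ∧ ∀ N : Subgroup G, N.Normal → N.index ≠ 2) ∨ (Nat.card {C : ConjClasses G // ∃ g : G, ConjClasses.mk g = C ∧ orderOf g = 2} = 2 ∧ (∃ N : Subgroup G, N.Normal ∧ N.index = 2) ∧ ∀ N : Subgroup G, N.Normal → N.index ≠ 4) ∨ (Nat.card {C : ConjClasses G // ∃ g : G, ConjClasses.mk g = C ∧ orderOf g = 2} = 3 ∧ Cfsg.HasNormalPComplement 2 G) := by
  classical
  haveI : Fact (Nat.Prime 2) := ⟨Nat.prime_two⟩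
  have h2 : 2 ∣ m := (by norm_num : (2 : ℕ) ∣ 4).trans hm
  have hmpos : 0 < m := Nat.pos_of_ne_zero (NeZero.ne m)
  have hm2 : 2 ≤ m := Nat.le_of_dvd hmpos h2
  obtain ⟨θ, hθdef⟩ : ∃ θ : DihedralGroup m →* G,
      θ = (P : Subgroup G).subtype.comp e.symm.toMonoidHom := ⟨_, rfl⟩
  have hθ : Function.Injective θ := by
    rw [hθdef]
    exact (Subgroup.subtype_injective _).comp e.symm.injective
  have hθe : ∀ d, θ d = ((e.symm d : ↥(P : Subgroup G)) : G) := by
    intro d; rw [hθdef]; rfl
  have hP : ∀ x, x ∈ (P : Subgroup G) ↔ ∃ d, θ d = x := by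
    intro x
    constructor
    · intro hx
      refine ⟨e ⟨x, hx⟩, ?_⟩
      rw [hθe, MulEquiv.symm_apply_apply]
    · rintro ⟨d, rfl⟩
      rw [hθe]
      exact (e.symm d).2
  have hθP : ∀ d, θ d ∈ (P : Subgroup G) := fun d => (hP _).mpr ⟨d, rfl⟩
  have hord : ∀ d, orderOf (θ d) = orderOf d := orderOf_injective θ hθ
  have hPodd : Odd (P : Subgroup G).index := Nat.odd_iff.mpr (Nat.two_dvd_ne_zero.mp P.not_dvd_index)
  have hPcard : Nat.card (P : Subgroup G) = 2 * m := by
    rw [Nat.card_congr e.toEquiv, DihedralGroup.nat_card]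
  have hz2 : orderOf (θ (r ((m / 2 : ℕ) : ZMod m))) = 2 := by
    rw [hord]
    apply orderOf_eq_prime
    · rw [r_pow, one_def]
      congr 1
      obtain ⟨t, rfl⟩ := hm
      have h1 : 4 * t / 2 = 2 * t := by omega
      rw [h1]
      have : (((2 * t : ℕ) : ZMod (4 * t)) * ((2 : ℕ) : ZMod (4 * t))) = ((4 * t : ℕ) : ZMod (4 * t)) := by
        push_cast; ring
      rw [this, ZMod.natCast_self]
    · intro h
      rw [one_def] at h
      have h' : ((m / 2 : ℕ) : ZMod m) = 0 := by injection h
      rw [ZMod.natCast_eq_zero_iff] at h'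
      have := Nat.le_of_dvd (by omega) h'
      omega
  have hs2 : ∀ i, orderOf (θ (sr i)) = 2 := fun i => by rw [hord]; exact orderOf_sr i
  have hsr : ∀ i : ZMod m, ∃ j : ZMod m, (j = 0 ∨ j = 1) ∧ par h2 j = par h2 i ∧
      IsConj (θ (sr i)) (θ (sr j)) := by
    intro i
    obtain ⟨j, k, hj, hpar, hconj⟩ := sr_conj h2 i
    refine ⟨j, hj, hpar, IsConj.symm (isConj_iff.mpr ⟨θ (r k), ?_⟩)⟩
    rw [hconj, map_mul, map_mul, map_inv]
  have hinvP : ∀ x ∈ (P : Subgroup G), orderOf x = 2 →
      x = θ (r ((m / 2 : ℕ) : ZMod m)) ∨ ∃ i, x = θ (sr i) := by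
    intro x hx ho
    obtain ⟨d, rfl⟩ := (hP x).mp hx
    rw [hord] at ho
    rcases inv_cases hm d ho with rfl | ⟨i, rfl⟩
    · exact Or.inl rfl
    · exact Or.inr ⟨i, rfl⟩
  have cover : ∀ g : G, orderOf g = 2 → IsConj g (θ (r ((m / 2 : ℕ) : ZMod m))) ∨
      IsConj g (θ (sr 0)) ∨ IsConj g (θ (sr 1)) := by
    intro g hg
    have hQ : IsPGroup 2 (Subgroup.zpowers g) :=
      IsPGroup.of_card (n := 1) (by rw [Nat.card_zpowers, hg, pow_one])
    obtain ⟨h, hh⟩ := h8_exists_conj_sylow_ge P hQ
    have hx := hh g (Subgroup.mem_zpowers g)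
    have hox : orderOf (h⁻¹ * g * h) = 2 := by
      have := h8_orderOf_conj h⁻¹ g
      rw [inv_inv] at this
      rw [this, hg]
    have hgx : IsConj g (h⁻¹ * g * h) := isConj_iff.mpr ⟨h⁻¹, by rw [inv_inv]⟩
    rcases hinvP _ hx hox with h1 | ⟨i, h1⟩
    · exact Or.inl (h1 ▸ hgx)
    · obtain ⟨j, hj, -, hij⟩ := hsr i
      rcases hj with rfl | rfl
      · exact Or.inr (Or.inl ((h1 ▸ hgx).trans hij))
      · exact Or.inr (Or.inr ((h1 ▸ hgx).trans hij))
  have hgenP : ∀ H : Subgroup G, θ (sr 0) ∈ H → θ (sr 1) ∈ H → (P : Subgroup G) ≤ H := by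
    intro H h0 h1 x hx
    obtain ⟨d, rfl⟩ := (hP x).mp hx
    exact gen (H.comap θ) h0 h1 d
  have hzN : ∀ (N : Subgroup G) [N.Normal], (∀ a b : G ⧸ N, a * b = b * a) →
      θ (r ((m / 2 : ℕ) : ZMod m)) ∈ N := by
    intro N hN hc
    rw [z_eq hm, map_pow, map_mul, map_mul, map_mul, map_inv, map_inv]
    exact N.pow_mem (comm_mem N hc _ _) _
  have hconjN : ∀ N : Subgroup G, N.Normal → ∀ a b : G, IsConj a b → b ∈ N → a ∈ N := by
    intro N hN a b hab hb
    obtain ⟨c, hc⟩ := isConj_iff.mp hab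
    have h1 := hN.conj_mem b hb c⁻¹
    rw [← hc] at h1
    have e1 : c⁻¹ * (c * a * c⁻¹) * c⁻¹⁻¹ = a := by group
    rwa [e1] at h1
  have hset : {C : ConjClasses G | ∃ g : G, ConjClasses.mk g = C ∧ orderOf g = 2} =
      {ConjClasses.mk (θ (r ((m / 2 : ℕ) : ZMod m))), ConjClasses.mk (θ (sr 0)),
        ConjClasses.mk (θ (sr 1))} := by
    ext C
    simp only [Set.mem_ofPred_eq, Set.mem_insert_iff, Set.mem_singleton_iff]
    constructor
    · rintro ⟨g, rfl, hg⟩
      rcases cover g hg with h | h | h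
      · exact Or.inl (ConjClasses.mk_eq_mk_iff_isConj.mpr h)
      · exact Or.inr (Or.inl (ConjClasses.mk_eq_mk_iff_isConj.mpr h))
      · exact Or.inr (Or.inr (ConjClasses.mk_eq_mk_iff_isConj.mpr h))
    · rintro (rfl | rfl | rfl)
      · exact ⟨_, rfl, hz2⟩
      · exact ⟨_, rfl, hs2 0⟩
      · exact ⟨_, rfl, hs2 1⟩
  have hcnt : Nat.card {C : ConjClasses G // ∃ g : G, ConjClasses.mk g = C ∧ orderOf g = 2} =
      ({ConjClasses.mk (θ (r ((m / 2 : ℕ) : ZMod m))), ConjClasses.mk (θ (sr 0)),
        ConjClasses.mk (θ (sr 1))} : Set (ConjClasses G)).ncard := by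
    rw [← hset]
    exact Nat.card_coe_set_eq _
  have hpar01 : par h2 (0 : ZMod m) ≠ par h2 (1 : ZMod m) := by
    rw [map_zero, map_one]
    exact z2_01
  have caseII : ∀ ia ib : ZMod m, ((ia = 0 ∧ ib = 1) ∨ (ia = 1 ∧ ib = 0)) →
      IsConj (θ (sr ia)) (θ (r ((m / 2 : ℕ) : ZMod m))) →
      ¬ IsConj (θ (sr ib)) (θ (r ((m / 2 : ℕ) : ZMod m))) →
      (∃ N : Subgroup G, N.Normal ∧ N.index = 2) ∧ ∀ N : Subgroup G, N.Normal → N.index ≠ 4 := by
    intro ia ib hab ha hb
    constructor
    · obtain ⟨ψ, hψdef⟩ : ∃ ψ : ↥(P : Subgroup G) →* Multiplicative (ZMod 2),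
          ψ = (fhom h2 (par h2 ia)).comp e.toMonoidHom := ⟨_, rfl⟩
      obtain ⟨M, hMdef⟩ : ∃ M : Subgroup G, M = ψ.ker.map (P : Subgroup G).subtype := ⟨_, rfl⟩
      have hMmem : ∀ d : DihedralGroup m, θ d ∈ M ↔ fval h2 (par h2 ia) d = 0 := by
        intro d
        rw [hMdef, hθe]
        constructor
        · rintro ⟨s', hs', hss'⟩
          have : s' = e.symm d := Subtype.ext hss'
          have hs'' : ψ s' = 1 := MonoidHom.mem_ker.mp hs'
          rw [this, hψdef] at hs''
          have h1 : fhom h2 (par h2 ia) (e (e.symm d)) = 1 := hs''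
          rw [MulEquiv.apply_symm_apply, fhom_apply] at h1
          exact h1
        · intro h
          refine ⟨e.symm d, MonoidHom.mem_ker.mpr ?_, rfl⟩
          rw [hψdef]
          show fhom h2 (par h2 ia) (e (e.symm d)) = 1
          rw [MulEquiv.apply_symm_apply, fhom_apply, h]
          rfl
      have hMP : M ≤ P := by rw [hMdef]; exact Subgroup.map_subtype_le _
      have hψsurj : Function.Surjective ψ := by
        intro a
        have h1 : fval h2 (par h2 ia) (r 1) = 1 := by
          show par h2 1 = 1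
          exact map_one _
        have h0 : fval h2 (par h2 ia) (r 0) = 0 := by
          show par h2 0 = 0
          exact map_zero _
        have ha' : a = Multiplicative.ofAdd (0 : ZMod 2) ∨ a = Multiplicative.ofAdd (1 : ZMod 2) :=
          mz2 a
        rcases ha' with rfl | rfl
        · refine ⟨e.symm (r 0), ?_⟩
          rw [hψdef]
          show fhom h2 (par h2 ia) (e (e.symm (r 0))) = _
          rw [MulEquiv.apply_symm_apply, fhom_apply, h0]
        · refine ⟨e.symm (r 1), ?_⟩
          rw [hψdef]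
          show fhom h2 (par h2 ia) (e (e.symm (r 1))) = _
          rw [MulEquiv.apply_symm_apply, fhom_apply, h1]
      have hMcard : Nat.card M * 2 = Nat.card (P : Subgroup G) := by
        rw [hMdef, Subgroup.card_map_of_injective (Subgroup.subtype_injective _)]
        have h1 := Subgroup.card_mul_index ψ.ker
        rw [Subgroup.index_ker, MonoidHom.range_eq_top.mpr hψsurj, Subgroup.card_top] at h1
        have h3 : Nat.card (Multiplicative (ZMod 2)) = 2 := by
          simp [Nat.card_eq_fintype_card]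
        rw [h3] at h1
        exact h1
      letI : Fintype (G ⧸ M) := Fintype.ofFinite _
      have hsign : Equiv.Perm.sign (MulAction.toPermHom G (G ⧸ M) (θ (sr ib))) = -1 := by
        refine S1924.st_sign M (θ (sr ib)) 1 le_rfl ?_ ?_ (P : Subgroup G).index hPodd ?_
        · rw [pow_one, ← map_pow, sq, sr_mul_self, map_one]
        · intro g hg
          simp only [Nat.sub_self, pow_zero, pow_one] at hg
          obtain ⟨d, hd⟩ := (hP _).mp (hMP hg)
          have hod : orderOf d = 2 := by
            rw [← hord, hd]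
            have := h8_orderOf_conj g⁻¹ (θ (sr ib))
            rw [inv_inv] at this
            rw [this, hs2]
          have hconj : IsConj (θ (sr ib)) (θ d) := isConj_iff.mpr ⟨g⁻¹, by rw [hd, inv_inv]⟩
          rcases inv_cases hm d hod with rfl | ⟨i, rfl⟩
          · exact hb hconj
          · rw [← hd, hMmem] at hg
            have hpar : par h2 i = par h2 ia := by
              have h0 : par h2 i + par h2 ia = 0 := hg
              calc par h2 i = par h2 i + (par h2 ia + par h2 ia) := by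
                    rw [CharTwo.add_self_eq_zero, add_zero]
                _ = (par h2 i + par h2 ia) + par h2 ia := by ring
                _ = par h2 ia := by rw [h0, zero_add]
            obtain ⟨j, hj01, hjpar, hij⟩ := hsr i
            have hj : j = ia := by
              rw [hpar] at hjpar
              rcases hj01 with rfl | rfl <;> rcases hab with ⟨rfl, -⟩ | ⟨rfl, -⟩
              · rfl
              · exact absurd hjpar hpar01
              · exact absurd hjpar.symm hpar01
              · rfl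
            rw [hj] at hij
            exact hb (hconj.trans (hij.trans ha))
        · rw [pow_one, mul_assoc, hMcard, mul_comm]
          exact (Subgroup.card_mul_index _).symm
      exact ⟨_, MonoidHom.normal_ker _,
        S1924.ker_index (Equiv.Perm.sign.comp (MulAction.toPermHom G (G ⧸ M))) (θ (sr ib)) hsign⟩
    · intro N hN h4
      haveI := hN
      have hcomm := quot_comm N (Or.inr h4)
      have hzmem := hzN N hcomm
      have haN : θ (sr ia) ∈ N := hconjN N hN _ _ ha hzmem
      have hsup : (P : Subgroup G) ⊔ N = ⊤ := by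
        rw [← Subgroup.index_eq_one]
        have h1 : ((P : Subgroup G) ⊔ N).index ∣ (P : Subgroup G).index :=
          Subgroup.index_dvd_of_le le_sup_left
        have h2' : ((P : Subgroup G) ⊔ N).index ∣ 4 := by
          rw [← h4]; exact Subgroup.index_dvd_of_le le_sup_right
        have h3 : Odd ((P : Subgroup G) ⊔ N).index := Odd.of_dvd_nat hPodd h1
        generalize ((P : Subgroup G) ⊔ N).index = j at *
        have hj : j ≤ 4 := Nat.le_of_dvd (by norm_num) h2'
        interval_cases j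
        · simp at h2'
        · rfl
        · exact absurd h3 (by decide)
        · exact absurd h2' (by decide)
        · exact absurd h3 (by decide)
      have hPH : (P : Subgroup G) ≤ N ⊔ Subgroup.zpowers (θ (sr ib)) := by
        apply hgenP
        · rcases hab with ⟨rfl, rfl⟩ | ⟨rfl, rfl⟩
          · exact Subgroup.mem_sup_left haN
          · exact Subgroup.mem_sup_right (Subgroup.mem_zpowers _)
        · rcases hab with ⟨rfl, rfl⟩ | ⟨rfl, rfl⟩
          · exact Subgroup.mem_sup_right (Subgroup.mem_zpowers _)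
          · exact Subgroup.mem_sup_left haN
      have hHtop : N ⊔ Subgroup.zpowers (θ (sr ib)) = ⊤ := by
        rw [eq_top_iff, ← hsup]
        exact sup_le hPH le_sup_left
      have hall : ∀ x : G ⧸ N, x ∈ Subgroup.zpowers ((θ (sr ib) : G) : G ⧸ N) := by
        intro x
        obtain ⟨g, rfl⟩ := QuotientGroup.mk_surjective x
        have hg : g ∈ N ⊔ Subgroup.zpowers (θ (sr ib)) := by rw [hHtop]; trivial
        have hnorm : Subgroup.zpowers (θ (sr ib)) ≤ Subgroup.normalizer (N : Set G) := by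
          rw [Subgroup.normalizer_eq_top]; exact le_top
        obtain ⟨n', hn', a, ha', rfl⟩ := Cfsg.Agent.Lib.Helper7.exists_mul_of_mem_sup hnorm hg
        obtain ⟨k, rfl⟩ := Subgroup.mem_zpowers_iff.mp ha'
        rw [QuotientGroup.mk_mul, (QuotientGroup.eq_one_iff n').mpr hn', one_mul,
          QuotientGroup.mk_zpow]
        exact Subgroup.zpow_mem _ (Subgroup.mem_zpowers _) k
      have ho4 : orderOf ((θ (sr ib) : G) : G ⧸ N) = 4 := by
        rw [orderOf_eq_card_of_forall_mem_zpowers hall, ← Subgroup.index_eq_card, h4]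
      have hdvd : orderOf ((θ (sr ib) : G) : G ⧸ N) ∣ 2 := by
        apply orderOf_dvd_of_pow_eq_one
        rw [← QuotientGroup.mk_pow, ← map_pow, sq, sr_mul_self, map_one]
        rfl
      rw [ho4] at hdvd
      exact absurd hdvd (by decide)
  by_cases hA0 : IsConj (θ (sr 0)) (θ (r ((m / 2 : ℕ) : ZMod m)))
  · by_cases hA1 : IsConj (θ (sr 1)) (θ (r ((m / 2 : ℕ) : ZMod m)))
    · left
      refine ⟨?_, ?_⟩
      · rw [hcnt, ConjClasses.mk_eq_mk_iff_isConj.mpr hA0, ConjClasses.mk_eq_mk_iff_isConj.mpr hA1]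
        simp
      · intro N hN hidx
        haveI := hN
        have hcomm := quot_comm N (Or.inl hidx)
        have hzmem := hzN N hcomm
        have h0N := hconjN N hN _ _ hA0 hzmem
        have h1N := hconjN N hN _ _ hA1 hzmem
        have hPN := hgenP N h0N h1N
        have := Subgroup.index_dvd_of_le hPN
        rw [hidx] at this
        exact P.not_dvd_index this
    · right; left
      obtain ⟨hex, hno⟩ := caseII 0 1 (Or.inl ⟨rfl, rfl⟩) hA0 hA1
      refine ⟨?_, hex, hno⟩
      rw [hcnt, ConjClasses.mk_eq_mk_iff_isConj.mpr hA0,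
        Set.insert_eq_of_mem (Set.mem_insert _ _)]
      apply Set.ncard_pair
      intro h
      exact hA1 (ConjClasses.mk_eq_mk_iff_isConj.mp h).symm
  · by_cases hA1 : IsConj (θ (sr 1)) (θ (r ((m / 2 : ℕ) : ZMod m)))
    · right; left
      obtain ⟨hex, hno⟩ := caseII 1 0 (Or.inr ⟨rfl, rfl⟩) hA1 hA0
      refine ⟨?_, hex, hno⟩
      rw [hcnt, ConjClasses.mk_eq_mk_iff_isConj.mpr hA1,
        Set.insert_eq_of_mem (Set.mem_insert_of_mem _ (Set.mem_singleton _))]
      apply Set.ncard_pair
      intro h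
      exact hA0 (ConjClasses.mk_eq_mk_iff_isConj.mp h)
    · right; right
      have hC1 : ∀ x ∈ (P : Subgroup G), x ∉ Subgroup.zpowers (θ (r 1)) → orderOf x = 2 →
          ∀ g : G, g * x * g⁻¹ ∈ (⊥ : Subgroup G) ⊔ Subgroup.zpowers (θ (r 1)) → False := by
        intro x hx hxC ho g hg
        rw [bot_sup_eq] at hg
        obtain ⟨d, rfl⟩ := (hP x).mp hx
        rcases d with i | i
        · apply hxC
          rw [← ZMod.natCast_zmod_val i, ← r_one_pow, map_pow]
          exact Subgroup.pow_mem _ (Subgroup.mem_zpowers _) _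
        · obtain ⟨k, hk⟩ := Subgroup.mem_zpowers_iff.mp hg
          have hk' : θ (r (k : ZMod m)) = g * θ (sr i) * g⁻¹ := by
            rw [← r_one_zpow, map_zpow]; exact hk
          have ho' : orderOf (r (k : ZMod m) : DihedralGroup m) = 2 := by
            rw [← hord, hk', h8_orderOf_conj, hs2]
          rcases inv_cases hm _ ho' with h | ⟨j, hj⟩
          · have hconj : IsConj (θ (sr i)) (θ (r ((m / 2 : ℕ) : ZMod m))) :=
              isConj_iff.mpr ⟨g, by rw [← hk', h]⟩
            obtain ⟨j, hj01, -, hij⟩ := hsr i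
            rcases hj01 with rfl | rfl
            · exact hA0 (hij.symm.trans hconj)
            · exact hA1 (hij.symm.trans hconj)
          · cases hj
      have hCle : Subgroup.zpowers (θ (r 1)) ≤ (P : Subgroup G) :=
        (Subgroup.zpowers_le).mpr (hθP _)
      have hCcard : Nat.card (Subgroup.zpowers (θ (r 1))) = m := by
        rw [Nat.card_zpowers, hord, orderOf_r_one]
      have hCidx : (Subgroup.zpowers (θ (r 1))).relIndex (P : Subgroup G) = 2 := by
        have h1 := S1924.card_mul_relIndex' hCle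
        rw [hCcard, hPcard, mul_comm] at h1
        exact Nat.eq_of_mul_eq_mul_right hmpos h1
      have hLres : Cfsg.pResidual 2 ↥(⊥ : Subgroup G) = ⊤ := by
        rw [eq_top_iff]
        intro x _
        have : x = 1 := Subtype.ext (Subgroup.mem_bot.mp x.2)
        rw [this]
        exact one_mem _
      obtain ⟨K, hKn, hKP, hK⟩ := S1924.result (⊥ : Subgroup G) ⊥ (P : Subgroup G)
        (P : Subgroup G) (Subgroup.zpowers (θ (r 1))) hLres le_rfl IsPGroup.of_bot
        (by rw [Subgroup.relIndex_self]; norm_num) P.isPGroup' P.not_dvd_index bot_le le_rfl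
        ⟨m, hm2, ⟨e⟩⟩ (inf_bot_eq _) (bot_sup_eq _) (by rw [Subgroup.card_bot, one_mul])
        hCle inferInstance hCidx hC1 (by
          intro c _ hc g hg
          rw [Subgroup.mem_bot] at hg
          have h1 : c = 1 := by
            have : c = g⁻¹ * (g * c * g⁻¹) * g := by group
            rw [this, hg]; group
          rw [h1, orderOf_one] at hc
          norm_num at hc)
      have hKodd : ¬ 2 ∣ Nat.card K := by
        have := (hK ⊥ le_rfl IsPGroup.of_bot (by rw [Subgroup.relIndex_self]; norm_num)).2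
        rwa [Subgroup.relIndex_bot_left] at this
      haveI := hKn
      have hcop : (Nat.card K).Coprime (Nat.card (P : Subgroup G)) := by
        obtain ⟨j, hj⟩ := IsPGroup.iff_card.mp P.isPGroup'
        rw [hj]
        exact Nat.Coprime.pow_right j
          ((Nat.coprime_comm).mp ((Nat.Prime.coprime_iff_not_dvd Nat.prime_two).mpr hKodd))
      have hdisj : Disjoint K (P : Subgroup G) := Subgroup.disjoint_of_coprime_natCard hcop
      have hcompl : K.IsComplement' (P : Subgroup G) := by
        apply Subgroup.isComplement'_of_disjoint_and_mul_eq_univ hdisj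
        rw [← Subgroup.normal_mul, hKP]
        rfl
      refine ⟨?_, P, K, hKn, hcompl⟩
      rw [hcnt, Set.ncard_eq_three]
      refine ⟨_, _, _, ?_, ?_, ?_, rfl⟩
      · intro h
        exact hA0 (ConjClasses.mk_eq_mk_iff_isConj.mp h).symm
      · intro h
        exact hA1 (ConjClasses.mk_eq_mk_iff_isConj.mp h).symm
      · intro h
        obtain ⟨g, hg⟩ := isConj_iff.mp (ConjClasses.mk_eq_mk_iff_isConj.mp h)
        have hgtop : g ∈ K ⊔ (P : Subgroup G) := by rw [hKP]; trivial
        have hnorm : (P : Subgroup G) ≤ Subgroup.normalizer (K : Set G) := by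
          rw [Subgroup.normalizer_eq_top]; exact le_top
        obtain ⟨k, hk, p, hp, rfl⟩ := Cfsg.Agent.Lib.Helper7.exists_mul_of_mem_sup hnorm hgtop
        have hx'P : p * θ (sr 0) * p⁻¹ ∈ (P : Subgroup G) :=
          Subgroup.mul_mem _ (Subgroup.mul_mem _ hp (hθP _)) (Subgroup.inv_mem _ hp)
        have hmem : θ (sr 1) * (p * θ (sr 0) * p⁻¹)⁻¹ ∈ K ⊓ (P : Subgroup G) := by
          refine Subgroup.mem_inf.2 ⟨?_, Subgroup.mul_mem _ (hθP _) (Subgroup.inv_mem _ hx'P)⟩
          have e1 : θ (sr 1) * (p * θ (sr 0) * p⁻¹)⁻¹ =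
              k * ((p * θ (sr 0) * p⁻¹) * k⁻¹ * (p * θ (sr 0) * p⁻¹)⁻¹) := by
            rw [← hg]; group
          rw [e1]
          exact K.mul_mem hk (hKn.conj_mem _ (K.inv_mem hk) _)
        rw [hdisj.eq_bot, Subgroup.mem_bot] at hmem
        have heq : θ (sr 1) = p * θ (sr 0) * p⁻¹ := mul_inv_eq_one.mp hmem
        obtain ⟨d, rfl⟩ := (hP p).mp hp
        rw [← map_inv, ← map_mul, ← map_mul] at heq
        have heq' := hθ heq
        have h3 := congrArg (fhom h2 0) heq'
        rw [map_mul, map_mul, map_inv, mul_comm, inv_mul_cancel_left] at h3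
        rw [fhom_apply, fhom_apply] at h3
        have h4 : fval h2 0 (sr 1) = fval h2 0 (sr 0) := Multiplicative.ofAdd.injective h3
        have h5 : par h2 (1 : ZMod m) + 0 = par h2 (0 : ZMod m) + 0 := h4
        rw [add_zero, add_zero] at h5
        exact hpar01 h5.symm

/-- Let G be a finite group whose Sylow 2-subgroups are dihedral of order 2 ^ n with n ≥ 3, and count the conjugacy classes of involutions of G. Then exactly one of the following holds: there is one class of involutions and no normal subgroup of index 2; there are two classes of involutions, a normal subgroup of index 2 and none of index 4; there are three classes of involutions and G has a normal 2-complement. -/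
theorem result {G : Type*} [Group G] [Finite G] (P : Sylow 2 G) (n : ℕ) (hn : 3 ≤ n) (hdih : Nonempty (↥(P : Subgroup G) ≃* DihedralGroup (2 ^ (n - 1)))) : (Nat.card {C : ConjClasses G // ∃ g : G, ConjClasses.mk g = C ∧ orderOf g = 2} = 1 ∧ ∀ N : Subgroup G, N.Normal → N.index ≠ 2) ∨ (Nat.card {C : ConjClasses G // ∃ g : G, ConjClasses.mk g = C ∧ orderOf g = 2} = 2 ∧ (∃ N : Subgroup G, N.Normal ∧ N.index = 2) ∧ ∀ N : Subgroup G, N.Normal → N.index ≠ 4) ∨ (Nat.card {C : ConjClasses G // ∃ g : G, ConjClasses.mk g = C ∧ orderOf g = 2} = 3 ∧ Cfsg.HasNormalPComplement 2 G) := by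
  obtain ⟨e⟩ := hdih
  have hm : 4 ∣ 2 ^ (n - 1) := by
    obtain ⟨k, rfl⟩ : ∃ k, n = k + 3 := ⟨n - 3, by omega⟩
    have : k + 3 - 1 = k + 2 := by omega
    rw [this, pow_add]
    exact Dvd.intro_left _ rfl
  haveI : NeZero (2 ^ (n - 1)) := ⟨by positivity⟩
  exact main P (2 ^ (n - 1)) hm e

end Cfsg.Agent.S3864
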