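import Cfsg.Statements.S3869
import Cfsg.Agent.Lib.Helper6.MinPC

set_option autoImplicit false
open Cfsg

namespace Cfsg.Agent.S3869

/-- Let p and q be distinct primes and G a finite non-abelian group with a normal elementary abelian q-subgroup A that is a minimal normal subgroup of G and has index p. Then A has order q^e with e the multiplicative order of q modulo p, and G is minimal non-p-closed: its Sylow p-subgroups are not normal, while in every proper subgroup and in every proper quotient of G the Sylow p-subgroups are normal. -/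
theorem result {G : Type*} [Group G] [Finite G] {p q : ℕ} [Fact p.Prime] (hq : q.Prime) (hpq : q ≠ p)
    (hna : ¬ IsMulCommutative G) (A : Subgroup G) [A.Normal] (hA : Cfsg.IsElementaryAbelian q A) (hidx : A.index = p)
    (hmin : ∀ B : Subgroup G, B.Normal → B ≤ A → B = ⊥ ∨ B = A) :
    Nat.card ↥A = q ^ orderOf (q : ZMod p) ∧ ¬ Cfsg.IsPClosed p G ∧ (∀ H : Subgroup G, H ≠ ⊤ → Cfsg.IsPClosed p ↥H) ∧
      ∀ (N : Subgroup G) [N.Normal], N ≠ ⊥ → Cfsg.IsPClosed p (G ⧸ N) := by
  classical
  have hpp : p.Prime := Fact.out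
  haveI : Fact q.Prime := ⟨hq⟩
  have hAcomm := hA.1
  have hAq := hA.2
  have hAc : ∀ a ∈ A, ∀ b ∈ A, a * b = b * a := by
    intro a ha b hb
    have := mul_comm' (⟨a, ha⟩ : A) ⟨b, hb⟩
    exact congrArg Subtype.val this
  have key : ∀ y : G, y ∉ A → ¬ (∀ a ∈ A, y * a = a * y) := fun y hy hc =>
    hna (Cfsg.Agent.Lib.Helper6.mpc_comm_of_central hpp A hAc hidx y hy hc)
  have hpdvd : p ∣ Nat.card G := by rw [← hidx]; exact A.index_dvd_card
  have hAqg : IsPGroup q A := by
    intro a
    refine ⟨1, ?_⟩
    rw [pow_one]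
    exact Subtype.ext (by simpa using hAq _ a.2)
  refine ⟨Cfsg.Agent.Lib.Helper6.mpc_card hq hpq hna A hA hidx hmin, ?_, ?_, ?_⟩
  · -- not p-closed
    intro hcl
    obtain ⟨P⟩ : Nonempty (Sylow p G) := inferInstance
    have hPn : (P : Subgroup G).Normal := hcl P
    have hPne : (P : Subgroup G) ≠ ⊥ := P.ne_bot_of_dvd_card hpdvd
    obtain ⟨y, hy1⟩ := (Subgroup.ne_bot_iff_exists_ne_one).mp hPne
    have hdis : Disjoint (P : Subgroup G) A :=
      IsPGroup.disjoint_of_ne p q hpq.symm _ _ P.2 hAqg
    have hyA : (y : G) ∉ A := by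
      intro hyA
      have : (y : G) ∈ (P : Subgroup G) ⊓ A := ⟨y.2, hyA⟩
      rw [hdis.eq_bot, Subgroup.mem_bot] at this
      exact hy1 (Subtype.ext this)
    apply key y hyA
    intro a ha
    exact (Subgroup.commute_of_normal_of_disjoint _ _ hPn inferInstance hdis y a y.2 ha)
  · -- proper subgroups
    intro H hH
    by_cases hHA : H ≤ A
    · apply Cfsg.Agent.Lib.Helper6.mpc_pclosed_of_not_dvd
      intro hd
      obtain ⟨y, hy⟩ := exists_prime_orderOf_dvd_card' p hd
      have h1 : (y : G) ^ q = 1 := hAq _ (hHA y.2)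
      have h2 : orderOf (y : G) ∣ q := orderOf_dvd_of_pow_eq_one h1
      rw [Subgroup.orderOf_coe, hy] at h2
      exact hpq ((Nat.prime_dvd_prime_iff_eq hpp hq).mp h2).symm
    · obtain ⟨y, hyH, hyA⟩ := SetLike.not_le_iff_exists.mp hHA
      have htop := Cfsg.Agent.Lib.Helper6.mpc_sup_top hpp A hidx y hyA
      have hBn : (H ⊓ A).Normal := Cfsg.Agent.Lib.Helper6.mpc_normal_of_gens (H ⊓ A)
        ((A : Set G) ∪ {y}) htop (by
          rintro g (hg | hg) b ⟨hbH, hbA⟩
          · have : g * b * g⁻¹ = b := by rw [hAc g hg b hbA]; group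
            rw [this]; exact ⟨hbH, hbA⟩
          · rw [Set.mem_singleton_iff] at hg; subst hg
            exact ⟨H.mul_mem (H.mul_mem hyH hbH) (H.inv_mem hyH),
              (inferInstance : A.Normal).conj_mem b hbA g⟩)
      rcases hmin (H ⊓ A) hBn inf_le_right with h | h
      · apply Cfsg.Agent.Lib.Helper6.mpc_pclosed_of_card_dvd
        have hinj : Function.Injective ((QuotientGroup.mk' A).comp H.subtype) := by
          rw [injective_iff_map_eq_one]
          intro a ha
          have h1 : (a : G) ∈ A := by
            have : ((a : G) : G ⧸ A) = 1 := ha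
            exact (QuotientGroup.eq_one_iff _).mp this
          have h2 : (a : G) ∈ H ⊓ A := ⟨a.2, h1⟩
          rw [h, Subgroup.mem_bot] at h2
          exact Subtype.ext h2
        have := Subgroup.card_dvd_of_injective _ hinj
        rw [← Subgroup.index_eq_card, hidx] at this
        exact this
      · exfalso
        apply hH
        apply top_le_iff.mp
        rw [← htop, Subgroup.closure_le]
        rintro g (hg | hg)
        · have : g ∈ H ⊓ A := by rw [h]; exact hg
          exact this.1
        · rw [Set.mem_singleton_iff] at hg; subst hg; exact hyH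
  · -- proper quotients
    intro N hNn hN
    have hAN : A ≤ N := by
      rcases hmin (N ⊓ A) inferInstance inf_le_right with h | h
      · exfalso
        obtain ⟨y, hy1⟩ := (Subgroup.ne_bot_iff_exists_ne_one).mp hN
        have hdis : Disjoint N A := disjoint_iff.mpr h
        have hyA : (y : G) ∉ A := by
          intro hyA
          have : (y : G) ∈ N ⊓ A := ⟨y.2, hyA⟩
          rw [h, Subgroup.mem_bot] at this
          exact hy1 (Subtype.ext this)
        apply key y hyA
        intro a ha
        exact (Subgroup.commute_of_normal_of_disjoint _ _ hNn inferInstance hdis y a y.2 ha)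
      · intro a ha
        have : a ∈ N ⊓ A := by rw [h]; exact ha
        exact this.1
    apply Cfsg.Agent.Lib.Helper6.mpc_pclosed_of_card_dvd
    rw [← Subgroup.index_eq_card, ← hidx]
    exact Subgroup.index_dvd_of_le hAN

end Cfsg.Agent.S3869
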