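import Mathlib
import Cfsg.Statements.S3870
import Cfsg.Agent.Lib.Helper8.Basic

set_option autoImplicit false
open Cfsg

namespace Cfsg.Agent.S3870

open Cfsg.Agent.Lib.Helper8

theorem sup_isPGroup_of_pclosed {G : Type*} [Group G] [Finite G] {p : ℕ} [Fact p.Prime]
    (H : Subgroup G) (hH : Cfsg.IsPClosed p ↥H) (A B : Subgroup G) (hA : IsPGroup p A)
    (hB : IsPGroup p B) (hAH : A ≤ H) (hBH : B ≤ H) : IsPGroup p (A ⊔ B : Subgroup G) := by
  obtain ⟨A', hA'⟩ := (hA.comap_subtype (K := H)).exists_le_sylow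
  obtain ⟨B', hB'⟩ := (hB.comap_subtype (K := H)).exists_le_sylow
  have hAB : B' = A' := by
    obtain ⟨g, hg⟩ := MulAction.exists_smul_eq H A' B'
    haveI : (A' : Subgroup H).Normal := hH A'
    rw [← hg]
    exact Sylow.smul_eq_of_normal
  have hT : IsPGroup p ((A' : Subgroup H).map H.subtype) := A'.isPGroup'.map _
  apply hT.to_le
  rw [sup_le_iff]
  constructor
  · intro a ha
    exact ⟨⟨a, hAH ha⟩, hA' ha, rfl⟩
  · intro b hb
    rw [← hAB]
    exact ⟨⟨b, hBH hb⟩, hB' hb, rfl⟩

/-- Let G be a finite simple group whose Sylow p-subgroups are not normal but such that every proper subgroup of G has a normal Sylow p-subgroup. Then any two distinct Sylow p-subgroups of G intersect trivially, and for every Sylow p-subgroup P the normalizer of every non-identity subgroup of P lies in the normalizer of P. -/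
theorem result {G : Type*} [Group G] [Finite G] [IsSimpleGroup G] {p : ℕ} [Fact p.Prime]
    (hnc : ¬ Cfsg.IsPClosed p G) (hsub : ∀ H : Subgroup G, H ≠ ⊤ → Cfsg.IsPClosed p ↥H) :
    (∀ P Q : Sylow p G, P ≠ Q → (P : Subgroup G) ⊓ (Q : Subgroup G) = ⊥) ∧
      ∀ (P : Sylow p G) (R : Subgroup G), R ≤ P → R ≠ ⊥ →
        Subgroup.normalizer (R : Set G) ≤ Subgroup.normalizer ((P : Subgroup G) : Set G) := by
  classical
  have hF0 : ∀ R : Subgroup G, IsPGroup p R → R ≠ ⊥ → Subgroup.normalizer (R : Set G) ≠ ⊤ := by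
    intro R hR hne htop
    have hn : R.Normal := Subgroup.normalizer_eq_top_iff.1 htop
    rcases hn.eq_bot_or_eq_top with h | h
    · exact hne h
    · apply hnc
      intro P
      have hP : (⊤ : Subgroup G) = P := P.is_maximal' (h ▸ hR) le_top
      rw [← hP]; infer_instance
  have key : ∀ n : ℕ, ∀ P Q : Sylow p G, P ≠ Q → (P : Subgroup G) ⊓ Q ≠ ⊥ →
      Nat.card G - Nat.card ((P : Subgroup G) ⊓ Q : Subgroup G) = n → False := by
    intro n
    induction n using Nat.strong_induction_on with
    | _ n ih =>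
      intro P Q hPQ hD hn
      set D : Subgroup G := (P : Subgroup G) ⊓ Q with hDdef
      have hDp : IsPGroup p D := P.isPGroup'.to_le inf_le_left
      have hDP : D ≠ (P : Subgroup G) := by
        intro h
        have hle : (P : Subgroup G) ≤ Q := by rw [← h]; exact inf_le_right
        exact hPQ (Sylow.ext (P.is_maximal' Q.isPGroup' hle).symm)
      have hDQ : D ≠ (Q : Subgroup G) := by
        intro h
        have hle : (Q : Subgroup G) ≤ P := by rw [← h]; exact inf_le_left
        exact hPQ (Sylow.ext (Q.is_maximal' P.isPGroup' hle))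
      obtain ⟨a, haP, haN, haD⟩ := h8_normalizer_growth P.isPGroup' inf_le_left hDP
      obtain ⟨b, hbQ, hbN, hbD⟩ := h8_normalizer_growth Q.isPGroup' inf_le_right hDQ
      have hH : Subgroup.normalizer (D : Set G) ≠ ⊤ := hF0 D hDp hD
      have hsup := sup_isPGroup_of_pclosed (Subgroup.normalizer (D : Set G)) (hsub _ hH)
        ((P : Subgroup G) ⊓ Subgroup.normalizer (D : Set G))
        ((Q : Subgroup G) ⊓ Subgroup.normalizer (D : Set G))
        (P.isPGroup'.to_le inf_le_left) (Q.isPGroup'.to_le inf_le_left) inf_le_right inf_le_right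
      obtain ⟨P', hP'⟩ := hsup.exists_le_sylow
      have step : ∀ (P₀ : Sylow p G) (c : G), c ∈ (P₀ : Subgroup G) →
          c ∈ Subgroup.normalizer (D : Set G) → c ∉ D → D ≤ (P₀ : Subgroup G) →
          ((P₀ : Subgroup G) ⊓ Subgroup.normalizer (D : Set G) ≤ (P' : Subgroup G)) → P' = P₀ := by
        intro P₀ c hc hcN hcD hDP₀ hle
        by_contra hne
        have hDle : D ≤ (P' : Subgroup G) ⊓ P₀ :=
          le_inf (fun d hd => hle ⟨hDP₀ hd, Subgroup.le_normalizer hd⟩) hDP₀
        have hcmem : c ∈ (P' : Subgroup G) ⊓ P₀ := ⟨hle ⟨hc, hcN⟩, hc⟩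
        have hcard : Nat.card D < Nat.card ((P' : Subgroup G) ⊓ P₀ : Subgroup G) := by
          by_contra hnot
          have := Subgroup.eq_of_le_of_card_ge hDle (not_lt.1 hnot)
          exact hcD (this ▸ hcmem)
        refine ih (Nat.card G - Nat.card ((P' : Subgroup G) ⊓ P₀ : Subgroup G)) ?_ P' P₀ hne ?_ rfl
        · have := Subgroup.card_le_card_group ((P' : Subgroup G) ⊓ P₀)
          omega
        · intro h
          rw [h] at hDle
          exact hD (le_bot_iff.1 hDle)
      have e1 := step P a haP haN haD inf_le_left (le_trans le_sup_left hP')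
      have e2 := step Q b hbQ hbN hbD inf_le_right (le_trans le_sup_right hP')
      exact hPQ (e1.symm.trans e2)
  have hTI : ∀ P Q : Sylow p G, P ≠ Q → (P : Subgroup G) ⊓ (Q : Subgroup G) = ⊥ := by
    intro P Q hPQ
    by_contra h
    exact key _ P Q hPQ h rfl
  refine ⟨hTI, ?_⟩
  intro P R hRP hR g hg
  refine Sylow.smul_eq_iff_mem_normalizer.1 ?_
  by_contra hne
  have h0 := hTI P (g • P) (fun h => hne h.symm)
  apply hR
  rw [← le_bot_iff, ← h0]
  refine le_inf hRP ?_
  intro r hr
  rw [h8_mem_smul_sylow]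
  apply hRP
  have hg' := Subgroup.inv_mem _ hg
  rw [Subgroup.mem_normalizer_iff] at hg'
  have := (hg' r).1 hr
  simpa using this

end Cfsg.Agent.S3870
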