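import Mathlib
import Cfsg.Statements.S3889

set_option autoImplicit false
open Cfsg

namespace Cfsg.Agent.S3889

/-- A finite abelian group that is the union of a family of proper subgroups any two of which intersect trivially is elementary abelian: its exponent is a prime. -/
theorem result {G : Type*} [CommGroup G] [Finite G] (𝓑 : Set (Subgroup G)) (hprop : ∀ B ∈ 𝓑, B ≠ ⊤)
    (hcov : ∀ g : G, ∃ B ∈ 𝓑, g ∈ B) (hdisj : ∀ B ∈ 𝓑, ∀ C ∈ 𝓑, B ≠ C → B ⊓ C = ⊥) :
    (Monoid.exponent G).Prime := by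
  have key : ∀ a b : G, ∀ B ∈ 𝓑, ∀ C ∈ 𝓑, a ∈ B → b ∈ C → B ≠ C → a ≠ 1 → b ^ orderOf a = 1 := by
    intro a b B hB C hC ha hb hBC ha1
    by_contra hne
    obtain ⟨D, hD, habD⟩ := hcov (a * b)
    have h1 : (a * b) ^ orderOf a = b ^ orderOf a := by
      rw [mul_pow, pow_orderOf_eq_one, one_mul]
    have h2 : b ^ orderOf a ∈ D := by rw [← h1]; exact D.pow_mem habD _
    have h3 : b ^ orderOf a ∈ C := C.pow_mem hb _
    by_cases hDC : D = C
    · subst hDC
      have : a ∈ D := by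
        have := D.mul_mem habD (D.inv_mem hb)
        simpa using this
      have h4 : a ∈ B ⊓ D := ⟨ha, this⟩
      rw [hdisj B hB D hD hBC] at h4
      exact ha1 (Subgroup.mem_bot.mp h4)
    · have h4 : b ^ orderOf a ∈ D ⊓ C := ⟨h2, h3⟩
      rw [hdisj D hD C hC hDC] at h4
      exact hne (Subgroup.mem_bot.mp h4)
  have key2 : ∀ a b : G, ∀ B ∈ 𝓑, ∀ C ∈ 𝓑, a ∈ B → b ∈ C → B ≠ C → a ≠ 1 → b ≠ 1 →
      orderOf a = orderOf b := by
    intro a b B hB C hC ha hb hBC ha1 hb1
    apply Nat.dvd_antisymm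
    · exact orderOf_dvd_of_pow_eq_one (key b a C hC B hB hb ha (Ne.symm hBC) hb1)
    · exact orderOf_dvd_of_pow_eq_one (key a b B hB C hC ha hb hBC ha1)
  have hout : ∀ B ∈ 𝓑, ∃ y : G, y ∉ B := by
    intro B hB
    by_contra hcon
    push_neg at hcon
    exact hprop B hB (eq_top_iff.mpr fun y _ => hcon y)
  obtain ⟨B₀, hB₀, -⟩ := hcov 1
  obtain ⟨x, hx⟩ := hout B₀ hB₀
  have hx1 : x ≠ 1 := fun h => hx (h ▸ B₀.one_mem)
  obtain ⟨C₀, hC₀, hxC⟩ := hcov x
  have hall : ∀ g : G, g ≠ 1 → orderOf g = orderOf x := by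
    intro g hg
    obtain ⟨B, hB, hgB⟩ := hcov g
    by_cases hBC : B = C₀
    · subst hBC
      obtain ⟨y, hy⟩ := hout B hB
      have hy1 : y ≠ 1 := fun h => hy (h ▸ B.one_mem)
      obtain ⟨D, hD, hyD⟩ := hcov y
      have hDB : D ≠ B := fun h => hy (h ▸ hyD)
      rw [key2 g y B hB D hD hgB hyD (Ne.symm hDB) hg hy1,
        key2 y x D hD B hB hyD hxC hDB hy1 hx1]
    · exact key2 g x B hB C₀ hC₀ hgB hxC hBC hg hx1
  have hn1 : orderOf x ≠ 1 := fun h => hx1 (orderOf_eq_one_iff.mp h)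
  have hn0 : orderOf x ≠ 0 := (orderOf_pos x).ne'
  have hprime : (orderOf x).Prime := by
    have hq := Nat.minFac_prime hn1
    have hdvd := Nat.minFac_dvd (orderOf x)
    have h1 : orderOf (x ^ (orderOf x / (orderOf x).minFac)) = (orderOf x).minFac :=
      orderOf_pow_orderOf_div hn0 hdvd
    have h2 : x ^ (orderOf x / (orderOf x).minFac) ≠ 1 := by
      intro h
      rw [h, orderOf_one] at h1
      exact hq.one_lt.ne h1
    rw [hall _ h2] at h1
    rw [h1]
    exact hq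
  have hexp : Monoid.exponent G = orderOf x := by
    apply Nat.dvd_antisymm
    · apply Monoid.exponent_dvd_of_forall_pow_eq_one
      intro g
      by_cases hg : g = 1
      · rw [hg, one_pow]
      · rw [← hall g hg, pow_orderOf_eq_one]
    · exact Monoid.order_dvd_exponent x
  rw [hexp]
  exact hprime

end Cfsg.Agent.S3889
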