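import Mathlib
import Cfsg.Statements.S3891

set_option autoImplicit false
set_option linter.unusedSectionVars false
set_option linter.style.haveILetI false

open Cfsg

namespace Cfsg.Agent.S3891

open scoped Pointwise

/-- at most one member of a minimal cover lies in a given proper subgroup -/
theorem le_unique {G : Type*} [Group G] (𝓐 : Finset (Subgroup G))
    (hprop : ∀ A ∈ 𝓐, A ≠ ⊤) (hcov : ∀ g : G, ∃ A ∈ 𝓐, g ∈ A)
    (hmin : ∀ 𝓑 : Finset (Subgroup G), (∀ A ∈ 𝓑, A ≠ ⊤) ∧ (∀ g : G, ∃ A ∈ 𝓑, g ∈ A) → 𝓐.card ≤ 𝓑.card)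
    (C : Subgroup G) (hC : C ≠ ⊤) (A₁ A₂ : Subgroup G) (h1 : A₁ ∈ 𝓐) (h2 : A₂ ∈ 𝓐)
    (h1C : A₁ ≤ C) (h2C : A₂ ≤ C) : A₁ = A₂ := by
  classical
  by_contra hne
  have h2' : A₂ ∈ 𝓐.erase A₁ := Finset.mem_erase.mpr ⟨fun h => hne h.symm, h2⟩
  have hB := hmin (insert C ((𝓐.erase A₁).erase A₂)) ⟨?_, ?_⟩
  · have c1 : (𝓐.erase A₁).card = 𝓐.card - 1 := Finset.card_erase_of_mem h1
    have c2 : ((𝓐.erase A₁).erase A₂).card = (𝓐.erase A₁).card - 1 := Finset.card_erase_of_mem h2'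
    have c3 : (insert C ((𝓐.erase A₁).erase A₂)).card ≤ ((𝓐.erase A₁).erase A₂).card + 1 :=
      Finset.card_insert_le _ _
    have c4 : 1 ≤ (𝓐.erase A₁).card := Finset.card_pos.mpr ⟨A₂, h2'⟩
    have c5 : 1 ≤ 𝓐.card := Finset.card_pos.mpr ⟨A₁, h1⟩
    omega
  · intro A hA
    rcases Finset.mem_insert.mp hA with h | hA
    · rw [h]; exact hC
    · exact hprop A (Finset.mem_of_mem_erase (Finset.mem_of_mem_erase hA))
  · intro g
    obtain ⟨A, hA, hgA⟩ := hcov g
    by_cases e1 : A = A₁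
    · exact ⟨C, Finset.mem_insert_self _ _, h1C (e1 ▸ hgA)⟩
    by_cases e2 : A = A₂
    · exact ⟨C, Finset.mem_insert_self _ _, h2C (e2 ▸ hgA)⟩
    exact ⟨A, Finset.mem_insert_of_mem (Finset.mem_erase.mpr ⟨e2, Finset.mem_erase.mpr ⟨e1, hA⟩⟩), hgA⟩

/-- a nilpotent subgroup centralizes each of its `p`-elements when Sylow `p`-subgroups are abelian -/
theorem cent_of_pelt {G : Type*} [Group G] [Finite G] {p : ℕ} [Fact p.Prime]
    (habAll : ∀ Q : Sylow p G, ∀ a ∈ (Q : Subgroup G), ∀ b ∈ (Q : Subgroup G), a * b = b * a)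
    (B : Subgroup G) (hB : Group.IsNilpotent ↥B) (z : G) (hzB : z ∈ B) (k : ℕ) (hz : z ^ (p ^ k) = 1) :
    ∀ b ∈ B, b * z = z * b := by
  classical
  haveI := hB
  obtain ⟨S⟩ : Nonempty (Sylow p ↥B) := inferInstance
  haveI hSn : (S : Subgroup ↥B).Normal := inferInstance
  have hzp : IsPGroup p (Subgroup.zpowers (⟨z, hzB⟩ : ↥B)) := by
    rintro ⟨g, hg⟩
    obtain ⟨i, rfl⟩ := Subgroup.mem_zpowers_iff.mp hg
    refine ⟨k, Subtype.ext (Subtype.ext ?_)⟩
    show (z ^ i) ^ (p ^ k) = 1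
    rw [← zpow_natCast, ← zpow_mul, mul_comm, zpow_mul, zpow_natCast, hz, one_zpow]
  have hzS : (⟨z, hzB⟩ : ↥B) ∈ (S : Subgroup ↥B) := by
    have hT : IsPGroup p ((S : Subgroup ↥B) ⊔ Subgroup.zpowers (⟨z, hzB⟩ : ↥B) : Subgroup ↥B) :=
      IsPGroup.to_sup_of_normal_left S.isPGroup' hzp
    have := S.is_maximal' hT le_sup_left
    have h2 : (⟨z, hzB⟩ : ↥B) ∈ ((S : Subgroup ↥B) ⊔ Subgroup.zpowers (⟨z, hzB⟩ : ↥B) : Subgroup ↥B) :=
      (le_sup_right : Subgroup.zpowers (⟨z, hzB⟩ : ↥B) ≤ _) (Subgroup.mem_zpowers _)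
    rw [this] at h2
    exact h2
  obtain ⟨Q, hQ⟩ := (S.isPGroup'.map B.subtype).exists_le_sylow
  have hSab : ∀ a ∈ (S : Subgroup ↥B), ∀ b ∈ (S : Subgroup ↥B), a * b = b * a := by
    intro a ha b hb
    have := habAll Q (a : G) (hQ ⟨a, ha, rfl⟩) (b : G) (hQ ⟨b, hb, rfl⟩)
    exact Subtype.ext this
  have hCtop : Subgroup.centralizer ({(⟨z, hzB⟩ : ↥B)} : Set ↥B) = ⊤ := by
    rw [← Subgroup.index_eq_one]
    by_contra hne
    obtain ⟨q, hq, hqd⟩ := Nat.exists_prime_and_dvd hne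
    haveI : Fact q.Prime := ⟨hq⟩
    by_cases hqp : q = p
    · have hle : (S : Subgroup ↥B) ≤ Subgroup.centralizer ({(⟨z, hzB⟩ : ↥B)} : Set ↥B) := by
        intro b hb
        rw [Subgroup.mem_centralizer_iff]
        intro h hh
        rw [Set.mem_singleton_iff] at hh
        rw [hh]
        exact hSab _ hzS b hb
      rw [hqp] at hqd
      exact S.not_dvd_index (hqd.trans (Subgroup.index_dvd_of_le hle))
    · obtain ⟨Sq⟩ : Nonempty (Sylow q ↥B) := inferInstance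
      haveI hSqn : (Sq : Subgroup ↥B).Normal := inferInstance
      have hdis : Disjoint (Sq : Subgroup ↥B) (S : Subgroup ↥B) :=
        IsPGroup.disjoint_of_ne q p hqp _ _ Sq.isPGroup' S.isPGroup'
      have hle : (Sq : Subgroup ↥B) ≤ Subgroup.centralizer ({(⟨z, hzB⟩ : ↥B)} : Set ↥B) := by
        intro b hb
        rw [Subgroup.mem_centralizer_iff]
        intro h hh
        rw [Set.mem_singleton_iff] at hh
        rw [hh]
        exact (Subgroup.commute_of_normal_of_disjoint _ _ hSqn hSn hdis b _ hb hzS).eq.symm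
      exact Sq.not_dvd_index (hqd.trans (Subgroup.index_dvd_of_le hle))
  intro b hb
  have hb' : (⟨b, hb⟩ : ↥B) ∈ Subgroup.centralizer ({(⟨z, hzB⟩ : ↥B)} : Set ↥B) := by
    rw [hCtop]; trivial
  rw [Subgroup.mem_centralizer_iff] at hb'
  have := hb' _ (Set.mem_singleton _)
  exact (congrArg Subtype.val this).symm

/-- a nontrivial `p`-element lies in exactly one member of a nilpotent minimal cover -/
theorem uniq {G : Type*} [Group G] [Finite G] (hZ : Subgroup.center G = ⊥) (𝓐 : Finset (Subgroup G))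
    (hprop : ∀ A ∈ 𝓐, A ≠ ⊤) (hcov : ∀ g : G, ∃ A ∈ 𝓐, g ∈ A)
    (hmin : ∀ 𝓑 : Finset (Subgroup G), (∀ A ∈ 𝓑, A ≠ ⊤) ∧ (∀ g : G, ∃ A ∈ 𝓑, g ∈ A) → 𝓐.card ≤ 𝓑.card)
    (hnil : ∀ A ∈ 𝓐, Group.IsNilpotent ↥A) {p : ℕ} [Fact p.Prime]
    (habAll : ∀ Q : Sylow p G, ∀ a ∈ (Q : Subgroup G), ∀ b ∈ (Q : Subgroup G), a * b = b * a)
    (z : G) (hz1 : z ≠ 1) (k : ℕ) (hz : z ^ (p ^ k) = 1) (A₁ A₂ : Subgroup G) (h1 : A₁ ∈ 𝓐) (h2 : A₂ ∈ 𝓐)
    (hz1A : z ∈ A₁) (hz2A : z ∈ A₂) : A₁ = A₂ := by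
  have hC : Subgroup.centralizer ({z} : Set G) ≠ ⊤ := by
    intro hC
    apply hz1
    have : z ∈ Subgroup.center G := by
      rw [Subgroup.mem_center_iff]
      intro g
      have hg : g ∈ Subgroup.centralizer ({z} : Set G) := by rw [hC]; trivial
      rw [Subgroup.mem_centralizer_iff] at hg
      exact (hg z (Set.mem_singleton _)).symm
    rw [hZ] at this
    exact Subgroup.mem_bot.mp this
  have key : ∀ A ∈ 𝓐, z ∈ A → A ≤ Subgroup.centralizer ({z} : Set G) := by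
    intro A hA hzA b hb
    rw [Subgroup.mem_centralizer_iff]
    intro h hh
    rw [Set.mem_singleton_iff] at hh
    rw [hh]
    exact (cent_of_pelt habAll A (hnil A hA) z hzA k hz b hb).symm
  exact le_unique 𝓐 hprop hcov hmin _ hC A₁ A₂ h1 h2 (key A₁ h1 hz1A) (key A₂ h2 hz2A)

theorem mem_zp {G : Type*} [Group G] (x h : G) (hc : Commute x h)
    (hco : (orderOf h).Coprime (orderOf x)) : x ∈ Subgroup.zpowers (x * h) := by
  obtain ⟨m, hm⟩ := exists_pow_eq_self_of_coprime hco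
  have h1 : (x * h) ^ (orderOf h) = x ^ (orderOf h) := by
    rw [hc.mul_pow, pow_orderOf_eq_one, mul_one]
  have h2 : (x ^ orderOf h) ^ m ∈ Subgroup.zpowers (x * h) := by
    rw [← h1]
    exact (Subgroup.zpowers (x * h)).pow_mem ((Subgroup.zpowers (x * h)).pow_mem (Subgroup.mem_zpowers _) _) _
  rwa [hm] at h2

theorem mem_of_parts {G : Type*} [Group G] (A : Subgroup G) (g : G) (s t : ℕ) (hst : s.Coprime t)
    (hs : g ^ s ∈ A) (ht : g ^ t ∈ A) : g ∈ A := by
  have hb := Nat.gcd_eq_gcd_ab s t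
  rw [Nat.Coprime.gcd_eq_one hst] at hb
  have h1 : (g ^ s) ^ (Nat.gcdA s t) * (g ^ t) ^ (Nat.gcdB s t) = g := by
    rw [← zpow_natCast g s, ← zpow_natCast g t, ← zpow_mul, ← zpow_mul, ← zpow_add, ← hb]
    simp
  rw [← h1]
  exact A.mul_mem (A.zpow_mem hs _) (A.zpow_mem ht _)

/-- a `p`-element centralizing a Sylow `p`-subgroup lies in it -/
theorem mem_sylow_of_comm {G : Type*} [Group G] [Finite G] {p : ℕ} [Fact p.Prime] (P : Sylow p G)
    (u : G) (hu : ∀ y ∈ (P : Subgroup G), y * u = u * y) (k : ℕ) (huk : u ^ (p ^ k) = 1) :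
    u ∈ (P : Subgroup G) := by
  have hzp : IsPGroup p (Subgroup.zpowers u) := by
    rintro ⟨g, hg⟩
    obtain ⟨i, rfl⟩ := Subgroup.mem_zpowers_iff.mp hg
    refine ⟨k, Subtype.ext ?_⟩
    show (u ^ i) ^ (p ^ k) = 1
    rw [← zpow_natCast, ← zpow_mul, mul_comm, zpow_mul, zpow_natCast, huk, one_zpow]
  have hle : Subgroup.zpowers u ≤ Subgroup.normalizer ((P : Subgroup G) : Set G) := by
    rw [Subgroup.zpowers_le]
    apply Subgroup.centralizer_le_normalizer
    rw [Subgroup.mem_centralizer_iff]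
    exact hu
  have hT : IsPGroup p (Subgroup.zpowers u ⊔ (P : Subgroup G) : Subgroup G) :=
    IsPGroup.to_sup_of_normal_right' hzp P.isPGroup' hle
  have := P.is_maximal' hT le_sup_right
  have h2 : u ∈ (Subgroup.zpowers u ⊔ (P : Subgroup G) : Subgroup G) :=
    (le_sup_left : Subgroup.zpowers u ≤ _) (Subgroup.mem_zpowers u)
  rw [this] at h2
  exact h2

theorem mem_smul_iff {G : Type*} [Group G] {p : ℕ} (P : Sylow p G) (g a : G) :
    a ∈ ((g • P : Sylow p G) : Subgroup G) ↔ g⁻¹ * a * g ∈ (P : Subgroup G) := by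
  rw [Sylow.coe_subgroup_smul, Subgroup.mem_pointwise_smul_iff_inv_smul_mem]
  simp [MulAut.smul_def]

/-- the centralizer of a Sylow `p`-subgroup (abelian; cyclic or not elementary) is a member of the cover -/
theorem key {G : Type*} [Group G] [Finite G] (hZ : Subgroup.center G = ⊥) (𝓐 : Finset (Subgroup G))
    (hprop : ∀ A ∈ 𝓐, A ≠ ⊤) (hcov : ∀ g : G, ∃ A ∈ 𝓐, g ∈ A)
    (hmin : ∀ 𝓑 : Finset (Subgroup G), (∀ A ∈ 𝓑, A ≠ ⊤) ∧ (∀ g : G, ∃ A ∈ 𝓑, g ∈ A) → 𝓐.card ≤ 𝓑.card)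
    (hnil : ∀ A ∈ 𝓐, Group.IsNilpotent ↥A) {p : ℕ} [Fact p.Prime]
    (habAll : ∀ Q : Sylow p G, ∀ a ∈ (Q : Subgroup G), ∀ b ∈ (Q : Subgroup G), a * b = b * a)
    (P : Sylow p G) (hne : ∃ z ∈ (P : Subgroup G), z ≠ 1)
    (hcase : (∃ x ∈ (P : Subgroup G), ∀ y ∈ (P : Subgroup G), y ∈ Subgroup.zpowers x) ∨
      (∃ x ∈ (P : Subgroup G), x ^ p ≠ 1)) :
    ∃ A ∈ 𝓐, Subgroup.centralizer ((P : Subgroup G) : Set G) = A ∧ (P : Subgroup G) ≤ A := by
  classical
  have hp : p.Prime := Fact.out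
  have ppow : ∀ u ∈ (P : Subgroup G), ∃ k : ℕ, u ^ (p ^ k) = 1 := by
    intro u hu
    obtain ⟨k, hk⟩ := P.isPGroup' ⟨u, hu⟩
    exact ⟨k, by simpa using congrArg Subtype.val hk⟩
  have U := uniq hZ 𝓐 hprop hcov hmin hnil habAll
  have SC : ∃ A ∈ 𝓐, (P : Subgroup G) ≤ A := by
    rcases hcase with ⟨x, hx, hgen⟩ | ⟨x, hx, hxp⟩
    · obtain ⟨A, hA, hxA⟩ := hcov x
      exact ⟨A, hA, fun y hy => (Subgroup.zpowers_le.mpr hxA) (hgen y hy)⟩
    · have special : ∀ u ∈ (P : Subgroup G), u ^ p ≠ 1 →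
          ∃ z w : G, w ∈ (P : Subgroup G) ∧ w ^ p = z ∧ z ≠ 1 ∧ z ^ p = 1 ∧ z ∈ Subgroup.zpowers u := by
        intro u hu hup
        have hex := ppow u hu
        have hk := Nat.find_spec hex
        have hmin' := fun m (hm : m < Nat.find hex) => Nat.find_min hex hm
        obtain ⟨j, hj⟩ : ∃ j, Nat.find hex = j + 2 := by
          rcases hkk : Nat.find hex with _ | _ | j
          · rw [hkk] at hk
            simp at hk
            exact absurd (by rw [hk]; simp) hup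
          · rw [hkk] at hk
            simp at hk
            exact absurd hk hup
          · exact ⟨j, rfl⟩
        rw [hj] at hk
        refine ⟨u ^ (p ^ (j + 1)), u ^ (p ^ j), (P : Subgroup G).pow_mem hu _, ?_, ?_, ?_, ?_⟩
        · rw [← pow_mul, ← pow_succ]
        · exact hmin' (j + 1) (by omega)
        · rw [← pow_mul, ← pow_succ]; exact hk
        · exact (Subgroup.zpowers u).pow_mem (Subgroup.mem_zpowers u) _
      obtain ⟨z0, w0, hw0P, hw0, hz01, hz0p, hz0u⟩ := special x hx hxp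
      have hz0k : z0 ^ (p ^ 1) = 1 := by rw [pow_one]; exact hz0p
      obtain ⟨A, hA, hzA⟩ := hcov z0
      have hw0A : w0 ∈ A := by
        obtain ⟨B, hB, hwB⟩ := hcov w0
        have : z0 ∈ B := by rw [← hw0]; exact B.pow_mem hwB _
        rw [U z0 hz01 1 hz0k A B hA hB hzA this]; exact hwB
      have claimb : ∀ u ∈ (P : Subgroup G), u ^ p = 1 → u ∈ A := by
        intro u hu hup
        obtain ⟨B, hB, hwuB⟩ := hcov (w0 * u)
        have hc : Commute w0 u := habAll P w0 hw0P u hu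
        have : z0 ∈ B := by
          have h3 : (w0 * u) ^ p = z0 := by rw [hc.mul_pow, hw0, hup, mul_one]
          rw [← h3]; exact B.pow_mem hwuB _
        have hBA := U z0 hz01 1 hz0k A B hA hB hzA this
        rw [← hBA] at hwuB
        have := A.mul_mem (A.inv_mem hw0A) hwuB
        simpa using this
      refine ⟨A, hA, fun u hu => ?_⟩
      by_cases hup : u ^ p = 1
      · exact claimb u hu hup
      · obtain ⟨z', w', hw'P, hw', hz'1, hz'p, hz'u⟩ := special u hu hup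
        have hz'P : z' ∈ (P : Subgroup G) := by rw [← hw']; exact (P : Subgroup G).pow_mem hw'P _
        have hz'A : z' ∈ A := claimb z' hz'P hz'p
        obtain ⟨B, hB, huB⟩ := hcov u
        have hz'B : z' ∈ B := (Subgroup.zpowers_le.mpr huB) hz'u
        have hz'k : z' ^ (p ^ 1) = 1 := by rw [pow_one]; exact hz'p
        rw [U z' hz'1 1 hz'k A B hA hB hz'A hz'B]; exact huB
  obtain ⟨A, hA, hPA⟩ := SC
  obtain ⟨z, hzP, hz1⟩ := hne
  obtain ⟨kz, hkz⟩ := ppow z hzP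
  refine ⟨A, hA, le_antisymm ?_ ?_, hPA⟩
  · intro g hg
    rw [Subgroup.mem_centralizer_iff] at hg
    have hn : orderOf g ≠ 0 := (orderOf_pos g).ne'
    have hcop : p.Coprime (orderOf g / p ^ (orderOf g).factorization p) := Nat.coprime_ordCompl hp hn
    have hmul : p ^ (orderOf g).factorization p * (orderOf g / p ^ (orderOf g).factorization p) = orderOf g :=
      Nat.ordProj_mul_ordCompl_eq_self (orderOf g) p
    apply mem_of_parts A g (p ^ (orderOf g).factorization p) (orderOf g / p ^ (orderOf g).factorization p)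
      (hcop.pow_left _)
    · have hht : (g ^ (p ^ (orderOf g).factorization p)) ^ (orderOf g / p ^ (orderOf g).factorization p) = 1 := by
        rw [← pow_mul, hmul, pow_orderOf_eq_one]
      have hd1 : orderOf (g ^ (p ^ (orderOf g).factorization p)) ∣ orderOf g / p ^ (orderOf g).factorization p :=
        orderOf_dvd_of_pow_eq_one hht
      have hd2 : orderOf z ∣ p ^ kz := orderOf_dvd_of_pow_eq_one hkz
      have hco : (orderOf (g ^ (p ^ (orderOf g).factorization p))).Coprime (orderOf z) :=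
        Nat.Coprime.coprime_dvd_left hd1 (Nat.Coprime.coprime_dvd_right hd2 (hcop.pow_left kz).symm)
      have hc : Commute z (g ^ (p ^ (orderOf g).factorization p)) := by
        have : Commute z g := hg z hzP
        exact this.pow_right _
      obtain ⟨B, hB, hzhB⟩ := hcov (z * g ^ (p ^ (orderOf g).factorization p))
      have hzB : z ∈ B := (Subgroup.zpowers_le.mpr hzhB) (mem_zp z _ hc hco)
      have hBA := U z hz1 kz hkz A B hA hB (hPA hzP) hzB
      rw [← hBA] at hzhB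
      have := A.mul_mem (A.inv_mem (hPA hzP)) hzhB
      simpa using this
    · apply hPA
      refine mem_sylow_of_comm P _ ?_ ((orderOf g).factorization p) ?_
      · intro y hy
        have : Commute y g := hg y hy
        exact (this.pow_right _).eq
      · rw [← pow_mul, mul_comm, hmul, pow_orderOf_eq_one]
  · intro b hb
    rw [Subgroup.mem_centralizer_iff]
    intro u hu
    obtain ⟨k, hk⟩ := ppow u hu
    exact (cent_of_pelt habAll A (hnil A hA) u (hPA hu) k hk b hb).symm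

/-- transfer of the hypotheses to a conjugate Sylow subgroup -/
theorem hyp_conj {G : Type*} [Group G] {p : ℕ} (P : Sylow p G) (m : G)
    (hne : ∃ z ∈ (P : Subgroup G), z ≠ 1)
    (hcase : (∃ x ∈ (P : Subgroup G), ∀ y ∈ (P : Subgroup G), y ∈ Subgroup.zpowers x) ∨
      (∃ x ∈ (P : Subgroup G), x ^ p ≠ 1)) :
    (∃ z ∈ ((m • P : Sylow p G) : Subgroup G), z ≠ 1) ∧
    ((∃ x ∈ ((m • P : Sylow p G) : Subgroup G), ∀ y ∈ ((m • P : Sylow p G) : Subgroup G),
        y ∈ Subgroup.zpowers x) ∨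
      (∃ x ∈ ((m • P : Sylow p G) : Subgroup G), x ^ p ≠ 1)) := by
  have hmem : ∀ x ∈ (P : Subgroup G), m * x * m⁻¹ ∈ ((m • P : Sylow p G) : Subgroup G) := by
    intro x hx
    rw [mem_smul_iff]
    have : m⁻¹ * (m * x * m⁻¹) * m = x := by group
    rw [this]; exact hx
  have hinj : ∀ x : G, m * x * m⁻¹ = 1 → x = 1 := by
    intro x h
    have : x = m⁻¹ * (m * x * m⁻¹) * m := by group
    rw [this, h]; group
  constructor
  · obtain ⟨z, hz, hz1⟩ := hne
    exact ⟨m * z * m⁻¹, hmem z hz, fun h => hz1 (hinj z h)⟩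
  · rcases hcase with ⟨x, hx, hgen⟩ | ⟨x, hx, hxp⟩
    · left
      refine ⟨m * x * m⁻¹, hmem x hx, fun y hy => ?_⟩
      rw [mem_smul_iff] at hy
      obtain ⟨i, hi⟩ := Subgroup.mem_zpowers_iff.mp (hgen _ hy)
      refine Subgroup.mem_zpowers_iff.mpr ⟨i, ?_⟩
      rw [conj_zpow, hi]; group
    · right
      refine ⟨m * x * m⁻¹, hmem x hx, ?_⟩
      rw [conj_pow]
      exact fun h => hxp (hinj _ h)

/-- the common core of S3890/S3891 -/
theorem core {G : Type*} [Group G] [Finite G] (hZ : Subgroup.center G = ⊥) (𝓐 : Finset (Subgroup G))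
    (hprop : ∀ A ∈ 𝓐, A ≠ ⊤) (hcov : ∀ g : G, ∃ A ∈ 𝓐, g ∈ A)
    (hmin : ∀ 𝓑 : Finset (Subgroup G), (∀ A ∈ 𝓑, A ≠ ⊤) ∧ (∀ g : G, ∃ A ∈ 𝓑, g ∈ A) → 𝓐.card ≤ 𝓑.card)
    (hnil : ∀ A ∈ 𝓐, Group.IsNilpotent ↥A) {p : ℕ} [Fact p.Prime]
    (P : Sylow p G) (habP : ∀ a ∈ (P : Subgroup G), ∀ b ∈ (P : Subgroup G), a * b = b * a)
    (hne : ∃ z ∈ (P : Subgroup G), z ≠ 1)
    (hcase : (∃ x ∈ (P : Subgroup G), ∀ y ∈ (P : Subgroup G), y ∈ Subgroup.zpowers x) ∨
      (∃ x ∈ (P : Subgroup G), x ^ p ≠ 1)) :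
    ∃ A ∈ 𝓐, Subgroup.centralizer ((P : Subgroup G) : Set G) = A ∧ (P : Subgroup G) ≤ A ∧
      (∀ m : G, (∃ A' ∈ 𝓐, Subgroup.centralizer (((m • P : Sylow p G) : Subgroup G) : Set G) = A' ∧
          ((m • P : Sylow p G) : Subgroup G) ≤ A' ∧
          (A' = A → m ∈ Subgroup.normalizer ((P : Subgroup G) : Set G)))) ∧
      (∀ M : Subgroup G, M ≠ ⊤ → Subgroup.centralizer ((P : Subgroup G) : Set G) ≤ M →
        M ≤ Subgroup.normalizer ((P : Subgroup G) : Set G)) := by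
  classical
  have habAll : ∀ Q : Sylow p G, ∀ a ∈ (Q : Subgroup G), ∀ b ∈ (Q : Subgroup G), a * b = b * a := by
    intro Q a ha b hb
    obtain ⟨g, rfl⟩ := MulAction.exists_smul_eq G P Q
    rw [mem_smul_iff] at ha hb
    have := habP _ ha _ hb
    have h2 : g⁻¹ * (a * b) * g = g⁻¹ * (b * a) * g := by
      calc g⁻¹ * (a * b) * g = (g⁻¹ * a * g) * (g⁻¹ * b * g) := by group
        _ = (g⁻¹ * b * g) * (g⁻¹ * a * g) := this
        _ = g⁻¹ * (b * a) * g := by group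
    exact mul_left_cancel (mul_right_cancel h2)
  obtain ⟨A, hA, hCA, hPA⟩ := key hZ 𝓐 hprop hcov hmin hnil habAll P hne hcase
  have conjs : ∀ m : G, (∃ A' ∈ 𝓐, Subgroup.centralizer (((m • P : Sylow p G) : Subgroup G) : Set G) = A' ∧
          ((m • P : Sylow p G) : Subgroup G) ≤ A' ∧
          (A' = A → m ∈ Subgroup.normalizer ((P : Subgroup G) : Set G))) := by
    intro m
    obtain ⟨hne', hcase'⟩ := hyp_conj P m hne hcase
    obtain ⟨A', hA', hCA', hPA'⟩ := key hZ 𝓐 hprop hcov hmin hnil habAll (m • P) hne' hcase'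
    refine ⟨A', hA', hCA', hPA', fun hAA' => ?_⟩
    have hle : ((m • P : Sylow p G) : Subgroup G) ≤ (P : Subgroup G) := by
      intro u hu
      have huA : u ∈ Subgroup.centralizer ((P : Subgroup G) : Set G) := by
        rw [hCA, ← hAA']; exact hPA' hu
      rw [Subgroup.mem_centralizer_iff] at huA
      obtain ⟨k, hk⟩ := (m • P).isPGroup' ⟨u, hu⟩
      exact mem_sylow_of_comm P u huA k (by simpa using congrArg Subtype.val hk)
    have heq : (P : Subgroup G) = ((m • P : Sylow p G) : Subgroup G) :=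
      (m • P).is_maximal' P.isPGroup' hle
    have : m • P = P := Sylow.ext heq.symm
    exact Sylow.smul_eq_iff_mem_normalizer.mp this
  refine ⟨A, hA, hCA, hPA, conjs, ?_⟩
  intro M hM hCM m hm
  obtain ⟨A', hA', hCA', hPA', hfin⟩ := conjs m
  apply hfin
  have hA'M : A' ≤ M := by
    intro a' ha'
    rw [← hCA', Subgroup.mem_centralizer_iff] at ha'
    have h1 : m⁻¹ * a' * m ∈ Subgroup.centralizer ((P : Subgroup G) : Set G) := by
      rw [Subgroup.mem_centralizer_iff]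
      intro y hy
      have hy' : m * y * m⁻¹ ∈ ((m • P : Sylow p G) : Subgroup G) := by
        rw [mem_smul_iff]
        have : m⁻¹ * (m * y * m⁻¹) * m = y := by group
        rw [this]; exact hy
      have := ha' _ hy'
      calc y * (m⁻¹ * a' * m) = m⁻¹ * ((m * y * m⁻¹) * a') * m := by group
        _ = m⁻¹ * (a' * (m * y * m⁻¹)) * m := by rw [this]
        _ = m⁻¹ * a' * m * y := by group
    have h2 := M.mul_mem (M.mul_mem hm (hCM h1)) (M.inv_mem hm)
    have h3 : m * (m⁻¹ * a' * m) * m⁻¹ = a' := by group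
    rw [h3] at h2; exact h2
  exact le_unique 𝓐 hprop hcov hmin M hM A' A hA' hA hA'M (hCA ▸ hCM)

/-- extracting the elementwise hypotheses -/
theorem hyps {G : Type*} [Group G] [Finite G] {p : ℕ} [Fact p.Prime] (P : Sylow p G)
    (hP : IsCyclic ↥(P : Subgroup G) ∨ (IsMulCommutative ↥(P : Subgroup G) ∧ ¬ Cfsg.IsElementaryAbelian p (P : Subgroup G)))
    (hnn : ¬ (P : Subgroup G).Normal) :
    (∀ a ∈ (P : Subgroup G), ∀ b ∈ (P : Subgroup G), a * b = b * a) ∧
    (∃ z ∈ (P : Subgroup G), z ≠ 1) ∧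
    ((∃ x ∈ (P : Subgroup G), ∀ y ∈ (P : Subgroup G), y ∈ Subgroup.zpowers x) ∨
      (∃ x ∈ (P : Subgroup G), x ^ p ≠ 1)) := by
  have hcase : (∃ x ∈ (P : Subgroup G), ∀ y ∈ (P : Subgroup G), y ∈ Subgroup.zpowers x) ∨
      (∃ x ∈ (P : Subgroup G), x ^ p ≠ 1) := by
    rcases hP with hc | ⟨hab, hne⟩
    · left
      haveI := hc
      obtain ⟨⟨x, hx⟩, hgen⟩ := IsCyclic.exists_generator (α := ↥(P : Subgroup G))
      refine ⟨x, hx, fun y hy => ?_⟩
      obtain ⟨i, hi⟩ := Subgroup.mem_zpowers_iff.mp (hgen ⟨y, hy⟩)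
      exact Subgroup.mem_zpowers_iff.mpr ⟨i, by simpa using congrArg Subtype.val hi⟩
    · right
      by_contra hcon
      push_neg at hcon
      exact hne ⟨hab, hcon⟩
  refine ⟨?_, ?_, hcase⟩
  · rcases hP with hc | ⟨hab, hne⟩
    · haveI := hc
      obtain ⟨⟨x, hx⟩, hgen⟩ := IsCyclic.exists_generator (α := ↥(P : Subgroup G))
      intro a ha b hb
      obtain ⟨i, hi⟩ := Subgroup.mem_zpowers_iff.mp (hgen ⟨a, ha⟩)
      obtain ⟨j, hj⟩ := Subgroup.mem_zpowers_iff.mp (hgen ⟨b, hb⟩)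
      have hi' : x ^ i = a := by simpa using congrArg Subtype.val hi
      have hj' : x ^ j = b := by simpa using congrArg Subtype.val hj
      rw [← hi', ← hj', ← zpow_add, ← zpow_add, add_comm]
    · intro a ha b hb
      exact congrArg Subtype.val (hab.is_comm.comm ⟨a, ha⟩ ⟨b, hb⟩)
  · by_contra hcon
    push_neg at hcon
    apply hnn
    have : (P : Subgroup G) = ⊥ := (Subgroup.eq_bot_iff_forall _).mpr hcon
    rw [this]; infer_instance

/-- A cover of a group is a finite set of proper subgroups whose union is the whole group; it is minimal when no cover has fewer members, and nilpotent when all its members are nilpotent. Let G be a finite group with trivial center admitting a nilpotent minimal cover, and let P be a non-normal Sylow p-subgroup of G that is cyclic, or abelian but not elementary abelian. Then the centralizer of P is nilpotent and the normalizer of P is the unique maximal subgroup of G containing the centralizer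 of P. -/
theorem result {G : Type*} [Group G] [Finite G] (hZ : Subgroup.center G = ⊥) (𝓐 : Finset (Subgroup G))
    (h𝓐 : ((∀ A ∈ 𝓐, A ≠ ⊤) ∧ (∀ g : G, ∃ A ∈ 𝓐, g ∈ A)) ∧ (∀ 𝓑 : Finset (Subgroup G), (∀ A ∈ 𝓑, A ≠ ⊤) ∧ (∀ g : G, ∃ A ∈ 𝓑, g ∈ A) → 𝓐.card ≤ 𝓑.card) ∧ (∀ A ∈ 𝓐, Group.IsNilpotent ↥A)) {p : ℕ} [Fact p.Prime] (P : Sylow p G)
    (hP : IsCyclic ↥(P : Subgroup G) ∨ (IsMulCommutative ↥(P : Subgroup G) ∧ ¬ Cfsg.IsElementaryAbelian p (P : Subgroup G)))
    (hnn : ¬ (P : Subgroup G).Normal) :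
    Group.IsNilpotent ↥(Subgroup.centralizer ((P : Subgroup G) : Set G)) ∧
      IsCoatom (Subgroup.normalizer ((P : Subgroup G) : Set G)) ∧
      ∀ M : Subgroup G, IsCoatom M → Subgroup.centralizer ((P : Subgroup G) : Set G) ≤ M →
        M = Subgroup.normalizer ((P : Subgroup G) : Set G) := by
  classical
  obtain ⟨⟨hprop, hcov⟩, hmin, hnil⟩ := h𝓐
  obtain ⟨habP, hne, hcase⟩ := hyps P hP hnn
  obtain ⟨A, hA, hCA, hPA, -, main⟩ := core hZ 𝓐 hprop hcov hmin hnil P habP hne hcase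
  have hNtop : Subgroup.normalizer ((P : Subgroup G) : Set G) ≠ ⊤ := by
    intro h
    exact hnn (Subgroup.normalizer_eq_top_iff.mp h)
  refine ⟨by rw [hCA]; exact hnil A hA, ⟨hNtop, fun M hlt => ?_⟩, fun M hM hCM => ?_⟩
  · by_contra hM
    have := main M hM (le_trans (Subgroup.centralizer_le_normalizer _) hlt.le)
    exact absurd hlt (not_lt_of_ge this)
  · have h1 := main M hM.1 hCM
    rcases hM.le_iff.mp h1 with h | h
    · exact absurd h hNtop
    · exact h.symm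

end Cfsg.Agent.S3891
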