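import Mathlib
import Cfsg.Statements.S3890
import Cfsg.Agent.S3891

set_option autoImplicit false
set_option linter.unusedSectionVars false
set_option linter.style.haveILetI false

open Cfsg

namespace Cfsg.Agent.S3890

open scoped Pointwise

/-- a `p`-element normalizing a Sylow `p`-subgroup lies in it -/
theorem mem_sylow_of_norm {G : Type*} [Group G] [Finite G] {p : ℕ} [Fact p.Prime] (P : Sylow p G)
    (u : G) (hu : u ∈ Subgroup.normalizer ((P : Subgroup G) : Set G)) (k : ℕ) (huk : u ^ (p ^ k) = 1) :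
    u ∈ (P : Subgroup G) := by
  have hzp : IsPGroup p (Subgroup.zpowers u) := by
    rintro ⟨g, hg⟩
    obtain ⟨i, rfl⟩ := Subgroup.mem_zpowers_iff.mp hg
    refine ⟨k, Subtype.ext ?_⟩
    show (u ^ i) ^ (p ^ k) = 1
    rw [← zpow_natCast, ← zpow_mul, mul_comm, zpow_mul, zpow_natCast, huk, one_zpow]
  have hle : Subgroup.zpowers u ≤ Subgroup.normalizer ((P : Subgroup G) : Set G) := by
    rw [Subgroup.zpowers_le]; exact hu
  have hT : IsPGroup p (Subgroup.zpowers u ⊔ (P : Subgroup G) : Subgroup G) :=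
    IsPGroup.to_sup_of_normal_right' hzp P.isPGroup' hle
  have := P.is_maximal' hT le_sup_right
  have h2 : u ∈ (Subgroup.zpowers u ⊔ (P : Subgroup G) : Subgroup G) :=
    (le_sup_left : Subgroup.zpowers u ≤ _) (Subgroup.mem_zpowers u)
  rw [this] at h2
  exact h2

/-- A cover of a group is a finite set of proper subgroups whose union is the whole group; it is minimal when no cover has fewer members, and nilpotent when all its members are nilpotent. Let G be a finite group with trivial center admitting a nilpotent minimal cover 𝓐, and let P be an abelian Sylow p-subgroup of G that is not normal. Then either P is elementary abelian of order greater than p, or P is a Sylow p-subgroup of some member A of 𝓐, the normalizer N of P is a maximal subgroup of G, N meets each of its conjugates by elements outside N in a subgroup of order prime to p, and the centralizer of P equals A. -/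
theorem result {G : Type*} [Group G] [Finite G] (hZ : Subgroup.center G = ⊥) (𝓐 : Finset (Subgroup G))
    (h𝓐 : ((∀ A ∈ 𝓐, A ≠ ⊤) ∧ (∀ g : G, ∃ A ∈ 𝓐, g ∈ A)) ∧ (∀ 𝓑 : Finset (Subgroup G), (∀ A ∈ 𝓑, A ≠ ⊤) ∧ (∀ g : G, ∃ A ∈ 𝓑, g ∈ A) → 𝓐.card ≤ 𝓑.card) ∧ (∀ A ∈ 𝓐, Group.IsNilpotent ↥A)) {p : ℕ} [Fact p.Prime] (P : Sylow p G) (hab : IsMulCommutative ↥(P : Subgroup G))
    (hnn : ¬ (P : Subgroup G).Normal) :
    (Cfsg.IsElementaryAbelian p (P : Subgroup G) ∧ p < Nat.card ↥(P : Subgroup G)) ∨
    (∃ A ∈ 𝓐, (P : Subgroup G) ≤ A ∧ ¬ p ∣ ((P : Subgroup G).subgroupOf A).index ∧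
      IsCoatom (Subgroup.normalizer ((P : Subgroup G) : Set G)) ∧
      (∀ g : G, g ∉ Subgroup.normalizer ((P : Subgroup G) : Set G) →
        ¬ p ∣ Nat.card ↥(Subgroup.normalizer ((P : Subgroup G) : Set G) ⊓
          (Subgroup.normalizer ((P : Subgroup G) : Set G)).map (MulAut.conj g).toMonoidHom)) ∧
      Subgroup.centralizer ((P : Subgroup G) : Set G) = A) := by
  classical
  have hp : p.Prime := Fact.out
  by_cases hE : Cfsg.IsElementaryAbelian p (P : Subgroup G) ∧ p < Nat.card ↥(P : Subgroup G)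
  · exact Or.inl hE
  right
  obtain ⟨⟨hprop, hcov⟩, hmin, hnil⟩ := h𝓐
  have hP : IsCyclic ↥(P : Subgroup G) ∨
      (IsMulCommutative ↥(P : Subgroup G) ∧ ¬ Cfsg.IsElementaryAbelian p (P : Subgroup G)) := by
    by_cases hel : Cfsg.IsElementaryAbelian p (P : Subgroup G)
    · left
      have hle : Nat.card ↥(P : Subgroup G) ≤ p := by
        by_contra h
        exact hE ⟨hel, not_le.mp h⟩
      obtain ⟨k, hk⟩ := IsPGroup.iff_card.mp P.isPGroup'
      rcases k with _ | _ | k
      · rw [pow_zero] at hk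
        haveI : Subsingleton ↥(P : Subgroup G) := (Nat.card_eq_one_iff_unique.mp hk).1
        exact isCyclic_of_subsingleton
      · rw [zero_add, pow_one] at hk
        exact isCyclic_of_prime_card hk
      · exfalso
        have h1 : p ^ 2 ≤ p ^ (k + 1 + 1) := Nat.pow_le_pow_right hp.pos (by omega)
        have h2 : p < p ^ 2 := by nlinarith [hp.two_le]
        omega
    · exact Or.inr ⟨hab, hel⟩
  obtain ⟨habP, hne, hcase⟩ := S3891.hyps P hP hnn
  obtain ⟨A, hA, hCA, hPA, conjs, main⟩ := S3891.core hZ 𝓐 hprop hcov hmin hnil P habP hne hcase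
  have habAll : ∀ Q : Sylow p G, ∀ a ∈ (Q : Subgroup G), ∀ b ∈ (Q : Subgroup G), a * b = b * a := by
    intro Q a ha b hb
    obtain ⟨g, rfl⟩ := MulAction.exists_smul_eq G P Q
    rw [S3891.mem_smul_iff] at ha hb
    have := habP _ ha _ hb
    have h2 : g⁻¹ * (a * b) * g = g⁻¹ * (b * a) * g := by
      calc g⁻¹ * (a * b) * g = (g⁻¹ * a * g) * (g⁻¹ * b * g) := by group
        _ = (g⁻¹ * b * g) * (g⁻¹ * a * g) := this
        _ = g⁻¹ * (b * a) * g := by group
    exact mul_left_cancel (mul_right_cancel h2)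
  have hNtop : Subgroup.normalizer ((P : Subgroup G) : Set G) ≠ ⊤ := by
    intro h
    exact hnn (Subgroup.normalizer_eq_top_iff.mp h)
  refine ⟨A, hA, hPA, ?_, ⟨hNtop, fun M hlt => ?_⟩, ?_, hCA⟩
  · intro h
    have h1 : ((P : Subgroup G).subgroupOf A).index ∣ (P : Subgroup G).index :=
      Dvd.intro _ (Subgroup.relIndex_mul_index hPA)
    exact P.not_dvd_index (h.trans h1)
  · by_contra hM
    have := main M hM (le_trans (Subgroup.centralizer_le_normalizer _) hlt.le)
    exact absurd hlt (not_lt_of_ge this)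
  · intro g hg hdvd
    apply hg
    obtain ⟨⟨u, hmem⟩, hu⟩ := exists_prime_orderOf_dvd_card'
      (G := ↥(Subgroup.normalizer ((P : Subgroup G) : Set G) ⊓
          (Subgroup.normalizer ((P : Subgroup G) : Set G)).map (MulAut.conj g).toMonoidHom)) p hdvd
    obtain ⟨huN, huNg⟩ := Subgroup.mem_inf.mp hmem
    have huo : orderOf u = p := by
      rw [← Subgroup.orderOf_mk u hmem]; exact hu
    have hup' : u ^ p = 1 := by rw [← huo]; exact pow_orderOf_eq_one u
    have hup : u ^ (p ^ 1) = 1 := by rw [pow_one]; exact hup'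
    have hu1 : u ≠ 1 := by
      intro h
      rw [h, orderOf_one] at huo
      exact hp.one_lt.ne huo
    have huP : u ∈ (P : Subgroup G) := mem_sylow_of_norm P u huN 1 hup
    obtain ⟨v, hvN, hv⟩ := Subgroup.mem_map.mp huNg
    have hvu : g * v * g⁻¹ = u := by simpa using hv
    have hvp : v ^ (p ^ 1) = 1 := by
      have hv' : v = g⁻¹ * u * g := by rw [← hvu]; group
      have h3 : (g⁻¹ * u * g) ^ p = g⁻¹ * u ^ p * g := by
        have := conj_pow (i := p) (a := g⁻¹) (b := u)
        simpa using this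
      rw [hv', pow_one, h3, hup']; group
    have hvP : v ∈ (P : Subgroup G) := mem_sylow_of_norm P v hvN 1 hvp
    have hugP : u ∈ ((g • P : Sylow p G) : Subgroup G) := by
      rw [S3891.mem_smul_iff, ← hvu]
      have : g⁻¹ * (g * v * g⁻¹) * g = v := by group
      rw [this]; exact hvP
    obtain ⟨A', hA', hCA', hPA', hfin⟩ := conjs g
    apply hfin
    exact S3891.uniq hZ 𝓐 hprop hcov hmin hnil habAll u hu1 1 hup A' A hA' hA (hPA' hugP) (hPA huP)

end Cfsg.Agent.S3890
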