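import Mathlib
import Cfsg.Statements.S3937
import Cfsg.Agent.Lib.Helper1.Layer

set_option autoImplicit false
open Cfsg

namespace Cfsg.Agent.S3937

open Cfsg.Agent.Lib.Helper7 Cfsg.Agent.Lib.Helper1

universe u

theorem fold_succ {G : Type*} [Group G] (g x : G) (n : ℕ) :
    (List.replicate (n + 1) g).foldl (fun a b => a * b * a⁻¹ * b⁻¹) x =
      (List.replicate n g).foldl (fun a b => a * b * a⁻¹ * b⁻¹) (x * g * x⁻¹ * g⁻¹) := by
  rw [List.replicate_succ, List.foldl_cons]

theorem fold_coe {G : Type*} [Group G] (H : Subgroup G) (g : H) : ∀ (n : ℕ) (x : H),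
    (((List.replicate n g).foldl (fun a b => a * b * a⁻¹ * b⁻¹) x : H) : G) =
      (List.replicate n (g : G)).foldl (fun a b => a * b * a⁻¹ * b⁻¹) (x : G) := by
  intro n
  induction n with
  | zero => intro x; rfl
  | succ n ih => intro x; rw [fold_succ, fold_succ, ih]; rfl

theorem engel_of_mem {G : Type*} [Group G] [Finite G] (g : G)
    (hg : g ∈ Cfsg.fittingSubgroup G) (x : G) :
    ∃ n : ℕ, (List.replicate n g).foldl (fun a b => a * b * a⁻¹ * b⁻¹) x = 1 := by
  obtain ⟨n, hn⟩ := (Subgroup.isNilpotent_iff_lowerCentralSeries _).mp (fitting_isNilpotent G)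
  have key : ∀ (j k : ℕ) (c : G), c ∈ (Cfsg.fittingSubgroup G).lowerCentralSeries k →
      (List.replicate j g).foldl (fun a b => a * b * a⁻¹ * b⁻¹) c ∈
        (Cfsg.fittingSubgroup G).lowerCentralSeries (k + j) := by
    intro j
    induction j with
    | zero => intro k c hc; exact hc
    | succ j ih =>
      intro k c hc
      rw [fold_succ]
      have h1 : c * g * c⁻¹ * g⁻¹ ∈ (Cfsg.fittingSubgroup G).lowerCentralSeries (k + 1) := by
        rw [Subgroup.lowerCentralSeries_succ]
        exact Subgroup.commutator_mem_commutator hc hg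
      have h2 := ih (k + 1) _ h1
      have h3 : k + 1 + j = k + (j + 1) := by omega
      rw [h3] at h2
      exact h2
  refine ⟨n + 1, ?_⟩
  rw [fold_succ]
  have hc : x * g * x⁻¹ * g⁻¹ ∈ (Cfsg.fittingSubgroup G).lowerCentralSeries 0 := by
    rw [Subgroup.lowerCentralSeries_zero]
    exact Subgroup.mul_mem _ ((fitting_normal G).conj_mem g hg x) (Subgroup.inv_mem _ hg)
  have h := key n 0 _ hc
  rw [zero_add, hn] at h
  exact Subgroup.mem_bot.mp h

/-- the Fitting subgroup of a subgroup, seen in the ambient group -/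
def FH {G : Type*} [Group G] (H : Subgroup G) : Subgroup G :=
  (Cfsg.fittingSubgroup ↥H).map H.subtype

theorem FH_le {G : Type*} [Group G] (H : Subgroup G) : FH H ≤ H := Subgroup.map_subtype_le _

theorem le_FH {G : Type*} [Group G] {H N : Subgroup G} (hNH : N ≤ H)
    (hn : H ≤ Subgroup.normalizer (N : Set G)) (hnil : Group.IsNilpotent ↥N) : N ≤ FH H := by
  have h1 : (N.subgroupOf H).Normal := (Subgroup.normal_subgroupOf_iff_le_normalizer hNH).mpr hn
  have h2 : Group.IsNilpotent ↥(N.subgroupOf H) :=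
    (Group.isNilpotent_congr (Subgroup.subgroupOfEquivOfLe hNH)).mpr hnil
  have h3 : N.subgroupOf H ≤ Cfsg.fittingSubgroup ↥H := le_fitting h1 h2
  have h4 := Subgroup.map_mono (f := H.subtype) h3
  rwa [Subgroup.map_subgroupOf_eq_of_le hNH] at h4

theorem FH_nilpotent {G : Type*} [Group G] [Finite G] (H : Subgroup G) :
    Group.IsNilpotent ↥(FH H) := by
  have h1 := fitting_isNilpotent ↥H
  exact (Group.isNilpotent_congr
    ((Cfsg.fittingSubgroup ↥H).equivMapOfInjective H.subtype H.subtype_injective)).mp h1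

theorem FH_normal {G : Type*} [Group G] (H : Subgroup G) :
    H ≤ Subgroup.normalizer (FH H : Set G) := by
  rw [← Subgroup.normal_subgroupOf_iff_le_normalizer (FH_le H)]
  have h1 : (FH H).subgroupOf H = Cfsg.fittingSubgroup ↥H := by
    unfold FH Subgroup.subgroupOf
    exact Subgroup.comap_map_eq_self_of_injective H.subtype_injective _
  rw [h1]
  exact fitting_normal ↥H

theorem conj_normalizer {G : Type*} [Group G] {K : Subgroup G} {h : G} (x : G)
    (hh : h ∈ Subgroup.normalizer (K : Set G)) :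
    x * h * x⁻¹ ∈ Subgroup.normalizer ((K.map (MulAut.conj x).toMonoidHom : Subgroup G) : Set G) := by
  rw [Subgroup.mem_normalizer_iff]
  intro n
  constructor
  · rintro ⟨k, hk, rfl⟩
    refine ⟨h * k * h⁻¹, (Subgroup.mem_normalizer_iff.mp hh k).mp hk, ?_⟩
    change x * (h * k * h⁻¹) * x⁻¹ = x * h * x⁻¹ * (x * k * x⁻¹) * (x * h * x⁻¹)⁻¹
    group
  · rintro ⟨k, hk, hkeq⟩
    have hkeq' : x * k * x⁻¹ = x * h * x⁻¹ * n * (x * h * x⁻¹)⁻¹ := hkeq
    refine ⟨h⁻¹ * k * h, ?_, ?_⟩
    · apply (Subgroup.mem_normalizer_iff.mp hh (h⁻¹ * k * h)).mpr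
      have h1 : h * (h⁻¹ * k * h) * h⁻¹ = k := by group
      rw [h1]; exact hk
    · change x * (h⁻¹ * k * h) * x⁻¹ = n
      have h2 : n = (x * h * x⁻¹)⁻¹ * (x * k * x⁻¹) * (x * h * x⁻¹) := by rw [hkeq']; group
      rw [h2]; group

theorem FH_conj {G : Type*} [Group G] [Finite G] (H : Subgroup G) (x : G) :
    (FH H).map (MulAut.conj x).toMonoidHom ≤ FH (H.map (MulAut.conj x).toMonoidHom) := by
  apply le_FH
  · exact Subgroup.map_mono (FH_le H)
  · rintro _ ⟨h, hh, rfl⟩
    exact conj_normalizer x (FH_normal H hh)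
  · exact (Group.isNilpotent_congr
      ((FH H).equivMapOfInjective (MulAut.conj x).toMonoidHom (MulAut.conj x).injective)).mp
        (FH_nilpotent H)

theorem map_conj_conj_inv {G : Type*} [Group G] (H : Subgroup G) (x : G) :
    (H.map (MulAut.conj x⁻¹).toMonoidHom).map (MulAut.conj x).toMonoidHom = H := by
  ext y
  constructor
  · rintro ⟨_, ⟨h, hh, rfl⟩, rfl⟩
    have h1 : (MulAut.conj x).toMonoidHom ((MulAut.conj x⁻¹).toMonoidHom h) = h := by
      change x * (x⁻¹ * h * x⁻¹⁻¹) * x⁻¹ = h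
      group
    rw [h1]; exact hh
  · intro hy
    refine ⟨x⁻¹ * y * x⁻¹⁻¹, ⟨y, hy, rfl⟩, ?_⟩
    change x * (x⁻¹ * y * x⁻¹⁻¹) * x⁻¹ = y
    group

theorem zipper {G : Type*} [Group G] [Finite G] : ∀ (n : ℕ) (S : Subgroup G), S.index = n → S ≠ ⊤ →
    (∀ H : Subgroup G, H ≠ ⊤ → S ≤ H → S ≤ FH H) → ¬ S ≤ Cfsg.fittingSubgroup G →
    ∃ M : Subgroup G, M ≠ ⊤ ∧ ∀ K : Subgroup G, K ≠ ⊤ → S ≤ K → K ≤ M := by
  intro n
  induction n using Nat.strong_induction_on with
  | _ n ih =>
    intro S hSn hStop hS hSF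
    have hSnil : Group.IsNilpotent ↥S := by
      have h1 : S ≤ FH S := hS S hStop le_rfl
      have h2 : FH S = S := le_antisymm (FH_le S) h1
      have h3 := FH_nilpotent S
      rw [h2] at h3
      exact h3
    have hN : Subgroup.normalizer (S : Set G) ≠ ⊤ := by
      intro h
      have hnorm : S.Normal := Subgroup.normalizer_eq_top_iff.mp h
      exact hSF (le_fitting hnorm hSnil)
    obtain ⟨M₀, hM₀, hNM⟩ :=
      (eq_top_or_exists_le_coatom (Subgroup.normalizer (S : Set G))).resolve_left hN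
    refine ⟨M₀, hM₀.1, ?_⟩
    intro K hK hSK
    obtain ⟨K', hK', hKK'⟩ := (eq_top_or_exists_le_coatom K).resolve_left hK
    by_contra hcon
    have hne : K' ≠ M₀ := by rintro rfl; exact hcon hKK'
    have hSK' : S ≤ K' := hSK.trans hKK'
    have hSFK : S ≤ FH K' := hS K' hK'.1 hSK'
    have hx : ∃ x ∈ K', x ∉ Subgroup.normalizer (S : Set G) ∧
        S.map (MulAut.conj x).toMonoidHom ≤ Subgroup.normalizer (S : Set G) := by
      by_cases hR : FH K' ≤ Subgroup.normalizer (S : Set G)
      · have h1 : ¬ K' ≤ Subgroup.normalizer (S : Set G) := by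
          intro h
          have h2 : K' ≤ M₀ := h.trans hNM
          exact hne ((hK'.le_iff_eq hM₀.1).mp h2).symm
        obtain ⟨x, hxK, hxN⟩ := SetLike.not_le_iff_exists.mp h1
        refine ⟨x, hxK, hxN, le_trans ?_ hR⟩
        have h3 : x ∈ Subgroup.normalizer (FH K' : Set G) := FH_normal K' hxK
        rw [Subgroup.mem_normalizer_iff_map_conj_eq] at h3
        have h4 : S.map (MulAut.conj x).toMonoidHom ≤ (FH K').map (MulAut.conj x).toMonoidHom :=
          Subgroup.map_mono hSFK
        exact h4.trans (le_of_eq h3)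
      · haveI := FH_nilpotent K'
        have hNC := Group.normalizerCondition_of_isNilpotent (G := ↥(FH K'))
        have hR'top : (Subgroup.normalizer (S : Set G)).subgroupOf (FH K') ≠ ⊤ := by
          intro h
          exact hR (Subgroup.subgroupOf_eq_top.mp h)
        have hlt := hNC _ (lt_top_iff_ne_top.mpr hR'top)
        obtain ⟨x', hx'N, hx'R⟩ := SetLike.exists_of_lt hlt
        refine ⟨(x' : G), FH_le K' x'.2, ?_, ?_⟩
        · intro h; exact hx'R (Subgroup.mem_subgroupOf.mpr h)
        · rintro _ ⟨s, hs, rfl⟩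
          have hsF : s ∈ FH K' := hSFK hs
          have hs' : (⟨s, hsF⟩ : ↥(FH K')) ∈
              (Subgroup.normalizer (S : Set G)).subgroupOf (FH K') :=
            Subgroup.mem_subgroupOf.mpr (Subgroup.le_normalizer hs)
          have h4 := (Subgroup.mem_normalizer_iff.mp hx'N ⟨s, hsF⟩).mp hs'
          exact Subgroup.mem_subgroupOf.mp h4
    obtain ⟨x, hxK, hxN, hxS⟩ := hx
    have hST : S < S ⊔ S.map (MulAut.conj x).toMonoidHom := by
      refine lt_of_le_of_ne le_sup_left ?_
      intro h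
      have h1 : S.map (MulAut.conj x).toMonoidHom ≤ S := le_sup_right.trans (le_of_eq h.symm)
      have h2 : S.map (MulAut.conj x).toMonoidHom = S :=
        Subgroup.eq_of_le_of_card_ge h1
          (by rw [Subgroup.card_map_of_injective (MulAut.conj x).injective])
      exact hxN (Subgroup.mem_normalizer_iff_map_conj_eq.mpr h2)
    have hTM : S ⊔ S.map (MulAut.conj x).toMonoidHom ≤ M₀ :=
      sup_le (Subgroup.le_normalizer.trans hNM) (hxS.trans hNM)
    have hTK : S ⊔ S.map (MulAut.conj x).toMonoidHom ≤ K' := sup_le hSK' (by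
      rintro _ ⟨s, hs, rfl⟩
      exact K'.mul_mem (K'.mul_mem hxK (hSK' hs)) (K'.inv_mem hxK))
    have hTtop : S ⊔ S.map (MulAut.conj x).toMonoidHom ≠ ⊤ :=
      fun h => hM₀.1 (eq_top_iff.mpr (h ▸ hTM))
    have hidx : (S ⊔ S.map (MulAut.conj x).toMonoidHom).index < n := by
      rw [← hSn]; exact Subgroup.index_strictAnti hST
    have hTF : ¬ S ⊔ S.map (MulAut.conj x).toMonoidHom ≤ Cfsg.fittingSubgroup G :=
      fun h => hSF (le_sup_left.trans h)
    have hTH : ∀ H : Subgroup G, H ≠ ⊤ → S ⊔ S.map (MulAut.conj x).toMonoidHom ≤ H →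
        S ⊔ S.map (MulAut.conj x).toMonoidHom ≤ FH H := by
      intro H hH hTH
      refine sup_le (hS H hH (le_sup_left.trans hTH)) ?_
      have hSx : S.map (MulAut.conj x).toMonoidHom ≤ H := le_sup_right.trans hTH
      have h1 : S ≤ H.map (MulAut.conj x⁻¹).toMonoidHom := by
        intro s hs
        refine ⟨x * s * x⁻¹, hSx ⟨s, hs, rfl⟩, ?_⟩
        change x⁻¹ * (x * s * x⁻¹) * x⁻¹⁻¹ = s
        group
      have h2 : H.map (MulAut.conj x⁻¹).toMonoidHom ≠ ⊤ := by
        intro h
        apply hH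
        rw [← map_conj_conj_inv H x, h]
        exact Subgroup.map_top_of_surjective _ (MulAut.conj x).surjective
      have h3 := hS _ h2 h1
      have h4 := Subgroup.map_mono (f := (MulAut.conj x).toMonoidHom) h3
      have h5 := FH_conj (H.map (MulAut.conj x⁻¹).toMonoidHom) x
      rw [map_conj_conj_inv] at h5
      exact h4.trans h5
    obtain ⟨M_T, hMT, hMTall⟩ := ih _ hidx _ rfl hTtop hTH hTF
    have e1 : M₀ ≤ M_T := hMTall M₀ hM₀.1 hTM
    have e2 : K' ≤ M_T := hMTall K' hK'.1 hTK
    have e3 : M_T = M₀ := (hM₀.le_iff_eq hMT).mp e1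
    have e4 : M_T = K' := (hK'.le_iff_eq hMT).mp e2
    exact hne (e4.symm.trans e3)

theorem baer : ∀ (n : ℕ) (G : Type u) [Group G] [Finite G], Nat.card G = n → ∀ g : G,
    (∀ x : G, ∃ k : ℕ, (List.replicate k g).foldl (fun a b => a * b * a⁻¹ * b⁻¹) x = 1) →
    g ∈ Cfsg.fittingSubgroup G := by
  intro n
  induction n using Nat.strong_induction_on with
  | _ n ih =>
    intro G _ _ hn g hE
    by_contra hgF
    have hgS : g ∈ Subgroup.zpowers g := Subgroup.mem_zpowers g
    have hSF : ¬ Subgroup.zpowers g ≤ Cfsg.fittingSubgroup G := fun h => hgF (h hgS)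
    have hStop : Subgroup.zpowers g ≠ ⊤ := by
      intro h
      haveI : IsCyclic G := isCyclic_iff_exists_zpowers_eq_top.mpr ⟨g, h⟩
      haveI : Group.IsNilpotent G := @CommGroup.isNilpotent G IsCyclic.commGroup
      have h1 := fitting_eq_top_of_isNilpotent G
      exact hgF (by rw [h1]; trivial)
    have hS : ∀ H : Subgroup G, H ≠ ⊤ → Subgroup.zpowers g ≤ H → Subgroup.zpowers g ≤ FH H := by
      intro H hH hSH
      have hgH : g ∈ H := hSH hgS
      have hcard : Nat.card H < n := by
        rw [← hn]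
        exact lt_of_le_of_ne (Subgroup.card_le_card_group H)
          (fun h => hH (Subgroup.eq_top_of_card_eq H h))
      have hE' : ∀ x : ↥H, ∃ k : ℕ,
          (List.replicate k (⟨g, hgH⟩ : ↥H)).foldl (fun a b => a * b * a⁻¹ * b⁻¹) x = 1 := by
        intro x
        obtain ⟨k, hk⟩ := hE x
        refine ⟨k, Subtype.ext ?_⟩
        rw [fold_coe]; exact hk
      have h1 := ih _ hcard ↥H rfl ⟨g, hgH⟩ hE'
      rw [Subgroup.zpowers_le]
      exact ⟨⟨g, hgH⟩, h1, rfl⟩
    obtain ⟨M, hM, hMall⟩ := zipper _ (Subgroup.zpowers g) rfl hStop hS hSF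
    have hSM : Subgroup.zpowers g ≤ M := hMall _ hStop le_rfl
    have hgM : g ∈ M := hSM hgS
    have hNM : Subgroup.normalizer (M : Set G) ≤ M := by
      apply hMall _ _ (hSM.trans Subgroup.le_normalizer)
      intro h
      have hnorm : M.Normal := Subgroup.normalizer_eq_top_iff.mp h
      exact hSF ((hS M hM hSM).trans (fitting_map_subtype_le_of_normal hnorm))
    have hstar : ∀ y : G, y * g * y⁻¹ ∈ M → y ∈ M := by
      intro y hy
      have h1 : Subgroup.zpowers g ≤ M.map (MulAut.conj y⁻¹).toMonoidHom := by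
        rw [Subgroup.zpowers_le]
        refine ⟨y * g * y⁻¹, hy, ?_⟩
        change y⁻¹ * (y * g * y⁻¹) * y⁻¹⁻¹ = g
        group
      have h2 : M.map (MulAut.conj y⁻¹).toMonoidHom ≠ ⊤ := by
        intro h
        apply hM
        rw [← map_conj_conj_inv M y, h]
        exact Subgroup.map_top_of_surjective _ (MulAut.conj y).surjective
      have h3 := hMall _ h2 h1
      have h4 : M.map (MulAut.conj y⁻¹).toMonoidHom = M :=
        Subgroup.eq_of_le_of_card_ge h3
          (by rw [Subgroup.card_map_of_injective (MulAut.conj y⁻¹).injective])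
      have h5 : y⁻¹ ∈ Subgroup.normalizer (M : Set G) :=
        Subgroup.mem_normalizer_iff_map_conj_eq.mpr h4
      have h6 := M.inv_mem (hNM h5)
      rwa [inv_inv] at h6
    have hchain : ∀ (k : ℕ) (y : G), y ∉ M →
        (List.replicate k g).foldl (fun a b => a * b * a⁻¹ * b⁻¹) y ∉ M := by
      intro k
      induction k with
      | zero => intro y hy; exact hy
      | succ k ihk =>
        intro y hy
        rw [fold_succ]
        apply ihk
        intro hc
        apply hy
        apply hstar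
        have h7 : y * g * y⁻¹ = (y * g * y⁻¹ * g⁻¹) * g := by group
        rw [h7]
        exact M.mul_mem hc hgM
    obtain ⟨y₀, hy₀⟩ : ∃ y₀ : G, y₀ ∉ M := by
      by_contra hcon; push_neg at hcon
      exact hM (eq_top_iff.mpr fun y _ => hcon y)
    obtain ⟨k, hk⟩ := hE y₀
    exact hchain k y₀ hy₀ (hk ▸ M.one_mem)

/-- Baer's characterization of the Fitting subgroup: in a finite group G, an element g lies in the Fitting subgroup if and only if g is a left Engel element, that is, for every x there is n with [x, g, g, …, g] = 1 (n entries g, [a, b] = aba⁻¹b⁻¹). -/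
theorem result {G : Type*} [Group G] [Finite G] (g : G) :
    g ∈ Cfsg.fittingSubgroup G ↔ ∀ x : G, ∃ n : ℕ, (List.replicate n g).foldl (fun a b => a * b * a⁻¹ * b⁻¹) x = 1 :=
  ⟨fun h x => engel_of_mem g h x, fun h => baer _ G rfl g h⟩

end Cfsg.Agent.S3937
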