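import Cfsg.Statements.S4039
import Mathlib
import Cfsg.Agent.Lib.Helper9.NilMax

set_option autoImplicit false
open Cfsg

namespace Cfsg.Agent.S4039

open scoped commutatorElement

/-- A finite group possessing a maximal subgroup that is nilpotent of class at most 2 is solvable. -/
theorem result {G : Type*} [Group G] [Finite G]
    (M : Subgroup G) (hmax : IsCoatom M) (hnil : Group.IsNilpotent M) (hcl : Group.nilpotencyClass ↥M ≤ 2) :
    Group.IsSolvable G := by
  have h2 : (⊤ : Subgroup ↥M).lowerCentralSeries 2 = ⊥ :=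
    Subgroup.lowerCentralSeries_eq_bot_iff_nilpotencyClass_le.mpr hcl
  have key : ∀ x y z : M, ⁅x, y⁆ * z = z * ⁅x, y⁆ := by
    intro x y z
    have h3 : ⁅⁅x, y⁆, z⁆ ∈ (⊤ : Subgroup ↥M).lowerCentralSeries 2 := by
      show ⁅⁅x, y⁆, z⁆ ∈ ⁅⁅(⊤ : Subgroup ↥M), (⊤ : Subgroup ↥M)⁆, (⊤ : Subgroup ↥M)⁆
      exact Subgroup.commutator_mem_commutator
        (Subgroup.commutator_mem_commutator (Subgroup.mem_top x) (Subgroup.mem_top y))
        (Subgroup.mem_top z)
    rw [h2, Subgroup.mem_bot, commutatorElement_eq_one_iff_mul_comm] at h3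
    exact h3
  refine Cfsg.Agent.Lib.Helper9.nm_main _ G rfl M hmax hnil ?_
  intro x hx y hy z hz
  have := congrArg Subtype.val (key ⟨x, hx⟩ ⟨y, hy⟩ ⟨z, hz⟩)
  simpa [commutatorElement_def] using this

end Cfsg.Agent.S4039
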