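import Cfsg.Statements.S4049
-- import your own Cfsg.Agent.* helpers here
import Mathlib
import Cfsg.Agent.S3937
import Cfsg.Agent.Lib.Helper7.PCore
import Cfsg.Agent.Lib.Helper7.Compl
import Cfsg.Agent.Lib.Helper7.Coprime
import Cfsg.Agent.Lib.Helper7.Hall

set_option autoImplicit false
open Cfsg

namespace Cfsg.Agent.S4049

section
open Pointwise
open Cfsg.Agent.Lib.Helper7
universe u

/-- 2-elements normalizing an odd-order subgroup centralize it. -/
def Star (G : Type u) [Group G] : Prop :=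
  ∀ H : Subgroup G, H ≠ ⊥ → ¬ 2 ∣ Nat.card H → ∀ t ∈ Subgroup.normalizer (H : Set G),
    (∃ k : ℕ, t ^ (2 ^ k) = 1) → ∀ h ∈ H, t * h = h * t

theorem pow_odd {M : Type*} [Group M] (t : M) (k : ℕ) (hk : t ^ (2 ^ k) = 1) (j : ℕ)
    (hj : ¬ 2 ∣ j) : ∃ e : ℕ, (t ^ j) ^ e = t := by
  apply exists_pow_eq_self_of_coprime
  obtain ⟨i, _, hi⟩ := (Nat.dvd_prime_pow Nat.prime_two).mp (orderOf_dvd_of_pow_eq_one hk)
  rw [hi]
  exact Nat.Coprime.pow_right i ((Nat.Prime.coprime_iff_not_dvd Nat.prime_two).mpr hj).symm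

variable {G : Type u} [Group G] [Finite G]

theorem star_of_hhom (hhom : ∀ H : Subgroup G, H ≠ ⊥ → ¬ 2 ∣ Nat.card ↥H →
        ¬ 2 ∣ (Subgroup.centralizer (H : Set G)).relIndex (Subgroup.normalizer (H : Set G))) :
    Star G := by
  intro H hH hodd t ht ⟨k, hk⟩ h hh
  have hj := hhom H hH hodd
  have hCn : ((Subgroup.centralizer (H : Set G)).subgroupOf
      (Subgroup.normalizer (H : Set G))).Normal := by
    constructor
    intro c hc n
    rw [Subgroup.mem_subgroupOf] at hc ⊢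
    rw [Subgroup.mem_centralizer_iff]
    intro h hh
    have h1 : (n : G)⁻¹ * h * (n : G) ∈ H := (Subgroup.mem_normalizer_iff''.mp n.2 h).mp hh
    have h2 := (Subgroup.mem_centralizer_iff.mp hc) _ h1
    show h * ((n : G) * c * (n : G)⁻¹) = ((n : G) * c * (n : G)⁻¹) * h
    calc h * ((n : G) * c * (n : G)⁻¹) = n * (((n : G)⁻¹ * h * n) * c) * (n : G)⁻¹ := by group
      _ = n * (c * ((n : G)⁻¹ * h * n)) * (n : G)⁻¹ := by rw [h2]
      _ = ((n : G) * c * (n : G)⁻¹) * h := by group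
  have h1 := Subgroup.pow_index_mem ((Subgroup.centralizer (H : Set G)).subgroupOf
      (Subgroup.normalizer (H : Set G))) (⟨t, ht⟩ : Subgroup.normalizer (H : Set G))
  rw [Subgroup.mem_subgroupOf] at h1
  have h2 : t ^ ((Subgroup.centralizer (H : Set G)).relIndex (Subgroup.normalizer (H : Set G)))
      ∈ Subgroup.centralizer (H : Set G) := h1
  obtain ⟨e, he⟩ := pow_odd t k hk _ hj
  have h3 : t ∈ Subgroup.centralizer (H : Set G) := by
    rw [← he]
    exact Subgroup.pow_mem _ h2 e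
  exact ((Subgroup.mem_centralizer_iff.mp h3) h hh).symm

theorem mem_normalizer_of_sq {H : Subgroup G} {t : G} (ht : t * t = 1)
    (key : ∀ h ∈ H, t * h * t⁻¹ ∈ H) : t ∈ Subgroup.normalizer (H : Set G) := by
  rw [Subgroup.mem_normalizer_iff]
  intro h
  constructor
  · exact key h
  · intro hh
    have h1 := key _ hh
    have e : t * (t * h * t⁻¹) * t⁻¹ = h := by
      calc t * (t * h * t⁻¹) * t⁻¹ = (t * t) * h * (t * t)⁻¹ := by group
        _ = h := by rw [ht]; group
    rwa [e] at h1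

theorem engel_of_star (hS : Star G) (t : G) (ht : t * t = 1) (x : G) :
    ∃ k : ℕ, (List.replicate k t).foldl (fun a b => a * b * a⁻¹ * b⁻¹) x = 1 := by
  have htinv : t⁻¹ = t := inv_eq_of_mul_eq_one_left ht
  obtain ⟨r, hr⟩ : ∃ r : G, r = x * t * x⁻¹ * t⁻¹ := ⟨_, rfl⟩
  have hinv : t * r * t⁻¹ = r⁻¹ := by
    rw [hr, htinv]
    have h1 : t * (x * t * x⁻¹ * t) * t = t * x * t * x⁻¹ * (t * t) := by group
    rw [h1, ht, mul_one, mul_inv_rev, mul_inv_rev, mul_inv_rev, inv_inv, htinv]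
    group
  have hinvpow : ∀ i : ℕ, t * r ^ i * t⁻¹ = (r ^ i)⁻¹ := by
    intro i
    rw [← conj_pow, hinv, inv_pow]
  obtain ⟨a, ha⟩ : ∃ a : ℕ, r ^ (2 ^ a) = 1 := by
    have ho : orderOf r ≠ 0 := (orderOf_pos r).ne'
    obtain ⟨a, m, hm, hrm⟩ := Nat.exists_eq_two_pow_mul_odd ho
    refine ⟨a, ?_⟩
    by_contra hne
    have hym : orderOf (r ^ (2 ^ a)) = m := by
      have h1 : orderOf r / m = 2 ^ a := by rw [hrm]; exact Nat.mul_div_cancel _ hm.pos
      rw [← h1]
      exact orderOf_pow_orderOf_div ho (by rw [hrm]; exact dvd_mul_left _ _)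
    have hyinv : t * r ^ (2 ^ a) * t⁻¹ = (r ^ (2 ^ a))⁻¹ := hinvpow _
    have hH : Subgroup.zpowers (r ^ (2 ^ a)) ≠ ⊥ := by
      rw [Ne, Subgroup.zpowers_eq_bot]
      exact hne
    have hodd : ¬ 2 ∣ Nat.card (Subgroup.zpowers (r ^ (2 ^ a))) := by
      rw [Nat.card_zpowers, hym]
      exact hm.not_two_dvd_nat
    have htN : t ∈ Subgroup.normalizer ((Subgroup.zpowers (r ^ (2 ^ a)) : Subgroup G) : Set G) := by
      apply mem_normalizer_of_sq ht
      rintro h ⟨i, rfl⟩
      have h1 : t * (r ^ (2 ^ a)) ^ i * t⁻¹ = ((r ^ (2 ^ a))⁻¹) ^ i := by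
        rw [← hyinv, conj_zpow]
      rw [h1]
      exact Subgroup.zpow_mem _ (Subgroup.inv_mem _ (Subgroup.mem_zpowers _)) _
    have hcomm := hS _ hH hodd t htN ⟨1, by rw [pow_one, pow_two]; exact ht⟩ _
      (Subgroup.mem_zpowers (r ^ (2 ^ a)))
    have hy2 : (r ^ (2 ^ a)) ^ 2 = 1 := by
      have h1 : t * r ^ (2 ^ a) * t⁻¹ = r ^ (2 ^ a) := by rw [hcomm]; group
      rw [h1] at hyinv
      rw [pow_two]
      nth_rewrite 2 [hyinv]
      exact mul_inv_cancel _
    have hm2 : m ∣ 2 := hym ▸ orderOf_dvd_of_pow_eq_one hy2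
    have hm1 : m = 1 := by
      rcases (Nat.dvd_prime Nat.prime_two).mp hm2 with h | h
      · exact h
      · exact absurd (h ▸ hm) (by decide)
    apply hne
    rw [← orderOf_eq_one_iff, hym, hm1]
  have hfold : ∀ j : ℕ, (List.replicate (j + 1) t).foldl (fun a b => a * b * a⁻¹ * b⁻¹) x
      = r ^ (2 ^ j) := by
    intro j
    induction j with
    | zero => simp [hr]
    | succ j ih =>
      rw [List.replicate_succ', List.foldl_append, ih]
      simp only [List.foldl_cons, List.foldl_nil]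
      have h1 := hinvpow (2 ^ j)
      have h2 : t * (r ^ (2 ^ j))⁻¹ * t⁻¹ = r ^ (2 ^ j) := by
        have h3 : t * (r ^ (2 ^ j))⁻¹ * t⁻¹ = (t * r ^ (2 ^ j) * t⁻¹)⁻¹ := by group
        rw [h3, h1, inv_inv]
      rw [pow_succ, pow_mul, pow_two]
      calc r ^ 2 ^ j * t * (r ^ 2 ^ j)⁻¹ * t⁻¹ = r ^ 2 ^ j * (t * (r ^ 2 ^ j)⁻¹ * t⁻¹) := by
            group
        _ = r ^ 2 ^ j * r ^ 2 ^ j := by rw [h2]
  exact ⟨a + 1, by rw [hfold, ha]⟩

theorem star_quotient (hS : Star G) (O : Subgroup G) [O.Normal] (hO : IsPGroup 2 O) :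
    Star (G ⧸ O) := by
  intro Hb hHb hodd tb htb ⟨k, hk⟩ hb hhb
  obtain ⟨t, rfl⟩ := QuotientGroup.mk_surjective tb
  obtain ⟨L, hL⟩ : ∃ L : Subgroup G, L = Hb.comap (QuotientGroup.mk' O) := ⟨_, rfl⟩
  have hOL : O ≤ L := hL ▸ le_comap_mk' O Hb
  have hcardL : Nat.card L = Nat.card O * Nat.card Hb := hL ▸ card_comap_mk' O Hb
  have hcO : Nat.card (O.subgroupOf L) = Nat.card O := card_subgroupOf_of_le hOL
  have hidx : (O.subgroupOf L).index = Nat.card Hb := by
    have h1 := (O.subgroupOf L).card_mul_index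
    rw [hcO, hcardL] at h1
    exact Nat.eq_of_mul_eq_mul_left Nat.card_pos h1
  obtain ⟨a, ha⟩ := IsPGroup.iff_card.mp hO
  have hcop2 : Nat.Coprime (2 ^ a) (Nat.card Hb) :=
    Nat.Coprime.pow_left a ((Nat.Prime.coprime_iff_not_dvd Nat.prime_two).mpr hodd)
  have hcop : (Nat.card (O.subgroupOf L)).Coprime (O.subgroupOf L).index := by
    rw [hcO, hidx, ha]
    exact hcop2
  obtain ⟨H₁, hH₁⟩ := Subgroup.exists_right_complement'_of_coprime hcop
  obtain ⟨H, hH⟩ : ∃ H : Subgroup G, H = H₁.map L.subtype := ⟨_, rfl⟩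
  have hHL : H ≤ L := hH ▸ Subgroup.map_subtype_le _
  have hcH : Nat.card H = Nat.card Hb := by
    rw [hH, Subgroup.card_map_of_injective L.subtype_injective, ← hidx]
    exact hH₁.symm.index_eq_card.symm
  have hHne : H ≠ ⊥ := by
    intro h
    rw [h, Subgroup.card_bot] at hcH
    exact hHb (Subgroup.eq_bot_of_card_eq _ hcH.symm)
  have hHodd : ¬ 2 ∣ Nat.card H := by rw [hcH]; exact hodd
  have hcopHO : (Nat.card H).Coprime (Nat.card O) := by
    rw [ha, hcH]
    exact hcop2.symm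
  have hHO : H ≤ Subgroup.normalizer (O : Set G) := Subgroup.le_normalizer_of_normal
  have hsup : O ⊔ H = L := by
    apply Subgroup.eq_of_le_of_card_ge (sup_le hOL hHL)
    rw [sup_comm, card_sup_of_coprime hHO hcopHO, hcardL, hcH]
  have htL : ∀ x ∈ L, t * x * t⁻¹ ∈ L := by
    intro x hx
    rw [hL] at hx ⊢
    show QuotientGroup.mk' O (t * x * t⁻¹) ∈ Hb
    rw [map_mul, map_mul, map_inv]
    exact (Subgroup.mem_normalizer_iff.mp htb _).mp hx
  have hB : MulAut.conj t • H ≤ O ⊔ H := by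
    intro x hx
    rw [mem_conj_smul_iff] at hx
    rw [hsup]
    have h1 := htL _ (hHL hx)
    have e : t * (t⁻¹ * x * t) * t⁻¹ = x := by group
    rwa [e] at h1
  have hcB : Nat.card (MulAut.conj t • H : Subgroup G) = Nat.card H := by
    show Nat.card (H.map (MulAut.conj t).toMonoidHom) = Nat.card H
    exact Subgroup.card_map_of_injective (MulAut.conj t).injective
  have hsolO : Group.IsSolvable O := by
    have : Group.IsNilpotent O := hO.isNilpotent
    infer_instance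
  obtain ⟨n, hn, hconj⟩ := sz_conj_sub H O hHO hcopHO (Or.inr hsolO) (MulAut.conj t • H) hB hcB
  have ht' : n⁻¹ * t ∈ Subgroup.normalizer (H : Set G) := by
    rw [mem_normalizer_iff_conj_smul, map_mul, mul_smul, ← hconj, ← mul_smul, ← map_mul,
      inv_mul_cancel, map_one, one_smul]
  have ho : orderOf (n⁻¹ * t) ≠ 0 := (orderOf_pos _).ne'
  obtain ⟨b, m, hm, hbm⟩ := Nat.exists_eq_two_pow_mul_odd ho
  have ht'' : ((n⁻¹ * t) ^ m) ^ (2 ^ b) = 1 := by
    rw [← pow_mul, mul_comm, ← hbm, pow_orderOf_eq_one]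
  have ht''N : (n⁻¹ * t) ^ m ∈ Subgroup.normalizer (H : Set G) := Subgroup.pow_mem _ ht' m
  have hcomm := hS H hHne hHodd ((n⁻¹ * t) ^ m) ht''N ⟨b, ht''⟩
  have hmk : (QuotientGroup.mk (n⁻¹ * t) : G ⧸ O) = QuotientGroup.mk t := by
    rw [QuotientGroup.mk_mul, QuotientGroup.mk_inv, (QuotientGroup.eq_one_iff n).mpr hn, inv_one,
      one_mul]
  obtain ⟨x, rfl⟩ := QuotientGroup.mk_surjective hb
  have hxL : x ∈ O ⊔ H := by
    rw [hsup, hL]
    exact hhb
  obtain ⟨o, ho', h, hh, rfl⟩ := exists_mul_of_mem_sup hHO hxL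
  have hmkx : (QuotientGroup.mk (o * h) : G ⧸ O) = QuotientGroup.mk h := by
    rw [QuotientGroup.mk_mul, (QuotientGroup.eq_one_iff o).mpr ho', one_mul]
  rw [hmkx]
  have hc1 : (QuotientGroup.mk t : G ⧸ O) ^ m * QuotientGroup.mk h =
      QuotientGroup.mk h * (QuotientGroup.mk t : G ⧸ O) ^ m := by
    rw [← hmk, ← QuotientGroup.mk_pow, ← QuotientGroup.mk_mul, ← QuotientGroup.mk_mul,
      hcomm h hh]
  obtain ⟨e, he⟩ := pow_odd (QuotientGroup.mk t : G ⧸ O) k hk m hm.not_two_dvd_nat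
  rw [← he]
  exact (Commute.pow_left (show Commute ((QuotientGroup.mk t : G ⧸ O) ^ m)
    (QuotientGroup.mk h) from hc1) e).eq

theorem main : ∀ (n : ℕ) (G : Type u) [Group G] [Finite G], Nat.card G ≤ n → Star G →
    ∀ P : Sylow 2 G, (P : Subgroup G).Normal := by
  intro n
  induction n with
  | zero =>
    intro G _ _ h
    have := Nat.card_pos (α := G)
    omega
  | succ n ih =>
    intro G _ _ hn hS P
    have hOn : (Cfsg.pCore 2 G).Normal := pCore_normal 2 G
    have hOp : IsPGroup 2 (Cfsg.pCore 2 G) := pCore_isPGroup 2 G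
    by_cases hO : Cfsg.pCore 2 G = ⊥
    · have h2 : ¬ 2 ∣ Nat.card G := by
        intro hdvd
        obtain ⟨t, ht⟩ := exists_prime_orderOf_dvd_card' 2 hdvd
        have htt : t * t = 1 := by
          rw [← pow_two, ← ht]
          exact pow_orderOf_eq_one t
        have hF : t ∈ Cfsg.fittingSubgroup G :=
          Cfsg.Agent.S3937.baer (Nat.card G) G rfl t (engel_of_star hS t htt)
        rw [fitting_eq_pCoreJoin] at hF
        have h3 := pCoreJoin_le_sup 2 G hF
        rw [hO, bot_sup_eq] at h3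
        have h4 : orderOf t ∣ Nat.card (Cfsg.pPrimeCore 2 G) := by
          have h5 := orderOf_dvd_natCard (⟨t, h3⟩ : Cfsg.pPrimeCore 2 G)
          rwa [Subgroup.orderOf_mk] at h5
        rw [ht] at h4
        have h5 := pPrimeCore_coprime 2 G
        have h6 := Nat.Coprime.eq_one_of_dvd h5.symm h4
        omega
      have hP : (P : Subgroup G) = ⊥ := by
        apply Subgroup.eq_bot_of_card_eq _
        rw [P.card_eq_multiplicity, Nat.factorization_eq_zero_of_not_dvd h2, pow_zero]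
      rw [hP]
      infer_instance
    · have hq : Nat.card (G ⧸ Cfsg.pCore 2 G) ≤ n := by
        have e1 := Subgroup.card_eq_card_quotient_mul_card_subgroup (Cfsg.pCore 2 G)
        have e2 : 2 ≤ Nat.card (Cfsg.pCore 2 G) := (Subgroup.one_lt_card_iff_ne_bot _).mpr hO
        have e3 : 0 < Nat.card (G ⧸ Cfsg.pCore 2 G) := Nat.card_pos
        nlinarith
      have hSq := star_quotient hS (Cfsg.pCore 2 G) hOp
      have hf : Function.Surjective (QuotientGroup.mk' (Cfsg.pCore 2 G)) :=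
        QuotientGroup.mk'_surjective _
      have h1 := ih (G ⧸ Cfsg.pCore 2 G) hq hSq (P.mapSurjective hf)
      have h2 : ((P.mapSurjective hf : Sylow 2 _) : Subgroup _).comap
          (QuotientGroup.mk' (Cfsg.pCore 2 G)) = P := by
        rw [Sylow.coe_mapSurjective, Subgroup.comap_map_eq, QuotientGroup.ker_mk']
        exact sup_eq_left.mpr (hOp.le_sylow_of_normal P)
      rw [← h2]
      exact h1.comap _

end

/-- Let G be a finite group such that N_G(H)/C_G(H) has odd order for every nontrivial subgroup H of odd order. Then the Sylow 2-subgroups of G are normal. -/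
theorem result {G : Type*} [Group G] [Finite G]
    (hhom : ∀ H : Subgroup G, H ≠ ⊥ → ¬ 2 ∣ Nat.card ↥H →
        ¬ 2 ∣ (Subgroup.centralizer (H : Set G)).relIndex (Subgroup.normalizer (H : Set G))) (P : Sylow 2 G) :
    (P : Subgroup G).Normal := by
  exact main (Nat.card G) G le_rfl (star_of_hhom hhom) P

end Cfsg.Agent.S4049
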