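import Mathlib
import Cfsg.Statements.S4090
import Cfsg.Agent.S4088

set_option autoImplicit false
open Cfsg

namespace Cfsg.Agent.S4090

variable {G : Type*} [Group G] [Finite G]

/-- the number of `x` with `x H x⁻¹ ≤ Y` -/
noncomputable def XC (H Y : Subgroup G) : ℕ :=
  Nat.card {x : G // H.map (MulAut.conj x).toMonoidHom ≤ Y}

theorem pow_relIndex_mem (A B : Subgroup G) [A.Normal] (y : G) (hy : y ∈ B) :
    y ^ (A.relIndex B) ∈ A := by
  have h1 := Subgroup.pow_index_mem (A.subgroupOf B) (⟨y, hy⟩ : ↥B)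
  rw [Subgroup.mem_subgroupOf] at h1
  exact h1

theorem step_p (p : ℕ) [Fact p.Prime] (P : Sylow p G) (A B : Subgroup G) [hA : A.Normal]
    [hB : B.Normal] (m : ℕ) (ht : A.relIndex B = p ^ m) :
    B ≤ (P : Subgroup G) ⊔ A := by
  have hπs : Function.Surjective (QuotientGroup.mk' A) := QuotientGroup.mk'_surjective A
  have hBn : (B.map (QuotientGroup.mk' A)).Normal := hB.map _ hπs
  have hBp : IsPGroup p ↥(B.map (QuotientGroup.mk' A)) := by
    rintro ⟨_, b, hb, rfl⟩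
    refine ⟨m, ?_⟩
    apply Subtype.ext
    show (QuotientGroup.mk' A b) ^ (p ^ m) = 1
    rw [← map_pow, QuotientGroup.mk'_apply, QuotientGroup.eq_one_iff, ← ht]
    exact pow_relIndex_mem A B b hb
  have h1 : B.map (QuotientGroup.mk' A) ≤ ((P.mapSurjective hπs : Sylow p (G ⧸ A)) :
      Subgroup (G ⧸ A)) :=
    (Cfsg.Agent.Lib.Helper7.le_pCore hBn hBp).trans (Cfsg.Agent.S4348.pCore_le_sylow p _)
  rw [Sylow.coe_mapSurjective] at h1
  have h2 : B ≤ ((P : Subgroup G).map (QuotientGroup.mk' A)).comap (QuotientGroup.mk' A) :=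
    Subgroup.map_le_iff_le_comap.1 h1
  rw [Subgroup.comap_map_eq, QuotientGroup.ker_mk'] at h2
  exact h2

theorem inf_le_of_coprime (p : ℕ) [Fact p.Prime] (P : Sylow p G) (A B : Subgroup G)
    [hA : A.Normal] (hcop : (A.relIndex B).Coprime p) :
    (P : Subgroup G) ⊓ B ≤ A := by
  rintro y ⟨hyP, hyB⟩
  obtain ⟨k, hk⟩ := P.isPGroup' ⟨y, hyP⟩
  have hk' : y ^ (p ^ k) = 1 := by
    have h1 := congrArg Subtype.val hk
    simpa using h1
  have h1 : (QuotientGroup.mk' A y) ^ (p ^ k) = 1 := by rw [← map_pow, hk', map_one]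
  have h2 : (QuotientGroup.mk' A y) ^ (A.relIndex B) = 1 := by
    rw [← map_pow, QuotientGroup.mk'_apply, QuotientGroup.eq_one_iff]
    exact pow_relIndex_mem A B y hyB
  have h3 : orderOf (QuotientGroup.mk' A y) = 1 :=
    Nat.eq_one_of_dvd_coprimes (Nat.Coprime.pow_right k hcop) (orderOf_dvd_of_pow_eq_one h2)
      (orderOf_dvd_of_pow_eq_one h1)
  rw [orderOf_eq_one_iff, QuotientGroup.mk'_apply, QuotientGroup.eq_one_iff] at h3
  exact h3

theorem sup_inf_le (p : ℕ) [Fact p.Prime] (P : Sylow p G) (A B : Subgroup G)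
    [hA : A.Normal] (hAB : A ≤ B) (hcop : (A.relIndex B).Coprime p) :
    ((P : Subgroup G) ⊔ A) ⊓ B ≤ A := by
  rintro y ⟨hy1, hyB⟩
  obtain ⟨p₀, hp₀, a, ha, rfl⟩ := Subgroup.mem_sup_of_normal_right.1 hy1
  have h1 : p₀ ∈ B := by
    have h2 : p₀ = p₀ * a * a⁻¹ := by group
    rw [h2]; exact B.mul_mem hyB (B.inv_mem (hAB ha))
  exact A.mul_mem (inf_le_of_coprime p P A B hcop ⟨hp₀, h1⟩) ha

/-- key equivalence for a subgroup `K₁ ≤ P` -/
theorem key_equiv (p : ℕ) [Fact p.Prime] (P : Sylow p G) (A B : Subgroup G)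
    [hA : A.Normal] [hB : B.Normal] (hAB : A ≤ B) (hcop : (A.relIndex B).Coprime p)
    (K₁ : Subgroup G) (hK₁ : K₁ ≤ P) (w : G) (hw : w ∈ B) :
    K₁.map (MulAut.conj w).toMonoidHom ≤ (P : Subgroup G) ⊔ A ↔
      ∀ k ∈ K₁, k * w * k⁻¹ * w⁻¹ ∈ A := by
  constructor
  · intro h k hk
    have h1 : w * k * w⁻¹ ∈ (P : Subgroup G) ⊔ A := h ⟨k, hk, rfl⟩
    have h2 : k * w * k⁻¹ * w⁻¹ ∈ (P : Subgroup G) ⊔ A := by
      have e : k * w * k⁻¹ * w⁻¹ = k * (w * k * w⁻¹)⁻¹ := by group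
      rw [e]
      exact Subgroup.mul_mem _ ((le_sup_left : (P : Subgroup G) ≤ _) (hK₁ hk))
        (Subgroup.inv_mem _ h1)
    have h3 : k * w * k⁻¹ * w⁻¹ ∈ B :=
      B.mul_mem (hB.conj_mem w hw k) (B.inv_mem hw)
    exact sup_inf_le p P A B hAB hcop ⟨h2, h3⟩
  · rintro h _ ⟨k, hk, rfl⟩
    have h1 := h k hk
    have e : (MulAut.conj w).toMonoidHom k = (k * w * k⁻¹ * w⁻¹)⁻¹ * k := by
      show w * k * w⁻¹ = _
      group
    rw [e]
    exact Subgroup.mul_mem _ ((le_sup_right : A ≤ _) (A.inv_mem h1))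
      ((le_sup_left : (P : Subgroup G) ≤ _) (hK₁ hk))

/-- a `p`-subgroup of `P B` is conjugate into `P` by an element of `B`. -/
theorem exists_conj_le (p : ℕ) [Fact p.Prime] (P : Sylow p G) (B : Subgroup G) [hB : B.Normal]
    (K : Subgroup G) (hKp : IsPGroup p K) (hK : K ≤ (P : Subgroup G) ⊔ B) :
    ∃ b ∈ B, K.map (MulAut.conj b).toMonoidHom ≤ P := by
  set Y := (P : Subgroup G) ⊔ B with hY
  obtain ⟨Q', hQ'⟩ := (hKp.comap_subtype (K := Y)).exists_le_sylow
  obtain ⟨l, hl⟩ := MulAction.exists_smul_eq ↥Y (P.subtype (le_sup_left : (P : Subgroup G) ≤ Y)) Q'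
  -- `l⁻¹ K l ≤ P`
  have h1 : ∀ k ∈ K, (l : G)⁻¹ * k * (l : G) ∈ (P : Subgroup G) := by
    intro k hk
    have h2 : (⟨k, hK hk⟩ : ↥Y) ∈ (Q' : Subgroup ↥Y) := hQ' (by
      show Y.subtype ⟨k, hK hk⟩ ∈ K
      exact hk)
    have h2' : (⟨k, hK hk⟩ : ↥Y) ∈ ((l • P.subtype (le_sup_left : (P : Subgroup G) ≤ Y) :
        Sylow p ↥Y) : Subgroup ↥Y) := by rw [hl]; exact h2
    rw [Sylow.coe_subgroup_smul, Subgroup.mem_pointwise_smul_iff_inv_smul_mem] at h2'
    have h3 : l⁻¹ * ⟨k, hK hk⟩ * l ∈ ((P.subtype (le_sup_left : (P : Subgroup G) ≤ Y) :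
        Sylow p ↥Y) : Subgroup ↥Y) := by
      simpa [MulAut.smul_def] using h2'
    rw [Sylow.coe_subtype, Subgroup.mem_subgroupOf] at h3
    simpa using h3
  have hl' : ((l : G))⁻¹ ∈ Y := Y.inv_mem l.2
  obtain ⟨p₀, hp₀, b, hb, hpb⟩ := Subgroup.mem_sup_of_normal_right.1 hl'
  refine ⟨b, hb, ?_⟩
  rintro _ ⟨k, hk, rfl⟩
  have h2 := h1 k hk
  rw [← hpb] at h2
  have e : (MulAut.conj b).toMonoidHom k = p₀⁻¹ * (p₀ * b * k * (p₀ * b)⁻¹) * p₀ := by
    simp [MulAut.conj_apply]; group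
  rw [e]
  have h3 : (l : G) = (p₀ * b)⁻¹ := by rw [hpb, inv_inv]
  rw [h3] at h2
  exact Subgroup.mul_mem _ (Subgroup.mul_mem _ (Subgroup.inv_mem _ hp₀) h2) hp₀


theorem fiber_count (p : ℕ) [Fact p.Prime] (P : Sylow p G) (A B : Subgroup G)
    [hA : A.Normal] [hB : B.Normal] (hAB : A ≤ B) (hcop : (A.relIndex B).Coprime p)
    (H : Subgroup G) (hH : IsPGroup p H) (x : G)
    (hx : H.map (MulAut.conj x).toMonoidHom ≤ (P : Subgroup G) ⊔ B) :
    Nat.card {u : G // u ∈ B ∧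
        H.map (MulAut.conj (u * x)).toMonoidHom ≤ (P : Subgroup G) ⊔ A} =
      Nat.card {u : G // u ∈ B ∧ ∀ h ∈ H, h * u * h⁻¹ * u⁻¹ ∈ A} := by
  have hKp : IsPGroup p (H.map (MulAut.conj x).toMonoidHom) := hH.map _
  obtain ⟨u₀, hu₀, hu₀P⟩ := exists_conj_le p P B _ hKp hx
  obtain ⟨g, hg⟩ : ∃ g : G, g = u₀ * x := ⟨_, rfl⟩
  have hK₁ : H.map (MulAut.conj g).toMonoidHom ≤ P := by
    rw [hg, Cfsg.Agent.S4088.map_conj_mul]; exact hu₀P
  refine Nat.card_congr (Equiv.subtypeEquiv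
    ((Equiv.mulRight (u₀⁻¹ * g)).trans (Equiv.mulLeft g⁻¹)) ?_)
  intro u
  have hw : u * x = (u * u₀⁻¹) * g := by rw [hg]; group
  have hv : ((Equiv.mulRight (u₀⁻¹ * g)).trans (Equiv.mulLeft g⁻¹)) u =
      g⁻¹ * (u * u₀⁻¹) * g := by
    simp [mul_assoc]
  have hB1 : u ∈ B ↔ u * u₀⁻¹ ∈ B :=
    ⟨fun h => B.mul_mem h (B.inv_mem hu₀), fun h => by
      have := B.mul_mem h hu₀; simpa using this⟩
  rw [hv, hw, Cfsg.Agent.S4088.map_conj_mul, hB1]
  generalize u * u₀⁻¹ = w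
  have hB2 : g⁻¹ * w * g ∈ B ↔ w ∈ B := by
    constructor
    · intro h
      have h1 := hB.conj_mem _ h g
      have e : g * (g⁻¹ * w * g) * g⁻¹ = w := by group
      rwa [e] at h1
    · intro h
      have h1 := hB.conj_mem _ h g⁻¹
      have e : g⁻¹ * w * g⁻¹⁻¹ = g⁻¹ * w * g := by group
      rwa [e] at h1
  rw [hB2]
  refine and_congr_right (fun hwB => ?_)
  rw [key_equiv p P A B hAB hcop _ hK₁ _ hwB]
  constructor
  · intro h1 h hh
    have h2 := h1 (g * h * g⁻¹) ⟨h, hh, rfl⟩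
    have h3 := hA.conj_mem _ h2 g⁻¹
    have e : g⁻¹ * (g * h * g⁻¹ * w * (g * h * g⁻¹)⁻¹ * w⁻¹) * g⁻¹⁻¹ =
        h * (g⁻¹ * w * g) * h⁻¹ * (g⁻¹ * w * g)⁻¹ := by group
    rw [e] at h3; exact h3
  · rintro h1 _ ⟨h, hh, rfl⟩
    have h2 := h1 h hh
    have h3 := hA.conj_mem _ h2 g
    have e : g * (h * (g⁻¹ * w * g) * h⁻¹ * (g⁻¹ * w * g)⁻¹) * g⁻¹ =
        (MulAut.conj g).toMonoidHom h * w * ((MulAut.conj g).toMonoidHom h)⁻¹ * w⁻¹ := by
      show _ = g * h * g⁻¹ * w * (g * h * g⁻¹)⁻¹ * w⁻¹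
      group
    rw [e] at h3; exact h3

theorem step_eq (p : ℕ) [Fact p.Prime] (P : Sylow p G) (A B : Subgroup G)
    [hA : A.Normal] [hB : B.Normal] (hAB : A ≤ B) (hcop : (A.relIndex B).Coprime p)
    (H : Subgroup G) (hH : IsPGroup p H) :
    XC H ((P : Subgroup G) ⊔ A) * Nat.card B =
      XC H ((P : Subgroup G) ⊔ B) *
        Nat.card {u : G // u ∈ B ∧ ∀ h ∈ H, h * u * h⁻¹ * u⁻¹ ∈ A} := by
  classical
  have hpB : ∀ x u : G, u ∈ B →
      H.map (MulAut.conj (u * x)).toMonoidHom ≤ (P : Subgroup G) ⊔ A →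
      H.map (MulAut.conj x).toMonoidHom ≤ (P : Subgroup G) ⊔ B := by
    rintro x u hu h _ ⟨k, hk, rfl⟩
    have h1 : (MulAut.conj (u * x)).toMonoidHom k ∈ (P : Subgroup G) ⊔ A := h ⟨k, hk, rfl⟩
    have h2 : (MulAut.conj (u * x)).toMonoidHom k ∈ (P : Subgroup G) ⊔ B :=
      (sup_le_sup_left hAB _) h1
    have hu' : u ∈ (P : Subgroup G) ⊔ B := (le_sup_right : B ≤ _) hu
    have e : (MulAut.conj x).toMonoidHom k =
        u⁻¹ * (MulAut.conj (u * x)).toMonoidHom k * u := by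
      show x * k * x⁻¹ = u⁻¹ * ((u * x) * k * (u * x)⁻¹) * u
      group
    rw [e]
    exact Subgroup.mul_mem _ (Subgroup.mul_mem _ (Subgroup.inv_mem _ hu') h2) hu'
  have c1 : Nat.card {q : G × G // q.2 ∈ B ∧
      H.map (MulAut.conj (q.2 * q.1)).toMonoidHom ≤ (P : Subgroup G) ⊔ A} =
      XC H ((P : Subgroup G) ⊔ A) * Nat.card B := by
    rw [XC, ← Nat.card_prod]
    refine Nat.card_congr
      { toFun := fun q => (⟨q.1.2 * q.1.1, q.2.2⟩, ⟨q.1.2, q.2.1⟩)
        invFun := fun s => ⟨(s.2.1⁻¹ * s.1.1, s.2.1), s.2.2, by simpa using s.1.2⟩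
        left_inv := ?_
        right_inv := ?_ }
    · rintro ⟨⟨x, u⟩, h1, h2⟩; simp
    · rintro ⟨⟨y, hy⟩, ⟨u, hu⟩⟩; simp
  have c2 : Nat.card {q : G × G // q.2 ∈ B ∧
      H.map (MulAut.conj (q.2 * q.1)).toMonoidHom ≤ (P : Subgroup G) ⊔ A} =
      XC H ((P : Subgroup G) ⊔ B) *
        Nat.card {u : G // u ∈ B ∧ ∀ h ∈ H, h * u * h⁻¹ * u⁻¹ ∈ A} := by
    have e : {q : G × G // q.2 ∈ B ∧
        H.map (MulAut.conj (q.2 * q.1)).toMonoidHom ≤ (P : Subgroup G) ⊔ A} ≃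
        Σ x : {x : G // H.map (MulAut.conj x).toMonoidHom ≤ (P : Subgroup G) ⊔ B},
        {u : G // u ∈ B ∧
          H.map (MulAut.conj (u * x.1)).toMonoidHom ≤ (P : Subgroup G) ⊔ A} :=
      { toFun := fun q => ⟨⟨q.1.1, hpB _ _ q.2.1 q.2.2⟩, ⟨q.1.2, q.2⟩⟩
        invFun := fun s => ⟨(s.1.1, s.2.1), s.2.2⟩
        left_inv := fun q => rfl
        right_inv := fun s => rfl }
    letI : Fintype {x : G // H.map (MulAut.conj x).toMonoidHom ≤ (P : Subgroup G) ⊔ B} :=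
      Fintype.ofFinite _
    rw [Nat.card_congr e, Nat.card_sigma]
    rw [Finset.sum_congr rfl (fun x _ => fiber_count p P A B hAB hcop H hH x.1 x.2)]
    rw [Finset.sum_const, Finset.card_univ, smul_eq_mul, XC, ← Nat.card_eq_fintype_card]
  rw [← c1, c2]

/-- the subgroup of `u ∈ B` centralising `H` modulo `A` -/
def CD (A B H : Subgroup G) [hA : A.Normal] : Subgroup G where
  carrier := {u | u ∈ B ∧ ∀ h ∈ H, h * u * h⁻¹ * u⁻¹ ∈ A}
  mul_mem' := by
    rintro u v ⟨hu, hu'⟩ ⟨hv, hv'⟩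
    refine ⟨B.mul_mem hu hv, fun h hh => ?_⟩
    have e : h * (u * v) * h⁻¹ * (u * v)⁻¹ =
        (h * u * h⁻¹ * u⁻¹) * (u * (h * v * h⁻¹ * v⁻¹) * u⁻¹) := by group
    rw [e]
    exact A.mul_mem (hu' h hh) (hA.conj_mem _ (hv' h hh) u)
  one_mem' := ⟨B.one_mem, fun h hh => by simp⟩
  inv_mem' := by
    rintro u ⟨hu, hu'⟩
    refine ⟨B.inv_mem hu, fun h hh => ?_⟩
    have e : h * u⁻¹ * h⁻¹ * u⁻¹⁻¹ = u⁻¹ * (h * u * h⁻¹ * u⁻¹)⁻¹ * u⁻¹⁻¹ := by group
    rw [e]
    exact hA.conj_mem _ (A.inv_mem (hu' h hh)) u⁻¹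

theorem card_dvd_CD (A B H : Subgroup G) [hA : A.Normal] (hAB : A ≤ B) :
    Nat.card A ∣ Nat.card {u : G // u ∈ B ∧ ∀ h ∈ H, h * u * h⁻¹ * u⁻¹ ∈ A} := by
  have h1 : A ≤ CD A B H := by
    intro a ha
    refine ⟨hAB ha, fun h hh => ?_⟩
    exact A.mul_mem (hA.conj_mem a ha h) (A.inv_mem ha)
  exact Subgroup.card_dvd_of_le h1

theorem XC_top (H : Subgroup G) : XC H ⊤ = Nat.card G := by
  rw [XC]
  exact Nat.card_congr (Equiv.subtypeUnivEquiv (fun x => le_top))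

theorem step_val (p : ℕ) [Fact p.Prime] (P : Sylow p G) (A B : Subgroup G)
    [hA : A.Normal] [hB : B.Normal] (hAB : A ≤ B) (H : Subgroup G) (hH : IsPGroup p H)
    (hfac : (∃ m : ℕ, A.relIndex B = p ^ m) ∨ (A.relIndex B).Coprime p) (c₀ : ℕ)
    (hBv : XC H ((P : Subgroup G) ⊔ B) = Nat.card B * c₀) :
    XC H ((P : Subgroup G) ⊔ A) = Nat.card A *
      ((if (A.relIndex B).Coprime p then
        Nat.card {u : G // u ∈ B ∧ ∀ h ∈ H, h * u * h⁻¹ * u⁻¹ ∈ A} / Nat.card A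
        else A.relIndex B) * c₀) := by
  by_cases hcop : (A.relIndex B).Coprime p
  · rw [if_pos hcop, ← mul_assoc, Nat.mul_div_cancel' (card_dvd_CD A B H hAB)]
    have h1 := step_eq p P A B hAB hcop H hH
    rw [hBv] at h1
    have hpos : 0 < Nat.card B := Nat.card_pos
    apply Nat.eq_of_mul_eq_mul_right hpos
    rw [h1]; ring
  · rw [if_neg hcop]
    obtain ⟨m, hm⟩ : ∃ m : ℕ, A.relIndex B = p ^ m := by
      rcases hfac with h | h
      · exact h
      · exact absurd h hcop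
    have h1 : (P : Subgroup G) ⊔ A = (P : Subgroup G) ⊔ B :=
      le_antisymm (sup_le_sup_left hAB _) (sup_le le_sup_left (step_p p P A B m hm))
    rw [h1, hBv, ← Cfsg.Agent.Lib.Helper7.card_mul_relIndex_of_le hAB, mul_assoc]

theorem chainX (p : ℕ) [Fact p.Prime] (P : Sylow p G) (H : Subgroup G) (hH : IsPGroup p H) :
    ∀ (n : ℕ) (M : Fin (n + 1) → Subgroup G), M (Fin.last n) = ⊤ → Monotone M →
      (∀ i, (M i).Normal) →
      (∀ i : Fin n, (∃ m : ℕ, (M i.castSucc).relIndex (M i.succ) = p ^ m) ∨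
        ((M i.castSucc).relIndex (M i.succ)).Coprime p) →
      XC H ((P : Subgroup G) ⊔ M 0) = Nat.card (M 0) *
        ∏ i : Fin n, (if ((M i.castSucc).relIndex (M i.succ)).Coprime p then
          Nat.card {u : G // u ∈ M i.succ ∧ ∀ h ∈ H, h * u * h⁻¹ * u⁻¹ ∈ M i.castSucc} /
            Nat.card (M i.castSucc)
          else (M i.castSucc).relIndex (M i.succ)) := by
  intro n
  induction n with
  | zero =>
    intro M hn _ _ _
    have h0 : M 0 = ⊤ := hn
    rw [h0, sup_top_eq, XC_top, Subgroup.card_top]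
    simp
  | succ n ih =>
    intro M hn hmono hnormal hfac
    have ih' := ih (fun j => M j.succ) hn (fun a b hab => hmono (Fin.succ_le_succ_iff.2 hab))
      (fun i => hnormal _) (fun i => hfac i.succ)
    rw [Fin.prod_univ_succ]
    haveI := hnormal 0
    haveI := hnormal (0 : Fin (n + 1)).succ
    have hAB : M 0 ≤ M (0 : Fin (n + 1)).succ := hmono (Fin.zero_le _)
    exact step_val p P (M 0) (M (0 : Fin (n + 1)).succ) hAB H hH (hfac 0) _ ih'

theorem chainCard : ∀ (n : ℕ) (M : Fin (n + 1) → Subgroup G), Monotone M →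
    ∏ i : Fin n, (M i.castSucc).relIndex (M i.succ) = (M 0).relIndex (M (Fin.last n)) := by
  intro n
  induction n with
  | zero =>
    intro M _
    have h0 : M (Fin.last 0) = M 0 := rfl
    rw [h0, Subgroup.relIndex_self]
    simp
  | succ n ih =>
    intro M hmono
    have ih' := ih (fun j => M j.succ) (fun a b hab => hmono (Fin.succ_le_succ_iff.2 hab))
    rw [Fin.prod_univ_succ]
    have h1 : ∏ i : Fin n, (M i.succ.castSucc).relIndex (M i.succ.succ) =
        (M (0 : Fin (n + 1)).succ).relIndex (M (Fin.last (n + 1))) := ih'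
    rw [h1]
    exact Subgroup.relIndex_mul_relIndex _ _ _ (hmono (Fin.zero_le _)) (hmono (Fin.le_last _))

/-- Let G be a finite p-solvable group, H a p-subgroup of G and P a Sylow p-subgroup, and fix a chain of normal subgroups 1 = M₀ ≤ M₁ ≤ ⋯ ≤ Mₙ = G of G each of whose factors is a p-group or a p'-group. Then the number of elements g of G such that H is subnormal in the subgroup generated by H and g equals the order of P times the product, over the factors Mᵢ₊₁/Mᵢ of order prime to p, of the order of the centralizer of H in Mᵢ₊₁/Mᵢ (counted as the number of u ∈ Mᵢ₊₁ with [h, u] ∈ Mᵢ for all h ∈ H, divided by the order of Mᵢ). -/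
theorem result {G : Type*} [Group G] [Finite G] (p : ℕ) [Fact p.Prime]
    (hG : Cfsg.IsPSolvable p G) (H : Subgroup G) (hH : IsPGroup p H) (P : Sylow p G)
    (n : ℕ) (M : Fin (n + 1) → Subgroup G) (h0 : M 0 = ⊥) (hn : M (Fin.last n) = ⊤) (hmono : Monotone M)
    (hnormal : ∀ i, (M i).Normal)
    (hfac : ∀ i : Fin n, (∃ m : ℕ, (M i.castSucc).relIndex (M i.succ) = p ^ m) ∨ ((M i.castSucc).relIndex (M i.succ)).Coprime p) :
    Nat.card {g : G // ((H).subgroupOf (H ⊔ Subgroup.zpowers g)).IsSubnormal} =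
      Nat.card (P : Subgroup G) *
        ∏ i : Fin n, (if ((M i.castSucc).relIndex (M i.succ)).Coprime p then
          Nat.card {u : G // u ∈ M i.succ ∧ ∀ h ∈ H, h * u * h⁻¹ * u⁻¹ ∈ M i.castSucc} / Nat.card (M i.castSucc)
          else 1) := by
  classical
  have hE : Nat.card {g : G // ((H).subgroupOf (H ⊔ Subgroup.zpowers g)).IsSubnormal} =
      Nat.card {g : G // Cfsg.Agent.S4088.Inv p H g} :=
    Nat.card_congr (Equiv.subtypeEquivRight (fun g => Cfsg.Agent.S4088.sn_iff_inv p H hH g))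
  have h1 := Cfsg.Agent.S4088.main p (Nat.card G) G rfl H hH P
  have hX1 := Cfsg.Agent.S4088.countX1 p H P
  have hX : Nat.card {g : G // ((H).subgroupOf (H ⊔ Subgroup.zpowers g)).IsSubnormal} =
      XC H (P : Subgroup G) := by
    rw [hE, h1, ← hX1, XC]
  have hch := chainX p P H hH n M hn hmono hnormal hfac
  rw [h0, sup_bot_eq, Subgroup.card_bot, one_mul] at hch
  rw [hX, hch]
  have hsplit : ∀ i : Fin n, (if ((M i.castSucc).relIndex (M i.succ)).Coprime p then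
          Nat.card {u : G // u ∈ M i.succ ∧ ∀ h ∈ H, h * u * h⁻¹ * u⁻¹ ∈ M i.castSucc} /
            Nat.card (M i.castSucc)
          else (M i.castSucc).relIndex (M i.succ)) =
        (if ((M i.castSucc).relIndex (M i.succ)).Coprime p then 1
          else (M i.castSucc).relIndex (M i.succ)) *
        (if ((M i.castSucc).relIndex (M i.succ)).Coprime p then
          Nat.card {u : G // u ∈ M i.succ ∧ ∀ h ∈ H, h * u * h⁻¹ * u⁻¹ ∈ M i.castSucc} /
            Nat.card (M i.castSucc) else 1) := by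
    intro i; split_ifs <;> simp
  rw [Finset.prod_congr rfl (fun i _ => hsplit i), Finset.prod_mul_distrib]
  congr 1
  have hA : ∃ k, ∏ i : Fin n, (if ((M i.castSucc).relIndex (M i.succ)).Coprime p then 1
      else (M i.castSucc).relIndex (M i.succ)) = p ^ k := by
    apply Finset.prod_induction _ (fun x => ∃ k, x = p ^ k)
    · rintro a b ⟨k, rfl⟩ ⟨l, rfl⟩; exact ⟨k + l, (pow_add _ _ _).symm⟩
    · exact ⟨0, (pow_zero _).symm⟩
    · intro i _
      split_ifs with h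
      · exact ⟨0, (pow_zero _).symm⟩
      · rcases hfac i with h' | h'
        · exact h'
        · exact absurd h' h
  have hB : (∏ i : Fin n, (if ((M i.castSucc).relIndex (M i.succ)).Coprime p then
      (M i.castSucc).relIndex (M i.succ) else 1)).Coprime p := by
    apply Nat.Coprime.prod_left
    intro i _
    split_ifs with h
    · exact h
    · exact Nat.coprime_one_left _
  have hAB : (∏ i : Fin n, (if ((M i.castSucc).relIndex (M i.succ)).Coprime p then 1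
      else (M i.castSucc).relIndex (M i.succ))) *
      (∏ i : Fin n, (if ((M i.castSucc).relIndex (M i.succ)).Coprime p then
      (M i.castSucc).relIndex (M i.succ) else 1)) = Nat.card G := by
    rw [← Finset.prod_mul_distrib]
    have h2 : ∀ i : Fin n, (if ((M i.castSucc).relIndex (M i.succ)).Coprime p then 1
        else (M i.castSucc).relIndex (M i.succ)) *
        (if ((M i.castSucc).relIndex (M i.succ)).Coprime p then
        (M i.castSucc).relIndex (M i.succ) else 1) = (M i.castSucc).relIndex (M i.succ) := by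
      intro i; split_ifs <;> simp
    rw [Finset.prod_congr rfl (fun i _ => h2 i), chainCard n M hmono, h0, hn,
      Subgroup.relIndex_bot_left, Subgroup.card_top]
  obtain ⟨k, hk⟩ := hA
  rw [hk] at hAB ⊢
  generalize (∏ i : Fin n, (if ((M i.castSucc).relIndex (M i.succ)).Coprime p then
      (M i.castSucc).relIndex (M i.succ) else 1)) = b at hB hAB
  obtain ⟨a, ha⟩ := P.isPGroup'.exists_card_eq
  have hidx : ¬ p ∣ (P : Subgroup G).index := P.not_dvd_index
  have hmul := (P : Subgroup G).card_mul_index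
  rw [ha] at hmul ⊢
  have hp := (Fact.out : p.Prime)
  have hcop1 : (p ^ k).Coprime (P : Subgroup G).index :=
    Nat.Coprime.pow_left k ((Nat.Prime.coprime_iff_not_dvd hp).2 hidx)
  have hcop2 : (p ^ a).Coprime b := Nat.Coprime.pow_left a hB.symm
  have d1 : p ^ k ∣ p ^ a :=
    hcop1.dvd_of_dvd_mul_right (by rw [hmul, ← hAB]; exact dvd_mul_right _ _)
  have d2 : p ^ a ∣ p ^ k :=
    hcop2.dvd_of_dvd_mul_right (by rw [hAB, ← hmul]; exact dvd_mul_right _ _)
  exact Nat.dvd_antisymm d1 d2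

end Cfsg.Agent.S4090
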