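import Cfsg.Statements.S4113
-- import your own Cfsg.Agent.* helpers here
import Mathlib
import Cfsg.Agent.Lib.Helper7.Coprime

set_option autoImplicit false
open Cfsg

namespace Cfsg.Agent.S4113

section
universe u
open Cfsg.Agent.Lib.Helper7
variable {G : Type u} [Group G]

theorem mem_map_conj {K : Subgroup G} {g x : G} :
    x ∈ K.map (MulAut.conj g).toMonoidHom ↔ g⁻¹ * x * g ∈ K := by
  constructor
  · rintro ⟨k, hk, rfl⟩
    have : g⁻¹ * ((MulAut.conj g).toMonoidHom k) * g = k := by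
      simp [MulAut.conj_apply, mul_assoc]
    rw [this]; exact hk
  · intro h
    refine ⟨g⁻¹ * x * g, h, ?_⟩
    simp [MulAut.conj_apply, mul_assoc]

theorem exists_mul (M H : Subgroup G) [M.Normal] (hHM : H ⊔ M = ⊤) (g : G) :
    ∃ m ∈ M, ∃ h ∈ H, g = m * h := by
  have hg : g ∈ M ⊔ H := by rw [sup_comm, hHM]; exact Subgroup.mem_top g
  exact exists_mul_of_mem_sup (N := M) (A := H)
    (by rw [Subgroup.normalizer_eq_top]; exact le_top) hg

theorem fwd (N M : Subgroup G) [N.Normal] [M.Normal] (hMN : M ≤ N) (hM1 : M ≠ ⊥) (hN2 : N ≠ ⊤)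
    (H : Subgroup G) (hHM : H ⊔ M = ⊤) (hHM' : H ⊓ M = ⊥)
    (hc : ∀ x ∈ M, x ≠ 1 → Subgroup.centralizer ({x} : Set G) ≤ N) :
    H ≠ ⊥ ∧ H ≠ ⊤ ∧ H ⊓ N < H ∧
      ∀ g : G, g ∉ H → H ⊓ H.map (MulAut.conj g).toMonoidHom ≤ N := by
  refine ⟨?_, ?_, ?_, ?_⟩
  · rintro rfl
    rw [bot_sup_eq] at hHM
    apply hN2
    rw [eq_top_iff, ← hHM]
    exact hMN
  · rintro rfl
    rw [top_inf_eq] at hHM'
    exact hM1 hHM'
  · refine lt_of_le_of_ne inf_le_left ?_
    intro h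
    apply hN2
    rw [eq_top_iff, ← hHM]
    exact sup_le (inf_eq_left.1 h) hMN
  · intro g hg y hy
    obtain ⟨hy1, hy2⟩ := Subgroup.mem_inf.1 hy
    rw [mem_map_conj] at hy2
    obtain ⟨m, hm, h, hh, rfl⟩ := exists_mul M H hHM g
    have hm1 : m ≠ 1 := by
      rintro rfl
      rw [one_mul] at hg
      exact hg hh
    have h1 : m⁻¹ * y * m ∈ H := by
      have h0 := mul_mem (mul_mem hh hy2) (inv_mem hh)
      have e : h * ((m * h)⁻¹ * y * (m * h)) * h⁻¹ = m⁻¹ * y * m := by group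
      rwa [e] at h0
    have h2 : y⁻¹ * (m⁻¹ * y * m) ∈ H := mul_mem (inv_mem hy1) h1
    have h3 : y⁻¹ * (m⁻¹ * y * m) ∈ M := by
      have h30 : y⁻¹ * m⁻¹ * y⁻¹⁻¹ ∈ M :=
        Subgroup.Normal.conj_mem (inferInstance : M.Normal) _ (inv_mem hm) y⁻¹
      have h31 := mul_mem h30 hm
      have e : y⁻¹ * m⁻¹ * y⁻¹⁻¹ * m = y⁻¹ * (m⁻¹ * y * m) := by group
      rwa [e] at h31
    have h4 : y⁻¹ * (m⁻¹ * y * m) = 1 := by
      have : y⁻¹ * (m⁻¹ * y * m) ∈ H ⊓ M := ⟨h2, h3⟩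
      rw [hHM'] at this
      exact this
    have h5 : m * y = y * m := by
      have h50 : m⁻¹ * y * m = y := (inv_mul_eq_one.1 h4).symm
      calc m * y = m * (m⁻¹ * y * m) := by rw [h50]
        _ = y * m := by group
    apply hc m hm hm1
    rw [Subgroup.mem_centralizer_iff]
    intro w hw
    rw [Set.mem_singleton_iff] at hw
    rw [hw]; exact h5

theorem bwd [Finite G] (N M : Subgroup G) [N.Normal] [M.Normal] (hMN : M ≤ N)
    (H : Subgroup G) (hHM : H ⊔ M = ⊤) (hHM' : H ⊓ M = ⊥)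
    (hTI : ∀ g : G, g ∉ H → H ⊓ H.map (MulAut.conj g).toMonoidHom ≤ N) :
    ∀ x ∈ M, x ≠ 1 → Subgroup.centralizer ({x} : Set G) ≤ N := by
  have hF : ∀ m ∈ M, m ≠ 1 → ∀ y ∈ H, y * m = m * y → y ∈ N := by
    intro m hm hm1 y hy hcomm
    have hmH : m ∉ H := by
      intro hmH
      have : m ∈ H ⊓ M := ⟨hmH, hm⟩
      rw [hHM'] at this
      exact hm1 this
    apply hTI m hmH
    refine Subgroup.mem_inf.2 ⟨hy, ?_⟩
    rw [mem_map_conj]
    have e : m⁻¹ * y * m = y := by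
      rw [mul_assoc, hcomm, inv_mul_cancel_left]
    rw [e]; exact hy
  intro x hxM hx1 c hc
  rw [Subgroup.mem_centralizer_iff] at hc
  have hcx : x * c = c * x := hc x rfl
  obtain ⟨m', hm', h, hh, rfl⟩ := exists_mul M H hHM c
  suffices hhN : h ∈ N from mul_mem (hMN hm') hhN
  by_contra hhN
  have hfpf : ∀ m ∈ M, m * h = h * m → m = 1 := by
    intro m hm hcomm
    by_contra hm1
    exact hhN (hF m hm hm1 h hh hcomm.symm)
  let f : M → M := fun m => ⟨(m : G)⁻¹ * h * m * h⁻¹, by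
      have h1 : h * (m : G) * h⁻¹ ∈ M :=
        Subgroup.Normal.conj_mem (inferInstance : M.Normal) _ m.2 h
      have h2 := mul_mem (inv_mem m.2) h1
      have e : (m : G)⁻¹ * (h * m * h⁻¹) = (m : G)⁻¹ * h * m * h⁻¹ := by group
      rwa [e] at h2⟩
  have hinj : Function.Injective f := by
    intro a b hab
    have h1 : (a : G)⁻¹ * h * a * h⁻¹ = (b : G)⁻¹ * h * b * h⁻¹ := congrArg Subtype.val hab
    have h2 : (a : G)⁻¹ * h * a = (b : G)⁻¹ * h * b := mul_right_cancel h1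
    have h3 : ((b : G) * (a : G)⁻¹) * h = h * ((b : G) * (a : G)⁻¹) := by
      calc (b : G) * (a : G)⁻¹ * h = b * ((a : G)⁻¹ * h * a) * (a : G)⁻¹ := by group
        _ = b * ((b : G)⁻¹ * h * b) * (a : G)⁻¹ := by rw [h2]
        _ = h * ((b : G) * (a : G)⁻¹) := by group
    have h4 := hfpf _ (mul_mem b.2 (inv_mem a.2)) h3
    apply Subtype.ext
    exact (mul_inv_eq_one.1 h4).symm
  obtain ⟨m, hm⟩ := (Finite.injective_iff_surjective.1 hinj) ⟨m', hm'⟩
  have hm2 : (m : G)⁻¹ * h * m * h⁻¹ = m' := congrArg Subtype.val hm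
  have hconj : (m : G)⁻¹ * h * m = m' * h := by
    rw [← hm2]; group
  rw [← hconj] at hcx
  -- h commutes with m x m⁻¹
  have hb : h * ((m : G) * x * (m : G)⁻¹) = ((m : G) * x * (m : G)⁻¹) * h := by
    calc h * ((m : G) * x * (m : G)⁻¹) = m * ((m : G)⁻¹ * h * m * x) * (m : G)⁻¹ := by group
      _ = m * (x * ((m : G)⁻¹ * h * m)) * (m : G)⁻¹ := by rw [hcx]
      _ = ((m : G) * x * (m : G)⁻¹) * h := by group
  have hbM : (m : G) * x * (m : G)⁻¹ ∈ M :=
    Subgroup.Normal.conj_mem (inferInstance : M.Normal) _ hxM m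
  have hb1 : (m : G) * x * (m : G)⁻¹ ≠ 1 := by
    intro h1
    apply hx1
    have e : x = (m : G)⁻¹ * ((m : G) * x * (m : G)⁻¹) * m := by group
    rw [e, h1]; group
  exact hhN (hF _ hbM hb1 h hh hb)

end

/-- Let G be a finite group, M ≤ N non-trivial proper normal subgroups, and H a subgroup with HM = G and H ∩ M = 1. Then every element of G outside N acts fixed-point-freely on M (C_G(x) ≤ N for every x ∈ M, x ≠ 1) if and only if H ∩ gHg⁻¹ ≤ H ∩ N for every g outside H, with H proper and non-trivial and H ∩ N proper in H. -/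
theorem result {G : Type*} [Group G] [Finite G] (N M : Subgroup G) [N.Normal] [M.Normal] (hMN : M ≤ N) (hM1 : M ≠ ⊥) (hN2 : N ≠ ⊤)
    (H : Subgroup G) (hHM : H ⊔ M = ⊤) (hHM' : H ⊓ M = ⊥) :
    (∀ x ∈ M, x ≠ 1 → Subgroup.centralizer ({x} : Set G) ≤ N) ↔
      (H ≠ ⊥ ∧ H ≠ ⊤ ∧ H ⊓ N < H ∧ ∀ g : G, g ∉ H → H ⊓ H.map (MulAut.conj g).toMonoidHom ≤ N) := by
  constructor
  · intro hc
    exact fwd N M hMN hM1 hN2 H hHM hHM' hc
  · rintro ⟨_, _, _, hTI⟩
    exact bwd N M hMN H hHM hHM' hTI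

end Cfsg.Agent.S4113
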