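import Cfsg.Statements.S4126
import Cfsg.Agent.S1946
import Cfsg.Agent.Lib.Helper3.ClassSize

set_option autoImplicit false
open Cfsg

namespace Cfsg.Agent.S4126

open Cfsg.Agent.Lib.Helper3

/-- Let G be a finite group and p a prime. Suppose every element of order p, and when p = 2 also every element of order 4, has a conjugacy class of p-power size. Then G has a normal p-complement. -/
theorem result {G : Type*} [Group G] [Finite G] (p : ℕ) [Fact p.Prime]
    (h : ∀ x : G, (orderOf x = p ∨ (p = 2 ∧ orderOf x = 4)) → ∃ a : ℕ, (Subgroup.centralizer ({x} : Set G)).index = p ^ a) :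
    Cfsg.HasNormalPComplement p G := by
  obtain ⟨P⟩ : Nonempty (Sylow p G) := inferInstance
  rw [Cfsg.Agent.S1946.result P]
  intro a haP ha g hg
  by_cases h1 : a = 1
  · subst h1; exact ⟨1, one_mem _, by simp⟩
  have hord : orderOf a = p ∨ (p = 2 ∧ orderOf a = 4) := by
    rcases ha with ha | ⟨hp2, ha4⟩
    · exact Or.inl (orderOf_eq_prime ha h1)
    · have hd : orderOf a ∣ 2 ^ 2 := by
        have h2 := orderOf_dvd_of_pow_eq_one ha4
        norm_num
        exact h2
      obtain ⟨j, hj, hj2⟩ := (Nat.dvd_prime_pow Nat.prime_two).mp hd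
      interval_cases j
      · exfalso; apply h1; rw [← orderOf_eq_one_iff]; simpa using hj2
      · left; rw [hp2]; simpa using hj2
      · right; exact ⟨hp2, by simpa using hj2⟩
  obtain ⟨k, hk⟩ := h a hord
  exact conj_eq_sylow_conj P a k hk g

end Cfsg.Agent.S4126
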