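import Cfsg.Statements.S4160
import Cfsg.Agent.Lib.Helper3.ConjCover
import Cfsg.Agent.Lib.Helper3.ClassSize2
import Cfsg.Agent.Lib.Helper3.ZJ
import Cfsg.Agent.Lib.Helper3.CharPLoc

set_option autoImplicit false
open Cfsg

namespace Cfsg.Agent.S4160

open Cfsg.Agent.Lib.Helper3
open Subgroup

universe u

theorem conj_mem_centralizer_sylow {G : Type u} [Group G] [Finite G] (p : ℕ) [Fact p.Prime]
    (P : Sylow p G) (x : G) (hx : ¬ p ∣ (centralizer ({x} : Set G)).index) :
    ∃ g : G, g⁻¹ * x * g ∈ centralizer ((P : Subgroup G) : Set G) := by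
  obtain ⟨S, hS, -⟩ := exists_sylow_le_of_index _ hx 1 (one_mem _) ⟨0, by simp⟩
  obtain ⟨g, hg⟩ := MulAction.exists_smul_eq G P S
  refine ⟨g, ?_⟩
  rw [mem_centralizer_iff]
  intro s hs
  have h1 : g * s * g⁻¹ ∈ ((g • P : Sylow p G) : Subgroup G) := by
    rw [mem_sylow_smul_iff]
    have e : g⁻¹ * (g * s * g⁻¹) * g = s := by group
    rw [e]; exact hs
  rw [hg] at h1
  have h2 : (g * s * g⁻¹) * x = x * (g * s * g⁻¹) := mem_centralizer_singleton_iff.mp (hS h1)
  calc s * (g⁻¹ * x * g) = g⁻¹ * ((g * s * g⁻¹) * x) * g := by group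
    _ = g⁻¹ * (x * (g * s * g⁻¹)) * g := by rw [h2]
    _ = g⁻¹ * x * g * s := by group

theorem npc_of_self_normalizing {G : Type u} [Group G] [Finite G] (p : ℕ) [Fact p.Prime]
    (P : Sylow p G)
    (h : normalizer ((centralizer ((P : Subgroup G) : Set G) : Subgroup G) : Set G)
      = centralizer ((P : Subgroup G) : Set G)) :
    Cfsg.HasNormalPComplement p G := by
  have hN : normalizer ((P : Subgroup G) : Set G) ≤ centralizer ((P : Subgroup G) : Set G) := by
    have h1 := normalizer_le_normalizer_centralizer' (P : Subgroup G)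
    rw [h] at h1
    exact h1
  exact ⟨P, (MonoidHom.transferSylow P hN).ker, inferInstance,
    MonoidHom.ker_transferSylow_isComplement' P hN⟩


/-- Let G be a finite group and p ≠ q primes each dividing the size of some conjugacy class of G, such that no conjugacy class size is divisible by pq. Then G has a normal p-complement or a normal q-complement. -/
theorem result {G : Type*} [Group G] [Finite G] (p q : ℕ) (hp : p.Prime) (hq : q.Prime) (hpq : p ≠ q)
    (hp' : ∃ x : G, p ∣ (Subgroup.centralizer ({x} : Set G)).index) (hq' : ∃ x : G, q ∣ (Subgroup.centralizer ({x} : Set G)).index) (h : ∀ x : G, ¬ p * q ∣ (Subgroup.centralizer ({x} : Set G)).index) :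
    Cfsg.HasNormalPComplement p G ∨ Cfsg.HasNormalPComplement q G := by
  have : Fact p.Prime := ⟨hp⟩
  have : Fact q.Prime := ⟨hq⟩
  obtain ⟨P⟩ : Nonempty (Sylow p G) := inferInstance
  obtain ⟨Q⟩ : Nonempty (Sylow q G) := inferInstance
  have hcov : ∀ x : G, (∃ g : G, g⁻¹ * x * g ∈ centralizer ((P : Subgroup G) : Set G)) ∨
      (∃ g : G, g⁻¹ * x * g ∈ centralizer ((Q : Subgroup G) : Set G)) := by
    intro x
    by_cases hpd : p ∣ (Subgroup.centralizer ({x} : Set G)).index
    · right
      apply conj_mem_centralizer_sylow q Q x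
      intro hqd
      exact h x (Nat.Coprime.mul_dvd_of_dvd_of_dvd ((Nat.coprime_primes hp hq).mpr hpq) hpd hqd)
    · left
      exact conj_mem_centralizer_sylow p P x hpd
  rcases cover_two _ _ hcov with h1 | h1
  · exact Or.inl (npc_of_self_normalizing p P h1)
  · exact Or.inr (npc_of_self_normalizing q Q h1)

end Cfsg.Agent.S4160
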