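import Cfsg.Statements.S4182
import Cfsg.Agent.Lib.Helper3.ConjCover
import Cfsg.Agent.Lib.Helper3.ZJ
import Cfsg.Agent.Lib.Helper9.Zipper
import Cfsg.Agent.Lib.Helper9.ConjLemmas

set_option autoImplicit false
open Cfsg

namespace Cfsg.Agent.S4182

open scoped Pointwise

universe u v

theorem zpowers_pgen {G : Type u} [Group G] (p : ℕ) (g : G) (hg : ∃ k : ℕ, orderOf g = p ^ k) :
    Subgroup.closure {h : G | h ∈ Subgroup.zpowers g ∧ ∃ k : ℕ, orderOf h = p ^ k} =
      Subgroup.zpowers g := by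
  apply le_antisymm
  · rw [Subgroup.closure_le]; exact fun h hh => hh.1
  · rw [Subgroup.zpowers_le]
    exact Subgroup.subset_closure ⟨Subgroup.mem_zpowers g, hg⟩

theorem conj_pgen {G : Type u} [Group G] (p : ℕ) (x : G) (L : Subgroup G)
    (hL : Subgroup.closure {h : G | h ∈ L ∧ ∃ k : ℕ, orderOf h = p ^ k} = L) :
    Subgroup.closure {h : G | h ∈ MulAut.conj x • L ∧ ∃ k : ℕ, orderOf h = p ^ k} =
      MulAut.conj x • L := by
  apply le_antisymm
  · rw [Subgroup.closure_le]; exact fun h hh => hh.1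
  · intro y hy
    rw [Cfsg.Agent.Lib.Helper9.mem_conj_smul_iff] at hy
    have hy' : x⁻¹ * y * x ∈ Subgroup.closure {h : G | h ∈ L ∧ ∃ k : ℕ, orderOf h = p ^ k} := by
      rw [hL]; exact hy
    have key : ∀ z ∈ Subgroup.closure {h : G | h ∈ L ∧ ∃ k : ℕ, orderOf h = p ^ k},
        x * z * x⁻¹ ∈ Subgroup.closure
          {h : G | h ∈ MulAut.conj x • L ∧ ∃ k : ℕ, orderOf h = p ^ k} := by
      intro z hz
      induction hz using Subgroup.closure_induction with
      | mem z hz =>
        apply Subgroup.subset_closure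
        refine ⟨?_, ?_⟩
        · rw [Cfsg.Agent.Lib.Helper9.mem_conj_smul_iff]
          simpa [mul_assoc] using hz.1
        · obtain ⟨k, hk⟩ := hz.2
          refine ⟨k, ?_⟩
          rw [← hk, ← MulAut.conj_apply]
          exact MulEquiv.orderOf_eq _ _
      | one => simp
      | mul a b _ _ ha hb =>
        have := Subgroup.mul_mem _ ha hb
        simpa [mul_assoc] using this
      | inv a _ ha =>
        have := Subgroup.inv_mem _ ha
        simpa [mul_assoc] using this
    have := key _ hy'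
    simpa [mul_assoc] using this

theorem pgroup_cover {G : Type u} [Group G] [Finite G] (p : ℕ) [hp : Fact p.Prime]
    (hG : IsPGroup p G) {ι : Type v} [Fintype ι] (K : ι → Subgroup G) (hK : ∀ i, K i ≠ ⊤)
    (hcov : ∀ g : G, ∃ i, g ∈ K i) : p + 1 ≤ Fintype.card ι := by
  classical
  by_contra hlt
  push Not at hlt
  have hc : Fintype.card ι ≤ p := Nat.lt_succ_iff.mp hlt
  have hp2 : 2 ≤ p := hp.out.two_le
  have hN : 0 < Nat.card G := Nat.card_pos
  have h2 : ∀ i, p * (Nat.card {x : G // x ∈ K i ∧ x ≠ 1} + 1) ≤ Nat.card G := by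
    intro i
    have h1 := Cfsg.Agent.Lib.Helper3.card_ne_one_le (K i)
    have hidx : p ∣ (K i).index := by
      obtain ⟨k, hk⟩ := hG.index (K i)
      have hne : (K i).index ≠ 1 := fun h => hK i (Subgroup.index_eq_one.mp h)
      rw [hk] at hne ⊢
      cases k with
      | zero => simp at hne
      | succ k => exact dvd_pow_self p (Nat.succ_ne_zero k)
    have hle : p ≤ (K i).index :=
      Nat.le_of_dvd (Nat.pos_of_ne_zero Subgroup.index_ne_zero_of_finite) hidx
    calc p * (Nat.card {x : G // x ∈ K i ∧ x ≠ 1} + 1)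
        ≤ (K i).index * Nat.card (K i) := Nat.mul_le_mul hle h1
      _ = Nat.card G := by rw [mul_comm]; exact (K i).card_mul_index
  have hsurj : Function.Surjective (fun o : Option (Σ i, {x : G // x ∈ K i ∧ x ≠ 1}) =>
      o.elim (1 : G) (fun y => (y.2 : G))) := by
    intro g
    by_cases hg : g = 1
    · exact ⟨none, hg.symm⟩
    · obtain ⟨i, hi⟩ := hcov g
      exact ⟨some ⟨i, ⟨g, hi, hg⟩⟩, rfl⟩
  have h1 := Nat.card_le_card_of_surjective _ hsurj
  rw [Finite.card_option, Nat.card_sigma] at h1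
  have h3 : ∑ i, (p * Nat.card {x : G // x ∈ K i ∧ x ≠ 1} + p) ≤ Fintype.card ι * Nat.card G := by
    calc ∑ i, (p * Nat.card {x : G // x ∈ K i ∧ x ≠ 1} + p)
        ≤ ∑ _i : ι, Nat.card G := Finset.sum_le_sum (fun i _ => by
          have := h2 i; rw [mul_add, mul_one] at this; exact this)
      _ = Fintype.card ι * Nat.card G := by simp
  have h4 : ∑ i, (p * Nat.card {x : G // x ∈ K i ∧ x ≠ 1} + p) =
      p * (∑ i, Nat.card {x : G // x ∈ K i ∧ x ≠ 1}) + p * Fintype.card ι := by
    rw [Finset.sum_add_distrib, ← Finset.mul_sum]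
    simp [mul_comm]
  rw [h4] at h3
  have hcpos : 1 ≤ Fintype.card ι := by
    obtain ⟨i, _⟩ := hcov 1
    exact Fintype.card_pos_iff.mpr ⟨i⟩
  have h5 : p * Nat.card G ≤ p * (∑ i, Nat.card {x : G // x ∈ K i ∧ x ≠ 1} + 1) :=
    Nat.mul_le_mul_left p h1
  have h6 : Fintype.card ι * Nat.card G ≤ p * Nat.card G := Nat.mul_le_mul_right _ hc
  have h7 : p * Fintype.card ι ≤ p * 1 := by
    rw [mul_add, mul_one] at h5
    rw [mul_one]
    omega
  have h8 : Fintype.card ι ≤ 1 := Nat.le_of_mul_le_mul_left h7 (by omega)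
  have h9 : Fintype.card ι = 1 := le_antisymm h8 hcpos
  rw [h9] at h3 h6
  rw [mul_add, mul_one] at h5
  have h10 : 2 * Nat.card G ≤ p * Nat.card G := Nat.mul_le_mul_right _ hp2
  omega

theorem cover_aux (p : ℕ) [hp : Fact p.Prime] : ∀ (n : ℕ) (G : Type u) [Group G] [Finite G],
    Nat.card G = n →
    Subgroup.closure {g : G | ∃ k : ℕ, orderOf g = p ^ k} = ⊤ →
    ∀ (ι : Type v) [Fintype ι] (K : ι → Subgroup G), (∀ i, K i ≠ ⊤) →
    (∀ g : G, (∃ k : ℕ, orderOf g = p ^ k) → ∃ i, g ∈ K i) → p + 1 ≤ Fintype.card ι := by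
  intro n
  induction n using Nat.strong_induction_on with
  | _ n ih =>
  intro G _ _ hn hgen ι _ K hK hcov
  classical
  by_cases hR : ∀ L : Subgroup G, L ≠ ⊤ →
      Subgroup.closure {g : G | g ∈ L ∧ ∃ k : ℕ, orderOf g = p ^ k} = L → ∃ i, L ≤ K i
  swap
  · push Not at hR
    obtain ⟨L, hLtop, hLgen, hLK⟩ := hR
    have hcard : Nat.card L < n := by
      rw [← hn]
      have := Cfsg.Agent.Lib.Helper9.card_lt_card_of_lt_sub (lt_top_iff_ne_top.mpr hLtop)
      rwa [Subgroup.card_top] at this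
    refine ih (Nat.card L) hcard L rfl ?_ ι (fun i => (K i).subgroupOf L) ?_ ?_
    · apply Subgroup.map_injective L.subtype_injective
      rw [MonoidHom.map_closure, ← MonoidHom.range_eq_map, Subgroup.range_subtype]
      have himg : (L.subtype '' {g : L | ∃ k : ℕ, orderOf g = p ^ k}) =
          {g : G | g ∈ L ∧ ∃ k : ℕ, orderOf g = p ^ k} := by
        ext g
        constructor
        · rintro ⟨y, ⟨k, hk⟩, rfl⟩
          exact ⟨y.2, k, by rw [← hk]; exact Subgroup.orderOf_coe y⟩
        · rintro ⟨hg, k, hk⟩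
          exact ⟨⟨g, hg⟩, ⟨k, by rw [← hk]; exact Subgroup.orderOf_mk g hg⟩, rfl⟩
      rw [himg]; exact hLgen
    · intro i h
      exact hLK i (Subgroup.subgroupOf_eq_top.mp h)
    · intro g ⟨k, hk⟩
      obtain ⟨i, hi⟩ := hcov (g : G) ⟨k, by rw [Subgroup.orderOf_coe]; exact hk⟩
      exact ⟨i, Subgroup.mem_subgroupOf.mpr hi⟩
  -- main case
  obtain ⟨s, hs⟩ : ∃ s : Set (Subgroup G), ∀ Y, Y ∈ s ↔ (Y ≠ ⊤ ∧
      Subgroup.closure {g : G | g ∈ Y ∧ ∃ k : ℕ, orderOf g = p ^ k} = Y) :=
    ⟨{Y | Y ≠ ⊤ ∧ Subgroup.closure {g : G | g ∈ Y ∧ ∃ k : ℕ, orderOf g = p ^ k} = Y},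
      fun Y => Iff.rfl⟩
  have hsfin : s.Finite := Set.toFinite s
  have hsconj : ∀ (g : G) (Y : Subgroup G), Y ∈ s → MulAut.conj g • Y ∈ s := by
    intro g Y hY
    rw [hs] at hY ⊢
    refine ⟨fun h => hY.1 ?_, conj_pgen p g Y hY.2⟩
    rw [eq_top_iff]
    intro y _
    have hmem : g * y * g⁻¹ ∈ MulAut.conj g • Y := by rw [h]; trivial
    rw [Cfsg.Agent.Lib.Helper9.mem_conj_smul_iff] at hmem
    simpa [mul_assoc] using hmem
  have hmaxconj : ∀ (g : G) (X : Subgroup G), Maximal (· ∈ s) X →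
      Maximal (· ∈ s) (MulAut.conj g • X) := by
    intro g X hX
    refine ⟨hsconj g X hX.1, ?_⟩
    intro Y hY hle
    have h1 : X ≤ (MulAut.conj g)⁻¹ • Y := Subgroup.pointwise_smul_subset_iff.mp hle
    have h2 : (MulAut.conj g)⁻¹ • Y ∈ s := by
      rw [← map_inv]; exact hsconj g⁻¹ Y hY
    have h3 := hX.2 h2 h1
    exact Subgroup.subset_pointwise_smul_iff.mpr h3
  have hex : ∀ g : G, (∃ k : ℕ, orderOf g = p ^ k) → ∃ X, Maximal (· ∈ s) X ∧ g ∈ X := by
    intro g hg
    have hz : Subgroup.zpowers g ∈ s := by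
      rw [hs]
      refine ⟨?_, zpowers_pgen p g hg⟩
      intro h
      obtain ⟨i, hi⟩ := hcov g hg
      apply hK i
      rw [eq_top_iff, ← h, Subgroup.zpowers_le]
      exact hi
    obtain ⟨X, hle, hX⟩ := hsfin.exists_le_maximal hz
    exact ⟨X, hX, hle (Subgroup.mem_zpowers g)⟩
  have hcomm : ∀ (a b : G) (Y : Subgroup G),
      MulAut.conj (a * b) • Y = MulAut.conj a • MulAut.conj b • Y :=
    fun a b Y => by rw [map_mul, mul_smul]
  by_cases hA : ∃ x : G, (∃ k : ℕ, orderOf x = p ^ k) ∧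
      ∃ X, Maximal (· ∈ s) X ∧ MulAut.conj x • X ≠ X
  · obtain ⟨x, hxp, X, hX, hxX⟩ := hA
    obtain ⟨X₀, hX₀, hxX₀⟩ := hex x hxp
    have hKex : ∀ Y : {X // Maximal (· ∈ s) X}, ∃ i, Y.1 ≤ K i := fun Y =>
      hR Y.1 ((hs _).mp Y.2.1).1 ((hs _).mp Y.2.1).2
    choose f hf using hKex
    have hfinj : Function.Injective f := by
      intro Y Y' hYY'
      have key : ∀ Z : {X // Maximal (· ∈ s) X}, Z.1 =
          Subgroup.closure {g : G | g ∈ K (f Z) ∧ ∃ k : ℕ, orderOf g = p ^ k} := by
        intro Z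
        have hle : Subgroup.closure {g : G | g ∈ K (f Z) ∧ ∃ k : ℕ, orderOf g = p ^ k} ≤
            K (f Z) := by
          rw [Subgroup.closure_le]; exact fun h hh => hh.1
        have hmem : Subgroup.closure {g : G | g ∈ K (f Z) ∧ ∃ k : ℕ, orderOf g = p ^ k} ∈ s := by
          rw [hs]
          refine ⟨fun h => hK (f Z) (eq_top_iff.mpr ?_), ?_⟩
          · rw [← h]; exact hle
          · apply le_antisymm
            · rw [Subgroup.closure_le]; exact fun h hh => hh.1
            · apply Subgroup.closure_mono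
              intro h hh
              exact ⟨Subgroup.subset_closure hh, hh.2⟩
        have hle2 : Z.1 ≤
            Subgroup.closure {g : G | g ∈ K (f Z) ∧ ∃ k : ℕ, orderOf g = p ^ k} := by
          have h1 := ((hs _).mp Z.2.1).2
          calc Z.1 = Subgroup.closure {g : G | g ∈ Z.1 ∧ ∃ k : ℕ, orderOf g = p ^ k} := h1.symm
            _ ≤ _ := Subgroup.closure_mono (fun h hh => And.intro (hf Z hh.1) hh.2)
        exact le_antisymm hle2 (Z.2.2 hmem hle2)
      apply Subtype.ext
      exact (key Y).trans ((congrArg (fun i =>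
        Subgroup.closure {g : G | g ∈ K i ∧ ∃ k : ℕ, orderOf g = p ^ k}) hYY').trans (key Y').symm)
    have hcard1 : Nat.card {X // Maximal (· ∈ s) X} ≤ Fintype.card ι := by
      have := Nat.card_le_card_of_injective f hfinj
      rwa [Nat.card_eq_fintype_card (α := ι)] at this
    refine le_trans ?_ hcard1
    have hnorm : ∀ g : G, MulAut.conj g • X = X ↔ g ∈ Subgroup.normalizer (X : Set G) :=
      fun g => Cfsg.Agent.Lib.Helper9.conj_smul_eq_self_iff_mem_normalizer
    have hpow : ∀ a d : ℕ, 0 < d → d < p →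
        MulAut.conj (x ^ (a + d)) • X = MulAut.conj (x ^ a) • X → False := by
      intro a d hd0 hdp h
      rw [pow_add, hcomm] at h
      have h' := MulAction.injective (MulAut.conj (x ^ a)) h
      have h'' : x ^ d ∈ Subgroup.normalizer (X : Set G) := (hnorm _).mp h'
      obtain ⟨k, hk⟩ := hxp
      have hcop : Nat.Coprime d (orderOf x) := by
        rw [hk]
        apply Nat.Coprime.pow_right
        exact ((Nat.Prime.coprime_iff_not_dvd hp.out).mpr
          (Nat.not_dvd_of_pos_of_lt hd0 hdp)).symm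
      obtain ⟨m, hm⟩ := exists_pow_eq_self_of_coprime hcop
      have hxN : x ∈ Subgroup.normalizer (X : Set G) := by
        rw [← hm]; exact Subgroup.pow_mem _ h'' m
      exact hxX ((hnorm x).mpr hxN)
    have hnone : ∀ j : ℕ, X₀ = MulAut.conj (x ^ j) • X → False := by
      intro j h1
      have h2 : MulAut.conj x • X₀ = X₀ :=
        Cfsg.Agent.Lib.Helper9.conj_smul_eq_self_iff_mem_normalizer.mpr
          (Subgroup.le_normalizer hxX₀)
      rw [h1, ← hcomm, ← pow_mul_comm' x j, hcomm] at h2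
      exact hxX (MulAction.injective _ h2)
    have hinj2 : Function.Injective (fun o : Option (Fin p) =>
        (o.elim ⟨X₀, hX₀⟩ (fun j => ⟨MulAut.conj (x ^ (j : ℕ)) • X, hmaxconj _ X hX⟩) :
          {X // Maximal (· ∈ s) X})) := by
      intro o o' hoo'
      rcases o with _ | j <;> rcases o' with _ | j'
      · rfl
      · exfalso
        have h1 : X₀ = MulAut.conj (x ^ (j' : ℕ)) • X := congrArg Subtype.val hoo'
        exact hnone _ h1
      · exfalso
        have h1 : MulAut.conj (x ^ (j : ℕ)) • X = X₀ := congrArg Subtype.val hoo'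
        exact hnone _ h1.symm
      · have h1 : MulAut.conj (x ^ (j : ℕ)) • X = MulAut.conj (x ^ (j' : ℕ)) • X :=
          congrArg Subtype.val hoo'
        congr 1
        apply Fin.ext
        rcases lt_trichotomy (j : ℕ) (j' : ℕ) with hlt | heq | hgt
        · exfalso
          obtain ⟨d, hd⟩ := Nat.exists_eq_add_of_lt hlt
          apply hpow (j : ℕ) (d + 1) (Nat.succ_pos d) (by have := j'.2; omega)
          rw [← add_assoc, ← hd]; exact h1.symm
        · exact heq
        · exfalso
          obtain ⟨d, hd⟩ := Nat.exists_eq_add_of_lt hgt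
          apply hpow (j' : ℕ) (d + 1) (Nat.succ_pos d) (by have := j.2; omega)
          rw [← add_assoc, ← hd]; exact h1
    have hfin := Nat.card_le_card_of_injective _ hinj2
    rwa [Finite.card_option, Nat.card_fin] at hfin
  · push Not at hA
    have hnormal : ∀ X, Maximal (· ∈ s) X → X.Normal := by
      intro X hX
      apply Subgroup.normalizer_eq_top_iff.mp
      rw [eq_top_iff, ← hgen, Subgroup.closure_le]
      intro g hg
      exact Cfsg.Agent.Lib.Helper9.conj_smul_eq_self_iff_mem_normalizer.mp (hA g hg X hX)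
    obtain ⟨P⟩ : Nonempty (Sylow p G) := inferInstance
    have hPel : ∀ g ∈ (P : Subgroup G), ∃ k : ℕ, orderOf g = p ^ k := by
      intro g hg
      obtain ⟨k, hk⟩ := (IsPGroup.iff_orderOf.mp P.2) ⟨g, hg⟩
      exact ⟨k, by rw [← hk, Subgroup.orderOf_mk]⟩
    by_cases hPtop : (P : Subgroup G) = ⊤
    · have hG : IsPGroup p G := by
        intro g
        obtain ⟨k, hk⟩ := hPel g (by rw [hPtop]; trivial)
        exact ⟨k, by rw [← hk]; exact pow_orderOf_eq_one g⟩
      apply pgroup_cover p hG K hK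
      intro g
      apply hcov g
      exact hPel g (by rw [hPtop]; trivial)
    · exfalso
      have hPs : (P : Subgroup G) ∈ s := by
        rw [hs]
        refine ⟨hPtop, ?_⟩
        apply le_antisymm
        · rw [Subgroup.closure_le]; exact fun h hh => hh.1
        · intro g hg
          exact Subgroup.subset_closure ⟨hg, hPel g hg⟩
      obtain ⟨X, hPX, hX⟩ := hsfin.exists_le_maximal hPs
      have hXn := hnormal X hX
      apply ((hs X).mp hX.1).1
      rw [eq_top_iff, ← hgen, Subgroup.closure_le]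
      intro g hg
      obtain ⟨k, hk⟩ := hg
      have hzp : IsPGroup p (Subgroup.zpowers g) := by
        apply IsPGroup.of_card (n := k)
        rw [Nat.card_zpowers, hk]
      obtain ⟨Q, hQ⟩ := hzp.exists_le_sylow
      obtain ⟨c, hc⟩ := MulAction.exists_smul_eq G P Q
      have hgQ : g ∈ ((c • P : Sylow p G) : Subgroup G) := by
        rw [hc]; exact hQ (Subgroup.mem_zpowers g)
      rw [Cfsg.Agent.Lib.Helper3.mem_sylow_smul_iff] at hgQ
      have hfin := hXn.conj_mem _ (hPX hgQ) c
      simpa [mul_assoc] using hfin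

/-- Let p be a prime and G a finite group generated by its p-elements. If a finite family of proper subgroups of G covers the set of p-elements of G (every element of p-power order lies in one of them), then the family has at least p + 1 members. -/
theorem result {G : Type*} [Group G] [Finite G] (p : ℕ) [Fact p.Prime] (hgen : Subgroup.closure {g : G | ∃ k : ℕ, orderOf g = p ^ k} = ⊤)
    {ι : Type*} [Fintype ι] (K : ι → Subgroup G) (hK : ∀ i, K i ≠ ⊤)
    (hcov : ∀ g : G, (∃ k : ℕ, orderOf g = p ^ k) → ∃ i, g ∈ K i) :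
    p + 1 ≤ Fintype.card ι := by
  exact cover_aux p (Nat.card G) G rfl hgen ι K hK hcov

end Cfsg.Agent.S4182
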