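import Cfsg.Statements.S4189
import Mathlib
import Cfsg.Agent.Lib.Helper1.CycMax
import Cfsg.Agent.Lib.Helper1.AutCyc
import Cfsg.Agent.Lib.Helper2.PGroup
import Cfsg.Agent.Lib.Helper8.MaxClass2
import Cfsg.Agent.S0115
import Cfsg.Agent.S3116

set_option autoImplicit false
open Cfsg

namespace Cfsg.Agent.S4189

/-- Let P be a finite non-abelian 2-group whose commutator subgroup has index 4 and whose automorphism group is not a 2-group (some automorphism has order that is not a power of 2). Then P is isomorphic to the quaternion group of order 8. -/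
theorem result {P : Type*} [Group P] [Finite P] (hP : IsPGroup 2 P) (hna : ¬ IsMulCommutative P) (h4 : (commutator P).index = 4) (haut : ¬ IsPGroup 2 (MulAut P)) : Nonempty (P ≃* QuaternionGroup 2) := by
  classical
  haveI : Fact (Nat.Prime 2) := ⟨Nat.prime_two⟩
  obtain ⟨N, hN⟩ := IsPGroup.iff_card.mp hP
  have hab : Nat.card (P ⧸ commutator P) = 4 := by rw [← Subgroup.index_eq_card]; exact h4
  have hdvd : 4 ∣ 2 ^ N := by
    rw [← hN, ← h4]
    exact Subgroup.index_dvd_card _
  have hN2 : 2 ≤ N := by
    by_contra h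
    have : N = 0 ∨ N = 1 := by omega
    rcases this with rfl | rfl <;> norm_num at hdvd
  have hN3' : 3 ≤ N := by
    by_contra h
    have hN2' : N = 2 := by omega
    rw [hN2'] at hN
    exact hna (IsPGroup.isMulCommutative_of_card_eq_prime_sq (p := 2) hN)
  -- the commutator quotient is a Klein four-group
  have hK : IsKleinFour (P ⧸ commutator P) := by
    refine ⟨hab, ?_⟩
    by_cases hall : ∀ g : P ⧸ commutator P, g ^ 2 = 1
    · have h1 : Monoid.exponent (P ⧸ commutator P) ∣ 2 :=
        Monoid.exponent_dvd_of_forall_pow_eq_one hall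
      rcases (Nat.dvd_prime Nat.prime_two).mp h1 with h | h
      · exfalso
        have h3 : Subsingleton (P ⧸ commutator P) := Monoid.exp_eq_one_iff.mp h
        have h4' : Nat.card (P ⧸ commutator P) = 1 := Nat.card_of_subsingleton 1
        omega
      · exact h
    · exfalso
      obtain ⟨g, hg2⟩ : ∃ g : P ⧸ commutator P, g ^ 2 ≠ 1 := by
        by_contra hcon
        exact hall (fun g => by_contra (fun hg => hcon ⟨g, hg⟩))
      have hgo : orderOf g = 4 := by
        have h1 : orderOf g ∣ 4 := by rw [← hab]; exact orderOf_dvd_natCard g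
        have h2 : orderOf g ∈ Nat.divisors 4 := Nat.mem_divisors.mpr ⟨h1, by norm_num⟩
        have h6 : Nat.divisors 4 = {1, 2, 4} := by decide
        rw [h6] at h2
        simp only [Finset.mem_insert, Finset.mem_singleton] at h2
        rcases h2 with h | h | h
        · exfalso; apply hg2
          rw [orderOf_eq_one_iff.mp h, one_pow]
        · exfalso; apply hg2
          rw [← h]; exact pow_orderOf_eq_one g
        · exact h
      have hg : ∀ y : P ⧸ commutator P, y ∈ Subgroup.zpowers g := by
        have h1 : Subgroup.zpowers g = ⊤ := by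
          apply Subgroup.eq_top_of_card_eq
          rw [Nat.card_zpowers, hgo, hab]
        intro y; rw [h1]; exact Subgroup.mem_top y
      obtain ⟨x, rfl⟩ := QuotientGroup.mk_surjective g
      have htop : Subgroup.zpowers x ⊔ commutator P = ⊤ := by
        rw [eq_top_iff]
        intro y _
        obtain ⟨k, hk⟩ := Subgroup.mem_zpowers_iff.mp (hg (QuotientGroup.mk y))
        have h5 : (x ^ k)⁻¹ * y ∈ commutator P := by
          apply QuotientGroup.eq.mp
          rw [QuotientGroup.mk_zpow]; exact hk
        have : y = x ^ k * ((x ^ k)⁻¹ * y) := by group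
        rw [this]
        exact Subgroup.mul_mem _ (Subgroup.mem_sup_left (Subgroup.zpow_mem _ (Subgroup.mem_zpowers x) k))
          (Subgroup.mem_sup_right h5)
      have htop2 : Subgroup.zpowers x ⊔ frattini P = ⊤ := by
        rw [eq_top_iff, ← htop]
        exact sup_le_sup_left (Cfsg.Agent.Lib.Helper2.commutator_le_frattini_of_pGroup hP) _
      have h7 : Subgroup.zpowers x = ⊤ := frattini_nongenerating htop2
      apply hna
      refine ⟨⟨fun a b => ?_⟩⟩
      have ha : a ∈ Subgroup.zpowers x := by rw [h7]; exact Subgroup.mem_top a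
      have hb : b ∈ Subgroup.zpowers x := by rw [h7]; exact Subgroup.mem_top b
      obtain ⟨i, rfl⟩ := Subgroup.mem_zpowers_iff.mp ha
      obtain ⟨j, rfl⟩ := Subgroup.mem_zpowers_iff.mp hb
      rw [← zpow_add, ← zpow_add, add_comm]
  have hcl : Group.nilpotencyClass P = N - 1 := (Cfsg.Agent.S0115.result N hN3' hN).mpr hK
  obtain ⟨c, hc⟩ := Cfsg.Agent.Lib.Helper8.h8_maxclass2_cyclic_max N P hN hN3' hcl
  obtain ⟨hZ2, -, -⟩ := Cfsg.Agent.Lib.Helper8.h8_maxclass2_center N P hN hN3' hcl
  obtain ⟨M, rfl⟩ : ∃ M, N = M + 1 := ⟨N - 1, by omega⟩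
  simp only [Nat.add_sub_cancel] at hc
  have hM2 : 2 ≤ M := by omega
  have hZ : ¬ ∀ g : P, g * c ^ 2 ^ (M - 2) = c ^ 2 ^ (M - 2) * g := by
    intro hcen
    have hdo : orderOf (c ^ 2 ^ (M - 2)) = 4 := by
      rw [orderOf_pow_of_dvd (by positivity) (by rw [hc]; exact Nat.pow_dvd_pow 2 (by omega)), hc,
        Nat.pow_div (by omega) (by norm_num)]
      have : M - (M - 2) = 2 := by omega
      rw [this]
    have hle : Subgroup.zpowers (c ^ 2 ^ (M - 2)) ≤ Subgroup.center P :=
      Subgroup.zpowers_le.mpr (Subgroup.mem_center_iff.mpr hcen)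
    have h1 := Subgroup.card_le_of_le hle
    rw [Nat.card_zpowers, hdo, hZ2] at h1
    omega
  have h2M : 2 ^ 2 ≤ 2 ^ M := Nat.pow_le_pow_right (by norm_num) hM2
  rcases Cfsg.Agent.Lib.Helper1.cyc_max_classify M hM2 hN c hc hZ with e | ⟨hM3, b, hb, hrel⟩ | e
  · exfalso
    exact haut (Cfsg.Agent.S3116.result hP (Or.inl ⟨2 ^ M, by omega, e⟩))
  · exfalso
    exact haut (Cfsg.Agent.S3116.result hP (Or.inr ⟨M, hM3, hN, c, b, hc, hb, hrel⟩))
  · obtain ⟨e⟩ := e
    by_cases hM2' : M = 2
    · subst hM2'
      exact ⟨e⟩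
    · exfalso
      have hM3 : 3 ≤ M := by omega
      apply haut
      haveI : NeZero (2 ^ (M - 1)) := ⟨by positivity⟩
      have e2 : 2 * 2 ^ (M - 1) = 2 ^ M := by
        rw [← pow_succ']; congr 1; omega
      have hc' : orderOf (e.symm (QuaternionGroup.a 1)) = 2 ^ M := by
        rw [MulEquiv.orderOf_eq, QuaternionGroup.orderOf_a_one, e2]
      refine Cfsg.Agent.Lib.Helper1.aut_pgroup_of_cyc_max M (by omega) (e.symm (QuaternionGroup.a 1))
        hc' ?_ ?_
      · have h1 := (Subgroup.zpowers (e.symm (QuaternionGroup.a 1))).card_mul_index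
        rw [Nat.card_zpowers, hc', hN, pow_succ] at h1
        exact Nat.eq_of_mul_eq_mul_left (by positivity) h1
      · intro g hg
        rcases hg' : e g with i | i
        · have h1 : g = e.symm (QuaternionGroup.a 1) ^ i.val := by
            rw [← map_pow, QuaternionGroup.a_one_pow, ZMod.natCast_zmod_val, ← hg',
              e.symm_apply_apply]
          rw [h1]
          exact Subgroup.pow_mem _ (Subgroup.mem_zpowers _) _
        · exfalso
          have h1 : orderOf (e g) = orderOf g := MulEquiv.orderOf_eq e g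
          rw [hg', QuaternionGroup.orderOf_xa, hg] at h1
          have : 2 ^ 3 ≤ 2 ^ M := Nat.pow_le_pow_right (by norm_num) hM3
          omega

end Cfsg.Agent.S4189
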