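import Cfsg.Statements.S4218
import Mathlib
import Cfsg.Agent.Lib.Helper1.PSolv
import Cfsg.Agent.Lib.Helper1.PConstr
import Cfsg.Agent.Lib.Helper3.SNC2
import Cfsg.Agent.Lib.Helper3.GT3
import Cfsg.Agent.Lib.Helper2.PGroup

set_option autoImplicit false
open Cfsg

namespace Cfsg.Agent.S4218

open Cfsg.Agent.Lib.Helper3 Cfsg.Agent.Lib.Helper1 Cfsg.Agent.Lib.Helper2
open scoped commutatorElement

universe u

theorem frattini_mem_equiv {A B : Type*} [Group A] [Group B] (e : A ≃* B) (a : A) :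
    a ∈ frattini A ↔ e a ∈ frattini B := by
  constructor
  · intro h
    exact frattini_le_comap_frattini_of_surjective (φ := e.toMonoidHom) e.surjective h
  · intro h
    have h2 := frattini_le_comap_frattini_of_surjective (φ := e.symm.toMonoidHom)
      e.symm.surjective h
    have h3 : e.symm.toMonoidHom (e a) = a := e.symm_apply_apply a
    rw [Subgroup.mem_comap, h3] at h2
    exact h2

theorem psolv_centralizer_le {G : Type u} [Group G] [Finite G] {p : ℕ} [Fact p.Prime]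
    (hG : Cfsg.IsPSolvable p G) :
    Subgroup.centralizer (Cfsg.pCore p (G ⧸ Cfsg.pPrimeCore p G) : Set (G ⧸ Cfsg.pPrimeCore p G))
      ≤ Cfsg.pCore p (G ⧸ Cfsg.pPrimeCore p G) := by
  rw [← pLayer_eq_bot_iff_centralizer_le, pLayer_eq_bot_iff]
  exact layer_eq_bot_of_isPSolvable p _
    (isPSolvable_of_surjective p (QuotientGroup.mk' _) (QuotientGroup.mk'_surjective _) hG)
    (pPrimeCore_quotient_eq_bot p G)

theorem aux {G : Type u} [Group G] [Finite G] {p : ℕ} [Fact p.Prime] (N₀ : Subgroup G)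
    [hN₀ : N₀.Normal]
    (hc : Subgroup.centralizer (Cfsg.pCore p (G ⧸ N₀) : Set (G ⧸ N₀)) ≤ Cfsg.pCore p (G ⧸ N₀))
    (P₁ : Subgroup G) (hP₁ : P₁ = (Cfsg.pCore p (G ⧸ N₀)).comap (QuotientGroup.mk' N₀)) (g : G) :
    (∀ x ∈ P₁, g * x * g⁻¹ * x⁻¹ ∈ ((frattini (↥P₁ ⧸ N₀.subgroupOf P₁)).comap
      (QuotientGroup.mk' (N₀.subgroupOf P₁))).map P₁.subtype) ↔ g ∈ P₁ := by
  classical
  have hmem : ∀ x, x ∈ P₁ ↔ QuotientGroup.mk' N₀ x ∈ Cfsg.pCore p (G ⧸ N₀) := fun x => by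
    rw [hP₁]; exact Subgroup.mem_comap
  have hNbn : (Cfsg.pCore p (G ⧸ N₀)).Normal := pCore_normal' p _
  have hNbp : IsPGroup p (Cfsg.pCore p (G ⧸ N₀)) := pCore_isPGroup' p _
  have hΦn : ((frattini ↥(Cfsg.pCore p (G ⧸ N₀))).map (Cfsg.pCore p (G ⧸ N₀)).subtype).Normal :=
    normal_map_subtype_of_characteristic hNbn (frattini ↥(Cfsg.pCore p (G ⧸ N₀)))
  have hSKp := sectionKernel_frattini_isPGroup (Cfsg.pCore p (G ⧸ N₀)) hNbp hc
  have hSKn : (sectionKernel (Cfsg.pCore p (G ⧸ N₀))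
      ((frattini ↥(Cfsg.pCore p (G ⧸ N₀))).map (Cfsg.pCore p (G ⧸ N₀)).subtype)).Normal :=
    sectionKernel_normal' _ _
  have hSK : sectionKernel (Cfsg.pCore p (G ⧸ N₀))
      ((frattini ↥(Cfsg.pCore p (G ⧸ N₀))).map (Cfsg.pCore p (G ⧸ N₀)).subtype)
      ≤ Cfsg.pCore p (G ⧸ N₀) := le_pCore' hSKn hSKp
  -- the restriction of the quotient map
  obtain ⟨φ, hφ⟩ : ∃ φ : ↥P₁ →* ↥(Cfsg.pCore p (G ⧸ N₀)),
      ∀ x : ↥P₁, ((φ x : ↥(Cfsg.pCore p (G ⧸ N₀))) : G ⧸ N₀) = QuotientGroup.mk' N₀ (x : G) :=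
    ⟨((QuotientGroup.mk' N₀).comp P₁.subtype).codRestrict (Cfsg.pCore p (G ⧸ N₀))
      (fun x => (hmem x).mp x.2), fun x => rfl⟩
  have hφs : Function.Surjective φ := by
    intro b
    obtain ⟨x, hx⟩ := QuotientGroup.mk'_surjective N₀ (b : G ⧸ N₀)
    have hxP : x ∈ P₁ := (hmem x).mpr (by rw [hx]; exact b.2)
    exact ⟨⟨x, hxP⟩, Subtype.ext ((hφ _).trans hx)⟩
  have hker : φ.ker = N₀.subgroupOf P₁ := by
    ext x
    rw [MonoidHom.mem_ker, Subgroup.mem_subgroupOf]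
    constructor
    · intro h
      have h1 : QuotientGroup.mk' N₀ (x : G) = 1 := by rw [← hφ x, h]; rfl
      exact (QuotientGroup.eq_one_iff _).mp h1
    · intro h
      apply Subtype.ext
      rw [hφ x]
      exact (QuotientGroup.eq_one_iff _).mpr h
  obtain ⟨e, he⟩ : ∃ e : (↥P₁ ⧸ N₀.subgroupOf P₁) ≃* ↥(Cfsg.pCore p (G ⧸ N₀)),
      ∀ x : ↥P₁, e (QuotientGroup.mk' (N₀.subgroupOf P₁) x) = φ x :=
    ⟨(QuotientGroup.quotientMulEquivOfEq hker.symm).trans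
      (QuotientGroup.quotientKerEquivOfSurjective φ hφs), fun x => rfl⟩
  have hF : ∀ y (hy : y ∈ P₁), y ∈ ((frattini (↥P₁ ⧸ N₀.subgroupOf P₁)).comap
      (QuotientGroup.mk' (N₀.subgroupOf P₁))).map P₁.subtype ↔
      QuotientGroup.mk' N₀ y ∈ (frattini ↥(Cfsg.pCore p (G ⧸ N₀))).map
        (Cfsg.pCore p (G ⧸ N₀)).subtype := by
    intro y hy
    constructor
    · rintro ⟨x, hx, hxy⟩
      rw [SetLike.mem_coe, Subgroup.mem_comap] at hx
      have h1 := (frattini_mem_equiv e _).mp hx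
      rw [he] at h1
      refine ⟨φ x, h1, ?_⟩
      rw [← hxy]
      exact hφ x
    · rintro ⟨b, hb, hbe⟩
      refine ⟨⟨y, hy⟩, ?_, rfl⟩
      rw [SetLike.mem_coe, Subgroup.mem_comap]
      apply (frattini_mem_equiv e _).mpr
      rw [he]
      have h2 : φ ⟨y, hy⟩ = b := Subtype.ext ((hφ _).trans hbe.symm)
      rw [h2]; exact hb
  constructor
  · intro h
    apply (hmem g).mpr
    apply hSK
    rw [mem_sectionKernel_iff]
    intro b hb
    obtain ⟨x, rfl⟩ := QuotientGroup.mk'_surjective N₀ b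
    have hx : x ∈ P₁ := (hmem x).mpr hb
    have h1 := h x hx
    have hyP : g * x * g⁻¹ * x⁻¹ ∈ P₁ := (Subgroup.map_subtype_le _) h1
    have h2 := (hF _ hyP).mp h1
    simpa only [map_mul, map_inv] using h2
  · intro hg x hx
    have hyP : g * x * g⁻¹ * x⁻¹ ∈ P₁ :=
      P₁.mul_mem (P₁.mul_mem (P₁.mul_mem hg hx) (P₁.inv_mem hg)) (P₁.inv_mem hx)
    apply (hF _ hyP).mpr
    have hgb : QuotientGroup.mk' N₀ g ∈ Cfsg.pCore p (G ⧸ N₀) := (hmem g).mp hg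
    have hxb : QuotientGroup.mk' N₀ x ∈ Cfsg.pCore p (G ⧸ N₀) := (hmem x).mp hx
    have h0 : ⁅(⟨QuotientGroup.mk' N₀ g, hgb⟩ : ↥(Cfsg.pCore p (G ⧸ N₀))),
        ⟨QuotientGroup.mk' N₀ x, hxb⟩⁆ ∈ commutator ↥(Cfsg.pCore p (G ⧸ N₀)) := by
      rw [commutator_def]
      exact Subgroup.commutator_mem_commutator (Subgroup.mem_top _) (Subgroup.mem_top _)
    have h3 := commutator_le_frattini_of_pGroup hNbp h0
    refine ⟨_, h3, ?_⟩
    simp only [map_mul, map_inv, commutatorElement_def]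
    rfl


/-- Let `G` be a finite `p`-solvable group, `N₀ = O_{p'}(G)`, `P₁ = O_{p',p}(G)`, and let `F ≤ P₁` be the preimage of the Frattini subgroup of `P₁/N₀`. Then an element `g` of `G` induces the identity on `P₁/F` by conjugation (that is, `g x g⁻¹ x⁻¹ ∈ F` for all `x ∈ P₁`) if and only if `g ∈ P₁`: the group `G/P₁` acts faithfully on `P₁/F`. -/
theorem result {G : Type*} [Group G] [Finite G] {p : ℕ} [Fact p.Prime] (hG : Cfsg.IsPSolvable p G) (g : G) : (∀ x ∈ Cfsg.pPrimePCore p G, g * x * g⁻¹ * x⁻¹ ∈ ((frattini (↥(Cfsg.pPrimePCore p G) ⧸ (Cfsg.pPrimeCore p G).subgroupOf (Cfsg.pPrimePCore p G))).comap (QuotientGroup.mk' ((Cfsg.pPrimeCore p G).subgroupOf (Cfsg.pPrimePCore p G)))).map (Cfsg.pPrimePCore p G).subtype) ↔ g ∈ Cfsg.pPrimePCore p G := by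
  exact aux (Cfsg.pPrimeCore p G) (psolv_centralizer_le hG) (Cfsg.pPrimePCore p G) rfl g

end Cfsg.Agent.S4218
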