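import Cfsg.Statements.S4251
import Cfsg.Agent.S0116
import Cfsg.Agent.S1946
import Cfsg.Agent.Lib.Helper3.ClassSize

set_option autoImplicit false
open Cfsg

namespace Cfsg.Agent.S4251

open Cfsg.Agent.Lib.Helper3
open Subgroup

/-- Let P be a Sylow p-subgroup of a finite group G. Call an intersection H = P ∩ Q with a Sylow p-subgroup Q tame when N_P(H) and N_Q(H) are Sylow p-subgroups of N_G(H). If N_G(H)/C_G(H) is a p-group for every nontrivial tame intersection H = P ∩ Q, then G has a normal p-complement. -/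
theorem result {G : Type*} [Group G] [Finite G] (p : ℕ) [Fact p.Prime] (P : Sylow p G)
    (h : ∀ Q : Sylow p G, (P : Subgroup G) ⊓ (Q : Subgroup G) ≠ ⊥ → (¬ p ∣ ((P : Subgroup G) ⊓ Subgroup.normalizer (((P : Subgroup G) ⊓ (Q : Subgroup G) : Subgroup G) : Set G)).relIndex (Subgroup.normalizer (((P : Subgroup G) ⊓ (Q : Subgroup G) : Subgroup G) : Set G)) ∧ ¬ p ∣ ((Q : Subgroup G) ⊓ Subgroup.normalizer (((P : Subgroup G) ⊓ (Q : Subgroup G) : Subgroup G) : Set G)).relIndex (Subgroup.normalizer (((P : Subgroup G) ⊓ (Q : Subgroup G) : Subgroup G) : Set G))) →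
      IsPGroup p (Subgroup.normalizer (((P : Subgroup G) ⊓ (Q : Subgroup G) : Subgroup G) : Set G) ⧸
        (Subgroup.centralizer (((P : Subgroup G) ⊓ (Q : Subgroup G) : Subgroup G) : Set G)).subgroupOf
          (Subgroup.normalizer (((P : Subgroup G) ⊓ (Q : Subgroup G) : Subgroup G) : Set G)))) :
    Cfsg.HasNormalPComplement p G := by
  rw [Cfsg.Agent.S1946.result P]
  intro a haP ha g hg
  by_cases ha1 : a = 1
  · subst ha1; exact ⟨1, one_mem _, by simp⟩
  have hA : ({a} : Set G) ⊆ ((P : Subgroup G) : Set G) := by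
    intro y hy
    rw [Set.mem_singleton_iff] at hy
    subst hy
    exact haP
  have hAg : (fun b => g⁻¹⁻¹ * b * g⁻¹) '' ({a} : Set G) ⊆ ((P : Subgroup G) : Set G) := by
    rintro _ ⟨b, hb, rfl⟩
    rw [Set.mem_singleton_iff] at hb
    subst hb
    show g⁻¹⁻¹ * b * g⁻¹ ∈ (P : Subgroup G)
    rw [inv_inv]; exact hg
  obtain ⟨n, Q, x, hprod, hx, h0, hstep⟩ := Cfsg.Agent.S0116.result P ({a} : Set G) g⁻¹ hA hAg
  have key : ∀ k : ℕ, k ≤ n → ∃ u ∈ (P : Subgroup G),
      (((List.ofFn x).take k).prod)⁻¹ * a * ((List.ofFn x).take k).prod = u⁻¹ * a * u := by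
    intro k
    induction k with
    | zero => intro _; exact ⟨1, one_mem _, by simp⟩
    | succ k ih =>
      intro hk
      obtain ⟨u, hu, hue⟩ := ih (by omega)
      have hkn : k < n := by omega
      have hak : (((List.ofFn x).take k).prod)⁻¹ * a * ((List.ofFn x).take k).prod ∈
          ((P : Subgroup G) ⊓ (Q ⟨k, hkn⟩ : Subgroup G)) := by
        rcases Nat.eq_zero_or_pos k with hk0 | hkpos
        · subst hk0
          have h1 : a ∈ ((P : Subgroup G) ⊓ (Q ⟨0, hkn⟩ : Subgroup G)) :=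
            h0 hkn (Set.mem_singleton a)
          have e : ((List.take 0 (List.ofFn x)).prod)⁻¹ * a * (List.take 0 (List.ofFn x)).prod
              = a := by simp
          rw [e]; exact h1
        · obtain ⟨i, rfl⟩ : ∃ i, k = i + 1 := ⟨k - 1, by omega⟩
          exact hstep ⟨i, by omega⟩ hkn ⟨a, Set.mem_singleton a, rfl⟩
      have hpre : ((List.ofFn x).take (k + 1)).prod
          = ((List.ofFn x).take k).prod * x ⟨k, hkn⟩ := by
        have hlen : k < (List.ofFn x).length := by rw [List.length_ofFn]; exact hkn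
        rw [List.take_succ_eq_append_getElem hlen, List.prod_append, List.prod_singleton,
          List.getElem_ofFn]
      obtain ⟨ak, hakdef⟩ : ∃ ak : G,
          ak = (((List.ofFn x).take k).prod)⁻¹ * a * ((List.ofFn x).take k).prod := ⟨_, rfl⟩
      rw [← hakdef] at hak hue
      obtain ⟨hxN, htP, htQ⟩ := hx ⟨k, hkn⟩
      have hak1 : ak ≠ 1 := by
        intro h1
        apply ha1
        have h2 : a = ((List.ofFn x).take k).prod * ak * (((List.ofFn x).take k).prod)⁻¹ := by
          rw [hakdef]; group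
        rw [h2, h1]; group
      have hHne : (P : Subgroup G) ⊓ (Q ⟨k, hkn⟩ : Subgroup G) ≠ ⊥ := by
        intro hbot
        rw [hbot] at hak
        exact hak1 (mem_bot.mp hak)
      have hpg := h (Q ⟨k, hkn⟩) hHne ⟨htP, htQ⟩
      obtain ⟨H, hHdef⟩ : ∃ H : Subgroup G, H = (P : Subgroup G) ⊓ (Q ⟨k, hkn⟩ : Subgroup G) :=
        ⟨_, rfl⟩
      rw [← hHdef] at hak hxN htP hpg
      have hSp : IsPGroup p (((P : Subgroup G) ⊓ normalizer (H : Set G)).subgroupOf
          (normalizer (H : Set G))) :=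
        (P.isPGroup'.to_le inf_le_left).comap_subtype
      obtain ⟨S, hSdef⟩ : ∃ S : Sylow p (normalizer (H : Set G)),
          (S : Subgroup (normalizer (H : Set G))) = ((P : Subgroup G) ⊓ normalizer (H : Set G)).subgroupOf
          (normalizer (H : Set G)) := ⟨IsPGroup.toSylow hSp htP, rfl⟩
      obtain ⟨kk, hkk⟩ := hpg.exists_card_eq
      have hidx : ((centralizer (H : Set G)).subgroupOf (normalizer (H : Set G))).index = p ^ kk :=
        hkk
      obtain ⟨s, hs, c, hc, hsc⟩ := sylow_mul_of_index_pow S _ kk hidx ⟨x ⟨k, hkn⟩, hxN⟩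
      rw [hSdef] at hs
      have hs' : (s : G) ∈ (P : Subgroup G) ⊓ normalizer (H : Set G) := mem_subgroupOf.mp hs
      have hc' : (c : G) ∈ centralizer (H : Set G) := mem_subgroupOf.mp hc
      have hxe : x ⟨k, hkn⟩ = (s : G) * (c : G) := congrArg Subtype.val hsc
      have hsN : (s : G) ∈ normalizer (H : Set G) := (mem_inf.mp hs').2
      have h1 : (s : G)⁻¹ * ak * (s : G) ∈ H := by
        have h2 := (mem_normalizer_iff.mp (inv_mem hsN) ak).mp hak
        rwa [inv_inv] at h2
      have h3 : ((s : G)⁻¹ * ak * (s : G)) * (c : G) = (c : G) * ((s : G)⁻¹ * ak * (s : G)) :=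
        mem_centralizer_iff.mp hc' _ h1
      refine ⟨u * (s : G), mul_mem hu (mem_inf.mp hs').1, ?_⟩
      rw [hpre, hxe]
      calc (((List.ofFn x).take k).prod * ((s : G) * (c : G)))⁻¹ * a
            * (((List.ofFn x).take k).prod * ((s : G) * (c : G)))
          = (c : G)⁻¹ * (((s : G)⁻¹ * ((((List.ofFn x).take k).prod)⁻¹ * a
              * ((List.ofFn x).take k).prod) * (s : G)) * (c : G)) := by group
        _ = (c : G)⁻¹ * (((s : G)⁻¹ * ak * (s : G)) * (c : G)) := by rw [← hakdef]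
        _ = (c : G)⁻¹ * ((c : G) * ((s : G)⁻¹ * ak * (s : G))) := by rw [h3]
        _ = (s : G)⁻¹ * ak * (s : G) := by group
        _ = (s : G)⁻¹ * (u⁻¹ * a * u) * (s : G) := by rw [hue]
        _ = (u * (s : G))⁻¹ * a * (u * (s : G)) := by group
  obtain ⟨u, hu, hue⟩ := key n le_rfl
  rw [List.take_of_length_le (by rw [List.length_ofFn]), hprod, inv_inv] at hue
  exact ⟨u⁻¹, inv_mem hu, by rw [hue, inv_inv]⟩

end Cfsg.Agent.S4251
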