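import Cfsg.Statements.S4269
import Mathlib
import Cfsg.Agent.Lib.Helper9.ConjLemmas
import Cfsg.Agent.Lib.Helper9.KW1
import Cfsg.Agent.Lib.Helper7.Coprime2

set_option autoImplicit false
open Cfsg

namespace Cfsg.Agent.S4269

open Subgroup
open Cfsg.Agent.Lib.Helper9
open scoped Pointwise commutatorElement

theorem map_conj_eq_smul {G : Type*} [Group G] (H : Subgroup G) (g : G) :
    H.map (MulAut.conj g).toMonoidHom = MulAut.conj g • H := by
  ext y
  rw [mem_conj_smul_iff, Subgroup.mem_map]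
  constructor
  · rintro ⟨h, hh, rfl⟩
    show g⁻¹ * (g * h * g⁻¹) * g ∈ H
    have e : g⁻¹ * (g * h * g⁻¹) * g = h := by group
    rw [e]; exact hh
  · intro hy
    refine ⟨g⁻¹ * y * g, hy, ?_⟩
    show g * (g⁻¹ * y * g) * g⁻¹ = y
    group

theorem conj_smul_of_mem_normalizer {G : Type*} [Group G] {H : Subgroup G} {a n : G}
    (hn : n ∈ normalizer (H : Set G)) : MulAut.conj (a * n) • H = MulAut.conj a • H := by
  rw [conj_smul_smul, conj_smul_eq_self_iff_mem_normalizer.mpr hn]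

theorem mem_normalizer_of_conj_smul_eq {G : Type*} [Group G] {H : Subgroup G} {a b : G}
    (h : MulAut.conj a • H = MulAut.conj b • H) : b⁻¹ * a ∈ normalizer (H : Set G) := by
  rw [← conj_smul_eq_self_iff_mem_normalizer, conj_smul_smul, h, conj_smul_inv_smul]

/-- the `H`-invariant closure of an element -/
def hcl {G : Type*} [Group G] (H : Subgroup G) (v : G) : Subgroup G :=
  Subgroup.closure {y | ∃ h ∈ H, y = h * v * h⁻¹}

theorem mem_hcl {G : Type*} [Group G] (H : Subgroup G) (v : G) : v ∈ hcl H v :=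
  Subgroup.subset_closure ⟨1, H.one_mem, by group⟩

theorem hcl_le {G : Type*} [Group G] (H : Subgroup G) (v : G) (W : Subgroup G)
    (hW : ∀ h ∈ H, h * v * h⁻¹ ∈ W) : hcl H v ≤ W := by
  unfold hcl
  rw [Subgroup.closure_le]
  rintro _ ⟨h, hh, rfl⟩
  exact hW h hh

theorem hcl_inv {G : Type*} [Group G] [Finite G] (H : Subgroup G) (v : G) (h : G) (hh : h ∈ H) :
    (hcl H v).map (MulAut.conj h).toMonoidHom = hcl H v := by
  rw [map_conj_eq_smul, conj_smul_eq_self_iff_mem_normalizer]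
  apply mem_normalizer_of_conj_smul_le
  rw [← map_conj_eq_smul]
  unfold hcl
  rw [MonoidHom.map_closure, Subgroup.closure_le]
  rintro _ ⟨_, ⟨h', hh', rfl⟩, rfl⟩
  apply Subgroup.subset_closure
  refine ⟨h * h', H.mul_mem hh hh', ?_⟩
  show h * (h' * v * h'⁻¹) * h⁻¹ = _
  group

/-- Let G be a finite group, V an abelian normal subgroup and H a subgroup with HV = G. Then H is pronormal in G (H and gHg⁻¹ are conjugate inside the subgroup they generate, for every g) if and only if every H-invariant subgroup U of V satisfies U = N_U(H)·[H, U], that is, U is the join of U ∩ N_G(H) and the commutator subgroup [H, U]. -/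
theorem result {G : Type*} [Group G] [Finite G]
    (V : Subgroup G) [V.Normal] (hV : IsMulCommutative ↥V) (H : Subgroup G) (hHV : H ⊔ V = ⊤) :
    Cfsg.IsPronormal H ↔
      ∀ U : Subgroup G, U ≤ V → (∀ h ∈ H, U.map (MulAut.conj h).toMonoidHom = U) →
        U = (U ⊓ Subgroup.normalizer (H : Set G)) ⊔ ⁅H, U⁆ := by
  have hVn : V.Normal := inferInstance
  have hVc : ∀ a ∈ V, ∀ b ∈ V, a * b = b * a := by
    intro a ha b hb
    have := mul_comm' (⟨a, ha⟩ : V) ⟨b, hb⟩
    exact congrArg Subtype.val this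
  have hcomU : ∀ U : Subgroup G, (∀ h ∈ H, U.map (MulAut.conj h).toMonoidHom = U) →
      ⁅H, U⁆ ≤ U := by
    intro U hUinv
    rw [Subgroup.commutator_le]
    intro h hh u hu
    have h1 : h * u * h⁻¹ ∈ U := by
      have : h * u * h⁻¹ ∈ U.map (MulAut.conj h).toMonoidHom := ⟨u, hu, rfl⟩
      rwa [hUinv h hh] at this
    rw [commutatorElement_def]
    exact U.mul_mem h1 (U.inv_mem hu)
  constructor
  · intro hpro U hUV hUinv
    apply le_antisymm
    · intro u hu
      obtain ⟨x, hx, hxe⟩ := hpro u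
      have hJ : H ⊔ H.map (MulAut.conj u).toMonoidHom ≤ ⁅H, U⁆ ⊔ H := by
        refine sup_le le_sup_right ?_
        rintro _ ⟨h, hh, rfl⟩
        show u * h * u⁻¹ ∈ _
        have e : u * h * u⁻¹ = ⁅h, u⁆⁻¹ * h := by rw [commutatorElement_def]; group
        rw [e]
        exact Subgroup.mul_mem_sup (Subgroup.inv_mem _ (Subgroup.commutator_mem_commutator hh hu)) hh
      obtain ⟨w, hw, h, hh, rfl⟩ := Cfsg.Agent.Lib.Helper7.exists_mul_of_mem_sup
        (N := ⁅H, U⁆) (A := H) (Cfsg.Agent.Lib.Helper7.le_normalizer_commutator_left H U) (hJ hx)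
      rw [map_conj_eq_smul, map_conj_eq_smul,
        conj_smul_of_mem_normalizer (Subgroup.le_normalizer hh)] at hxe
      have hn := mem_normalizer_of_conj_smul_eq hxe
      have hwU : w ∈ U := hcomU U hUinv hw
      have e : u = (w⁻¹ * u)⁻¹⁻¹ * ((w⁻¹ * u)⁻¹ * w * (w⁻¹ * u)) := by group
      have hwu : w⁻¹ * u ∈ U ⊓ normalizer (H : Set G) :=
        Subgroup.mem_inf.mpr ⟨U.mul_mem (U.inv_mem hwU) hu, hn⟩
      have hcomm : w * (w⁻¹ * u) = (w⁻¹ * u) * w :=
        hVc w (hUV hwU) _ (hUV (U.mul_mem (U.inv_mem hwU) hu))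
      have e2 : u = (w⁻¹ * u) * w := by rw [← hcomm]; group
      rw [e2]
      exact Subgroup.mul_mem_sup hwu hw
    · exact sup_le inf_le_left (hcomU U hUinv)
  · intro hcrit g
    have hg : g ∈ V ⊔ H := by rw [sup_comm, hHV]; exact Subgroup.mem_top g
    obtain ⟨v, hv, h₀, hh₀, rfl⟩ := Subgroup.mem_sup_of_normal_left.mp hg
    -- reduce to v
    have hU₀V : hcl H v ≤ V := hcl_le H v V (fun h _ => hVn.conj_mem v hv h)
    have hU₀ := hcrit (hcl H v) hU₀V (fun h hh => hcl_inv H v h hh)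
    have hcomU₀ : ⁅H, hcl H v⁆ ≤ hcl H v := hcomU _ (fun h hh => hcl_inv H v h hh)
    have hv0 : v ∈ ⁅H, hcl H v⁆ ⊔ (hcl H v ⊓ normalizer (H : Set G)) := by
      rw [sup_comm, ← hU₀]; exact mem_hcl H v
    have hcentV : ∀ (X Y : Subgroup G), X ≤ V → Y ≤ V → X ≤ normalizer (Y : Set G) := by
      intro X Y hX hY x hx
      apply kw_mem_normalizer_of_comm
      intro y hy
      exact hVc x (hX hx) y (hY hy)
    obtain ⟨w, hw, n, hn, rfl⟩ := Cfsg.Agent.Lib.Helper7.exists_mul_of_mem_sup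
      (N := ⁅H, hcl H v⁆) (A := hcl H v ⊓ normalizer (H : Set G))
      (hcentV _ _ (inf_le_left.trans hU₀V) (hcomU₀.trans hU₀V)) hv0
    have hwV : w ∈ V := hU₀V (hcomU₀ hw)
    -- conj (w n h₀) • H = conj w • H
    have hgw : H.map (MulAut.conj (w * n * h₀)).toMonoidHom = MulAut.conj w • H := by
      rw [map_conj_eq_smul, conj_smul_of_mem_normalizer (Subgroup.le_normalizer hh₀),
        conj_smul_of_mem_normalizer (Subgroup.mem_inf.mp hn).2]
    -- second closure
    have hU₁V : hcl H w ≤ V := hcl_le H w V (fun h _ => hVn.conj_mem w hwV h)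
    have hU₁ := hcrit (hcl H w) hU₁V (fun h hh => hcl_inv H w h hh)
    have hcomU₁ : ⁅H, hcl H w⁆ ≤ hcl H w := hcomU _ (fun h hh => hcl_inv H w h hh)
    -- the subgroup S of elements of V whose commutators with H lie in J
    have hJH : H ≤ H ⊔ MulAut.conj w • H := le_sup_left
    have hcomJ : ⁅H, hcl H w⁆ ≤ H ⊔ MulAut.conj w • H := by
      let S : Subgroup G :=
        { carrier := {u | u ∈ V ∧ ∀ h ∈ H, ⁅h, u⁆ ∈ H ⊔ MulAut.conj w • H}
          mul_mem' := by
            rintro a b ⟨ha, ha2⟩ ⟨hb, hb2⟩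
            refine ⟨V.mul_mem ha hb, fun h hh => ?_⟩
            have hc1 : h * b * h⁻¹ * b⁻¹ ∈ V := V.mul_mem (hVn.conj_mem b hb h) (V.inv_mem hb)
            have e0 := hVc (h * b * h⁻¹ * b⁻¹) hc1 a⁻¹ (V.inv_mem ha)
            have e : ⁅h, a * b⁆ = ⁅h, a⁆ * ⁅h, b⁆ := by
              rw [commutatorElement_def, commutatorElement_def, commutatorElement_def]
              calc h * (a * b) * h⁻¹ * (a * b)⁻¹
                  = h * a * h⁻¹ * ((h * b * h⁻¹ * b⁻¹) * a⁻¹) := by group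
                _ = h * a * h⁻¹ * (a⁻¹ * (h * b * h⁻¹ * b⁻¹)) := by rw [e0]
                _ = h * a * h⁻¹ * a⁻¹ * (h * b * h⁻¹ * b⁻¹) := by group
            rw [e]
            exact Subgroup.mul_mem _ (ha2 h hh) (hb2 h hh)
          one_mem' := ⟨V.one_mem, fun h _ => by
            rw [commutatorElement_def]
            have e : h * 1 * h⁻¹ * (1 : G)⁻¹ = 1 := by group
            rw [e]; exact Subgroup.one_mem _⟩
          inv_mem' := by
            rintro a ⟨ha, ha2⟩
            refine ⟨V.inv_mem ha, fun h hh => ?_⟩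
            have hc1 : h * a⁻¹ * h⁻¹ ∈ V := hVn.conj_mem a⁻¹ (V.inv_mem ha) h
            have e0 := hVc (h * a⁻¹ * h⁻¹) hc1 a ha
            have e : ⁅h, a⁻¹⁆ = ⁅h, a⁆⁻¹ := by
              rw [commutatorElement_def, commutatorElement_def]
              calc h * a⁻¹ * h⁻¹ * a⁻¹⁻¹ = (h * a⁻¹ * h⁻¹) * a := by group
                _ = a * (h * a⁻¹ * h⁻¹) := by rw [e0]
                _ = (h * a * h⁻¹ * a⁻¹)⁻¹ := by group
            rw [e]
            exact Subgroup.inv_mem _ (ha2 h hh) }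
      have hS : hcl H w ≤ S := by
        apply hcl_le
        intro h' hh'
        refine ⟨hVn.conj_mem w hwV h', fun h hh => ?_⟩
        have e : ⁅h, h' * w * h'⁻¹⁆ = (h * h') * (w * (h * h')⁻¹ * w⁻¹) * (w * h' * w⁻¹) * h'⁻¹ := by
          rw [commutatorElement_def]; group
        rw [e]
        have m1 : w * (h * h')⁻¹ * w⁻¹ ∈ MulAut.conj w • H :=
          conj_mem_conj_smul w (H.inv_mem (H.mul_mem hh hh'))
        have m2 : w * h' * w⁻¹ ∈ MulAut.conj w • H := conj_mem_conj_smul w hh'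
        exact Subgroup.mul_mem _ (Subgroup.mul_mem _ (Subgroup.mul_mem _
          (Subgroup.mem_sup_left (H.mul_mem hh hh')) (Subgroup.mem_sup_right m1))
          (Subgroup.mem_sup_right m2)) (Subgroup.mem_sup_left (H.inv_mem hh'))
      rw [Subgroup.commutator_le]
      intro h hh u hu
      exact (hS hu).2 h hh
    have hw0 : w ∈ ⁅H, hcl H w⁆ ⊔ (hcl H w ⊓ normalizer (H : Set G)) := by
      rw [sup_comm, ← hU₁]; exact mem_hcl H w
    obtain ⟨w₁, hw₁, n₁, hn₁, rfl⟩ := Cfsg.Agent.Lib.Helper7.exists_mul_of_mem_sup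
      (N := ⁅H, hcl H (w)⁆) (A := hcl H w ⊓ normalizer (H : Set G))
      (hcentV _ _ (inf_le_left.trans hU₁V) (hcomU₁.trans hU₁V)) hw0
    refine ⟨w₁, ?_, ?_⟩
    · rw [hgw]
      exact hcomJ hw₁
    · rw [hgw, map_conj_eq_smul, conj_smul_of_mem_normalizer (Subgroup.mem_inf.mp hn₁).2]

end Cfsg.Agent.S4269
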