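import Mathlib
import Cfsg.Statements.S4297
import Cfsg.Agent.S3532
import Cfsg.Agent.Lib.Helper7.FrobAff

set_option autoImplicit false
set_option linter.style.haveILetI false
open Cfsg

namespace Cfsg.Agent.S4297

/-- The function giving the 2-dimensional action of the dicyclic group. -/
def fn {n : ℕ} {F : Type*} [Field F] (z : ZMod (2 * n) → F) : QuaternionGroup n → F × F → F × F
  | QuaternionGroup.a i, w => (z i * w.1, (z i)⁻¹ * w.2)
  | QuaternionGroup.xa i, w => (-(z i)⁻¹ * w.2, z i * w.1)

theorem z_ne {n : ℕ} {F : Type*} [Field F] (z : ZMod (2 * n) → F) (hz0 : z 0 = 1)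
    (hzadd : ∀ i j, z (i + j) = z i * z j) (i : ZMod (2 * n)) : z i ≠ 0 := by
  intro h
  have h1 := hzadd i (-i)
  rw [add_neg_cancel, hz0, h, zero_mul] at h1
  exact one_ne_zero h1

theorem z_sub {n : ℕ} {F : Type*} [Field F] (z : ZMod (2 * n) → F) (hz0 : z 0 = 1)
    (hzadd : ∀ i j, z (i + j) = z i * z j) (i j : ZMod (2 * n)) : z (j - i) = z j * (z i)⁻¹ := by
  have h1 := hzadd (j - i) i
  rw [sub_add_cancel] at h1
  rw [h1, mul_assoc, mul_inv_cancel₀ (z_ne z hz0 hzadd i), mul_one]

/-- The action as a `DistribMulAction`. -/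
@[instance_reducible]
def dma {n : ℕ} {F : Type*} [Field F] (z : ZMod (2 * n) → F) (hz0 : z 0 = 1)
    (hzadd : ∀ i j, z (i + j) = z i * z j) (hzn : z (n : ZMod (2 * n)) = -1) :
    DistribMulAction (QuaternionGroup n) (F × F) where
  smul := fn z
  one_smul := by
    rintro ⟨u, v⟩
    change fn z (QuaternionGroup.a 0) (u, v) = (u, v)
    simp [fn, hz0]
  mul_smul := by
    have hne := z_ne z hz0 hzadd
    have hsub := z_sub z hz0 hzadd
    rintro (i | i) (j | j) ⟨u, v⟩
    · change fn z (QuaternionGroup.a (i + j)) (u, v) =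
        fn z (QuaternionGroup.a i) (fn z (QuaternionGroup.a j) (u, v))
      simp only [fn, hzadd]
      refine Prod.ext ?_ ?_
      · simp only
        ring
      · simp only
        rw [mul_inv]
        ring
    · change fn z (QuaternionGroup.xa (j - i)) (u, v) =
        fn z (QuaternionGroup.a i) (fn z (QuaternionGroup.xa j) (u, v))
      simp only [fn, hsub]
      refine Prod.ext ?_ ?_
      · simp only
        rw [mul_inv, inv_inv]
        ring
      · simp only
        ring
    · change fn z (QuaternionGroup.xa (i + j)) (u, v) =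
        fn z (QuaternionGroup.xa i) (fn z (QuaternionGroup.a j) (u, v))
      simp only [fn, hzadd]
      refine Prod.ext ?_ ?_
      · simp only
        rw [mul_inv]
        ring
      · simp only
        ring
    · change fn z (QuaternionGroup.a ((n : ZMod (2 * n)) + j - i)) (u, v) =
        fn z (QuaternionGroup.xa i) (fn z (QuaternionGroup.xa j) (u, v))
      simp only [fn, hsub, hzadd, hzn]
      refine Prod.ext ?_ ?_
      · simp only
        ring
      · simp only
        rw [mul_inv, mul_inv, inv_inv, inv_neg, inv_one]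
        ring
  smul_zero := by
    rintro (i | i)
    · change fn z (QuaternionGroup.a i) (0, 0) = (0, 0)
      simp [fn]
    · change fn z (QuaternionGroup.xa i) (0, 0) = (0, 0)
      simp [fn]
  smul_add := by
    rintro (i | i) ⟨u, v⟩ ⟨u', v'⟩
    · change fn z (QuaternionGroup.a i) (u + u', v + v') =
        fn z (QuaternionGroup.a i) (u, v) + fn z (QuaternionGroup.a i) (u', v')
      simp only [fn, Prod.mk_add_mk]
      refine Prod.ext ?_ ?_ <;> simp only <;> ring
    · change fn z (QuaternionGroup.xa i) (u + u', v + v') =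
        fn z (QuaternionGroup.xa i) (u, v) + fn z (QuaternionGroup.xa i) (u', v')
      simp only [fn, Prod.mk_add_mk]
      refine Prod.ext ?_ ?_ <;> simp only <;> ring

/-- For every n ≥ 2 the dicyclic group of order 4n (generated by an element a of order 2n and an element x with x² = aⁿ and x a x⁻¹ = a⁻¹) occurs as a Frobenius complement of some finite Frobenius group. -/
theorem result (n : ℕ) (hn : 2 ≤ n) :
    ∃ (L : Type) (_ : Group L) (_ : Finite L) (H : Subgroup L), Cfsg.IsFrobeniusComplement H ∧ Nonempty (H ≃* QuaternionGroup n) := by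
  obtain ⟨p, hp1, hp⟩ := Nat.exists_infinite_primes (2 * n + 1)
  have : Fact p.Prime := ⟨hp⟩
  have hcop : p.Coprime (2 * n) := by
    rw [Nat.Prime.coprime_iff_not_dvd hp]
    intro h
    have h1 := Nat.le_of_dvd (by omega) h
    omega
  obtain ⟨k, hk, ζ, hζ⟩ := Cfsg.Agent.S3532.exists_field_unit p (2 * n) (by omega) hcop
  have hn0 : NeZero n := ⟨by omega⟩
  have hn2 : NeZero (2 * n) := ⟨by omega⟩
  have hz0 : (fun i : ZMod (2 * n) => ((ζ ^ i.val : (GaloisField p k)ˣ) : GaloisField p k)) 0 = 1 := by
    simp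
  have hzadd : ∀ i j : ZMod (2 * n),
      (fun i : ZMod (2 * n) => ((ζ ^ i.val : (GaloisField p k)ˣ) : GaloisField p k)) (i + j) =
      (fun i : ZMod (2 * n) => ((ζ ^ i.val : (GaloisField p k)ˣ) : GaloisField p k)) i *
      (fun i : ZMod (2 * n) => ((ζ ^ i.val : (GaloisField p k)ˣ) : GaloisField p k)) j := by
    intro i j
    have h1 : ζ ^ (i + j).val = ζ ^ (i.val + j.val) := by
      rw [pow_eq_pow_iff_modEq, hζ, ZMod.val_add]
      exact Nat.mod_modEq _ _
    simp only
    rw [h1, pow_add, Units.val_mul]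
  have hzn : (fun i : ZMod (2 * n) => ((ζ ^ i.val : (GaloisField p k)ˣ) : GaloisField p k))
      (n : ZMod (2 * n)) = -1 := by
    simp only
    rw [ZMod.val_natCast_of_lt (by omega)]
    have h1 : ((ζ ^ n : (GaloisField p k)ˣ) : GaloisField p k) *
        ((ζ ^ n : (GaloisField p k)ˣ) : GaloisField p k) = 1 := by
      rw [← Units.val_mul, ← pow_add, ← two_mul, ← hζ, pow_orderOf_eq_one, Units.val_one]
    rcases mul_self_eq_one_iff.1 h1 with h2 | h2
    · exfalso
      have h3 : ζ ^ n = 1 := Units.ext h2
      have h4 := orderOf_dvd_of_pow_eq_one h3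
      rw [hζ] at h4
      have h5 := Nat.le_of_dvd (by omega) h4
      omega
    · exact h2
  have hzinj : ∀ i : ZMod (2 * n),
      ((ζ ^ i.val : (GaloisField p k)ˣ) : GaloisField p k) = 1 → i = 0 := by
    intro i hi
    have h3 : ζ ^ i.val = 1 := Units.ext hi
    have h4 := orderOf_dvd_of_pow_eq_one h3
    rw [hζ] at h4
    have h5 : i.val = 0 := Nat.eq_zero_of_dvd_of_lt h4 (ZMod.val_lt i)
    exact (ZMod.val_eq_zero i).1 h5
  have h2 : (2 : GaloisField p k) ≠ 0 := by
    intro h
    have h1 : ((2 : ℕ) : GaloisField p k) = 0 := by exact_mod_cast h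
    rw [CharP.cast_eq_zero_iff (GaloisField p k) p] at h1
    have h3 := Nat.le_of_dvd (by omega) h1
    omega
  letI : DistribMulAction (QuaternionGroup n) (GaloisField p k × GaloisField p k) :=
    dma (fun i : ZMod (2 * n) => ((ζ ^ i.val : (GaloisField p k)ˣ) : GaloisField p k)) hz0 hzadd hzn
  have hne := z_ne (fun i : ZMod (2 * n) => ((ζ ^ i.val : (GaloisField p k)ˣ) : GaloisField p k)) hz0 hzadd
  have hfpf : ∀ g : QuaternionGroup n, g ≠ 1 →
      ∀ w : GaloisField p k × GaloisField p k, g • w = w → w = 0 := by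
    rintro (i | i) hg ⟨u, v⟩ hw
    · have hi : i ≠ 0 := by
        intro h
        apply hg
        rw [h]
        rfl
      have hzi : ((ζ ^ i.val : (GaloisField p k)ˣ) : GaloisField p k) ≠ 1 := fun h => hi (hzinj i h)
      have hw' : (((ζ ^ i.val : (GaloisField p k)ˣ) : GaloisField p k) * u,
          (((ζ ^ i.val : (GaloisField p k)ˣ) : GaloisField p k))⁻¹ * v) = (u, v) := hw
      have h1 := congrArg Prod.fst hw'
      have h3 := congrArg Prod.snd hw'
      simp only at h1 h3
      have hu : u = 0 := by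
        have h4 : (((ζ ^ i.val : (GaloisField p k)ˣ) : GaloisField p k) - 1) * u = 0 := by
          rw [sub_mul, h1, one_mul, sub_self]
        exact (mul_eq_zero.1 h4).resolve_left (sub_ne_zero.2 hzi)
      have hv : v = 0 := by
        have h5 : v = ((ζ ^ i.val : (GaloisField p k)ˣ) : GaloisField p k) * v := by
          have h6 := congrArg (fun t => ((ζ ^ i.val : (GaloisField p k)ˣ) : GaloisField p k) * t) h3
          beta_reduce at h6
          rw [← mul_assoc, mul_inv_cancel₀ (hne i), one_mul] at h6
          exact h6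
        have h4 : (((ζ ^ i.val : (GaloisField p k)ˣ) : GaloisField p k) - 1) * v = 0 := by
          rw [sub_mul, ← h5, one_mul, sub_self]
        exact (mul_eq_zero.1 h4).resolve_left (sub_ne_zero.2 hzi)
      rw [hu, hv]
      rfl
    · have hw' : (-(((ζ ^ i.val : (GaloisField p k)ˣ) : GaloisField p k))⁻¹ * v,
          ((ζ ^ i.val : (GaloisField p k)ˣ) : GaloisField p k) * u) = (u, v) := hw
      have h1 := congrArg Prod.fst hw'
      have h3 := congrArg Prod.snd hw'
      simp only at h1 h3
      have hv : v = 0 := by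
        have h4 : v = -v := by
          rw [← h1] at h3
          rw [← mul_assoc, mul_neg, mul_inv_cancel₀ (hne i), neg_one_mul] at h3
          exact h3.symm
        have h5 : (2 : GaloisField p k) * v = 0 := by
          rw [two_mul]
          nth_rewrite 1 [h4]
          rw [neg_add_cancel]
        exact (mul_eq_zero.1 h5).resolve_left h2
      have hu : u = 0 := by
        rw [← h1, hv, mul_zero]
      rw [hu, hv]
      rfl
  have hnt : Nontrivial (QuaternionGroup n) :=
    ⟨⟨QuaternionGroup.a 0, QuaternionGroup.xa 0, fun h => by cases h⟩⟩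
  obtain ⟨L, hL, hfin, C, hC, ⟨e⟩⟩ := Cfsg.Agent.Lib.Helper7.exists_frob_of_fpf
    (K := QuaternionGroup n) (V := GaloisField p k × GaloisField p k) hfpf
  exact ⟨L, hL, hfin, C, hC, ⟨e.symm⟩⟩

end Cfsg.Agent.S4297
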