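import Cfsg.Statements.S4381
import Mathlib
import Cfsg.Agent.S0660
import Cfsg.Agent.Lib.Helper7.CoprimeSylow
import Cfsg.Agent.Lib.Helper2.PGroup

set_option autoImplicit false
open Pointwise
open Cfsg

namespace Cfsg.Agent.S4381

/-- The Frattini subgroup is invariant under any action by automorphisms. -/
theorem mai_frat_inv {A G : Type*} [Group A] [Group G] [MulDistribMulAction A G] (a : A) (x : G)
    (hx : x ∈ frattini G) : a • x ∈ frattini G := by
  have h := Subgroup.characteristic_iff_map_eq.mp (inferInstance : (frattini G).Characteristic)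
    (MulDistribMulAction.toMulAut A G a)
  rw [← h]
  exact ⟨x, hx, rfl⟩

/-- The join of two invariant subgroups is invariant. -/
theorem mai_inv_sup {A G : Type*} [Group A] [Group G] [MulDistribMulAction A G]
    (K L : Subgroup G) (hK : ∀ a : A, ∀ x ∈ K, a • x ∈ K) (hL : ∀ a : A, ∀ x ∈ L, a • x ∈ L) :
    ∀ a : A, ∀ x ∈ K ⊔ L, a • x ∈ K ⊔ L := by
  intro a x hx
  have h : (K ⊔ L).map (MulDistribMulAction.toMonoidHom G a) ≤ K ⊔ L := by
    rw [Subgroup.map_sup]
    refine sup_le ?_ ?_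
    · rintro _ ⟨y, hy, rfl⟩; exact Subgroup.mem_sup_left (hK a y hy)
    · rintro _ ⟨y, hy, rfl⟩; exact Subgroup.mem_sup_right (hL a y hy)
  exact h ⟨x, hx, rfl⟩

/-- Every proper invariant subgroup lies in a maximal invariant subgroup. -/
theorem mai_exists_max {A G : Type*} [Group A] [Group G] [Finite G] [MulDistribMulAction A G]
    (K : Subgroup G) (hK : K ≠ ⊤) (hKi : ∀ a : A, ∀ x ∈ K, a • x ∈ K) :
    ∃ M : Subgroup G, K ≤ M ∧ (M ≠ ⊤ ∧ (∀ a : A, ∀ x ∈ M, a • x ∈ M) ∧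
      ∀ L : Subgroup G, M < L → (∀ a : A, ∀ x ∈ L, a • x ∈ L) → L = ⊤) := by
  obtain ⟨M, hKM, hM⟩ := Finite.exists_le_maximal
    (p := fun M : Subgroup G => M ≠ ⊤ ∧ ∀ a : A, ∀ x ∈ M, a • x ∈ M) (a := K) ⟨hK, hKi⟩
  refine ⟨M, hKM, hM.prop.1, hM.prop.2, ?_⟩
  intro L hL hLi
  by_contra hne
  exact absurd (hM.le_of_ge ⟨hne, hLi⟩ hL.le) (not_le_of_gt hL)

/-- A maximal invariant subgroup contains the Frattini subgroup. -/
theorem mai_frat_le {A G : Type*} [Group A] [Group G] [Finite G] [MulDistribMulAction A G]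
    (M : Subgroup G) (hM : M ≠ ⊤) (hMi : ∀ a : A, ∀ x ∈ M, a • x ∈ M)
    (hMmax : ∀ L : Subgroup G, M < L → (∀ a : A, ∀ x ∈ L, a • x ∈ L) → L = ⊤) :
    frattini G ≤ M := by
  by_contra hle
  have hlt : M < M ⊔ frattini G :=
    lt_of_le_of_ne le_sup_left (fun h => hle (le_of_le_of_eq le_sup_right h.symm))
  have h1 : M ⊔ frattini G = ⊤ :=
    hMmax _ hlt (mai_inv_sup M (frattini G) hMi (fun a x hx => mai_frat_inv a x hx))
  exact hM (frattini_nongenerating h1)

/-- If no invariant subgroup lies strictly between the Frattini subgroup and the group, the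
maximal invariant subgroups are exactly the Frattini subgroup (when proper). -/
theorem mai_char {A G : Type*} [Group A] [Group G] [Finite G] [MulDistribMulAction A G]
    (hirr : ∀ L : Subgroup G, frattini G < L → (∀ a : A, ∀ x ∈ L, a • x ∈ L) → L = ⊤)
    (M : Subgroup G) :
    (M ≠ ⊤ ∧ (∀ a : A, ∀ x ∈ M, a • x ∈ M) ∧
      ∀ L : Subgroup G, M < L → (∀ a : A, ∀ x ∈ L, a • x ∈ L) → L = ⊤) ↔
      (M = frattini G ∧ M ≠ ⊤) := by
  constructor
  · rintro ⟨hM, hMi, hMmax⟩
    have hle := mai_frat_le M hM hMi hMmax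
    refine ⟨?_, hM⟩
    by_contra hne
    exact hM (hirr M (lt_of_le_of_ne hle (Ne.symm hne)) hMi)
  · rintro ⟨rfl, hM⟩
    exact ⟨hM, fun a x hx => mai_frat_inv a x hx, fun L hL hLi => hirr L hL hLi⟩

/-- Every subgroup of a finite elementary abelian group has a complement. -/
theorem mai_compl {P : Type*} [Group P] [Finite P] {p : ℕ} (hp : p.Prime)
    (hcomm : ∀ x y : P, x * y = y * x) (hexp : ∀ x : P, x ^ p = 1) (U : Subgroup P) :
    ∃ W : Subgroup P, U ⊓ W = ⊥ ∧ U ⊔ W = ⊤ := by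
  haveI : Fact p.Prime := ⟨hp⟩
  obtain ⟨W, -, hW⟩ := Finite.exists_le_maximal (p := fun W : Subgroup P => U ⊓ W = ⊥)
    (a := ⊥) (inf_bot_eq U)
  refine ⟨W, hW.prop, ?_⟩
  by_contra hne
  obtain ⟨x, hx⟩ : ∃ x, x ∉ U ⊔ W := by
    by_contra h
    push Not at h
    exact hne (eq_top_iff.mpr (fun x _ => h x))
  have hxW : x ∉ W := fun h => hx (Subgroup.mem_sup_right h)
  haveI : (Subgroup.zpowers x).Normal :=
    ⟨fun n hn g => by rw [hcomm g n, mul_inv_cancel_right]; exact hn⟩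
  have hkey : U ⊓ (W ⊔ Subgroup.zpowers x) = ⊥ := by
    rw [eq_bot_iff]
    rintro u ⟨hu, hu2⟩
    rw [Subgroup.mem_bot]
    obtain ⟨w, hw, z, hz, rfl⟩ := Subgroup.mem_sup_of_normal_right.mp hu2
    obtain ⟨k, rfl⟩ := Subgroup.mem_zpowers_iff.mp hz
    by_cases hk : x ^ k = 1
    · rw [hk, mul_one] at hu ⊢
      have h1 : w ∈ U ⊓ W := ⟨hu, hw⟩
      rw [hW.prop] at h1
      exact Subgroup.mem_bot.mp h1
    · exfalso
      have h1 : x ^ k ∈ U ⊔ W := by
        have e : x ^ k = w⁻¹ * (w * x ^ k) := by group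
        rw [e]
        exact Subgroup.mul_mem _ (Subgroup.mem_sup_right (W.inv_mem hw)) (Subgroup.mem_sup_left hu)
      have hx1 : x ≠ 1 := by
        rintro rfl
        exact hk (one_zpow k)
      have hord : orderOf x = p := orderOf_eq_prime (hexp x) hx1
      have hcard : Nat.card (Subgroup.zpowers x) = p := by rw [Nat.card_zpowers, hord]
      have hgen := zpowers_eq_top_of_prime_card hcard
        (g := (⟨x ^ k, Subgroup.zpow_mem _ (Subgroup.mem_zpowers x) k⟩ : Subgroup.zpowers x))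
        (by intro h; exact hk (congrArg Subtype.val h))
      have hxm : (⟨x, Subgroup.mem_zpowers x⟩ : Subgroup.zpowers x) ∈ Subgroup.zpowers
          (⟨x ^ k, Subgroup.zpow_mem _ (Subgroup.mem_zpowers x) k⟩ : Subgroup.zpowers x) := by
        rw [hgen]; trivial
      obtain ⟨m, hm⟩ := Subgroup.mem_zpowers_iff.mp hxm
      have hm' : (x ^ k) ^ m = x := by
        have := congrArg Subtype.val hm
        simpa using this
      apply hx
      rw [← hm']
      exact Subgroup.zpow_mem _ h1 m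
  have hle : W ≤ W ⊔ Subgroup.zpowers x := le_sup_left
  have h2 := hW.le_of_ge hkey hle
  exact hxW (h2 (Subgroup.mem_sup_right (Subgroup.mem_zpowers x)))

/-- A subgroup of a finite `p`-group containing the Frattini subgroup is normal. -/
theorem mai_normal_of_frat_le {G : Type*} [Group G] [Finite G] {p : ℕ} (hp : p.Prime)
    (hG : IsPGroup p G) (M : Subgroup G) (hM : frattini G ≤ M) : M.Normal := by
  haveI : Fact p.Prime := ⟨hp⟩
  have hc := Cfsg.Agent.Lib.Helper2.commutator_le_frattini_of_pGroup hG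
  refine ⟨fun n hn g => ?_⟩
  have h1 : g * n * g⁻¹ * n⁻¹ ∈ M :=
    hM (hc (Subgroup.commutator_mem_commutator (Subgroup.mem_top g) (Subgroup.mem_top n)))
  have e : g * n * g⁻¹ = g * n * g⁻¹ * n⁻¹ * n := by group
  rw [e]
  exact M.mul_mem h1 hn

/-- Coprime action on a `p`-group: an invariant subgroup containing the Frattini subgroup has
an invariant supplement meeting it in the Frattini subgroup (Maschke). -/
theorem mai_compl_inv {A G : Type*} [Group A] [Finite A] [Group G] [Finite G]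
    [MulDistribMulAction A G]
    (hcop : (Nat.card A).Coprime (Nat.card G)) {p : ℕ} (hp : p.Prime) (hG : IsPGroup p G)
    (L : Subgroup G) (hL : frattini G ≤ L) (hLi : ∀ a : A, ∀ x ∈ L, a • x ∈ L) :
    ∃ K : Subgroup G, (∀ a : A, ∀ x ∈ K, a • x ∈ K) ∧ K ⊔ L = ⊤ ∧ K ⊓ L ≤ frattini G := by
  classical
  haveI : Fact p.Prime := ⟨hp⟩
  have hcG := Cfsg.Agent.Lib.Helper2.commutator_le_frattini_of_pGroup hG
  have hcomm : ∀ x y : G ⧸ frattini G, x * y = y * x := by
    intro x y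
    obtain ⟨g, rfl⟩ := QuotientGroup.mk_surjective x
    obtain ⟨h, rfl⟩ := QuotientGroup.mk_surjective y
    rw [← QuotientGroup.mk_mul, ← QuotientGroup.mk_mul, QuotientGroup.eq]
    have h1 : h⁻¹ * g⁻¹ * h⁻¹⁻¹ * g⁻¹⁻¹ ∈ frattini G :=
      hcG (Subgroup.commutator_mem_commutator (Subgroup.mem_top h⁻¹) (Subgroup.mem_top g⁻¹))
    have e : (g * h)⁻¹ * (h * g) = h⁻¹ * g⁻¹ * h⁻¹⁻¹ * g⁻¹⁻¹ := by group
    rw [e]
    exact h1
  have hexp : ∀ x : G ⧸ frattini G, x ^ p = 1 := by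
    intro x
    obtain ⟨g, rfl⟩ := QuotientGroup.mk_surjective x
    rw [← QuotientGroup.mk_pow, QuotientGroup.eq_one_iff]
    exact Cfsg.Agent.Lib.Helper2.pow_mem_frattini_of_pGroup hG g
  haveI : IsMulCommutative (G ⧸ frattini G) := ⟨⟨hcomm⟩⟩
  have hmap : ∀ a : A, (frattini G).map
      ((MulDistribMulAction.toMulAut A G a : G ≃* G) : G →* G) = frattini G := by
    intro a
    apply le_antisymm
    · rintro _ ⟨y, hy, rfl⟩
      exact mai_frat_inv a y hy
    · intro y hy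
      refine ⟨a⁻¹ • y, mai_frat_inv a⁻¹ y hy, ?_⟩
      show a • a⁻¹ • y = y
      rw [smul_inv_smul]
  obtain ⟨ψ, hψ⟩ : ∃ ψ : A →* MulAut (G ⧸ frattini G),
      ∀ a x, ψ a (QuotientGroup.mk x) = QuotientGroup.mk (a • x) := by
    refine ⟨MonoidHom.mk' (fun a => QuotientGroup.congr (frattini G) (frattini G)
      (MulDistribMulAction.toMulAut A G a) (hmap a)) ?_, fun a x => rfl⟩
    intro a b
    refine DFunLike.ext _ _ (fun v => ?_)
    obtain ⟨x, rfl⟩ := QuotientGroup.mk_surjective v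
    show (QuotientGroup.mk ((a * b) • x) : G ⧸ frattini G) = QuotientGroup.mk (a • b • x)
    rw [mul_smul]
  obtain ⟨B, hB⟩ : ∃ B : Subgroup (MulAut (G ⧸ frattini G)), B = ψ.range := ⟨_, rfl⟩
  have hcopB : (Nat.card (G ⧸ frattini G)).Coprime (Nat.card B) := by
    rw [hB]
    exact (Nat.Coprime.coprime_dvd_left (Subgroup.card_range_dvd ψ)
      (Nat.Coprime.coprime_dvd_right (Subgroup.card_quotient_dvd_card _) hcop)).symm
  obtain ⟨U, hU⟩ : ∃ U : Subgroup (G ⧸ frattini G),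
      U = L.map (QuotientGroup.mk' (frattini G)) := ⟨_, rfl⟩
  have hUi : ∀ α ∈ B, ∀ u ∈ U, α u ∈ U := by
    intro α hα u hu
    rw [hB] at hα
    obtain ⟨a, rfl⟩ := hα
    rw [hU] at hu ⊢
    obtain ⟨x, hx, rfl⟩ := hu
    exact ⟨a • x, hLi a x hx, (hψ a x).symm⟩
  obtain ⟨W, hW1, hW2⟩ := mai_compl hp hcomm hexp U
  obtain ⟨W', hW'i, hW'1, hW'2⟩ := Cfsg.Agent.S0660.maschke_ab B hcopB U W hUi hW1 hW2
  refine ⟨W'.comap (QuotientGroup.mk' (frattini G)), ?_, ?_, ?_⟩
  · intro a x hx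
    rw [Subgroup.mem_comap] at hx ⊢
    have h1 := hW'i (ψ a) (by rw [hB]; exact ⟨a, rfl⟩) _ hx
    have h2 : ψ a ((QuotientGroup.mk' (frattini G)) x) = (QuotientGroup.mk' (frattini G)) (a • x) :=
      hψ a x
    rw [h2] at h1
    exact h1
  · have h1 : (W'.comap (QuotientGroup.mk' (frattini G)) ⊔ L).map (QuotientGroup.mk' (frattini G))
        = ⊤ := by
      rw [Subgroup.map_sup, Subgroup.map_comap_eq_self_of_surjective
        (QuotientGroup.mk'_surjective _), ← hU, sup_comm]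
      exact hW'2
    have h2 : (QuotientGroup.mk' (frattini G)).ker ≤
        W'.comap (QuotientGroup.mk' (frattini G)) ⊔ L := by
      rw [QuotientGroup.ker_mk']
      exact hL.trans le_sup_right
    rw [← Subgroup.comap_map_eq_self h2, h1, Subgroup.comap_top]
  · intro x hx
    have h1 : (QuotientGroup.mk' (frattini G)) x ∈ U ⊓ W' :=
      Subgroup.mem_inf.mpr ⟨by rw [hU]; exact ⟨x, hx.2, rfl⟩, Subgroup.mem_comap.mp hx.1⟩
    rw [hW'1, Subgroup.mem_bot] at h1
    exact (QuotientGroup.eq_one_iff x).mp h1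

/-- Coprime action (external form): there is an invariant Sylow `q`-subgroup. -/
theorem mai_sylow {A G : Type*} [Group A] [Finite A] [Group G] [Finite G]
    [MulDistribMulAction A G]
    (hcop : (Nat.card A).Coprime (Nat.card G)) (hsol : Group.IsSolvable A ∨ Group.IsSolvable G)
    (q : ℕ) [Fact q.Prime] :
    ∃ P : Subgroup G, (∀ a : A, ∀ x ∈ P, a • x ∈ P) ∧
      Nat.card P = q ^ (Nat.card G).factorization q := by
  classical
  obtain ⟨φ, hφ⟩ : ∃ φ : A →* MulAut G, ∀ a g, φ a g = a • g :=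
    ⟨MulDistribMulAction.toMulAut A G, fun a g => rfl⟩
  haveI : Finite (G ⋊[φ] A) := Finite.of_equiv _ SemidirectProduct.equivProd.symm
  obtain ⟨G₀, hG₀⟩ : ∃ G₀ : Subgroup (G ⋊[φ] A),
      G₀ = (SemidirectProduct.inl : G →* G ⋊[φ] A).range := ⟨_, rfl⟩
  obtain ⟨A₀, hA₀⟩ : ∃ A₀ : Subgroup (G ⋊[φ] A),
      A₀ = (SemidirectProduct.inr : A →* G ⋊[φ] A).range := ⟨_, rfl⟩
  have hG₀mem : ∀ x, x ∈ G₀ ↔ ∃ g : G, SemidirectProduct.inl g = x := by
    intro x; rw [hG₀]; exact MonoidHom.mem_range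
  have hA₀mem : ∀ x, x ∈ A₀ ↔ ∃ a : A, SemidirectProduct.inr a = x := by
    intro x; rw [hA₀]; exact MonoidHom.mem_range
  have hG₀n : G₀.Normal := by
    rw [hG₀, SemidirectProduct.range_inl_eq_ker_rightHom]
    exact MonoidHom.normal_ker _
  have hAK : A₀ ≤ Subgroup.normalizer (G₀ : Set (G ⋊[φ] A)) := by
    intro x _
    rw [Subgroup.mem_normalizer_iff]
    intro h
    constructor
    · intro hh
      exact hG₀n.conj_mem h hh x
    · intro hh
      have h1 := hG₀n.conj_mem _ hh x⁻¹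
      have h2 : x⁻¹ * (x * h * x⁻¹) * x⁻¹⁻¹ = h := by group
      rwa [h2] at h1
  have hcG : Nat.card G₀ = Nat.card G := by
    rw [hG₀]
    exact (Nat.card_congr (MonoidHom.ofInjective SemidirectProduct.inl_injective).toEquiv).symm
  have hcA : Nat.card A₀ = Nat.card A := by
    rw [hA₀]
    exact (Nat.card_congr (MonoidHom.ofInjective SemidirectProduct.inr_injective).toEquiv).symm
  have hcop' : (Nat.card A₀).Coprime (Nat.card G₀) := by
    rw [hcG, hcA]; exact hcop
  have hsolv' : Group.IsSolvable A₀ ∨ Group.IsSolvable G₀ := by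
    rcases hsol with h | h
    · left
      rw [hA₀]
      exact Group.isSolvable_of_surjective
        (f := (SemidirectProduct.inr : A →* G ⋊[φ] A).rangeRestrict)
        (MonoidHom.rangeRestrict_surjective _)
    · right
      rw [hG₀]
      exact Group.isSolvable_of_surjective
        (f := (SemidirectProduct.inl : G →* G ⋊[φ] A).rangeRestrict)
        (MonoidHom.rangeRestrict_surjective _)
  obtain ⟨P₀, hP₀⟩ := Cfsg.Agent.Lib.Helper7.exists_invariant_sylow A₀ G₀ hAK hcop' hsolv' q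
  obtain ⟨P₁, hP₁⟩ : ∃ P₁ : Subgroup (G ⋊[φ] A),
      P₁ = (P₀ : Subgroup G₀).map G₀.subtype := ⟨_, rfl⟩
  rw [← hP₁] at hP₀
  have hP₁le : P₁ ≤ G₀ := by rw [hP₁]; exact Subgroup.map_subtype_le _
  have hP₁card : Nat.card P₁ = q ^ (Nat.card G).factorization q := by
    rw [hP₁, Subgroup.card_map_of_injective G₀.subtype_injective, P₀.card_eq_multiplicity, hcG]
  refine ⟨P₁.comap SemidirectProduct.inl, ?_, ?_⟩
  · intro a x hx
    rw [Subgroup.mem_comap] at hx ⊢
    have h1 := SemidirectProduct.inl_aut (φ := φ) a x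
    rw [hφ] at h1
    rw [h1]
    have h2 : (SemidirectProduct.inr a : G ⋊[φ] A) ∈ A₀ := (hA₀mem _).mpr ⟨a, rfl⟩
    have h3 := (Subgroup.mem_normalizer_iff.mp (hP₀ h2) (SemidirectProduct.inl x)).mp hx
    rw [map_inv]
    exact h3
  · rw [← hP₁card]
    have h1 : (P₁.comap (SemidirectProduct.inl : G →* G ⋊[φ] A)).map SemidirectProduct.inl
        = P₁ := Subgroup.map_comap_eq_self (by rw [← hG₀]; exact hP₁le)
    conv_rhs => rw [← h1]
    exact (Subgroup.card_map_of_injective SemidirectProduct.inl_injective).symm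

/-- If the maximal invariant subgroups are conjugate, the group is a `p`-group. -/
theorem mai_pgroup {A G : Type*} [Group A] [Finite A] [Group G] [Finite G]
    [MulDistribMulAction A G]
    (hcop : (Nat.card A).Coprime (Nat.card G)) (hsol : Group.IsSolvable A ∨ Group.IsSolvable G)
    (hconj : ∀ M N : Subgroup G, (M ≠ ⊤ ∧ (∀ a : A, ∀ x ∈ M, a • x ∈ M) ∧
        ∀ L : Subgroup G, M < L → (∀ a : A, ∀ x ∈ L, a • x ∈ L) → L = ⊤) →
      (N ≠ ⊤ ∧ (∀ a : A, ∀ x ∈ N, a • x ∈ N) ∧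
        ∀ L : Subgroup G, N < L → (∀ a : A, ∀ x ∈ L, a • x ∈ L) → L = ⊤) →
        ∃ c : G, (∀ a : A, a • c = c) ∧ N = MulAut.conj c • M) :
    ∃ p : ℕ, p.Prime ∧ IsPGroup p G := by
  by_contra hno
  push Not at hno
  have hnt : (⊥ : Subgroup G) ≠ ⊤ := by
    intro h
    apply hno 2 Nat.prime_two
    have h1 : Nat.card G = 2 ^ 0 := by
      rw [← Subgroup.card_top (G := G), ← h, Subgroup.card_bot, pow_zero]
    exact IsPGroup.of_card h1
  obtain ⟨M₀, -, hM₀⟩ := mai_exists_max (A := A) (⊥ : Subgroup G) hnt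
    (fun a x hx => by rw [Subgroup.mem_bot] at hx ⊢; rw [hx, smul_one])
  have hdiv : ∀ q : ℕ, q.Prime → q ^ (Nat.card G).factorization q ∣ Nat.card M₀ := by
    intro q hq
    haveI : Fact q.Prime := ⟨hq⟩
    obtain ⟨P, hPi, hPc⟩ := mai_sylow hcop hsol q
    have hPt : P ≠ ⊤ := by
      intro h
      apply hno q hq
      apply IsPGroup.of_card (n := (Nat.card G).factorization q)
      rw [← hPc, h, Subgroup.card_top]
    obtain ⟨N, hPN, hN⟩ := mai_exists_max P hPt hPi
    obtain ⟨c, -, hc⟩ := hconj M₀ N hM₀ hN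
    have hcard : Nat.card N = Nat.card M₀ := by
      rw [hc]
      exact (Nat.card_congr (Subgroup.equivSMul (MulAut.conj c) M₀).toEquiv).symm
    rw [← hPc, ← hcard]
    exact Subgroup.card_dvd_of_le hPN
  have hG0 : Nat.card G ≠ 0 := Nat.card_pos.ne'
  have hM0 : Nat.card M₀ ≠ 0 := Nat.card_pos.ne'
  have hdvd : Nat.card G ∣ Nat.card M₀ := by
    rw [← Nat.factorization_le_iff_dvd hG0 hM0]
    intro q
    by_cases hq : q.Prime
    · exact (hq.pow_dvd_iff_le_factorization hM0).mp (hdiv q hq)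
    · rw [Nat.factorization_eq_zero_of_not_prime _ hq]
      exact Nat.zero_le _
  have hle : Nat.card G ≤ Nat.card M₀ := Nat.le_of_dvd Nat.card_pos hdvd
  exact hM₀.1 (Subgroup.eq_top_of_card_eq _ (le_antisymm (Subgroup.card_le_card_group _) hle))

/-- If the maximal invariant subgroups of a `p`-group are conjugate, no invariant subgroup lies
strictly between the Frattini subgroup and the group. -/
theorem mai_irr {A G : Type*} [Group A] [Finite A] [Group G] [Finite G]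
    [MulDistribMulAction A G]
    (hcop : (Nat.card A).Coprime (Nat.card G)) {p : ℕ} (hp : p.Prime) (hG : IsPGroup p G)
    (hconj : ∀ M N : Subgroup G, (M ≠ ⊤ ∧ (∀ a : A, ∀ x ∈ M, a • x ∈ M) ∧
        ∀ L : Subgroup G, M < L → (∀ a : A, ∀ x ∈ L, a • x ∈ L) → L = ⊤) →
      (N ≠ ⊤ ∧ (∀ a : A, ∀ x ∈ N, a • x ∈ N) ∧
        ∀ L : Subgroup G, N < L → (∀ a : A, ∀ x ∈ L, a • x ∈ L) → L = ⊤) →
        ∃ c : G, (∀ a : A, a • c = c) ∧ N = MulAut.conj c • M)
    (L : Subgroup G) (hL : frattini G < L) (hLi : ∀ a : A, ∀ x ∈ L, a • x ∈ L) : L = ⊤ := by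
  by_contra hLt
  obtain ⟨M₀, hLM, hM₀⟩ := mai_exists_max L hLt hLi
  obtain ⟨K, hKi, hKL, hKΦ⟩ := mai_compl_inv hcop hp hG L hL.le hLi
  have hKt : K ≠ ⊤ := by
    intro h
    rw [h, top_inf_eq] at hKΦ
    exact absurd hKΦ (not_le_of_gt hL)
  obtain ⟨N, hKN, hN⟩ := mai_exists_max K hKt hKi
  obtain ⟨c, -, hc⟩ := hconj M₀ N hM₀ hN
  have hΦM : frattini G ≤ M₀ := mai_frat_le M₀ hM₀.1 hM₀.2.1 hM₀.2.2
  haveI hnorm : M₀.Normal := mai_normal_of_frat_le hp hG M₀ hΦM
  have hNM : N = M₀ := by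
    rw [hc]
    exact Subgroup.Normal.conj_smul_eq_self c M₀
  have h1 : (⊤ : Subgroup G) ≤ M₀ := by
    rw [← hKL]
    exact sup_le (le_of_le_of_eq hKN hNM) hLM
  exact hM₀.1 (top_le_iff.mp h1)

/-- Let the finite group A act by automorphisms on the finite group G with the orders of A and G coprime, and assume that A or G is solvable. Call a proper A-invariant subgroup of G maximal A-invariant when no A-invariant subgroup lies strictly between it and G. Then all maximal A-invariant subgroups of G are conjugate under elements of the fixed-point subgroup C_G(A) if and only if G is a p-group for some prime p and A leaves invariant no subgroup strictly between the Frattini subgroup of G and G. In that case, if G is nontrivial, the Frattini subgroup is the only maximal A-invariant subgroup (a trivial G has none). -/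
theorem result {A G : Type*} [Group A] [Finite A]
    [Group G] [Finite G] [MulDistribMulAction A G] (hcop : (Nat.card A).Coprime (Nat.card G)) (hsol : Group.IsSolvable A ∨ Group.IsSolvable G) :
    ((∀ M N : Subgroup G, (M ≠ ⊤ ∧ (∀ a : A, ∀ x ∈ M, a • x ∈ M) ∧ ∀ L : Subgroup G, M < L → (∀ a : A, ∀ x ∈ L, a • x ∈ L) → L = ⊤) → (N ≠ ⊤ ∧ (∀ a : A, ∀ x ∈ N, a • x ∈ N) ∧ ∀ L : Subgroup G, N < L → (∀ a : A, ∀ x ∈ L, a • x ∈ L) → L = ⊤) →
        ∃ c : G, (∀ a : A, a • c = c) ∧ N = MulAut.conj c • M) ↔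
      ((∃ p : ℕ, p.Prime ∧ IsPGroup p G) ∧ ∀ L : Subgroup G, frattini G < L → (∀ a : A, ∀ x ∈ L, a • x ∈ L) → L = ⊤)) ∧
    (((∃ p : ℕ, p.Prime ∧ IsPGroup p G) ∧ ∀ L : Subgroup G, frattini G < L → (∀ a : A, ∀ x ∈ L, a • x ∈ L) → L = ⊤) →
      ∀ M : Subgroup G, (M ≠ ⊤ ∧ (∀ a : A, ∀ x ∈ M, a • x ∈ M) ∧ ∀ L : Subgroup G, M < L → (∀ a : A, ∀ x ∈ L, a • x ∈ L) → L = ⊤) ↔ (M = frattini G ∧ M ≠ ⊤)) := by
  refine ⟨⟨?_, ?_⟩, ?_⟩
  · intro hconj
    obtain ⟨p, hp, hG⟩ := mai_pgroup hcop hsol hconj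
    exact ⟨⟨p, hp, hG⟩, fun L hL hLi => mai_irr hcop hp hG hconj L hL hLi⟩
  · rintro ⟨-, hirr⟩ M N hM hN
    have h1 := (mai_char hirr M).mp hM
    have h2 := (mai_char hirr N).mp hN
    refine ⟨1, fun a => smul_one a, ?_⟩
    rw [h1.1, h2.1, map_one, one_smul]
  · rintro ⟨-, hirr⟩ M
    exact mai_char hirr M

end Cfsg.Agent.S4381
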