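import Cfsg.Statements.S4399
import Mathlib
import Cfsg.Agent.Lib.Helper1.CycMax
import Cfsg.Agent.Lib.Helper8.MaxClass2
import Cfsg.Agent.S0115

set_option autoImplicit false
open Cfsg

namespace Cfsg.Agent.S4399

/-- Let S be a finite 2-group whose commutator quotient S/[S,S] is a Klein four-group (order 4 and exponent 2). Then S itself has order 4, or S is dihedral of order at least 8, semidihedral of order at least 16 (order 2^(k+4) with an element a of order 2^(k+3) and an involution b with b a b⁻¹ = a^(2^(k+2)−1)), or generalized quaternion of order at least 8. -/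
theorem result {S : Type*} [Group S] [Finite S] (h2 : IsPGroup 2 S) (hab : Nat.card (Abelianization S) = 4)
    (hexp : ∀ x : Abelianization S, x ^ 2 = 1) :
    Nat.card S = 4 ∨
    ((∃ k : ℕ, Nonempty (S ≃* DihedralGroup (2 ^ (k + 2)))) ∨
      (∃ k : ℕ, Nat.card S = 2 ^ (k + 4) ∧ ∃ a b : S, orderOf a = 2 ^ (k + 3) ∧ orderOf b = 2 ∧ b * a * b⁻¹ = a ^ (2 ^ (k + 2) - 1)) ∨
      (∃ k : ℕ, Nonempty (S ≃* QuaternionGroup (2 ^ (k + 1))))) := by
  classical
  haveI : Fact (Nat.Prime 2) := ⟨Nat.prime_two⟩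
  obtain ⟨N, hN⟩ := IsPGroup.iff_card.mp h2
  have hab' : Nat.card (S ⧸ commutator S) = 4 := hab
  have hdvd : 4 ∣ 2 ^ N := by
    rw [← hN, ← hab', ← Subgroup.index_eq_card]
    exact Subgroup.index_dvd_card _
  have hN2 : 2 ≤ N := by
    by_contra h
    have : N = 0 ∨ N = 1 := by omega
    rcases this with rfl | rfl <;> norm_num at hdvd
  by_cases hN3 : N = 2
  · left; rw [hN, hN3]; norm_num
  right
  have hN3' : 3 ≤ N := by omega
  have hK : IsKleinFour (S ⧸ commutator S) := by
    refine ⟨hab', ?_⟩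
    have h1 : Monoid.exponent (S ⧸ commutator S) ∣ 2 :=
      Monoid.exponent_dvd_of_forall_pow_eq_one (fun g => hexp g)
    rcases (Nat.dvd_prime Nat.prime_two).mp h1 with h | h
    · exfalso
      have h3 : Subsingleton (S ⧸ commutator S) := Monoid.exp_eq_one_iff.mp h
      have h4 : Nat.card (S ⧸ commutator S) = 1 := Nat.card_of_subsingleton 1
      omega
    · exact h
  have hcl : Group.nilpotencyClass S = N - 1 := (Cfsg.Agent.S0115.result N hN3' hN).mpr hK
  obtain ⟨c, hc⟩ := Cfsg.Agent.Lib.Helper8.h8_maxclass2_cyclic_max N S hN hN3' hcl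
  obtain ⟨hZ2, -, -⟩ := Cfsg.Agent.Lib.Helper8.h8_maxclass2_center N S hN hN3' hcl
  obtain ⟨M, rfl⟩ : ∃ M, N = M + 1 := ⟨N - 1, by omega⟩
  simp only [Nat.add_sub_cancel] at hc
  have hM2 : 2 ≤ M := by omega
  have hZ : ¬ ∀ g : S, g * c ^ 2 ^ (M - 2) = c ^ 2 ^ (M - 2) * g := by
    intro hcen
    have hdo : orderOf (c ^ 2 ^ (M - 2)) = 4 := by
      rw [orderOf_pow_of_dvd (by positivity) (by rw [hc]; exact Nat.pow_dvd_pow 2 (by omega)), hc,
        Nat.pow_div (by omega) (by norm_num)]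
      have : M - (M - 2) = 2 := by omega
      rw [this]
    have hle : Subgroup.zpowers (c ^ 2 ^ (M - 2)) ≤ Subgroup.center S :=
      Subgroup.zpowers_le.mpr (Subgroup.mem_center_iff.mpr hcen)
    have h1 := Subgroup.card_le_of_le hle
    rw [Nat.card_zpowers, hdo, hZ2] at h1
    omega
  rcases Cfsg.Agent.Lib.Helper1.cyc_max_classify M hM2 hN c hc hZ with e | ⟨hM3, b, hb, hrel⟩ | e
  · left
    refine ⟨M - 2, ?_⟩
    have : M - 2 + 2 = M := by omega
    rw [this]; exact e
  · right; left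
    refine ⟨M - 3, ?_, c, b, ?_, hb, ?_⟩
    · rw [hN]; congr 1; omega
    · rw [hc]; congr 1; omega
    · rw [hrel]; congr 3; omega
  · right; right
    refine ⟨M - 2, ?_⟩
    have : M - 2 + 1 = M - 1 := by omega
    rw [this]; exact e

end Cfsg.Agent.S4399
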