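import Cfsg.Statements.S4403
import Cfsg.Agent.S0088
import Cfsg.Agent.Lib.Helper3.CycSylow
import Cfsg.Agent.Lib.Helper1.PxQ
import Cfsg.Agent.Lib.Helper1.GenFit

set_option autoImplicit false
open Cfsg

namespace Cfsg.Agent.S4403

open Cfsg.Agent.Lib.Helper1 Cfsg.Agent.Lib.Helper7 Cfsg.Agent.Lib.Helper3
open scoped Pointwise commutatorElement

universe u

theorem conj_pow_eq_one {G : Type u} [Group G] (g y : G) (n : ℕ) (h : y ^ n = 1) :
    (g⁻¹ * y * g) ^ n = 1 := by
  have e : g⁻¹ * y * g = g⁻¹ * y * g⁻¹⁻¹ := by rw [inv_inv]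
  rw [e, conj_pow, h]; simp

theorem orderOf_conj_inv {G : Type u} [Group G] (g y : G) :
    orderOf (g⁻¹ * y * g) = orderOf y := by
  have h := (MulAut.conj g⁻¹).orderOf_eq y
  rwa [MulAut.conj_apply, inv_inv] at h

theorem mem_zpowers_of_conj {G : Type u} [Group G] (g y y' : G)
    (h : g⁻¹ * y' * g ∈ Subgroup.zpowers (g⁻¹ * y * g)) : y' ∈ Subgroup.zpowers y := by
  obtain ⟨k, hk⟩ := Subgroup.mem_zpowers_iff.mp h
  have e : g⁻¹ * y * g = g⁻¹ * y * g⁻¹⁻¹ := by rw [inv_inv]
  rw [e, conj_zpow, inv_inv] at hk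
  refine Subgroup.mem_zpowers_iff.mpr ⟨k, ?_⟩
  exact mul_left_cancel (mul_right_cancel hk)

theorem isPGroup_zpowers_of_order {G : Type u} [Group G] {p : ℕ} (y : G) (hy : orderOf y = p) :
    IsPGroup p (Subgroup.zpowers y) := by
  apply IsPGroup.of_card (n := 1)
  rw [Nat.card_zpowers, hy, pow_one]

/-- Let K be a finite group, p a prime dividing its order with O_{p'}(K) = 1 (no nontrivial normal subgroup of order prime to p), and P a cyclic Sylow p-subgroup of K. Then either P is normal and self-centralizing in K with K/P cyclic of order dividing p − 1 (so K is the semidirect product of P by a group of automorphisms of P of order dividing p − 1), or the generalized Fitting subgroup F*(K) is a non-abelian simple group and p does not divide the index of F*(K) in K. -/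
theorem result {K : Type*} [Group K] [Finite K] (p : ℕ) [Fact p.Prime] (hp : p ∣ Nat.card K) (hO : Cfsg.pPrimeCore p K = ⊥)
    (P : Sylow p K) (hP : IsCyclic ↥(P : Subgroup K)) :
    ((P : Subgroup K).Normal ∧ Subgroup.centralizer ((P : Subgroup K) : Set K) = (P : Subgroup K) ∧
      (∀ (_ : (P : Subgroup K).Normal), IsCyclic (K ⧸ (P : Subgroup K))) ∧ (P : Subgroup K).index ∣ p - 1) ∨
    (IsSimpleGroup ↥(Cfsg.generalizedFittingSubgroup K) ∧ ¬ IsMulCommutative ↥(Cfsg.generalizedFittingSubgroup K) ∧
      ¬ p ∣ (Cfsg.generalizedFittingSubgroup K).index) := by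
  classical
  have := hP
  have hpp : p.Prime := Fact.out
  have hFn : (Cfsg.fittingSubgroup K).Normal := fitting_normal K
  have hFnil : Group.IsNilpotent ↥(Cfsg.fittingSubgroup K) := fitting_isNilpotent K
  have hFcore : Cfsg.pPrimeCore p ↥(Cfsg.fittingSubgroup K) = ⊥ := by
    have h1 := pPrimeCore_map_subtype_le_of_subnormal p (hFn.isSubnormal)
    rw [hO, le_bot_iff] at h1
    exact (Subgroup.map_eq_bot_iff_of_injective _ (Subgroup.subtype_injective _)).mp h1
  have hFp : IsPGroup p ↥(Cfsg.fittingSubgroup K) :=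
    isPGroup_of_isNilpotent_of_pPrimeCore_eq_bot p ↥(Cfsg.fittingSubgroup K) hFcore
  have hFP : Cfsg.fittingSubgroup K ≤ (P : Subgroup K) := by
    obtain ⟨g, hg⟩ := sylow_conj_mem P (Cfsg.fittingSubgroup K) hFp
    intro f hf
    have h1 : g * f * g⁻¹ ∈ Cfsg.fittingSubgroup K := hFn.conj_mem f hf g
    have h2 := hg _ h1
    have e : g⁻¹ * (g * f * g⁻¹) * g = f := by group
    rwa [e] at h2
  by_cases hE : Cfsg.layer K = ⊥
  · left
    have hFstar : Cfsg.generalizedFittingSubgroup K = Cfsg.fittingSubgroup K := by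
      unfold Cfsg.generalizedFittingSubgroup
      rw [hE, bot_sup_eq]
    have hcF := centralizer_genFitting_le K
    rw [hFstar] at hcF
    have hPF : (P : Subgroup K) ≤ Cfsg.fittingSubgroup K := by
      intro x hx
      apply hcF
      rw [Subgroup.mem_centralizer_iff]
      intro f hf
      exact setLike_mul_comm (hFP hf) hx
    have hPeq : (P : Subgroup K) = Cfsg.fittingSubgroup K := le_antisymm hPF hFP
    have hPn : (P : Subgroup K).Normal := by rw [hPeq]; exact hFn
    have hcent : Subgroup.centralizer ((P : Subgroup K) : Set K) = (P : Subgroup K) := by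
      apply le_antisymm
      · rw [hPeq]; exact hcF
      · intro x hx
        rw [Subgroup.mem_centralizer_iff]
        intro h hh
        exact setLike_mul_comm hh hx
    have hfin := cyc_normal_self_centralizing P hP hPn hcent
    exact ⟨hPn, hcent, fun _ => hfin.1, hfin.2⟩
  · right
    obtain ⟨L, hL⟩ : ∃ L : Subgroup K, Cfsg.IsComponent L := by
      by_contra hcon
      push Not at hcon
      apply hE
      unfold Cfsg.layer
      rw [sSup_eq_bot]
      intro L hL
      exact absurd hL (hcon L)
    have hcompp : ∀ L' : Subgroup K, Cfsg.IsComponent L' → p ∣ Nat.card L' := by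
      intro L' hL'
      by_contra hnd
      have hc : (Nat.card L').Coprime p := ((Nat.Prime.coprime_iff_not_dvd hpp).mpr hnd).symm
      have h1 := le_pPrimeCore_of_subnormal_of_coprime p hL'.1 hc
      rw [hO, le_bot_iff] at h1
      exact IsComponent.ne_bot hL' h1
    have hcompy : ∀ L' : Subgroup K, Cfsg.IsComponent L' → ∃ y ∈ L', orderOf y = p := by
      intro L' hL'
      obtain ⟨y, hy⟩ := exists_prime_orderOf_dvd_card' p (hcompp L' hL')
      exact ⟨y.1, y.2, by rw [← hy, Subgroup.orderOf_coe]⟩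
    have hF : Cfsg.fittingSubgroup K = ⊥ := by
      by_contra hFne
      obtain ⟨f, hfF, hfo⟩ := exists_order_p_of_ne_bot _ hFp hFne
      obtain ⟨y, hyL, hyo⟩ := hcompy L hL
      obtain ⟨g, hg⟩ := sylow_conj_mem P (Subgroup.zpowers y) (isPGroup_zpowers_of_order y hyo)
      have hy' : g⁻¹ * y * g ∈ (P : Subgroup K) := hg y (Subgroup.mem_zpowers y)
      have hy'p : (g⁻¹ * y * g) ^ p = 1 :=
        conj_pow_eq_one g y p (by rw [← hyo]; exact pow_orderOf_eq_one y)
      have hy'F : g⁻¹ * y * g ∈ Subgroup.zpowers f :=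
        cyc_sub_mem_zpowers (P : Subgroup K) hP hpp.pos (hFP hfF) hy' hfo hy'p
      have hy'F' : g⁻¹ * y * g ∈ Cfsg.fittingSubgroup K := (Subgroup.zpowers_le.mpr hfF) hy'F
      have hyF : y ∈ Cfsg.fittingSubgroup K := by
        have h1 := hFn.conj_mem _ hy'F' g
        have e : g * (g⁻¹ * y * g) * g⁻¹ = y := by group
        rwa [e] at h1
      have hLF : ⁅L, Cfsg.fittingSubgroup K⁆ = ⊥ := by
        have h1 := layer_commutator_fitting K
        rw [eq_bot_iff] at h1 ⊢
        exact (Subgroup.commutator_mono (IsComponent.le_layer hL) le_rfl).trans h1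
      have hycomm : ∀ l ∈ L, l * y = y * l := by
        intro l hl
        have h1 : ⁅l, y⁆ ∈ ⁅L, Cfsg.fittingSubgroup K⁆ :=
          Subgroup.commutator_mem_commutator hl hyF
        rw [hLF, Subgroup.mem_bot, commutatorElement_eq_one_iff_mul_comm] at h1
        exact h1
      have hzyL : IsPGroup p (Subgroup.zpowers (⟨y, hyL⟩ : ↥L)) :=
        isPGroup_zpowers_of_order _ (by rw [Subgroup.orderOf_mk]; exact hyo)
      obtain ⟨Q, hQ⟩ := hzyL.exists_le_sylow
      have hQcomm : IsMulCommutative ↥(Q : Subgroup ↥L) := by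
        have hQK : IsPGroup p ((Q : Subgroup ↥L).map L.subtype) := Q.2.map _
        obtain ⟨c, hc⟩ := sylow_conj_mem P _ hQK
        refine ⟨⟨fun a b => ?_⟩⟩
        apply Subtype.ext
        apply Subtype.ext
        have ha := hc _ ⟨a.1, a.2, rfl⟩
        have hb := hc _ ⟨b.1, b.2, rfl⟩
        have hcm := setLike_mul_comm ha hb
        have e1 : c⁻¹ * L.subtype a.1 * c * (c⁻¹ * L.subtype b.1 * c) =
            c⁻¹ * (L.subtype a.1 * L.subtype b.1) * c := by group
        have e2 : c⁻¹ * L.subtype b.1 * c * (c⁻¹ * L.subtype a.1 * c) =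
            c⁻¹ * (L.subtype b.1 * L.subtype a.1) * c := by group
        rw [e1, e2] at hcm
        exact mul_left_cancel (mul_right_cancel hcm)
      have hQhall : Nat.Coprime (Nat.card (Q : Subgroup ↥L)) (Q : Subgroup ↥L).index := by
        obtain ⟨k, hk⟩ := IsPGroup.iff_card.mp Q.2
        rw [hk]
        exact Nat.Coprime.pow_left k ((Nat.Prime.coprime_iff_not_dvd hpp).mpr Q.not_dvd_index)
      have h88 := Cfsg.Agent.S0088.result (Q : Subgroup ↥L) hQcomm hQhall
      have hperf : commutator ↥L = ⊤ := Group.isPerfect_def.mp hL.2.1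
      have hyc : (⟨y, hyL⟩ : ↥L) ∈ Subgroup.center ↥L := by
        rw [Subgroup.mem_center_iff]
        intro l
        apply Subtype.ext
        exact hycomm l.1 l.2
      have hyQ : (⟨y, hyL⟩ : ↥L) ∈ (Q : Subgroup ↥L) ⊓ commutator ↥L ⊓ Subgroup.center ↥L :=
        Subgroup.mem_inf.mpr ⟨Subgroup.mem_inf.mpr ⟨hQ (Subgroup.mem_zpowers _),
          by rw [hperf]; trivial⟩, hyc⟩
      rw [h88, Subgroup.mem_bot] at hyQ
      have hy1 : y = 1 := congrArg Subtype.val hyQ
      rw [hy1, orderOf_one] at hyo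
      exact hpp.one_lt.ne hyo
    have huniq : ∀ L' : Subgroup K, Cfsg.IsComponent L' → L' = L := by
      intro L' hL'
      by_contra hne
      have hcomm : ⁅L, L'⁆ = ⊥ := IsComponent.commutator_eq_bot_of_ne hL hL' (Ne.symm hne)
      obtain ⟨y, hyL, hyo⟩ := hcompy L hL
      obtain ⟨y', hy'L, hy'o⟩ := hcompy L' hL'
      have hyy' : y * y' = y' * y := by
        have h1 : ⁅y, y'⁆ ∈ ⁅L, L'⁆ := Subgroup.commutator_mem_commutator hyL hy'L
        rw [hcomm, Subgroup.mem_bot, commutatorElement_eq_one_iff_mul_comm] at h1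
        exact h1
      have hD : IsPGroup p (Subgroup.zpowers y ⊔ Subgroup.zpowers y' : Subgroup K) := by
        apply IsPGroup.to_sup_of_normal_right' (isPGroup_zpowers_of_order y hyo)
          (isPGroup_zpowers_of_order y' hy'o)
        rw [Subgroup.zpowers_le]
        apply Subgroup.centralizer_le_normalizer
        rw [Subgroup.mem_centralizer_iff]
        intro h hh
        obtain ⟨k, rfl⟩ := Subgroup.mem_zpowers_iff.mp hh
        exact (Commute.zpow_left (show Commute y' y from hyy'.symm) k).eq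
      obtain ⟨g, hg⟩ := sylow_conj_mem P _ hD
      have h1 : g⁻¹ * y * g ∈ (P : Subgroup K) :=
        hg y ((le_sup_left : Subgroup.zpowers y ≤ _) (Subgroup.mem_zpowers y))
      have h2 : g⁻¹ * y' * g ∈ (P : Subgroup K) :=
        hg y' ((le_sup_right : Subgroup.zpowers y' ≤ _) (Subgroup.mem_zpowers y'))
      have h3 : g⁻¹ * y' * g ∈ Subgroup.zpowers (g⁻¹ * y * g) :=
        cyc_sub_mem_zpowers (P : Subgroup K) hP hpp.pos h1 h2
          (by rw [orderOf_conj_inv]; exact hyo)
          (conj_pow_eq_one g y' p (by rw [← hy'o]; exact pow_orderOf_eq_one y'))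
      have hy'inL : y' ∈ L := (Subgroup.zpowers_le.mpr hyL) (mem_zpowers_of_conj g y y' h3)
      have hy'c : (⟨y', hy'inL⟩ : ↥L) ∈ Subgroup.center ↥L := by
        rw [Subgroup.mem_center_iff]
        intro l
        apply Subtype.ext
        have h4 : ⁅(l : K), y'⁆ ∈ ⁅L, L'⁆ := Subgroup.commutator_mem_commutator l.2 hy'L
        rw [hcomm, Subgroup.mem_bot, commutatorElement_eq_one_iff_mul_comm] at h4
        exact h4
      have h5 : y' ∈ (Subgroup.center ↥L).map L.subtype := ⟨_, hy'c, rfl⟩
      have h6 := center_component_le_fitting hL h5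
      rw [hF, Subgroup.mem_bot] at h6
      rw [h6, orderOf_one] at hy'o
      exact hpp.one_lt.ne hy'o
    have hlayer : Cfsg.layer K = L := by
      unfold Cfsg.layer
      apply le_antisymm
      · apply sSup_le
        intro L' hL'
        rw [huniq L' hL']
      · exact le_sSup hL
    have hFstar : Cfsg.generalizedFittingSubgroup K = L := by
      unfold Cfsg.generalizedFittingSubgroup
      rw [hlayer, hF, sup_bot_eq]
    have hLn : L.Normal := by rw [← hFstar]; exact genFitting_normal K
    have hPL : (P : Subgroup K) ≤ L :=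
      cyc_sylow_le_of_perfect_normal P hP L hLn (IsComponent.perfect hL) (hcompp L hL)
    have hZ : Subgroup.center ↥L = ⊥ := by
      have h1 := center_component_le_fitting hL
      rw [hF, le_bot_iff] at h1
      exact (Subgroup.map_eq_bot_iff_of_injective _ (Subgroup.subtype_injective _)).mp h1
    have hnt : Nontrivial ↥L := IsQuasisimple.nontrivial hL.2
    have hperf : Group.IsPerfect ↥L := hL.2.1
    have hsimple : IsSimpleGroup ↥L := by
      have hs : IsSimpleGroup (↥L ⧸ Subgroup.center ↥L) := hL.2.2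
      have hbij : Function.Bijective (QuotientGroup.mk' (Subgroup.center ↥L)) := by
        refine ⟨?_, QuotientGroup.mk'_surjective _⟩
        rw [← MonoidHom.ker_eq_bot_iff, QuotientGroup.ker_mk', hZ]
      exact IsSimpleGroup.isSimpleGroup_of_surjective (MulEquiv.ofBijective _ hbij).symm.toMonoidHom
        (MulEquiv.surjective _)
    rw [hFstar]
    refine ⟨hsimple, Group.IsPerfect.not_isMulCommutative ↥L, ?_⟩
    intro hdvd
    exact P.not_dvd_index (hdvd.trans (Subgroup.index_dvd_of_le hPL))

end Cfsg.Agent.S4403
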