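import Mathlib
import Cfsg.Statements.S4496
import Cfsg.Agent.S4495
import Cfsg.Agent.Lib.Helper7.Coprime
import Cfsg.Agent.Lib.Helper3.ZJ
import Cfsg.Agent.Lib.Helper3.EA

set_option autoImplicit false
open Cfsg
open scoped commutatorElement

namespace Cfsg.Agent.S4496

section
variable {G : Type*} [Group G] [Finite G] (p : ℕ) [Fact p.Prime] (x : G)
  (hx : orderOf x = p) (hC : Subgroup.centralizer ({x} : Set G) = Subgroup.zpowers x)
include hx hC

theorem disj (S : Subgroup G) (hS : ¬ p ∣ Nat.card S) (y : G)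
    (hy : y ∈ Subgroup.zpowers x) (hyS : y ∈ S) : y = 1 := by
  by_contra hne
  have h1 := ((S4495.core p x hx hC).2 y hy hne).1
  apply hS
  rw [← h1]
  exact Subgroup.orderOf_dvd_natCard S hyS

theorem bij (S : Subgroup G) [S.Normal] (hS : ¬ p ∣ Nat.card S) (s : G) (hs : s ∈ S) :
    ∃ s' ∈ S, s' * x * s'⁻¹ * x⁻¹ = s := by
  have hmem : ∀ a : ↥S, (a : G) * x * (a : G)⁻¹ * x⁻¹ ∈ S := by
    intro a
    have : (a : G) * x * (a : G)⁻¹ * x⁻¹ = (a : G) * (x * (a : G)⁻¹ * x⁻¹) := by group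
    rw [this]
    exact mul_mem a.2 (Subgroup.Normal.conj_mem inferInstance _ (inv_mem a.2) x)
  let f : ↥S → ↥S := fun a => ⟨(a : G) * x * (a : G)⁻¹ * x⁻¹, hmem a⟩
  have hinj : Function.Injective f := by
    intro a b hab
    have h1 : (a : G) * x * (a : G)⁻¹ * x⁻¹ = (b : G) * x * (b : G)⁻¹ * x⁻¹ :=
      congrArg Subtype.val hab
    have h2 : (a : G) * x * (a : G)⁻¹ = (b : G) * x * (b : G)⁻¹ := mul_right_cancel h1
    have h3 : ((b : G)⁻¹ * (a : G)) * x = x * ((b : G)⁻¹ * (a : G)) := by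
      calc ((b : G)⁻¹ * (a : G)) * x = (b : G)⁻¹ * ((a : G) * x * (a : G)⁻¹) * (a : G) := by group
        _ = (b : G)⁻¹ * ((b : G) * x * (b : G)⁻¹) * (a : G) := by rw [h2]
        _ = x * ((b : G)⁻¹ * (a : G)) := by group
    have h4 : (b : G)⁻¹ * (a : G) ∈ Subgroup.zpowers x := by
      rw [← hC, Subgroup.mem_centralizer_singleton_iff]; exact h3
    have h5 := disj p x hx hC S hS _ h4 (mul_mem (inv_mem b.2) a.2)
    apply Subtype.ext
    exact (inv_mul_eq_one.mp h5).symm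
  have hsurj := Finite.surjective_of_injective hinj
  obtain ⟨a, ha⟩ := hsurj ⟨s, hs⟩
  exact ⟨a, a.2, congrArg Subtype.val ha⟩

theorem exists_syl : ∃ Q : Sylow p G, (Q : Subgroup G) = Subgroup.zpowers x :=
  (S4495.core p x hx hC).1

theorem mult_one : (Nat.card G).factorization p = 1 := by
  obtain ⟨Q, hQ⟩ := exists_syl p x hx hC
  have hp : p.Prime := Fact.out
  have hcardQ : Nat.card (Q : Subgroup G) = p := by rw [hQ, Nat.card_zpowers, hx]
  have h := Q.card_eq_multiplicity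
  rw [hcardQ] at h
  have h' : p ^ 1 = p ^ (Nat.card G).factorization p := by rw [pow_one]; exact h
  exact (Nat.pow_right_injective hp.two_le h').symm

theorem conj_in (D : Subgroup G) (hxD : x ∈ D) (k : G) (hk : orderOf k = p) (hkD : k ∈ D) :
    ∃ d ∈ D, d⁻¹ * x * d ∈ Subgroup.zpowers k := by
  obtain ⟨Q, hQ⟩ := exists_syl p x hx hC
  have hmult := mult_one p x hx hC
  obtain ⟨Qk, hQk⟩ : ∃ Qk : Sylow p G, (Qk : Subgroup G) = Subgroup.zpowers k :=
    ⟨Sylow.ofCard (Subgroup.zpowers k) (by rw [Nat.card_zpowers, hk, hmult, pow_one]),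
      Sylow.coe_ofCard _ _⟩
  have hQD : (Q : Subgroup G) ≤ D := by rw [hQ, Subgroup.zpowers_le]; exact hxD
  have hQkD : (Qk : Subgroup G) ≤ D := by rw [hQk, Subgroup.zpowers_le]; exact hkD
  obtain ⟨d, hd⟩ := MulAction.exists_smul_eq ↥D (Qk.subtype hQkD) (Q.subtype hQD)
  have h1 : (⟨x, hxD⟩ : ↥D) ∈ ((Q.subtype hQD : Sylow p ↥D) : Subgroup ↥D) := by
    rw [Sylow.coe_subtype, Subgroup.mem_subgroupOf, hQ]; exact Subgroup.mem_zpowers x
  rw [← hd, Cfsg.Agent.Lib.Helper3.mem_sylow_smul_iff, Sylow.coe_subtype,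
    Subgroup.mem_subgroupOf, hQk] at h1
  exact ⟨d, d.2, by simpa using h1⟩

theorem mem_of_dvd (S : Subgroup G) (D : Subgroup G) (hxD : x ∈ D) (hSD : S ≤ D)
    (hDS : D ≤ Subgroup.normalizer (S : Set G)) (hS : p ∣ Nat.card S) : x ∈ S := by
  obtain ⟨k, hk⟩ := exists_prime_orderOf_dvd_card' (G := ↥S) p hS
  have hk' : orderOf (k : G) = p := by rw [Subgroup.orderOf_coe]; exact hk
  obtain ⟨d, hd, h1⟩ := conj_in p x hx hC D hxD (k : G) hk' (hSD k.2)
  have h2 : d⁻¹ * x * d ∈ S := (Subgroup.zpowers_le.mpr k.2) h1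
  have h3 := (Subgroup.mem_normalizer_iff.mp (hDS hd) _).mp h2
  have e : d * (d⁻¹ * x * d) * d⁻¹ = x := by group
  rwa [e] at h3

omit [Finite G] [Fact p.Prime] hx hC in
theorem norm_pow (n : G)
    (hn : n ∈ Subgroup.normalizer ((Subgroup.zpowers x : Subgroup G) : Set G)) :
    ∃ a : ℤ, ∀ k : ℤ, n * x ^ k * n⁻¹ = x ^ (a * k) := by
  have h1 : n * x * n⁻¹ ∈ Subgroup.zpowers x :=
    (Subgroup.mem_normalizer_iff.mp hn x).mp (Subgroup.mem_zpowers x)
  obtain ⟨a, ha⟩ := Subgroup.mem_zpowers_iff.mp h1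
  refine ⟨a, fun k => ?_⟩
  rw [zpow_mul, ha, conj_zpow]

omit [Finite G] [Fact p.Prime] hx in
theorem norm_comm (n m : G)
    (hn : n ∈ Subgroup.normalizer ((Subgroup.zpowers x : Subgroup G) : Set G))
    (hm : m ∈ Subgroup.normalizer ((Subgroup.zpowers x : Subgroup G) : Set G)) :
    n * m * n⁻¹ * m⁻¹ ∈ Subgroup.zpowers x := by
  obtain ⟨a, ha⟩ := norm_pow x n hn
  obtain ⟨b, hb⟩ := norm_pow x m hm
  obtain ⟨a', ha'⟩ := norm_pow x n⁻¹ (inv_mem hn)
  obtain ⟨b', hb'⟩ := norm_pow x m⁻¹ (inv_mem hm)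
  have e1 : x ^ (a * a') = x := by
    have h1 : n * (n⁻¹ * x ^ (1 : ℤ) * n⁻¹⁻¹) * n⁻¹ = x := by
      rw [zpow_one]; group
    rw [ha' 1, ha, mul_one] at h1
    exact h1
  have e2 : x ^ (b * b') = x := by
    have h1 : m * (m⁻¹ * x ^ (1 : ℤ) * m⁻¹⁻¹) * m⁻¹ = x := by
      rw [zpow_one]; group
    rw [hb' 1, hb, mul_one] at h1
    exact h1
  have h2 : (n * m * n⁻¹ * m⁻¹) * x * (n * m * n⁻¹ * m⁻¹)⁻¹ = x := by
    have h3 : (n * m * n⁻¹ * m⁻¹) * x * (n * m * n⁻¹ * m⁻¹)⁻¹ =
        n * (m * (n⁻¹ * (m⁻¹ * x ^ (1 : ℤ) * m⁻¹⁻¹) * n⁻¹⁻¹) * m⁻¹) * n⁻¹ := by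
      rw [zpow_one]; group
    rw [h3, hb' 1, ha', hb, ha]
    have h4 : a * (b * (a' * (b' * 1))) = (a * a') * (b * b') := by ring
    rw [h4, zpow_mul, e1, e2]
  rw [← hC, Subgroup.mem_centralizer_singleton_iff]
  exact mul_inv_eq_iff_eq_mul.mp h2

theorem comm_le (S : Subgroup G) [hSn : S.Normal] (hS : p ∣ Nat.card S) : commutator G ≤ S := by
  have hxS : x ∈ S := mem_of_dvd p x hx hC S ⊤ (Subgroup.mem_top x) le_top
    (by rw [Subgroup.normalizer_eq_top]) hS
  obtain ⟨Q, hQ⟩ := exists_syl p x hx hC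
  have hQS : (Q : Subgroup G) ≤ S := by rw [hQ, Subgroup.zpowers_le]; exact hxS
  have hfr : Subgroup.normalizer ((Q : Subgroup G) : Set G) ⊔ S = ⊤ :=
    Sylow.normalizer_sup_eq_top' Q hQS
  rw [hQ] at hfr
  have hN : ∀ n ∈ Subgroup.normalizer ((Subgroup.zpowers x : Subgroup G) : Set G),
      ∀ m ∈ Subgroup.normalizer ((Subgroup.zpowers x : Subgroup G) : Set G),
      n * m * n⁻¹ * m⁻¹ ∈ S := by
    intro n hn m hm
    exact (Subgroup.zpowers_le.mpr hxS) (norm_comm x hC n m hn hm)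
  rw [commutator_def, Subgroup.commutator_le]
  intro g _ h _
  have hg : g ∈ S ⊔ Subgroup.normalizer ((Subgroup.zpowers x : Subgroup G) : Set G) := by
    rw [sup_comm, hfr]; trivial
  have hh : h ∈ S ⊔ Subgroup.normalizer ((Subgroup.zpowers x : Subgroup G) : Set G) := by
    rw [sup_comm, hfr]; trivial
  have hnorm : Subgroup.normalizer ((Subgroup.zpowers x : Subgroup G) : Set G) ≤
      Subgroup.normalizer (S : Set G) := by
    have hSt : Subgroup.normalizer (S : Set G) = ⊤ := Subgroup.normalizer_eq_top_iff.mpr hSn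
    rw [hSt]; exact le_top
  obtain ⟨s1, hs1, n1, hn1, rfl⟩ := Cfsg.Agent.Lib.Helper7.exists_mul_of_mem_sup hnorm hg
  obtain ⟨s2, hs2, n2, hn2, rfl⟩ := Cfsg.Agent.Lib.Helper7.exists_mul_of_mem_sup hnorm hh
  rw [← QuotientGroup.eq_one_iff (N := S)]
  have e1 : ((s1 : G) : G ⧸ S) = 1 := (QuotientGroup.eq_one_iff _).mpr hs1
  have e2 : ((s2 : G) : G ⧸ S) = 1 := (QuotientGroup.eq_one_iff _).mpr hs2
  rw [commutatorElement_def]
  simp only [QuotientGroup.mk_mul, QuotientGroup.mk_inv, e1, e2, one_mul]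
  have h3 := (QuotientGroup.eq_one_iff (N := S) _).mpr (hN n1 hn1 n2 hn2)
  simpa using h3

theorem card_dvd (S : Subgroup G) [hSn : S.Normal] (hS : ¬ p ∣ Nat.card S) :
    Nat.card S ∣ Nat.card {H : Subgroup G // Nat.card H = p} := by
  obtain ⟨Q, hQ⟩ := exists_syl p x hx hC
  have hmult := mult_one p x hx hC
  have hbij : Function.Bijective (fun P : Sylow p G =>
      (⟨(P : Subgroup G), by rw [P.card_eq_multiplicity, hmult, pow_one]⟩ :
        {H : Subgroup G // Nat.card H = p})) := by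
    constructor
    · intro P P' h
      exact Sylow.ext (congrArg Subtype.val h)
    · intro H
      have hH : Nat.card H.1 = p ^ (Nat.card G).factorization p := by rw [H.2, hmult, pow_one]
      exact ⟨Sylow.ofCard H.1 hH, Subtype.ext (Sylow.coe_ofCard H.1 hH)⟩
  have hidx : Nat.card (Sylow p G) = (Subgroup.normalizer ((Q : Subgroup G) : Set G)).index :=
    Sylow.card_eq_index_normalizer Q
  rw [← Nat.card_congr (Equiv.ofBijective _ hbij), hidx]
  obtain ⟨N, hNdef⟩ : ∃ N : Subgroup G, N = Subgroup.normalizer ((Q : Subgroup G) : Set G) :=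
    ⟨_, rfl⟩
  rw [← hNdef]
  have hdisj : N ⊓ S = ⊥ := by
    rw [eq_bot_iff]
    rintro s ⟨hsN, hsS⟩
    rw [Subgroup.mem_bot]
    have hsN' : s ∈ Subgroup.normalizer ((Q : Subgroup G) : Set G) := by rw [← hNdef]; exact hsN
    have h1 : s * x * s⁻¹ ∈ Subgroup.zpowers x := by
      rw [← hQ]
      exact (Subgroup.mem_normalizer_iff.mp hsN' x).mp (by rw [hQ]; exact Subgroup.mem_zpowers x)
    have h2 : s * x * s⁻¹ * x⁻¹ ∈ Subgroup.zpowers x :=
      mul_mem h1 (inv_mem (Subgroup.mem_zpowers x))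
    have h3 : s * x * s⁻¹ * x⁻¹ ∈ S := by
      have : s * x * s⁻¹ * x⁻¹ = s * (x * s⁻¹ * x⁻¹) := by group
      rw [this]; exact mul_mem hsS (hSn.conj_mem _ (inv_mem hsS) x)
    have h4 := disj p x hx hC S hS _ h2 h3
    have h5 : s ∈ Subgroup.zpowers x := by
      rw [← hC, Subgroup.mem_centralizer_singleton_iff]
      have : s * x * s⁻¹ = x := mul_inv_eq_one.mp h4
      exact mul_inv_eq_iff_eq_mul.mp this
    exact disj p x hx hC S hS s h5 hsS
  have hNS : N ≤ Subgroup.normalizer (S : Set G) := by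
    have hSt : Subgroup.normalizer (S : Set G) = ⊤ := Subgroup.normalizer_eq_top_iff.mpr hSn
    rw [hSt]; exact le_top
  have h1 := Cfsg.Agent.Lib.Helper3.card_sup_mul_card_inf N S hNS
  rw [hdisj, Subgroup.card_bot, mul_one] at h1
  have h2 : Nat.card ↥(N ⊔ S) ∣ Nat.card G := Subgroup.card_subgroup_dvd_card _
  rw [h1, ← Subgroup.card_mul_index N] at h2
  exact Nat.dvd_of_mul_dvd_mul_left Nat.card_pos h2

theorem card_mod (S : Subgroup G) [hSn : S.Normal] (hS : ¬ p ∣ Nat.card S) :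
    Nat.card S % p = 1 := by
  classical
  have hp : p.Prime := Fact.out
  letI : MulAction (Subgroup.zpowers x) S :=
    { smul := fun u a => ⟨(u : G) * a * (u : G)⁻¹, hSn.conj_mem a a.2 u⟩
      one_smul := by
        intro a
        apply Subtype.ext
        show ((1 : Subgroup.zpowers x) : G) * a * ((1 : Subgroup.zpowers x) : G)⁻¹ = a
        simp
      mul_smul := by
        intro u v a
        apply Subtype.ext
        show ((u * v : Subgroup.zpowers x) : G) * a * ((u * v : Subgroup.zpowers x) : G)⁻¹ =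
          (u : G) * ((v : G) * a * (v : G)⁻¹) * (u : G)⁻¹
        simp [mul_assoc] }
  have hPp : IsPGroup p (Subgroup.zpowers x) :=
    IsPGroup.of_card (n := 1) (by rw [Nat.card_zpowers, hx, pow_one])
  have h1 := hPp.card_modEq_card_fixedPoints S
  have hfix : MulAction.fixedPoints (Subgroup.zpowers x) S = {1} := by
    ext a
    rw [MulAction.mem_fixedPoints, Set.mem_singleton_iff]
    constructor
    · intro h
      have h2 := congrArg Subtype.val (h ⟨x, Subgroup.mem_zpowers x⟩)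
      have h3 : x * (a : G) * x⁻¹ = a := h2
      have h4 : (a : G) ∈ Subgroup.zpowers x := by
        rw [← hC, Subgroup.mem_centralizer_singleton_iff]
        calc (a : G) * x = (x * (a : G) * x⁻¹) * x := by rw [h3]
          _ = x * a := by group
      apply Subtype.ext
      exact disj p x hx hC S hS _ h4 a.2
    · intro h u
      rw [h]
      apply Subtype.ext
      show (u : G) * ((1 : S) : G) * (u : G)⁻¹ = ((1 : S) : G)
      simp
  rw [hfix] at h1
  have h5 : Nat.card (({1} : Set S)) = 1 := by simp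
  rw [h5] at h1
  have h6 : Nat.card S % p = 1 % p := h1
  rw [h6]; exact Nat.mod_eq_of_lt hp.one_lt

theorem order_quot (S : Subgroup G) [S.Normal] (hS : ¬ p ∣ Nat.card S) :
    orderOf (QuotientGroup.mk x : G ⧸ S) = p := by
  have hp : p.Prime := Fact.out
  have h1 : orderOf (QuotientGroup.mk' S x) ∣ orderOf x := orderOf_map_dvd _ _
  rw [hx] at h1
  rcases (Nat.dvd_prime hp).mp h1 with h | h
  · exfalso
    have h2 : x ∈ S := (QuotientGroup.eq_one_iff _).mp (orderOf_eq_one_iff.mp h)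
    have h3 := disj p x hx hC S hS x (Subgroup.mem_zpowers x) h2
    rw [h3, orderOf_one] at hx
    exact hp.one_lt.ne hx
  · exact h

theorem cent_quot (S : Subgroup G) [hSn : S.Normal] (hS : ¬ p ∣ Nat.card S) :
    Subgroup.centralizer ({(QuotientGroup.mk x : G ⧸ S)} : Set (G ⧸ S)) =
      Subgroup.zpowers (QuotientGroup.mk x : G ⧸ S) := by
  apply le_antisymm
  · intro gb hgb
    obtain ⟨g, rfl⟩ := QuotientGroup.mk_surjective gb
    rw [Subgroup.mem_centralizer_singleton_iff] at hgb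
    have h1 : g * x * g⁻¹ * x⁻¹ ∈ S := by
      rw [← QuotientGroup.eq_one_iff (N := S)]
      simp only [QuotientGroup.mk_mul, QuotientGroup.mk_inv]
      rw [hgb]; group
    obtain ⟨s', hs', hs'eq⟩ := bij p x hx hC S hS _ h1
    have h2 : s' * x * s'⁻¹ = g * x * g⁻¹ := mul_right_cancel hs'eq
    have h3 : s'⁻¹ * g ∈ Subgroup.zpowers x := by
      rw [← hC, Subgroup.mem_centralizer_singleton_iff]
      calc s'⁻¹ * g * x = s'⁻¹ * (g * x * g⁻¹) * g := by group
        _ = s'⁻¹ * (s' * x * s'⁻¹) * g := by rw [h2]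
        _ = x * (s'⁻¹ * g) := by group
    obtain ⟨k, hk⟩ := Subgroup.mem_zpowers_iff.mp h3
    rw [Subgroup.mem_zpowers_iff]
    refine ⟨k, ?_⟩
    have h4 : (QuotientGroup.mk (s'⁻¹ * g) : G ⧸ S) = QuotientGroup.mk g := by
      rw [QuotientGroup.mk_mul, QuotientGroup.mk_inv, (QuotientGroup.eq_one_iff s').mpr hs']
      simp
    rw [← h4, ← hk, QuotientGroup.mk_zpow]
  · rw [Subgroup.zpowers_le, Subgroup.mem_centralizer_singleton_iff]

end

/-- Let the finite group G contain an element x of prime order p with C_G(x) = ⟨x⟩. Then: (a) every normal subgroup of order divisible by p contains the commutator subgroup; (b) every normal subgroup S of order prime to p has order dividing the number of subgroups of order p of G and congruent to 1 modulo p, and in G/S the image of x again has prime order p and commutes only with its own powers. -/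
theorem result {G : Type*} [Group G] [Finite G] (p : ℕ) (hp : p.Prime) (x : G) (hx : orderOf x = p) (hC : Subgroup.centralizer ({x} : Set G) = Subgroup.zpowers x) (S : Subgroup G) [S.Normal] : (p ∣ Nat.card S → commutator G ≤ S) ∧ (¬ p ∣ Nat.card S → Nat.card S ∣ Nat.card {H : Subgroup G // Nat.card H = p} ∧ Nat.card S % p = 1 ∧ orderOf (QuotientGroup.mk x : G ⧸ S) = p ∧ Subgroup.centralizer ({(QuotientGroup.mk x : G ⧸ S)} : Set (G ⧸ S)) = Subgroup.zpowers (QuotientGroup.mk x : G ⧸ S)) := by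
  haveI : Fact p.Prime := ⟨hp⟩
  exact ⟨fun h => comm_le p x hx hC S h, fun h => ⟨card_dvd p x hx hC S h,
    card_mod p x hx hC S h, order_quot p x hx hC S h, cent_quot p x hx hC S h⟩⟩

end Cfsg.Agent.S4496
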