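import Mathlib
import Cfsg.Statements.S4497
import Cfsg.Agent.S4495
import Cfsg.Agent.S4496
import Cfsg.Agent.S1900
import Cfsg.Agent.Lib.Helper7.PCore
import Cfsg.Agent.Lib.Helper1.PCore2

set_option autoImplicit false
open Cfsg
open scoped commutatorElement

namespace Cfsg.Agent.S4497

/-- Let the finite group G contain an element x of prime order p with C_G(x) = ⟨x⟩, let t be the number of conjugacy classes of elements of order p, and let S* = O_{p′}(G) be the largest normal subgroup of order prime to p. Then S* ≤ G′; if t ≠ p − 1 the quotient G′/S* is simple (in particular non-trivial); if t = p − 1 then G′ = S*. -/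
theorem result {G : Type*} [Group G] [Finite G] (p : ℕ) (hp : p.Prime) (x : G) (hx : orderOf x = p) (hC : Subgroup.centralizer ({x} : Set G) = Subgroup.zpowers x) (t : ℕ) (ht : Nat.card {C : ConjClasses G // ∃ g ∈ C.carrier, orderOf g = p} = t) : Cfsg.pPrimeCore p G ≤ commutator G ∧ (t ≠ p - 1 → ∀ h : ((Cfsg.pPrimeCore p G).subgroupOf (commutator G)).Normal, IsSimpleGroup (↥(commutator G) ⧸ (Cfsg.pPrimeCore p G).subgroupOf (commutator G))) ∧ (t = p - 1 → commutator G = Cfsg.pPrimeCore p G) := by
  classical
  haveI : Fact p.Prime := ⟨hp⟩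
  haveI hSn : (Cfsg.pPrimeCore p G).Normal := Cfsg.Agent.Lib.Helper7.pPrimeCore_normal p G
  have hSc : (Nat.card (Cfsg.pPrimeCore p G)).Coprime p :=
    Cfsg.Agent.Lib.Helper7.pPrimeCore_coprime p G
  have hS : ¬ p ∣ Nat.card (Cfsg.pPrimeCore p G) := by
    intro h
    have := Nat.Coprime.eq_one_of_dvd hSc.symm h
    exact hp.one_lt.ne' this
  have hDn : (commutator G).Normal := inferInstance
  have hmult := S4496.mult_one p x hx hC
  have hpG : p ∣ Nat.card G := by rw [← hx]; exact orderOf_dvd_natCard x
  have h1 : Cfsg.pPrimeCore p G ≤ commutator G := by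
    intro s hs
    obtain ⟨s', hs', rfl⟩ := S4496.bij p x hx hC _ hS s hs
    rw [commutator_def]
    exact Subgroup.commutator_mem_commutator (Subgroup.mem_top s') (Subgroup.mem_top x)
  refine ⟨h1, ?_, ?_⟩
  · intro hne hnorm
    have hidx := (S4495.result p hp x hx hC t ht).1 hne
    have htpos : 0 < t := by
      rw [← ht]
      haveI : Nonempty {C : ConjClasses G // ∃ g ∈ C.carrier, orderOf g = p} :=
        ⟨⟨ConjClasses.mk x, x, ConjClasses.mem_carrier_mk, hx⟩⟩
      exact Nat.card_pos
    have hidxlt : (commutator G).index < p := by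
      have h2 : (commutator G).index ≤ (commutator G).index * t := Nat.le_mul_of_pos_right _ htpos
      have h3 : 0 < p := hp.pos
      omega
    have hidxpos : 0 < (commutator G).index := Nat.pos_of_ne_zero Subgroup.index_ne_zero_of_finite
    have hpD : p ∣ Nat.card (commutator G) := by
      have h2 : p ∣ Nat.card (commutator G) * (commutator G).index := by
        rw [Subgroup.card_mul_index]; exact hpG
      rcases (Nat.Prime.dvd_mul hp).mp h2 with h3 | h3
      · exact h3
      · exact absurd (Nat.le_of_dvd hidxpos h3) (not_le.mpr hidxlt)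
    have hDtop : Subgroup.normalizer ((commutator G : Subgroup G) : Set G) = ⊤ :=
      Subgroup.normalizer_eq_top_iff.mpr hDn
    have hxD : x ∈ commutator G :=
      S4496.mem_of_dvd p x hx hC (commutator G) ⊤ (Subgroup.mem_top x) le_top
        (by rw [hDtop]) hpD
    have hO : (Cfsg.pPrimeCore p ↥(commutator G)).map (commutator G).subtype ≤
        Cfsg.pPrimeCore p G :=
      Cfsg.Agent.Lib.Helper1.pPrimeCore_map_subtype_le_of_subnormal p hDn.isSubnormal
    have key : ∀ K' : Subgroup G, K' ≤ commutator G →
        commutator G ≤ Subgroup.normalizer (K' : Set G) →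
        (p ∣ Nat.card K' → K' = commutator G) ∧ (¬ p ∣ Nat.card K' → K' ≤ Cfsg.pPrimeCore p G) := by
      intro K' hK'D hDK'
      constructor
      · intro hdvd
        have hxcore : x ∈ Subgroup.normalCore K' := by
          rw [Subgroup.normalCore, Subgroup.mem_mk]
          intro b
          obtain ⟨Kb, hKbdef⟩ : ∃ Kb : Subgroup G,
              Kb = K'.map (MulAut.conj b⁻¹).toMonoidHom := ⟨_, rfl⟩
          have hKbD : Kb ≤ commutator G := by
            rw [hKbdef]
            rintro _ ⟨k, hk, rfl⟩
            exact hDn.conj_mem k (hK'D hk) b⁻¹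
          have hDKb : commutator G ≤ Subgroup.normalizer (Kb : Set G) := by
            intro d hd
            apply S1900.mem_normalizer_of_conj_mem
            intro y hy
            rw [hKbdef] at hy ⊢
            obtain ⟨k, hk, rfl⟩ := hy
            have hd' : b * d * b⁻¹ ∈ commutator G := hDn.conj_mem d hd b
            have h3 : (b * d * b⁻¹) * k * (b * d * b⁻¹)⁻¹ ∈ K' :=
              (Subgroup.mem_normalizer_iff.mp (hDK' hd') k).mp hk
            refine ⟨_, h3, ?_⟩
            show b⁻¹ * ((b * d * b⁻¹) * k * (b * d * b⁻¹)⁻¹) * b⁻¹⁻¹ = d * (b⁻¹ * k * b⁻¹⁻¹) * d⁻¹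
            group
          have hcard : Nat.card Kb = Nat.card K' := by
            rw [hKbdef]
            exact Subgroup.card_map_of_injective (MulAut.conj b⁻¹).injective
          have hxKb : x ∈ Kb :=
            S4496.mem_of_dvd p x hx hC Kb (commutator G) hxD hKbD hDKb (by rw [hcard]; exact hdvd)
          rw [hKbdef] at hxKb
          obtain ⟨k, hk, hkx⟩ := hxKb
          have hkx' : b⁻¹ * k * b⁻¹⁻¹ = x := hkx
          have : b * x * b⁻¹ = k := by rw [← hkx']; group
          show b * x * b⁻¹ ∈ K'
          rw [this]; exact hk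
        haveI : (Subgroup.normalCore K').Normal := Subgroup.normalCore_normal K'
        have hpc : p ∣ Nat.card (Subgroup.normalCore K') := by
          rw [← hx]; exact Subgroup.orderOf_dvd_natCard _ hxcore
        have h2 := S4496.comm_le p x hx hC (Subgroup.normalCore K') hpc
        exact le_antisymm hK'D (h2.trans (Subgroup.normalCore_le K'))
      · intro hndvd
        have hn : (K'.subgroupOf (commutator G)).Normal :=
          (Subgroup.normal_subgroupOf_iff_le_normalizer hK'D).mpr hDK'
        have hc : (Nat.card (K'.subgroupOf (commutator G))).Coprime p := by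
          rw [Nat.card_congr (Subgroup.subgroupOfEquivOfLe hK'D).toEquiv]
          exact ((Nat.Prime.coprime_iff_not_dvd hp).mpr hndvd).symm
        have h2 := Cfsg.Agent.Lib.Helper7.le_pPrimeCore hn hc
        intro k hk
        apply hO
        exact ⟨⟨k, hK'D hk⟩, h2 (by rw [Subgroup.mem_subgroupOf]; exact hk), rfl⟩
    haveI : Nontrivial (↥(commutator G) ⧸ (Cfsg.pPrimeCore p G).subgroupOf (commutator G)) := by
      refine ⟨⟨QuotientGroup.mk ⟨x, hxD⟩, 1, ?_⟩⟩
      intro h
      have h2 : (⟨x, hxD⟩ : ↥(commutator G)) ∈ (Cfsg.pPrimeCore p G).subgroupOf (commutator G) :=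
        (QuotientGroup.eq_one_iff _).mp h
      rw [Subgroup.mem_subgroupOf] at h2
      have h3 := S4496.disj p x hx hC _ hS x (Subgroup.mem_zpowers x) h2
      rw [h3, orderOf_one] at hx
      exact hp.one_lt.ne hx
    constructor
    intro Kb hKb
    obtain ⟨K, hKdef⟩ : ∃ K : Subgroup ↥(commutator G),
        K = Kb.comap (QuotientGroup.mk' ((Cfsg.pPrimeCore p G).subgroupOf (commutator G))) :=
      ⟨_, rfl⟩
    have hKn : K.Normal := by rw [hKdef]; exact Subgroup.Normal.comap hKb _
    have hK'D : K.map (commutator G).subtype ≤ commutator G := Subgroup.map_subtype_le K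
    have hDK' : commutator G ≤ Subgroup.normalizer ((K.map (commutator G).subtype : Subgroup G) : Set G) := by
      intro d hd
      apply S1900.mem_normalizer_of_conj_mem
      rintro _ ⟨k, hk, rfl⟩
      exact ⟨⟨d, hd⟩ * k * ⟨d, hd⟩⁻¹, hKn.conj_mem k hk _, by simp⟩
    obtain ⟨hk1, hk2⟩ := key _ hK'D hDK'
    by_cases hdvd : p ∣ Nat.card (K.map (commutator G).subtype)
    · right
      have h2 := hk1 hdvd
      rw [eq_top_iff]
      intro q _
      obtain ⟨d, rfl⟩ := QuotientGroup.mk_surjective q
      have h3 : (d : G) ∈ K.map (commutator G).subtype := by rw [h2]; exact d.2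
      obtain ⟨k, hk, hkd⟩ := h3
      have h4 : k = d := Subtype.ext hkd
      have hk' : d ∈ K := h4 ▸ hk
      have hk'' : d ∈ Kb.comap
          (QuotientGroup.mk' ((Cfsg.pPrimeCore p G).subgroupOf (commutator G))) := by
        rw [← hKdef]; exact hk'
      exact Subgroup.mem_comap.mp hk''
    · left
      have h2 := hk2 hdvd
      rw [eq_bot_iff]
      intro q hq
      obtain ⟨d, rfl⟩ := QuotientGroup.mk_surjective q
      have hdK : d ∈ K := by rw [hKdef, Subgroup.mem_comap]; exact hq
      have h3 : (d : G) ∈ Cfsg.pPrimeCore p G := h2 ⟨d, hdK, rfl⟩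
      rw [Subgroup.mem_bot]
      exact (QuotientGroup.eq_one_iff _).mpr (by rw [Subgroup.mem_subgroupOf]; exact h3)
  · intro heq
    have hidx := (S4495.result p hp x hx hC t ht).2 heq
    apply le_antisymm _ h1
    apply Cfsg.Agent.Lib.Helper7.le_pPrimeCore hDn
    apply ((Nat.Prime.coprime_iff_not_dvd hp).mpr _).symm
    intro hdvd
    have h2 : p ^ 2 ∣ Nat.card G := by
      rw [← Subgroup.card_mul_index (commutator G), hidx, sq]
      exact Nat.mul_dvd_mul_right hdvd p
    have h3 := (Nat.Prime.pow_dvd_iff_le_factorization hp Nat.card_pos.ne').mp h2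
    rw [hmult] at h3
    omega

end Cfsg.Agent.S4497
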