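import Cfsg.Statements.S4744
import Cfsg.Agent.S4742
import Cfsg.Agent.Lib.Lead.InvSylow

set_option autoImplicit false
set_option maxHeartbeats 400000
open Cfsg

namespace Cfsg.Agent.S4744

open Cfsg.Agent.Lib.Lead

/-- Let p be an odd prime and G a finite group of even order divisible by p in which the centralizer of every non-identity p-element has odd order. Then either G has an irreducible character of p-defect zero, or the normalizer of every Sylow p-subgroup P of G has even order and P is abelian. -/
theorem result {G : Type*} [Group G] [Finite G] (p : ℕ) [Fact p.Prime] (hp2 : p ≠ 2) (hpG : p ∣ Nat.card G) (h2G : 2 ∣ Nat.card G) (hC : ∀ g : G, g ≠ 1 → (∃ k : ℕ, orderOf g = p ^ k) → Odd (Nat.card ↥(Subgroup.centralizer ({g} : Set G)))) : (∃ χ : Cfsg.IrrCharacter G, (Cfsg.charDegree (χ : G → ℂ)).factorization p = (Nat.card G).factorization p) ∨ ∀ P : Sylow p G, Even (Nat.card ↥(Subgroup.normalizer ((P : Subgroup G) : Set G))) ∧ IsMulCommutative ↥(P : Subgroup G) := by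
  have hC' : ∀ g : G, g ≠ 1 → (∃ k : ℕ, orderOf g = p ^ k) →
      ¬ 2 ∣ Nat.card ↥(Subgroup.centralizer ({g} : Set G)) := by
    intro g hg hk h2
    exact (Nat.not_even_iff_odd.mpr (hC g hg hk)) (even_iff_two_dvd.mpr h2)
  rcases Cfsg.Agent.S4742.result p 2 hp2 hpG h2G hC' with hdef | hreal
  · exact Or.inl hdef
  right
  intro P
  obtain ⟨z, hz⟩ := exists_prime_orderOf_dvd_card' 2 h2G
  obtain ⟨z', -, h2, h1, hinvP⟩ := is_main p hC hreal z hz P
  constructor
  · have hN : z' ∈ Subgroup.normalizer ((P : Subgroup G) : Set G) := by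
      apply Cfsg.Agent.Lib.Helper8.h8_mem_normalizer_of_conj_mem
      intro d hd
      rw [hinvP d hd]
      exact (P : Subgroup G).inv_mem hd
    have ho : orderOf z' = 2 := orderOf_eq_prime (by rw [pow_two]; exact h2) h1
    exact Cfsg.Agent.Lib.Helper8.h8_even_card_of_involution hN ho
  · exact is_comm_of_inverts (P : Subgroup G) z' hinvP

end Cfsg.Agent.S4744
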