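import Cfsg.Statements.S5084
import Mathlib
import Cfsg.Agent.Lib.Helper1.FusNormal
import Cfsg.Agent.S5097

set_option autoImplicit false
open Cfsg

open Cfsg.Agent.Lib.Helper1

namespace Cfsg.Agent.S5084

/-- the centralizer system of `Q`, as a system over `S`, when `S` centralizes `Q` -/
def centSysS {Ω : Type*} [Group Ω] {S : Subgroup Ω} (F : Cfsg.FusionSystem S) (Q : Subgroup Ω)
    (hQ : Q ≤ S) (hSC : S ≤ Cfsg.FusionSystem.centralizerIn S Q) : Cfsg.FusionSystem S where
  Hom P := F.centralizerHom Q P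
  le_of_mem h := F.le_of_mem h.1
  injective_of_mem h := F.injective_of_mem h.1
  conj_mem hP hg := Cfsg.Agent.S5097.cent_conj F Q hQ (hP.trans hSC) (hSC hg)
  comp_mem := Cfsg.Agent.S5097.cent_comp F Q
  inv_mem := Cfsg.Agent.S5097.cent_inv F Q

/-- a subgroup none of whose elements is fused to another element is central -/
theorem central_of_no_fusion {Ω : Type*} [Group Ω] {S : Subgroup Ω} [Finite S] (p : ℕ)
    [Fact p.Prime] (hS : IsPGroup p S) (F : Cfsg.FusionSystem S) (hF : F.IsSaturated p)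
    (Q : Subgroup Ω) (hQS : Q ≤ S) (h : ∀ x ∈ Q, ∀ y : Ω, F.IsConjElt x y → y = x) :
    F.IsCentral Q := by
  have hSC : S ≤ Cfsg.FusionSystem.centralizerIn S Q := by
    intro g hg
    refine Subgroup.mem_inf.mpr ⟨hg, ?_⟩
    rw [Subgroup.mem_centralizer_iff]
    intro x hx
    have hz : Subgroup.zpowers x ≤ S := by
      rw [Subgroup.zpowers_le]; exact hQS hx
    have h1 : F.IsConjElt x (g * x * g⁻¹) := ⟨_, F.conj_mem hz hg, rfl⟩
    have h2 := h x hx _ h1
    calc x * g = (g * x * g⁻¹) * g := by rw [h2]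
      _ = g * x := by group
  have hcent : ∀ g ∈ S, ∀ x ∈ Q, x * g = g * x := fun g hg x hx =>
    Subgroup.mem_centralizer_iff.mp (Subgroup.mem_inf.mp (hSC hg)).2 x hx
  have hE : ∀ P : Subgroup Ω, (P = S ∨ F.IsEssential p P) →
      F.autGroup P ≤ (centSysS F Q hQS hSC).autGroup P := by
    intro P hP α hα
    have hPS : P ≤ S := by
      rcases hP with rfl | hess
      · exact le_rfl
      · exact hess.1.1
    have hQP : Q ≤ P := by
      rcases hP with rfl | hess
      · exact hQS
      · have hCP := hess.1.2 P (fs_isConj_refl F hPS)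
        refine le_trans ?_ hCP
        intro x hx
        refine Subgroup.mem_inf.mpr ⟨hQS hx, ?_⟩
        rw [Subgroup.mem_centralizer_iff]
        intro y hy
        exact (hcent y (hPS hy) x hx).symm
    have hαF : P.subtype.comp α.toMonoidHom ∈ F.Hom P := (fs_mem_autGroup_iff F hPS α).mp hα
    rw [fs_mem_autGroup_iff (centSysS F Q hQS hSC) hPS]
    have hle : P ⊔ Q ≤ P := sup_le le_rfl hQP
    refine ⟨hαF, hPS.trans hSC, fun x => hSC ((F.le_of_mem hαF).2 x),
      (P.subtype.comp α.toMonoidHom).comp (Subgroup.inclusion hle), fs_restrict F hle hαF,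
      fun x => rfl, ?_⟩
    intro x
    have hz : Subgroup.zpowers (x : Ω) ≤ P := by
      rw [Subgroup.zpowers_le]; exact hQP x.2
    have h1 : F.IsConjElt (x : Ω) ((α ⟨x, hQP x.2⟩ : P) : Ω) :=
      ⟨_, fs_restrict F hz hαF, rfl⟩
    exact h x x.2 _ h1
  refine ⟨hQS, ?_⟩
  intro P φ hφ
  have := fs_alperin p hS F hF (centSysS F Q hQS hSC) hE P φ hφ
  exact this.2.2.2

/-- In a saturated fusion system over a finite p-group S, a subgroup Q is central in the system if and only if Q ≤ S and no element of Q is conjugate in the system to any element other than itself. -/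
theorem result {Ω : Type*} [Group Ω] {S : Subgroup Ω} [Finite S] (p : ℕ) [Fact p.Prime] (hS : IsPGroup p S) (F : Cfsg.FusionSystem S) (hF : F.IsSaturated p) (Q : Subgroup Ω) : F.IsCentral Q ↔ (Q ≤ S ∧ ∀ x ∈ Q, ∀ y : Ω, F.IsConjElt x y → y = x) := by
  constructor
  · intro hQ
    refine ⟨hQ.1, ?_⟩
    rintro x hx y ⟨φ, hφ, rfl⟩
    obtain ⟨ψ, hψ, hψP, hψQ⟩ := hQ.2 _ φ hφ
    rw [← hψP]
    exact hψQ ⟨x, hx⟩
  · rintro ⟨hQS, h⟩
    exact central_of_no_fusion p hS F hF Q hQS h

end Cfsg.Agent.S5084
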