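import Cfsg.Statements.S5093
import Mathlib
import Cfsg.Agent.Lib.Helper1.GrpNormal
import Cfsg.Agent.Lib.Helper1.FusHyp
import Cfsg.Agent.Lib.Helper2.PResidual
import Cfsg.Agent.S5092
import Cfsg.Agent.S5124

set_option autoImplicit false
open Cfsg

open Cfsg.Agent.Lib.Helper1 Cfsg.FusionSystem
open scoped commutatorElement

namespace Cfsg.Agent.S5093

theorem pResidual_pResidual (p : ℕ) (G : Type*) [Group G] :
    Cfsg.pResidual p ↥(Cfsg.pResidual p G) = ⊤ := by
  have h := Subgroup.closure_closure_coe_preimage (k := {g : G | Nat.Coprime (orderOf g) p})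
  show Subgroup.closure {k : ↥(Cfsg.pResidual p G) | Nat.Coprime (orderOf k) p} = ⊤
  have e : {k : ↥(Cfsg.pResidual p G) | Nat.Coprime (orderOf k) p} =
      ((↑) : ↥(Subgroup.closure {g : G | Nat.Coprime (orderOf g) p}) → G) ⁻¹'
        {g : G | Nat.Coprime (orderOf g) p} := by
    ext k
    show Nat.Coprime (orderOf k) p ↔ Nat.Coprime (orderOf (k : G)) p
    rw [Subgroup.orderOf_coe]
  rw [e]; exact h

theorem eq_top_of_sup_commutator {T : Type*} [Group T] [Finite T] {p : ℕ} [Fact p.Prime]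
    (hT : IsPGroup p T) (N : Subgroup T) [N.Normal] (h : N ⊔ commutator T = ⊤) : N = ⊤ := by
  by_contra hne
  haveI : Group.IsNilpotent T := hT.isNilpotent
  haveI : Nontrivial (T ⧸ N) := by
    rw [← not_subsingleton_iff_nontrivial]
    intro hsub
    exact hne (QuotientGroup.subgroup_eq_top_of_subsingleton N hsub)
  have h1 : commutator (T ⧸ N) < ⊤ := Group.IsSolvable.commutator_lt_top_of_nontrivial (T ⧸ N)
  apply h1.ne
  have h2 : (N ⊔ commutator T).map (QuotientGroup.mk' N) = ⊤ := by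
    rw [h, ← MonoidHom.range_eq_map, MonoidHom.range_eq_top]
    exact QuotientGroup.mk'_surjective N
  have h3 : N.map (QuotientGroup.mk' N) = ⊥ := by
    rw [Subgroup.map_eq_bot_iff, QuotientGroup.ker_mk']
  have h4 : (commutator T).map (QuotientGroup.mk' N) = commutator (T ⧸ N) := by
    rw [commutator_def, commutator_def, Subgroup.map_commutator, ← MonoidHom.range_eq_map,
      MonoidHom.range_eq_top.mpr (QuotientGroup.mk'_surjective N)]
  rw [Subgroup.map_sup, h3, h4, bot_sup_eq] at h2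
  exact h2

theorem aut_pow_conj {G : Type*} [Group G] {P : Subgroup G} (α : MulAut P) (g : G)
    (hg : ∀ x : P, ((α x : P) : G) = g * x * g⁻¹) (n : ℕ) :
    ∀ x : P, (((α ^ n) x : P) : G) = g ^ n * x * (g ^ n)⁻¹ := by
  induction n with
  | zero => intro x; simp
  | succ n ih =>
    intro x
    rw [pow_succ, MulAut.mul_apply, ih, hg, pow_succ]
    group

/-- Hyperfocal subgroup Theorem: for a finite group G with Sylow p-subgroup S, the hyperfocal subgroup of the fusion system of G on S equals S ∩ O^p(G), where O^p(G) is the subgroup generated by the elements of order prime to p. -/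
theorem result {G : Type*} [Group G] [Finite G] (p : ℕ) [Fact p.Prime] (S : Sylow p G) : (Cfsg.groupFusionSystem (S : Subgroup G)).hyperfocalSubgroup p = (S : Subgroup G) ⊓ Cfsg.pResidual p G := by
  haveI hKn : (Cfsg.pResidual p G).Normal := Cfsg.Agent.Lib.Helper2.pResidual_normal p G
  apply le_antisymm
  · -- hyperfocal ≤ S ∩ O^p(G)
    apply fs_hyp_le_of_coprime
    intro P hPS α hα x
    refine ⟨(S : Subgroup G).mul_mem ((S : Subgroup G).inv_mem (hPS x.2)) (hPS (Subtype.property _)), ?_⟩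
    obtain ⟨-, -, g, hg⟩ := (fs_mem_autGroup_iff _ hPS (α : MulAut P)).mp α.2
    have hg' : ∀ x : P, (((α : MulAut P) x : P) : G) = g * x * g⁻¹ := hg
    obtain ⟨a, ha⟩ := Cfsg.Agent.Lib.Helper2.pow_mem_pResidual (p := p) g
    have hcop : (p ^ a).Coprime (orderOf α) := Nat.Coprime.pow_left a hα.symm
    obtain ⟨m, hm⟩ := exists_pow_eq_self_of_coprime hcop
    have hm' : ((α : MulAut P) ^ (p ^ a)) ^ m = (α : MulAut P) := by
      have := congrArg Subtype.val hm
      exact this
    have h1 := aut_pow_conj ((α : MulAut P) ^ (p ^ a)) (g ^ (p ^ a))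
      (aut_pow_conj (α : MulAut P) g hg' (p ^ a)) m x
    rw [hm'] at h1
    rw [h1]
    have h2 : (g ^ p ^ a) ^ m ∈ Cfsg.pResidual p G := Subgroup.pow_mem _ ha m
    have e : (x : G)⁻¹ * ((g ^ p ^ a) ^ m * (x : G) * ((g ^ p ^ a) ^ m)⁻¹) =
        ((x : G)⁻¹ * (g ^ p ^ a) ^ m * (x : G)⁻¹⁻¹) * ((g ^ p ^ a) ^ m)⁻¹ := by group
    rw [e]
    exact Subgroup.mul_mem _ (hKn.conj_mem _ h2 _) (Subgroup.inv_mem _ h2)
  · -- S ∩ O^p(G) ≤ hyperfocal
    obtain ⟨R, hR⟩ := Cfsg.Agent.Lib.Helper3.exists_sylow_subgroupOf_normal S (Cfsg.pResidual p G)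
    have hTK : (S : Subgroup G) ⊓ Cfsg.pResidual p G ≤ Cfsg.pResidual p G := inf_le_right
    have hTS : (S : Subgroup G) ⊓ Cfsg.pResidual p G ≤ (S : Subgroup G) := inf_le_left
    have hTp : IsPGroup p ↥((S : Subgroup G) ⊓ Cfsg.pResidual p G) := S.isPGroup'.to_le hTS
    have hEsat : (Cfsg.fusionSystemOfSubgroup (Cfsg.pResidual p G)
        ((S : Subgroup G) ⊓ Cfsg.pResidual p G) hTK).IsSaturated p := by
      refine realized_saturated p _ (Subgroup.inclusion hTK) (sub_realized _ _ hTK) R ?_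
      rw [hR, Subgroup.inclusion_range, Subgroup.inf_subgroupOf_right]
    -- hyp(E) ≤ hyp(F)
    have h1 : (Cfsg.fusionSystemOfSubgroup (Cfsg.pResidual p G)
        ((S : Subgroup G) ⊓ Cfsg.pResidual p G) hTK).hyperfocalSubgroup p ≤
        (Cfsg.groupFusionSystem (S : Subgroup G)).hyperfocalSubgroup p := by
      apply fs_hyp_le_of_coprime
      intro P hPT α hα x
      have hαE := (fs_mem_autGroup_iff _ hPT (α : MulAut P)).mp α.2
      obtain ⟨-, hv, g, -, hg⟩ := hαE
      have hαF : (α : MulAut P) ∈ (Cfsg.groupFusionSystem (S : Subgroup G)).autGroup P := by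
        rw [fs_mem_autGroup_iff _ (hPT.trans hTS)]
        exact ⟨hPT.trans hTS, fun y => hTS (hv y), g, hg⟩
      apply Subgroup.subset_closure
      refine ⟨P, ⟨(α : MulAut P), hαF⟩, x, hPT.trans hTS, ?_, rfl⟩
      apply Subgroup.subset_closure
      show Nat.Coprime (orderOf (⟨(α : MulAut P), hαF⟩ :
        ↥((Cfsg.groupFusionSystem (S : Subgroup G)).autGroup P))) p
      rw [Subgroup.orderOf_mk, Subgroup.orderOf_coe]
      exact hα
    refine le_trans ?_ h1
    -- T ≤ foc(E)
    have h2 : (S : Subgroup G) ⊓ Cfsg.pResidual p G ≤ (Cfsg.fusionSystemOfSubgroup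
        (Cfsg.pResidual p G) ((S : Subgroup G) ⊓ Cfsg.pResidual p G) hTK).focalSubgroup := by
      have hker : Cfsg.pResidual p ↥(Cfsg.pResidual p G) ≤
          (R : Subgroup ↥(Cfsg.pResidual p G)).transferFocal.ker :=
        Cfsg.Agent.Lib.Helper2.pResidual_le_ker _ (R.2.to_quotient _)
      rw [pResidual_pResidual] at hker
      have hfoc := Subgroup.ker_transferFocal_inf_eq_focalSubgroup R
      rw [top_le_iff.mp hker, top_inf_eq] at hfoc
      intro t ht
      have ht' : (⟨t, hTK ht⟩ : ↥(Cfsg.pResidual p G)) ∈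
          (R : Subgroup ↥(Cfsg.pResidual p G)) := by
        rw [hR]; exact Subgroup.mem_subgroupOf.mpr ht.1
      rw [hfoc] at ht'
      have hle : (R : Subgroup ↥(Cfsg.pResidual p G)).focalSubgroup ≤
          ((Cfsg.fusionSystemOfSubgroup (Cfsg.pResidual p G)
            ((S : Subgroup G) ⊓ Cfsg.pResidual p G) hTK).focalSubgroup).comap
            (Cfsg.pResidual p G).subtype := by
        rw [Subgroup.focalSubgroup_def, Subgroup.closure_le]
        rintro g ⟨hgR, x, hxR, u, rfl⟩
        have hxS : ((x : ↥(Cfsg.pResidual p G)) : G) ∈ (S : Subgroup G) := by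
          have := hR.le hxR
          exact Subgroup.mem_subgroupOf.mp this
        have hgS : ((⁅x, u⁆ : ↥(Cfsg.pResidual p G)) : G) ∈ (S : Subgroup G) := by
          have := hR.le hgR
          exact Subgroup.mem_subgroupOf.mp this
        have hgv : ((⁅x, u⁆ : ↥(Cfsg.pResidual p G)) : G) =
            ((x : G)⁻¹)⁻¹ * ((u : G) * (x : G)⁻¹ * (u : G)⁻¹) := by
          show (x : G) * (u : G) * (x : G)⁻¹ * (u : G)⁻¹ = _
          group
        have hx'T : (x : G)⁻¹ ∈ (S : Subgroup G) ⊓ Cfsg.pResidual p G :=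
          ⟨Subgroup.inv_mem _ hxS, Subgroup.inv_mem _ x.2⟩
        have hconjT : (u : G) * (x : G)⁻¹ * (u : G)⁻¹ ∈ (S : Subgroup G) ⊓ Cfsg.pResidual p G := by
          have e : (u : G) * (x : G)⁻¹ * (u : G)⁻¹ =
              (x : G)⁻¹ * ((⁅x, u⁆ : ↥(Cfsg.pResidual p G)) : G) := by
            rw [hgv]; group
          rw [e]
          exact Subgroup.mul_mem _ hx'T ⟨hgS, (⁅x, u⁆ : ↥(Cfsg.pResidual p G)).2⟩
        apply Subgroup.mem_comap.mpr
        apply Subgroup.subset_closure
        have hzle : Subgroup.zpowers ((x : G)⁻¹) ≤ (S : Subgroup G) ⊓ Cfsg.pResidual p G := by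
          rw [Subgroup.zpowers_le]; exact hx'T
        refine ⟨Subgroup.zpowers ((x : G)⁻¹), Cfsg.conjHom _ (u : G),
          ⟨(x : G)⁻¹, Subgroup.mem_zpowers _⟩, ⟨hzle, ?_, (u : G), u.2, fun y => rfl⟩, hgv⟩
        rintro ⟨y, hy⟩
        obtain ⟨k, rfl⟩ := Subgroup.mem_zpowers_iff.mp hy
        show (u : G) * ((x : G)⁻¹) ^ k * (u : G)⁻¹ ∈ _
        have e : (u : G) * ((x : G)⁻¹) ^ k * (u : G)⁻¹ = ((u : G) * (x : G)⁻¹ * (u : G)⁻¹) ^ k := by
          rw [conj_zpow]
        rw [e]
        exact Subgroup.zpow_mem _ hconjT k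
      exact hle ht'
    rw [Cfsg.Agent.S5092.result p hTp _ hEsat] at h2
    -- T = hyp(E)
    have hsc := Cfsg.Agent.S5124.result p hTp _ hEsat
    have hnorm := fs_stronglyClosed_normal _ _ hsc
    haveI hNn : (((Cfsg.fusionSystemOfSubgroup (Cfsg.pResidual p G)
        ((S : Subgroup G) ⊓ Cfsg.pResidual p G) hTK).hyperfocalSubgroup p).subgroupOf
        ((S : Subgroup G) ⊓ Cfsg.pResidual p G)).Normal :=
      Subgroup.normal_subgroupOf_of_le_normalizer hnorm
    have h3 : ((Cfsg.fusionSystemOfSubgroup (Cfsg.pResidual p G)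
        ((S : Subgroup G) ⊓ Cfsg.pResidual p G) hTK).hyperfocalSubgroup p).subgroupOf
        ((S : Subgroup G) ⊓ Cfsg.pResidual p G) ⊔
        commutator ↥((S : Subgroup G) ⊓ Cfsg.pResidual p G) = ⊤ := by
      have h4 := Subgroup.subgroupOf_eq_top.mpr h2
      rw [Subgroup.subgroupOf_sup hsc.1 (Subgroup.commutator_le_self _)] at h4
      have h5 : (⁅(S : Subgroup G) ⊓ Cfsg.pResidual p G,
          (S : Subgroup G) ⊓ Cfsg.pResidual p G⁆).subgroupOf
          ((S : Subgroup G) ⊓ Cfsg.pResidual p G) =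
          commutator ↥((S : Subgroup G) ⊓ Cfsg.pResidual p G) := by
        rw [← Subgroup.map_subtype_commutator]
        exact Subgroup.comap_map_eq_self_of_injective (Subgroup.subtype_injective _) _
      rw [h5] at h4
      exact h4
    have h6 := eq_top_of_sup_commutator hTp _ h3
    exact Subgroup.subgroupOf_eq_top.mp h6

end Cfsg.Agent.S5093
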