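import Cfsg.Statements.S5115
import Mathlib
import Cfsg.Agent.Lib.Helper1.GrpNormal

set_option autoImplicit false
open Cfsg

open Cfsg.Agent.Lib.Helper1

namespace Cfsg.Agent.S5115

/-- If the 2-fusion system of a finite group G on a Sylow 2-subgroup S is constrained, then for every subnormal subgroup H of G the 2-fusion system of H on S ∩ H is constrained. -/
theorem result {G : Type*} [Group G] [Finite G] (S : Sylow 2 G) (hF : (Cfsg.groupFusionSystem (S : Subgroup G)).IsConstrained 2) (H : Subgroup G) (hH : H.IsSubnormal) : (Cfsg.groupFusionSystem ((S : Subgroup G).subgroupOf H)).IsConstrained 2 := by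
  haveI : Fact (Nat.Prime 2) := ⟨Nat.prime_two⟩
  have h1 := gcond_subnormal 2 S hF H hH
  obtain ⟨SH, hSH⟩ := Cfsg.Agent.Lib.Helper3.exists_sylow_subgroupOf_subnormal S hH
  rw [Subgroup.inf_subgroupOf_right] at hSH
  refine constrained_of_gcond 2 _ ((S : Subgroup G).subgroupOf H).subtype (grp_realized _) SH ?_ ?_
  · rw [Subgroup.range_subtype, hSH]
  · rw [Subgroup.range_subtype]; exact h1

end Cfsg.Agent.S5115
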