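import Cfsg.Statements.S5139
import Mathlib
import Cfsg.Agent.Lib.Helper1.GrpNormal
import Cfsg.Agent.Lib.Helper1.FusHyp
import Cfsg.Agent.Lib.Helper1.FusFoc
import Cfsg.Agent.Lib.Helper1.FusAlp
import Cfsg.Agent.Lib.Helper2.PResidual
import Cfsg.Agent.S5093

set_option autoImplicit false
open Cfsg

open Cfsg.Agent.Lib.Helper1 Cfsg.FusionSystem

namespace Cfsg.Agent.S5139

/-- a saturated subsystem of `F` over `T` is contained in every fusion system over `T`
containing the `O^p(Aut_F(P))` -/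
theorem ppower_le {Ω : Type*} [Group Ω] {S : Subgroup Ω} [Finite S] (p : ℕ) [Fact p.Prime]
    (hS : IsPGroup p S) (F : Cfsg.FusionSystem S) (T₁ T₂ : Subgroup Ω) (hT : T₁ = T₂)
    (hT₁S : T₁ ≤ S)
    (E₁ : Cfsg.FusionSystem T₁) (E₂ : Cfsg.FusionSystem T₂) (h₁sat : E₁.IsSaturated p)
    (h₁sub : E₁.IsSubsystemOf F)
    (h₂ : ∀ P : Subgroup Ω, P ≤ T₂ →
      (Cfsg.pResidual p (F.autGroup P)).map (F.autGroup P).subtype ≤ E₂.autGroup P) :
    ∀ P : Subgroup Ω, E₁.Hom P ⊆ E₂.Hom P := by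
  subst hT
  haveI : Finite T₁ := fs_finite_of_le hT₁S
  have hTp : IsPGroup p T₁ := hS.to_le hT₁S
  intro P φ hφ
  refine fs_alperin p hTp E₁ h₁sat E₂ ?_ P φ hφ
  intro Q hQ α hα
  have hQa := fs_fullyAutomized_of_top_or_essential p hTp E₁ h₁sat Q hQ
  have hQT := hQa.1
  obtain ⟨r, hr, g, hg, hgN, rfl⟩ := fs_aut_decomp p E₁ Q hQa α hα
  apply Subgroup.mul_mem
  · apply h₂ Q hQT
    have hle : E₁.autGroup Q ≤ F.autGroup Q := by
      intro β hβ
      rw [fs_mem_autGroup_iff F (hQT.trans hT₁S)]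
      exact h₁sub Q ((fs_mem_autGroup_iff E₁ hQT β).mp hβ)
    have h1 := pResidual_map_le p (Subgroup.inclusion hle)
    have h2 : Subgroup.inclusion hle r ∈ Cfsg.pResidual p ↥(F.autGroup Q) := h1 ⟨r, hr, rfl⟩
    exact ⟨_, h2, rfl⟩
  · rw [fs_mem_autGroup_iff E₂ hQT]
    exact E₂.conj_mem hQT hg

/-- an automorphism of order prime to `p` induced by conjugation is induced by an element of
`O^p(G)` -/
theorem coprime_aut_conj {G : Type*} [Group G] [Finite G] (p : ℕ) [Fact p.Prime]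
    {P : Subgroup G} (α : MulAut P) (hα : (orderOf α).Coprime p) (g : G)
    (hg : ∀ x : P, ((α x : P) : G) = g * x * g⁻¹) :
    ∃ g₂ ∈ Cfsg.pResidual p G, ∀ x : P, ((α x : P) : G) = g₂ * x * g₂⁻¹ := by
  obtain ⟨a, ha⟩ := Cfsg.Agent.Lib.Helper2.pow_mem_pResidual (p := p) g
  have hcop : (p ^ a).Coprime (orderOf α) := Nat.Coprime.pow_left a hα.symm
  obtain ⟨m, hm⟩ := exists_pow_eq_self_of_coprime hcop
  refine ⟨(g ^ p ^ a) ^ m, Subgroup.pow_mem _ ha m, fun x => ?_⟩
  have h1 := Cfsg.Agent.S5093.aut_pow_conj (α ^ (p ^ a)) (g ^ (p ^ a))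
    (Cfsg.Agent.S5093.aut_pow_conj α g hg (p ^ a)) m x
  rw [hm] at h1
  exact h1

/-- Let G be a finite group with Sylow p-subgroup S and O^p(G) the subgroup generated by the elements of order prime to p. Then the p-residual subsystem of the fusion system of G on S — the saturated subsystem of p-power index over the hyperfocal subgroup — is the fusion system of O^p(G) on S ∩ O^p(G): its maps are exactly the conjugation maps by elements of O^p(G) between subgroups of S ∩ O^p(G). -/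
theorem result {G : Type*} [Group G] [Finite G] (p : ℕ) [Fact p.Prime] (S : Sylow p G) (E : Cfsg.FusionSystem ((Cfsg.groupFusionSystem (S : Subgroup G)).hyperfocalSubgroup p)) (hE : (Cfsg.groupFusionSystem (S : Subgroup G)).IsPResidual p E) : ∃ h : (S : Subgroup G) ⊓ Cfsg.pResidual p G ≤ Cfsg.pResidual p G, ∀ P : Subgroup G, E.Hom P = (Cfsg.fusionSystemOfSubgroup (Cfsg.pResidual p G) ((S : Subgroup G) ⊓ Cfsg.pResidual p G) h).Hom P := by
  refine ⟨inf_le_right, ?_⟩
  haveI hKn : (Cfsg.pResidual p G).Normal := Cfsg.Agent.Lib.Helper2.pResidual_normal p G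
  have hSp : IsPGroup p ↥(S : Subgroup G) := S.isPGroup'
  have hhyp := Cfsg.Agent.S5093.result p S
  obtain ⟨hEsat, hEsub, -, hEres⟩ := hE
  obtain ⟨R, hR⟩ := Cfsg.Agent.Lib.Helper3.exists_sylow_subgroupOf_normal S (Cfsg.pResidual p G)
  have hTK : (S : Subgroup G) ⊓ Cfsg.pResidual p G ≤ Cfsg.pResidual p G := inf_le_right
  have hTS : (S : Subgroup G) ⊓ Cfsg.pResidual p G ≤ (S : Subgroup G) := inf_le_left
  have hKsat : (Cfsg.fusionSystemOfSubgroup (Cfsg.pResidual p G)
      ((S : Subgroup G) ⊓ Cfsg.pResidual p G) hTK).IsSaturated p := by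
    refine realized_saturated p _ (Subgroup.inclusion hTK) (sub_realized _ _ hTK) R ?_
    rw [hR, Subgroup.inclusion_range, Subgroup.inf_subgroupOf_right]
  have hKsub : (Cfsg.fusionSystemOfSubgroup (Cfsg.pResidual p G)
      ((S : Subgroup G) ⊓ Cfsg.pResidual p G) hTK).IsSubsystemOf
      (Cfsg.groupFusionSystem (S : Subgroup G)) := by
    rintro P φ ⟨hPT, hφT, g, -, hg⟩
    exact ⟨hPT.trans hTS, fun x => hTS (hφT x), g, hg⟩
  have hKres : ∀ P : Subgroup G, P ≤ (S : Subgroup G) ⊓ Cfsg.pResidual p G →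
      (Cfsg.pResidual p ((Cfsg.groupFusionSystem (S : Subgroup G)).autGroup P)).map
        ((Cfsg.groupFusionSystem (S : Subgroup G)).autGroup P).subtype ≤
      (Cfsg.fusionSystemOfSubgroup (Cfsg.pResidual p G)
        ((S : Subgroup G) ⊓ Cfsg.pResidual p G) hTK).autGroup P := by
    intro P hPT
    rw [Subgroup.map_le_iff_le_comap]
    refine (Subgroup.closure_le _).mpr ?_
    intro α hα
    have hα' : (orderOf α).Coprime p := hα
    apply Subgroup.mem_comap.mpr
    apply (fs_mem_autGroup_iff _ hPT _).mpr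
    obtain ⟨-, -, g, hg⟩ := (fs_mem_autGroup_iff _ (hPT.trans hTS) (α : MulAut P)).mp α.2
    have hα'' : (orderOf (α : MulAut P)).Coprime p := by
      rw [Subgroup.orderOf_coe]; exact hα'
    obtain ⟨g₂, hg₂, hg₂v⟩ := coprime_aut_conj p (α : MulAut P) hα'' g hg
    exact ⟨hPT, fun x => hPT (Subtype.property _), g₂, hg₂, hg₂v⟩
  intro P
  apply Set.Subset.antisymm
  · exact ppower_le p hSp _ _ _ hhyp (fs_hyp_le _ p) E _ hEsat hEsub hKres P
  · exact ppower_le p hSp _ _ _ hhyp.symm hTS _ E hKsat hKsub hEres P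

end Cfsg.Agent.S5139
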