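import Cfsg.Statements.S5120
import Mathlib
import Cfsg.Agent.Lib.Helper1.FusInv
import Cfsg.Agent.Lib.Helper1.FusAlpRel
import Cfsg.Agent.Lib.Helper1.FusFoc
import Cfsg.Agent.Lib.Helper1.FusHyp
import Cfsg.Agent.Lib.Helper1.FusCent3
import Cfsg.Agent.Lib.Helper1.FusStab
import Cfsg.Agent.Lib.Helper2.PResidual
import Cfsg.Agent.S5124
import Cfsg.Agent.S5139

set_option autoImplicit false
open Cfsg

open Cfsg.Agent.Lib.Helper1 Cfsg.FusionSystem

namespace Cfsg.Agent.S5120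

/-- `O^p(Aut_F(P))` lies in the invariant core of a system containing all `O^p(Aut_F(Q))` -/
theorem res_le_invCore {Ω : Type*} [Group Ω] {S : Subgroup Ω} (p : ℕ)
    (F : Cfsg.FusionSystem S) {T : Subgroup Ω} (hTS : T ≤ S) (E : Cfsg.FusionSystem T)
    (hres : ∀ P : Subgroup Ω, P ≤ T →
      (Cfsg.pResidual p (F.autGroup P)).map (F.autGroup P).subtype ≤ E.autGroup P)
    (P : Subgroup Ω) (hPT : P ≤ T) :
    (Cfsg.pResidual p (F.autGroup P)).map (F.autGroup P).subtype ≤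
      (invCore F E).autGroup P := by
  rw [Subgroup.map_le_iff_le_comap]
  refine (Subgroup.closure_le _).mpr ?_
  intro γ hγ
  have hγ' : (orderOf γ).Coprime p := hγ
  apply Subgroup.mem_comap.mpr
  apply (fs_mem_autGroup_iff (invCore F E) hPT _).mpr
  refine ⟨(fs_mem_autGroup_iff E hPT _).mp (hres P hPT ⟨γ, Subgroup.subset_closure hγ, rfl⟩),
    fun α hα => ?_⟩
  have hαF := (fs_mem_autGroup_iff F hTS α).mp hα
  have hinj : Function.Injective (T.subtype.comp α.toMonoidHom) :=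
    fun a b hab => α.injective (Subtype.ext hab)
  have he : ∀ x : P, (((((Subgroup.subgroupOfEquivOfLe hPT).symm.trans
      ((P.subgroupOf T).equivMapOfInjective _ hinj)) x :
        ↥((P.subgroupOf T).map (T.subtype.comp α.toMonoidHom))) : Ω)) =
      ((T.subtype.comp α.toMonoidHom).comp (Subgroup.inclusion hPT)) x := fun x => rfl
  have hψ : (T.subtype.comp α.toMonoidHom).comp (Subgroup.inclusion hPT) ∈ F.Hom P :=
    fs_restrict F hPT hαF
  have himgT := img_le α P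
  have hγ'F := fs_autGroup_congr F (hPT.trans hTS) (himgT.trans hTS) _ hψ _ he (γ : MulAut P) γ.2
  have hord : (orderOf (⟨_, hγ'F⟩ : ↥(F.autGroup
      ((P.subgroupOf T).map (T.subtype.comp α.toMonoidHom))))).Coprime p := by
    rw [Subgroup.orderOf_mk, MulEquiv.orderOf_eq, Subgroup.orderOf_coe]; exact hγ'
  have hγ'E := hres _ himgT ⟨⟨_, hγ'F⟩, Subgroup.subset_closure hord, rfl⟩
  refine ⟨_, (fs_mem_autGroup_iff E himgT _).mp hγ'E, ?_⟩
  intro x hx hφx hαx
  have e1 : (⟨((α ⟨x, hx⟩ : T) : Ω), hαx⟩ :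
      ↥((P.subgroupOf T).map (T.subtype.comp α.toMonoidHom))) =
      ((Subgroup.subgroupOfEquivOfLe hPT).symm.trans
        ((P.subgroupOf T).equivMapOfInjective _ hinj)) x := Subtype.ext rfl
  show ((((Subgroup.subgroupOfEquivOfLe hPT).symm.trans
      ((P.subgroupOf T).equivMapOfInjective _ hinj)) ((γ : MulAut P)
        (((Subgroup.subgroupOfEquivOfLe hPT).symm.trans
          ((P.subgroupOf T).equivMapOfInjective _ hinj)).symm
            ⟨((α ⟨x, hx⟩ : T) : Ω), hαx⟩)) : _) : Ω) = _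
  rw [e1, MulEquiv.symm_apply_apply]
  rfl

/-- the extension property of the normality condition -/
def Ext {Ω : Type*} [Group Ω] {S : Subgroup Ω} (F : Cfsg.FusionSystem S) (T : Subgroup Ω)
    (α : MulAut T) : Prop :=
  ∃ β ∈ F.autGroup (T ⊔ centralizerIn S T),
    (∀ x : T, ((β (Subgroup.inclusion le_sup_left x) : ↥(T ⊔ centralizerIn S T)) : Ω) =
      ((α x : T) : Ω)) ∧
    ∀ c : ↥(T ⊔ centralizerIn S T), (c : Ω) ∈ centralizerIn S T →
      (c : Ω)⁻¹ * ((β c : ↥(T ⊔ centralizerIn S T)) : Ω) ∈ T ⊓ Subgroup.centralizer (T : Set Ω)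

theorem ext_one {Ω : Type*} [Group Ω] {S : Subgroup Ω} (F : Cfsg.FusionSystem S)
    (T : Subgroup Ω) : Ext F T 1 := by
  refine ⟨1, Subgroup.one_mem _, fun x => rfl, fun c hc => ?_⟩
  have e : (c : Ω)⁻¹ * (((1 : MulAut ↥(T ⊔ centralizerIn S T)) c :
      ↥(T ⊔ centralizerIn S T)) : Ω) = 1 := by
    show (c : Ω)⁻¹ * (c : Ω) = 1
    group
  rw [e]; exact Subgroup.one_mem _

theorem ext_mul {Ω : Type*} [Group Ω] {S : Subgroup Ω} (F : Cfsg.FusionSystem S)
    (T : Subgroup Ω) {α₁ α₂ : MulAut T} (h₁ : Ext F T α₁) (h₂ : Ext F T α₂) :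
    Ext F T (α₁ * α₂) := by
  obtain ⟨β₁, hβ₁, hx₁, hc₁⟩ := h₁
  obtain ⟨β₂, hβ₂, hx₂, hc₂⟩ := h₂
  refine ⟨β₁ * β₂, Subgroup.mul_mem _ hβ₁ hβ₂, ?_, ?_⟩
  · intro x
    have e : β₂ (Subgroup.inclusion le_sup_left x) = Subgroup.inclusion le_sup_left (α₂ x) :=
      Subtype.ext (hx₂ x)
    rw [MulAut.mul_apply, e, hx₁]
    rfl
  · intro c hc
    obtain ⟨hzT, hzC⟩ := hc₂ c hc
    obtain ⟨z, hz⟩ : ∃ z : T, (z : Ω) =
        (c : Ω)⁻¹ * ((β₂ c : ↥(T ⊔ centralizerIn S T)) : Ω) := ⟨⟨_, hzT⟩, rfl⟩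
    have hzC' : (z : Ω) ∈ Subgroup.centralizer (T : Set Ω) := by rw [hz]; exact hzC
    have e : β₂ c = c * Subgroup.inclusion le_sup_left z := by
      apply Subtype.ext
      show ((β₂ c : ↥(T ⊔ centralizerIn S T)) : Ω) = (c : Ω) * (z : Ω)
      rw [hz]; group
    have e2 : (c : Ω)⁻¹ * (((β₁ * β₂) c : ↥(T ⊔ centralizerIn S T)) : Ω) =
        ((c : Ω)⁻¹ * ((β₁ c : ↥(T ⊔ centralizerIn S T)) : Ω)) * ((α₁ z : T) : Ω) := by
      rw [MulAut.mul_apply, e, map_mul]
      show (c : Ω)⁻¹ * (((β₁ c : ↥(T ⊔ centralizerIn S T)) : Ω) *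
        ((β₁ (Subgroup.inclusion le_sup_left z) : ↥(T ⊔ centralizerIn S T)) : Ω)) = _
      rw [hx₁, mul_assoc]
    rw [e2]
    apply Subgroup.mul_mem _ (hc₁ c hc)
    refine ⟨(α₁ z).2, ?_⟩
    apply Subgroup.mem_centralizer_iff.mpr
    intro t ht
    have h2 := Subgroup.mem_centralizer_iff.mp hzC' ((α₁⁻¹ ⟨t, ht⟩ : T) : Ω) (α₁⁻¹ ⟨t, ht⟩).2
    have h3 : (α₁⁻¹ ⟨t, ht⟩ : T) * z = z * (α₁⁻¹ ⟨t, ht⟩ : T) := Subtype.ext h2
    have h4 : α₁ (α₁⁻¹ ⟨t, ht⟩) * α₁ z = α₁ z * α₁ (α₁⁻¹ ⟨t, ht⟩) := by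
      rw [← map_mul, ← map_mul, h3]
    rw [MulAut.apply_inv_self] at h4
    exact congrArg Subtype.val h4

theorem ext_pow {Ω : Type*} [Group Ω] {S : Subgroup Ω} (F : Cfsg.FusionSystem S)
    (T : Subgroup Ω) {α : MulAut T} (h : Ext F T α) (n : ℕ) : Ext F T (α ^ n) := by
  induction n with
  | zero => rw [pow_zero]; exact ext_one F T
  | succ n ih => rw [pow_succ]; exact ext_mul F T ih h

theorem ext_inv {Ω : Type*} [Group Ω] {S : Subgroup Ω} (F : Cfsg.FusionSystem S)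
    (T : Subgroup Ω) [Finite T] {α : MulAut T} (h : Ext F T α) : Ext F T α⁻¹ := by
  have hpos := orderOf_pos α
  have h1 : α * α ^ (orderOf α - 1) = 1 := by
    rw [← pow_succ', Nat.sub_add_cancel hpos, pow_orderOf_eq_one]
  rw [inv_eq_of_mul_eq_one_right h1]
  exact ext_pow F T h _

theorem ext_conj {Ω : Type*} [Group Ω] {S : Subgroup Ω} (F : Cfsg.FusionSystem S)
    (T : Subgroup Ω) (hTS : T ≤ S) (g : Ω) (hg : g ∈ T)
    (hgN : g ∈ Subgroup.normalizer (T : Set Ω)) :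
    Ext F T (T.normalizerMonoidHom ⟨g, hgN⟩) := by
  have hle : T ⊔ centralizerIn S T ≤ S := sup_le hTS inf_le_left
  have hgN' : g ∈ Subgroup.normalizer ((T ⊔ centralizerIn S T : Subgroup Ω) : Set Ω) :=
    Subgroup.le_normalizer (Subgroup.mem_sup_left hg)
  refine ⟨(T ⊔ centralizerIn S T).normalizerMonoidHom ⟨g, hgN'⟩, ?_, fun x => rfl, ?_⟩
  · apply (fs_mem_autGroup_iff F hle _).mpr
    have h := F.conj_mem (P := T ⊔ centralizerIn S T) (g := g) hle (hTS hg)
    have e : (T ⊔ centralizerIn S T).subtype.comp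
        ((T ⊔ centralizerIn S T).normalizerMonoidHom ⟨g, hgN'⟩).toMonoidHom =
        Cfsg.conjHom (T ⊔ centralizerIn S T) g := MonoidHom.ext (fun x => rfl)
    rw [e]; exact h
  · intro c hc
    show (c : Ω)⁻¹ * (g * (c : Ω) * g⁻¹) ∈ _
    have h1 := Subgroup.mem_centralizer_iff.mp hc.2 g hg
    have e : (c : Ω)⁻¹ * (g * (c : Ω) * g⁻¹) = 1 := by rw [h1]; group
    rw [e]; exact Subgroup.one_mem _

theorem ext_coprime {Ω : Type*} [Group Ω] {S : Subgroup Ω} [Finite S] (p : ℕ) [Fact p.Prime]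
    (hS : IsPGroup p S) (F : Cfsg.FusionSystem S) (hF : F.IsSaturated p) (T : Subgroup Ω)
    (hTsc : F.StronglyClosed T) (hT : F.hyperfocalSubgroup p ≤ T)
    (γ : MulAut T) (hγ : γ ∈ F.autGroup T) (hord : (orderOf γ).Coprime p) : Ext F T γ := by
  have hTS := hTsc.1
  haveI : Finite T := fs_finite_of_le hTS
  have hle : T ⊔ centralizerIn S T ≤ S := sup_le hTS inf_le_left
  haveI : Finite ↥(T ⊔ centralizerIn S T) := fs_finite_of_le hle
  have hγF := (fs_mem_autGroup_iff F hTS γ).mp hγ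
  have hrec := fs_receptive_of_fullyCentralized p hS F hF T
    (fs_fullyCentralized_of_fullyNormalized p hS F hF T (fs_sc_fullyNormalized F T hTsc))
  have hrange : (T.subtype.comp γ.toMonoidHom).range = T := by
    ext y
    constructor
    · rintro ⟨x, rfl⟩; exact (γ x).2
    · intro hy
      refine ⟨γ⁻¹ ⟨y, hy⟩, ?_⟩
      show ((γ (γ⁻¹ ⟨y, hy⟩) : T) : Ω) = y
      rw [MulAut.apply_inv_self]
  obtain ⟨ψ, hψ, hψv⟩ := hrec.2 T _ hγF hrange
  have hle2 : T ⊔ centralizerIn S T ≤ extender S T (T.subtype.comp γ.toMonoidHom) :=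
    sup_le (fs_le_extender F hγF) (fs_centralizer_le_extender S T _)
  have hψ' := fs_restrict F hle2 hψ
  have hψT : ∀ x : T, (ψ.comp (Subgroup.inclusion hle2)) (Subgroup.inclusion le_sup_left x) =
      ((γ x : T) : Ω) := by
    intro x
    exact hψv x x.2 (hle2 (Subgroup.mem_sup_left x.2))
  have hψval : ∀ y : ↥(T ⊔ centralizerIn S T),
      (ψ.comp (Subgroup.inclusion hle2)) y ∈ T ⊔ centralizerIn S T := by
    have hle3 : T ⊔ centralizerIn S T ≤
        ((T ⊔ centralizerIn S T).comap (ψ.comp (Subgroup.inclusion hle2))).map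
          (T ⊔ centralizerIn S T).subtype := by
      apply sup_le
      · intro x hx
        refine ⟨⟨x, Subgroup.mem_sup_left hx⟩, ?_, rfl⟩
        apply Subgroup.mem_comap.mpr
        have h1 := hψT ⟨x, hx⟩
        have h2 : (ψ.comp (Subgroup.inclusion hle2)) ⟨x, Subgroup.mem_sup_left hx⟩ =
            ((γ ⟨x, hx⟩ : T) : Ω) := h1
        rw [h2]
        exact Subgroup.mem_sup_left (γ _).2
      · intro c hc
        refine ⟨⟨c, Subgroup.mem_sup_right hc⟩, ?_, rfl⟩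
        apply Subgroup.mem_comap.mpr
        apply Subgroup.mem_sup_right
        refine ⟨(F.le_of_mem hψ').2 _, ?_⟩
        apply Subgroup.mem_centralizer_iff.mpr
        intro t ht
        have h1 := hψT (γ⁻¹ ⟨t, ht⟩)
        rw [MulAut.apply_inv_self] at h1
        have h2 := Subgroup.mem_centralizer_iff.mp hc.2 ((γ⁻¹ ⟨t, ht⟩ : T) : Ω) (γ⁻¹ ⟨t, ht⟩).2
        have h3 : Subgroup.inclusion le_sup_left (γ⁻¹ ⟨t, ht⟩ : T) *
            (⟨c, Subgroup.mem_sup_right hc⟩ : ↥(T ⊔ centralizerIn S T)) =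
            ⟨c, Subgroup.mem_sup_right hc⟩ * Subgroup.inclusion le_sup_left (γ⁻¹ ⟨t, ht⟩ : T) :=
          Subtype.ext h2
        have h4 := congrArg (ψ.comp (Subgroup.inclusion hle2)) h3
        rw [map_mul, map_mul, h1] at h4
        exact h4
    intro y
    obtain ⟨y', hy', e⟩ := hle3 y.2
    have : y' = y := Subtype.ext e
    rw [← this]; exact hy'
  obtain ⟨β₀, hβ₀, hβ₀v⟩ := fs_aut_of_hom F hle hψ' hψval
  have hβ₀T : ∀ x : T, β₀ (Subgroup.inclusion le_sup_left x) =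
      Subgroup.inclusion le_sup_left (γ x) := by
    intro x
    apply Subtype.ext
    rw [hβ₀v]; exact hψT x
  obtain ⟨a, ha⟩ := Cfsg.Agent.Lib.Helper2.pow_mem_pResidual (p := p)
    (⟨β₀, hβ₀⟩ : ↥(F.autGroup (T ⊔ centralizerIn S T)))
  have hcop : (p ^ a).Coprime (orderOf γ) := Nat.Coprime.pow_left a hord.symm
  obtain ⟨m, hm⟩ := exists_pow_eq_self_of_coprime hcop
  have hpowT : ∀ n : ℕ, ∀ x : T, (β₀ ^ n) (Subgroup.inclusion le_sup_left x) =
      Subgroup.inclusion le_sup_left ((γ ^ n) x) := by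
    intro n
    induction n with
    | zero => intro x; rfl
    | succ n ih =>
      intro x
      rw [pow_succ, MulAut.mul_apply, hβ₀T, ih, pow_succ, MulAut.mul_apply]
  have hβmem : (⟨β₀, hβ₀⟩ : ↥(F.autGroup (T ⊔ centralizerIn S T))) ^ (p ^ a * m) ∈
      Cfsg.pResidual p ↥(F.autGroup (T ⊔ centralizerIn S T)) := by
    rw [pow_mul]; exact Subgroup.pow_mem _ ha m
  refine ⟨β₀ ^ (p ^ a * m), Subgroup.pow_mem _ hβ₀ _, ?_, ?_⟩
  · intro x
    rw [hpowT, pow_mul, hm]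
    rfl
  · intro c hc
    refine ⟨hT ?_, ?_⟩
    · apply Subgroup.subset_closure
      exact ⟨T ⊔ centralizerIn S T, ⟨β₀, hβ₀⟩ ^ (p ^ a * m), c, hle, hβmem, rfl⟩
    · apply Subgroup.mul_mem _ (Subgroup.inv_mem _ hc.2)
      apply Subgroup.mem_centralizer_iff.mpr
      intro t ht
      have h1 := hpowT (p ^ a * m) ((γ ^ (p ^ a * m))⁻¹ ⟨t, ht⟩)
      rw [MulAut.apply_inv_self] at h1
      have h2 := Subgroup.mem_centralizer_iff.mp hc.2
        (((γ ^ (p ^ a * m))⁻¹ ⟨t, ht⟩ : T) : Ω) (Subtype.property _)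
      have h3 : Subgroup.inclusion le_sup_left ((γ ^ (p ^ a * m))⁻¹ ⟨t, ht⟩ : T) * c =
          c * Subgroup.inclusion le_sup_left ((γ ^ (p ^ a * m))⁻¹ ⟨t, ht⟩ : T) :=
        Subtype.ext h2
      have h4 : (β₀ ^ (p ^ a * m)) (Subgroup.inclusion le_sup_left
          ((γ ^ (p ^ a * m))⁻¹ ⟨t, ht⟩ : T)) * (β₀ ^ (p ^ a * m)) c =
          (β₀ ^ (p ^ a * m)) c * (β₀ ^ (p ^ a * m)) (Subgroup.inclusion le_sup_left
          ((γ ^ (p ^ a * m))⁻¹ ⟨t, ht⟩ : T)) := by
        rw [← map_mul, ← map_mul, h3]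
      rw [h1] at h4
      exact congrArg Subtype.val h4

/-- Let F be a saturated fusion system over a finite p-group S and T a subgroup of S containing the hyperfocal subgroup of F and normal in S. Then every saturated subsystem of F over T of p-power index is a normal subsystem of F. -/
theorem result {Ω : Type*} [Group Ω] {S : Subgroup Ω} [Finite S] (p : ℕ) [Fact p.Prime] (hS : IsPGroup p S) (F : Cfsg.FusionSystem S) (hF : F.IsSaturated p) (T : Subgroup Ω) (hTS : T ≤ S) (hTn : (T.subgroupOf S).Normal) (hT : F.hyperfocalSubgroup p ≤ T) (E : Cfsg.FusionSystem T) (hEs : E.IsSaturated p) (hEi : E.HasPPowerIndexIn F p) : E.IsNormalIn F p := by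
  obtain ⟨hsub, -, hres⟩ := hEi
  haveI : Finite T := fs_finite_of_le hTS
  have hTp : IsPGroup p T := hS.to_le hTS
  have hTsc : F.StronglyClosed T := by
    refine ⟨hTS, fun R hR φ hφ x => ?_⟩
    obtain ⟨s, hs, h⟩ := Cfsg.Agent.S5124.mod_hyp p hS F hF R φ hφ
    have h1 : s * (x : Ω) * s⁻¹ ∈ T := by
      have := hTn.conj_mem ⟨x, hTS (hR x.2)⟩ (Subgroup.mem_subgroupOf.mpr (hR x.2)) ⟨s, hs⟩
      exact Subgroup.mem_subgroupOf.mp this
    have e : φ x = (s * (x : Ω) * s⁻¹) * ((s * (x : Ω) * s⁻¹)⁻¹ * φ x) := by group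
    rw [e]
    exact Subgroup.mul_mem _ h1 (hT (h x))
  have hcore : ∀ P : Subgroup Ω, E.Hom P ⊆ (invCore F E).Hom P :=
    Cfsg.Agent.S5139.ppower_le p hS F T T rfl hTS E (invCore F E) hEs hsub
      (fun P hPT => res_le_invCore p F hTS E hres P hPT)
  have hconj : ConjInv F E := conjInv_of_le_invCore F E hcore
  have hall := fs_alperin_rel p hS F hF T hTsc (fratProd F E hconj) (by
    intro P hPT hfn _ α hα
    have hPa := fs_fullyAutomized_of_fullyNormalized p hS F hF P hfn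
    obtain ⟨r, hr, g, hg, hgN, rfl⟩ := fs_aut_decomp p F P hPa α hα
    apply Subgroup.mul_mem
    · apply (fs_mem_autGroup_iff (fratProd F E hconj) hPT _).mpr
      apply le_fratProd
      exact (fs_mem_autGroup_iff E hPT _).mp (hres P hPT ⟨r, hr, rfl⟩)
    · apply (fs_mem_autGroup_iff (fratProd F E hconj) hPT _).mpr
      have hgT : g ∈ Subgroup.normalizer (T : Set Ω) := fs_stronglyClosed_normal F T hTsc hg
      have hαg : T.normalizerMonoidHom ⟨g, hgT⟩ ∈ F.autGroup T := by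
        apply (fs_mem_autGroup_iff F hTS _).mpr
        have h := F.conj_mem (P := T) (g := g) hTS hg
        have e : T.subtype.comp (T.normalizerMonoidHom ⟨g, hgT⟩).toMonoidHom =
            Cfsg.conjHom T g := MonoidHom.ext (fun x => rfl)
        rw [e]; exact h
      exact aut_mem_fratProd F E hconj _ hαg P hPT _ (fun x => rfl))
  refine ⟨⟨hEs, hF, hsub, hTsc, hconj, ?_⟩, ?_⟩
  · intro P hPT φ hφ
    obtain ⟨-, α, hα, φ₀, hφ₀, hv⟩ := hall P φ hPT hφ
    exact ⟨α, hα, φ₀, hφ₀, hv⟩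
  · intro α hα
    have hTa := fs_fullyAutomized_of_top_or_essential p hTp E hEs T (Or.inl rfl)
    obtain ⟨r, hr, g, hg, hgN, rfl⟩ := fs_aut_decomp p E T hTa α hα
    apply ext_mul
    · have key : ∀ r ∈ Cfsg.pResidual p ↥(E.autGroup T), Ext F T (r : MulAut T) := by
        intro r hr
        unfold Cfsg.pResidual at hr
        induction hr using Subgroup.closure_induction with
        | mem δ hδ =>
          have hδ' : (orderOf δ).Coprime p := hδ
          have hδF : (δ : MulAut T) ∈ F.autGroup T := by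
            apply (fs_mem_autGroup_iff F hTS _).mpr
            exact hsub T ((fs_mem_autGroup_iff E le_rfl _).mp δ.2)
          apply ext_coprime p hS F hF T hTsc hT _ hδF
          rw [Subgroup.orderOf_coe]; exact hδ'
        | one => exact ext_one F T
        | mul a b _ _ iha ihb => exact ext_mul F T iha ihb
        | inv a _ iha => exact ext_inv F T iha
      exact key r hr
    · exact ext_conj F T hTS g hg hgN

end Cfsg.Agent.S5120
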