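import Cfsg.Statements.S5343
import Mathlib
import Cfsg.Agent.Lib.Helper1.GrpNormal
import Cfsg.Agent.Lib.Helper1.FusReal
import Cfsg.Agent.Lib.Helper1.FusMorph
import Cfsg.Agent.Lib.Helper1.FusHyp
import Cfsg.Agent.Lib.Helper1.FusStab
import Cfsg.Agent.Lib.Helper3.ZJ
import Cfsg.Agent.Lib.Helper6.FixedPts

set_option autoImplicit false
universe u
open Cfsg

open Cfsg.Agent.Lib.Helper1 Cfsg.FusionSystem

namespace Cfsg.Agent.S5343

section
variable {Ω : Type*} [Group Ω] {S : Subgroup Ω} {G : Type*} [Group G]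

/-- pull a conjugation of `G` back to a map of the realized system -/
theorem conj_pull (F : Cfsg.FusionSystem S) (ι : S →* G) (hι : F.IsRealizedBy ι) (P : Subgroup Ω)
    (hP : P ≤ S) (g : G) (hg : ∀ x : P, g * ι ⟨x, hP x.2⟩ * g⁻¹ ∈ ι.range) :
    ∃ β : P →* Ω, β ∈ F.Hom P ∧
      ∀ (x : P) (hx : β x ∈ S), ι ⟨β x, hx⟩ = g * ι ⟨x, hP x.2⟩ * g⁻¹ := by
  let c : P →* ι.range :=
    ((MulAut.conj g).toMonoidHom.comp (ι.comp (Subgroup.inclusion hP))).codRestrict ι.range hg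
  let β : P →* Ω := S.subtype.comp ((MonoidHom.ofInjective hι.1).symm.toMonoidHom.comp c)
  have hβS : ∀ x : P, β x ∈ S := fun x => ((MonoidHom.ofInjective hι.1).symm (c x)).2
  have hβι : ∀ (x : P) (hx : β x ∈ S), ι ⟨β x, hx⟩ = g * ι ⟨x, hP x.2⟩ * g⁻¹ := by
    intro x hx
    have h1 : (⟨β x, hx⟩ : S) = (MonoidHom.ofInjective hι.1).symm (c x) := rfl
    rw [h1]
    have h2 : ((MonoidHom.ofInjective hι.1) ((MonoidHom.ofInjective hι.1).symm (c x)) : G) =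
        (c x : G) := by
      rw [MulEquiv.apply_symm_apply]
    exact h2
  refine ⟨β, ?_, hβι⟩
  rw [hι.2 P hP β hβS]
  exact ⟨g, fun x => hβι x _⟩

/-- the preimage of `N` in `S` -/
def preN (ι : S →* G) (N : Subgroup G) : Subgroup Ω := (N.comap ι).map S.subtype

theorem preN_le (ι : S →* G) (N : Subgroup G) : preN ι N ≤ S := by
  rintro _ ⟨s, -, rfl⟩; exact s.2

theorem mem_preN (ι : S →* G) (N : Subgroup G) (s : S) : (s : Ω) ∈ preN ι N ↔ ι s ∈ N := by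
  constructor
  · rintro ⟨s', hs', he⟩
    have : s' = s := Subtype.ext he
    rw [← this]; exact hs'
  · intro h; exact ⟨s, h, rfl⟩

/-- the subsystem of the realized system `F` induced by the normal subgroup `N` -/
def subN (F : Cfsg.FusionSystem S) (ι : S →* G) (N : Subgroup G) [hN : N.Normal] :
    Cfsg.FusionSystem (preN ι N) where
  Hom P := {φ | φ ∈ F.Hom P ∧ P ≤ preN ι N ∧ (∀ x : P, φ x ∈ preN ι N) ∧
    ∃ n ∈ N, ∀ (x : P) (hx : (x : Ω) ∈ S) (hy : φ x ∈ S), ι ⟨φ x, hy⟩ = n * ι ⟨x, hx⟩ * n⁻¹}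
  le_of_mem h := ⟨h.2.1, h.2.2.1⟩
  injective_of_mem h := F.injective_of_mem h.1
  conj_mem := by
    intro P g hP hg
    have hTS := preN_le ι N
    obtain ⟨s, hs, rfl⟩ := hg
    refine ⟨F.conj_mem (hP.trans hTS) s.2, hP, fun x => ?_, ι s, hs, fun x hx hy => ?_⟩
    · obtain ⟨t, ht, htx⟩ := hP x.2
      have htx' : (t : Ω) = (x : Ω) := htx
      refine ⟨s * t * s⁻¹, ?_, ?_⟩
      · show ι (s * t * s⁻¹) ∈ N
        rw [map_mul, map_mul, map_inv]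
        exact hN.conj_mem _ ht _
      · show (s : Ω) * (t : Ω) * (s : Ω)⁻¹ = (s : Ω) * (x : Ω) * (s : Ω)⁻¹
        rw [htx']
    · rw [← map_inv, ← map_mul, ← map_mul]
      rfl
  comp_mem := by
    rintro P Q φ ψ ⟨hφ, hP, hφT, n, hn, hφn⟩ ⟨hψ, hQ, hψT, m, hm, hψm⟩ h
    have hTS := preN_le ι N
    refine ⟨F.comp_mem hφ hψ h, hP, fun x => hψT _, m * n, N.mul_mem hm hn, fun x hx hy => ?_⟩
    have h1 := hφn x hx (hTS (hφT x))
    have h2 := hψm ⟨φ x, h x⟩ (hTS (hφT x)) hy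
    have e0 : ι ⟨(ψ.comp (φ.codRestrict Q h)) x, hy⟩ = m * ι ⟨φ x, hTS (hφT x)⟩ * m⁻¹ := h2
    rw [e0, h1]; group
  inv_mem := by
    rintro P φ ⟨hφ, hP, hφT, n, hn, hφn⟩
    have hTS := preN_le ι N
    obtain ⟨ψ, hψ, hψφ⟩ := F.inv_mem hφ
    refine ⟨ψ, ⟨hψ, ?_, ?_, n⁻¹, N.inv_mem hn, ?_⟩, hψφ⟩
    · rintro _ ⟨x, rfl⟩; exact hφT x
    · rintro ⟨_, x, rfl⟩
      rw [hψφ x]; exact hP x.2
    · rintro ⟨_, x, rfl⟩ hx hy
      have h1 := hφn x (hTS (hP x.2)) hx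
      have e : (⟨ψ ⟨φ x, ⟨x, rfl⟩⟩, hy⟩ : S) = ⟨x, hTS (hP x.2)⟩ := Subtype.ext (hψφ x)
      rw [e, h1]; group

theorem subN_normal [Finite S] [Finite G] (p : ℕ) [Fact p.Prime] (F : Cfsg.FusionSystem S)
    (hF : F.IsSaturated p) (ι : S →* G) (hι : F.IsRealizedBy ι) (T : Sylow p G)
    (hT : (T : Subgroup G) = ι.range) (N : Subgroup G) [hN : N.Normal] :
    (subN F ι N).IsNormalIn F p := by
  classical
  have hTS := preN_le ι N
  have hFreal := hι.2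
  have hinj := hι.1
  obtain ⟨T₀, hT₀def⟩ : ∃ T₀ : Subgroup G, T₀ = (T : Subgroup G) ⊓ N := ⟨_, rfl⟩
  have hT₀N : T₀ ≤ N := hT₀def ▸ inf_le_right
  have hT₀T : T₀ ≤ (T : Subgroup G) := hT₀def ▸ inf_le_left
  have hιT : ∀ s : S, ι s ∈ (T : Subgroup G) := fun s => by rw [hT]; exact ⟨s, rfl⟩
  have hιT₀ : ∀ (s : S), (s : Ω) ∈ preN ι N → ι s ∈ T₀ := fun s hs => by
    rw [hT₀def]; exact ⟨hιT s, (mem_preN ι N s).mp hs⟩
  have hT₀ι : ∀ y ∈ T₀, ∃ s : S, (s : Ω) ∈ preN ι N ∧ ι s = y := by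
    intro y hy
    rw [hT₀def] at hy
    have h1 : y ∈ ι.range := by rw [← hT]; exact hy.1
    obtain ⟨s, rfl⟩ := h1
    exact ⟨s, (mem_preN ι N s).mpr hy.2, rfl⟩
  have hEsat : (subN F ι N).IsSaturated p := by
    obtain ⟨R, hR⟩ := Cfsg.Agent.Lib.Helper3.exists_sylow_subgroupOf_normal T N
    let ιE : ↥(preN ι N) →* ↥N := (ι.comp (Subgroup.inclusion hTS)).codRestrict N
      (fun x => (mem_preN ι N ⟨x, hTS x.2⟩).mp x.2)
    refine realized_saturated p _ ιE ⟨?_, ?_⟩ R ?_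
    · intro x y hxy
      have h1 : ι ⟨x, hTS x.2⟩ = ι ⟨y, hTS y.2⟩ := congrArg Subtype.val hxy
      have h2 := hinj h1
      exact Subtype.ext (congrArg (fun z : S => (z : Ω)) h2)
    · intro P hP φ hφ
      constructor
      · rintro ⟨-, -, -, n, hn, hφn⟩
        refine ⟨⟨n, hn⟩, fun x => ?_⟩
        apply Subtype.ext
        exact hφn x (hTS (hP x.2)) (hTS (hφ x))
      · rintro ⟨n, hn⟩
        have hnx : ∀ (x : P) (hx : (x : Ω) ∈ S) (hy : φ x ∈ S),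
            ι ⟨φ x, hy⟩ = (n : G) * ι ⟨x, hx⟩ * (n : G)⁻¹ := by
          intro x hx hy
          exact congrArg Subtype.val (hn x)
        refine ⟨?_, hP, hφ, n, n.2, hnx⟩
        rw [hFreal P (hP.trans hTS) φ (fun x => hTS (hφ x))]
        exact ⟨n, fun x => hnx x _ _⟩
    · rw [hR]
      ext y
      rw [Subgroup.mem_subgroupOf]
      constructor
      · intro hy
        rw [hT] at hy
        obtain ⟨s, hs⟩ := hy
        have hsN : ι s ∈ N := by rw [hs]; exact y.2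
        exact ⟨⟨s, (mem_preN ι N s).mpr hsN⟩, Subtype.ext hs⟩
      · rintro ⟨x, rfl⟩
        exact hιT ⟨x, hTS x.2⟩
  have hsc : F.StronglyClosed (preN ι N) := by
    refine ⟨hTS, ?_⟩
    intro R hR φ hφ x
    have hRS := (F.le_of_mem hφ).1
    have hφS := (F.le_of_mem hφ).2
    obtain ⟨g, hg⟩ := (hFreal R hRS φ hφS).mp hφ
    apply (mem_preN ι N ⟨φ x, hφS x⟩).mpr
    rw [hg x]
    exact hN.conj_mem _ ((mem_preN ι N ⟨x, hRS x.2⟩).mp (hR x.2)) g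
  refine ⟨⟨hEsat, hF, fun P φ hφ => hφ.1, hsc, ?_, ?_⟩, ?_⟩
  · -- invariance
    intro P hPT φ hφ α hα
    obtain ⟨hφF, -, hφT, n, hn, hφn⟩ := hφ
    have hαF := (fs_mem_autGroup_iff F hTS α).mp hα
    obtain ⟨g, hg⟩ := (hFreal _ hTS _ (fun x => hTS (α x).2)).mp hαF
    have hg' : ∀ x : ↥(preN ι N), ι ⟨(α x : ↥(preN ι N)), hTS (α x).2⟩ =
        g * ι ⟨x, hTS x.2⟩ * g⁻¹ := hg
    have hαP : (P.subgroupOf (preN ι N)).map ((preN ι N).subtype.comp α.toMonoidHom) ≤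
        preN ι N := by
      rintro _ ⟨t, -, rfl⟩; exact (α t).2
    have hmem : ∀ y : ↥((P.subgroupOf (preN ι N)).map ((preN ι N).subtype.comp α.toMonoidHom)),
        ((preN ι N).subtype.comp ((α⁻¹ : MulAut ↥(preN ι N)).toMonoidHom.comp
          (Subgroup.inclusion hαP))) y ∈ P := by
      rintro ⟨_, t, ht, rfl⟩
      have e : (Subgroup.inclusion hαP) ⟨((preN ι N).subtype.comp α.toMonoidHom) t,
          ⟨t, ht, rfl⟩⟩ = α t := rfl
      show (((α⁻¹ : MulAut ↥(preN ι N)) ((Subgroup.inclusion hαP)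
        ⟨((preN ι N).subtype.comp α.toMonoidHom) t, ⟨t, ht, rfl⟩⟩) : ↥(preN ι N)) : Ω) ∈ P
      rw [e, MulAut.inv_apply_self]
      exact Subgroup.mem_subgroupOf.mp ht
    let r : ↥((P.subgroupOf (preN ι N)).map ((preN ι N).subtype.comp α.toMonoidHom)) →* ↥P :=
      ((preN ι N).subtype.comp ((α⁻¹ : MulAut ↥(preN ι N)).toMonoidHom.comp
        (Subgroup.inclusion hαP))).codRestrict P hmem
    let χ : ↥((P.subgroupOf (preN ι N)).map ((preN ι N).subtype.comp α.toMonoidHom)) →* Ω :=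
      ((preN ι N).subtype.comp α.toMonoidHom).comp
        ((φ.comp r).codRestrict (preN ι N) (fun y => hφT _))
    have hχ : ∀ y, χ y = ((α ⟨φ (r y), hφT _⟩ : ↥(preN ι N)) : Ω) := fun y => rfl
    have hr : ∀ y, ((r y : P) : Ω) = ((α⁻¹ ⟨y, hαP y.2⟩ : ↥(preN ι N)) : Ω) := fun y => rfl
    have hχT : ∀ y, χ y ∈ preN ι N := fun y => (α _).2
    have hχn : ∀ (y : ↥((P.subgroupOf (preN ι N)).map ((preN ι N).subtype.comp α.toMonoidHom)))
        (hx : (y : Ω) ∈ S) (hy : χ y ∈ S),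
        ι ⟨χ y, hy⟩ = (g * n * g⁻¹) * ι ⟨y, hx⟩ * (g * n * g⁻¹)⁻¹ := by
      intro y hx hy
      have h1 := hg' ⟨φ (r y), hφT _⟩
      have h2 := hφn (r y) (hTS (hPT (r y).2)) (hTS (hφT _))
      have h3 := hg' (α⁻¹ ⟨y, hαP y.2⟩)
      have e3 : (⟨((α (α⁻¹ ⟨y, hαP y.2⟩) : ↥(preN ι N)) : Ω), hTS (α _).2⟩ : S) = ⟨y, hx⟩ := by
        apply Subtype.ext
        show ((α (α⁻¹ ⟨y, hαP y.2⟩) : ↥(preN ι N)) : Ω) = y
        rw [MulAut.apply_inv_self]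
      rw [e3] at h3
      have e5 : ι ⟨χ y, hy⟩ = g * ι ⟨φ (r y), hTS (hφT _)⟩ * g⁻¹ := h1
      have h2' : ι ⟨φ (r y), hTS (hφT _)⟩ =
          n * ι ⟨((α⁻¹ ⟨y, hαP y.2⟩ : ↥(preN ι N)) : Ω), hTS (α⁻¹ _).2⟩ * n⁻¹ := h2
      have h4 : ι ⟨((α⁻¹ ⟨y, hαP y.2⟩ : ↥(preN ι N)) : Ω), hTS (α⁻¹ _).2⟩ =
          g⁻¹ * ι ⟨y, hx⟩ * g := by
        rw [h3]; group
      rw [e5, h2', h4]; group
    refine ⟨χ, ⟨?_, hαP, hχT, g * n * g⁻¹, hN.conj_mem n hn g, hχn⟩, ?_⟩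
    · rw [hFreal _ (hαP.trans hTS) χ (fun y => hTS (hχT y))]
      exact ⟨g * n * g⁻¹, fun y => hχn y _ _⟩
    · intro x hφx hαx
      rw [hχ]
      have e : r ⟨((α ⟨x, hPT x.2⟩ : ↥(preN ι N)) : Ω), hαx⟩ = x := by
        apply Subtype.ext
        rw [hr]
        have e' : (⟨((α ⟨x, hPT x.2⟩ : ↥(preN ι N)) : Ω), hαP hαx⟩ : ↥(preN ι N)) =
            α ⟨x, hPT x.2⟩ := rfl
        rw [e', MulAut.inv_apply_self]
      have gen : ∀ (z : P) (hz : φ z ∈ preN ι N), z = x →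
          ((α ⟨φ z, hz⟩ : ↥(preN ι N)) : Ω) = ((α ⟨φ x, hφx⟩ : ↥(preN ι N)) : Ω) := by
        rintro z hz rfl; rfl
      exact gen _ _ e
  · -- Frattini
    intro P hPT φ hφ
    have hPS := hPT.trans hTS
    have hφS := (F.le_of_mem hφ).2
    obtain ⟨g, hg⟩ := (hFreal P hPS φ hφS).mp hφ
    obtain ⟨R, hR⟩ := Cfsg.Agent.Lib.Helper3.exists_sylow_subgroupOf_normal T N
    have hfr := Sylow.normalizer_sup_eq_top R
    have hRT : (R : Subgroup N).map N.subtype = T₀ := by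
      rw [hR, Subgroup.subgroupOf_map_subtype, hT₀def]
    rw [hRT] at hfr
    have hgtop : g ∈ Subgroup.normalizer (T₀ : Set G) ⊔ N := by
      rw [hfr]; exact Subgroup.mem_top g
    have hle : Subgroup.normalizer (T₀ : Set G) ≤ Subgroup.normalizer (N : Set G) := by
      rw [Subgroup.normalizer_eq_top_iff.mpr hN]; exact le_top
    obtain ⟨h, hh, n, hn, rfl⟩ := mem_sup_of_le_normalizer hle hgtop
    have hhT₀ : ∀ y ∈ T₀, h * y * h⁻¹ ∈ T₀ := fun y hy =>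
      (Subgroup.mem_normalizer_iff.mp hh y).mp hy
    obtain ⟨β, hβF, hβι⟩ := conj_pull F ι hι (preN ι N) hTS h (fun x => by
      have h1 := hT₀T (hhT₀ _ (hιT₀ ⟨x, hTS x.2⟩ x.2))
      rw [hT] at h1; exact h1)
    have hβS := (F.le_of_mem hβF).2
    have hβT : ∀ x, β x ∈ preN ι N := by
      intro x
      apply (mem_preN ι N ⟨β x, hβS x⟩).mpr
      rw [hβι x (hβS x)]
      exact hT₀N (hhT₀ _ (hιT₀ ⟨x, hTS x.2⟩ x.2))
    obtain ⟨α, hα, hαβ⟩ := fs_aut_of_hom F hTS hβF hβT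
    have hnP : ∀ x : P, n * ι ⟨x, hPS x.2⟩ * n⁻¹ ∈ T₀ := by
      intro x
      have h1 := hg x
      have h2 : ι ⟨φ x, hφS x⟩ ∈ T₀ := hιT₀ ⟨φ x, hφS x⟩ (hsc.2 P hPT φ hφ x)
      have h3 := (Subgroup.mem_normalizer_iff.mp (Subgroup.inv_mem _ hh) _).mp h2
      have e : h⁻¹ * ι ⟨φ x, hφS x⟩ * h⁻¹⁻¹ = n * ι ⟨x, hPS x.2⟩ * n⁻¹ := by
        rw [h1]; group
      rw [← e]; exact h3
    obtain ⟨φ₀, hφ₀F, hφ₀ι⟩ := conj_pull F ι hι P hPS n (fun x => by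
      have h1 := hT₀T (hnP x)
      rw [hT] at h1; exact h1)
    have hφ₀S := (F.le_of_mem hφ₀F).2
    have hφ₀T : ∀ x, φ₀ x ∈ preN ι N := by
      intro x
      apply (mem_preN ι N ⟨φ₀ x, hφ₀S x⟩).mpr
      rw [hφ₀ι x (hφ₀S x)]
      exact hT₀N (hnP x)
    refine ⟨α, hα, φ₀, ⟨hφ₀F, hPT, hφ₀T, n, hn, fun x hx hy => hφ₀ι x hy⟩, ?_⟩
    intro x hx
    have h1 : ι ⟨φ x, hφS x⟩ = ι ⟨((α ⟨φ₀ x, hx⟩ : ↥(preN ι N)) : Ω), hTS (α _).2⟩ := by
      rw [hg x]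
      have e1 : (⟨((α ⟨φ₀ x, hx⟩ : ↥(preN ι N)) : Ω), hTS (α _).2⟩ : S) =
          ⟨β ⟨φ₀ x, hx⟩, hβS _⟩ := Subtype.ext (hαβ _)
      rw [e1, hβι _ (hβS _)]
      have e2 : ι ⟨((⟨φ₀ x, hx⟩ : ↥(preN ι N)) : Ω), hTS hx⟩ = n * ι ⟨x, hPS x.2⟩ * n⁻¹ :=
        hφ₀ι x _
      rw [e2]; group
    exact congrArg Subtype.val (hinj h1)
  · -- extension condition
    intro α hα
    have hαE := (fs_mem_autGroup_iff (subN F ι N) le_rfl α).mp hα
    obtain ⟨-, -, -, n, hn, hαn⟩ := hαE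
    have hαn' : ∀ x : ↥(preN ι N), ι ⟨(α x : ↥(preN ι N)), hTS (α x).2⟩ =
        n * ι ⟨x, hTS x.2⟩ * n⁻¹ := fun x => hαn x _ _
    have hnT₀ : ∀ y ∈ T₀, n * y * n⁻¹ ∈ T₀ := by
      intro y hy
      obtain ⟨s, hs, rfl⟩ := hT₀ι y hy
      have h1 := hαn' ⟨s, hs⟩
      have h2 : ι ⟨((α ⟨s, hs⟩ : ↥(preN ι N)) : Ω), hTS (α _).2⟩ ∈ T₀ := hιT₀ _ (α _).2
      rw [h1] at h2
      exact h2
    have hnN : n ∈ Subgroup.normalizer (T₀ : Set G) :=
      Cfsg.Agent.Lib.Helper6.sy_mem_normalizer_of_conj_le T₀ n hnT₀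
    have hnorm := grp_normal_sub p T N T₀ hT₀def hT₀N
    have hα₀ : T₀.normalizerMonoidHom ⟨n, hnN⟩ ∈
        (fusionSystemOfSubgroup N T₀ hT₀N).autGroup T₀ := by
      apply (fs_mem_autGroup_iff _ le_rfl _).mpr
      exact ⟨le_rfl, fun x => (T₀.normalizerMonoidHom ⟨n, hnN⟩ x).2, n, hn, fun x => rfl⟩
    obtain ⟨β₀, hβ₀, hβ₀1, hβ₀2⟩ := hnorm.2 _ hα₀
    have hLT : T₀ ⊔ centralizerIn (T : Subgroup G) T₀ ≤ (T : Subgroup G) :=
      sup_le hT₀T inf_le_left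
    obtain ⟨-, -, g₀, hg₀⟩ :=
      (fs_mem_autGroup_iff (groupFusionSystem (T : Subgroup G)) hLT β₀).mp hβ₀
    have hg₀' : ∀ x : ↥(T₀ ⊔ centralizerIn (T : Subgroup G) T₀),
        ((β₀ x : ↥(T₀ ⊔ centralizerIn (T : Subgroup G) T₀)) : G) = g₀ * x * g₀⁻¹ := hg₀
    have hLS : preN ι N ⊔ centralizerIn S (preN ι N) ≤ S := sup_le hTS inf_le_left
    have hCι : ∀ (s : S), (s : Ω) ∈ centralizerIn S (preN ι N) →
        ι s ∈ centralizerIn (T : Subgroup G) T₀ := by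
      intro s hs
      refine Subgroup.mem_inf.mpr ⟨hιT s, ?_⟩
      rw [Subgroup.mem_centralizer_iff]
      intro y hy
      obtain ⟨t, ht, rfl⟩ := hT₀ι y hy
      have h1 := Subgroup.mem_centralizer_iff.mp hs.2 (t : Ω) ht
      have h2 : t * s = s * t := Subtype.ext h1
      rw [← map_mul, ← map_mul, h2]
    have hιC : ∀ (s : S), ι s ∈ centralizerIn (T : Subgroup G) T₀ →
        (s : Ω) ∈ centralizerIn S (preN ι N) := by
      intro s hs
      refine Subgroup.mem_inf.mpr ⟨s.2, ?_⟩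
      rw [Subgroup.mem_centralizer_iff]
      intro t ht
      have h1 := Subgroup.mem_centralizer_iff.mp hs.2 (ι ⟨t, hTS ht⟩) (hιT₀ ⟨t, hTS ht⟩ ht)
      rw [← map_mul, ← map_mul] at h1
      exact congrArg Subtype.val (hinj h1)
    have hLι : ∀ (s : S), (s : Ω) ∈ preN ι N ⊔ centralizerIn S (preN ι N) →
        ι s ∈ T₀ ⊔ centralizerIn (T : Subgroup G) T₀ := by
      intro s hs
      have hle : (preN ι N ⊔ centralizerIn S (preN ι N)).subgroupOf S ≤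
          (T₀ ⊔ centralizerIn (T : Subgroup G) T₀).comap ι := by
        rw [Subgroup.subgroupOf_sup (A := preN ι N) (A' := centralizerIn S (preN ι N)) hTS (inf_le_left : S ⊓ Subgroup.centralizer ((preN ι N : Subgroup Ω) : Set Ω) ≤ S)]
        apply sup_le
        · intro t ht
          exact Subgroup.mem_sup_left (hιT₀ t (Subgroup.mem_subgroupOf.mp ht))
        · intro c hc
          exact Subgroup.mem_sup_right (hCι c (Subgroup.mem_subgroupOf.mp hc))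
      exact hle (Subgroup.mem_subgroupOf.mpr hs)
    have hιL : ∀ (s : S), ι s ∈ T₀ ⊔ centralizerIn (T : Subgroup G) T₀ →
        (s : Ω) ∈ preN ι N ⊔ centralizerIn S (preN ι N) := by
      intro s hs
      have hle : T₀ ⊔ centralizerIn (T : Subgroup G) T₀ ≤
          ((preN ι N ⊔ centralizerIn S (preN ι N)).subgroupOf S).map ι := by
        apply sup_le
        · intro y hy
          obtain ⟨t, ht, rfl⟩ := hT₀ι y hy
          exact ⟨t, Subgroup.mem_subgroupOf.mpr (Subgroup.mem_sup_left ht), rfl⟩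
        · intro y hy
          have h1 : y ∈ ι.range := by rw [← hT]; exact hy.1
          obtain ⟨c, rfl⟩ := h1
          exact ⟨c, Subgroup.mem_subgroupOf.mpr (Subgroup.mem_sup_right (hιC c hy)), rfl⟩
      obtain ⟨s', hs', he⟩ := hle hs
      have e : s' = s := hinj he
      rw [← e]; exact Subgroup.mem_subgroupOf.mp hs'
    have hg₀L : ∀ (x : ↥(preN ι N ⊔ centralizerIn S (preN ι N))),
        g₀ * ι ⟨x, hLS x.2⟩ * g₀⁻¹ ∈ T₀ ⊔ centralizerIn (T : Subgroup G) T₀ := by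
      intro x
      have h1 := hLι ⟨x, hLS x.2⟩ x.2
      have h2 := hg₀' ⟨_, h1⟩
      have h3 : g₀ * ι ⟨x, hLS x.2⟩ * g₀⁻¹ =
          ((β₀ ⟨_, h1⟩ : ↥(T₀ ⊔ centralizerIn (T : Subgroup G) T₀)) : G) := h2.symm
      rw [h3]
      exact (β₀ _).2
    obtain ⟨β₁, hβ₁F, hβ₁ι⟩ := conj_pull F ι hι _ hLS g₀ (fun x => by
      have h1 := hLT (hg₀L x)
      rw [hT] at h1; exact h1)
    have hβ₁S := (F.le_of_mem hβ₁F).2
    have hβ₁L : ∀ x, β₁ x ∈ preN ι N ⊔ centralizerIn S (preN ι N) := by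
      intro x
      apply hιL ⟨β₁ x, hβ₁S x⟩
      rw [hβ₁ι x (hβ₁S x)]
      exact hg₀L x
    obtain ⟨β, hβ, hββ₁⟩ := fs_aut_of_hom F hLS hβ₁F hβ₁L
    refine ⟨β, hβ, ?_, ?_⟩
    · intro x
      rw [hββ₁]
      have h1 : ι ⟨β₁ (Subgroup.inclusion le_sup_left x), hβ₁S _⟩ =
          ι ⟨((α x : ↥(preN ι N)) : Ω), hTS (α x).2⟩ := by
        rw [hβ₁ι _ (hβ₁S _), hαn' x]
        have h2 := hβ₀1 ⟨ι ⟨x, hTS x.2⟩, hιT₀ ⟨x, hTS x.2⟩ x.2⟩
        have h3 := hg₀' (Subgroup.inclusion le_sup_left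
          ⟨ι ⟨x, hTS x.2⟩, hιT₀ ⟨x, hTS x.2⟩ x.2⟩)
        rw [h2] at h3
        exact h3.symm
      exact congrArg Subtype.val (hinj h1)
    · intro c hc
      have hcS : (c : Ω) ∈ S := hLS c.2
      have hιc : ι ⟨c, hcS⟩ ∈ centralizerIn (T : Subgroup G) T₀ := hCι ⟨c, hcS⟩ hc
      have h1 : (ι ⟨c, hcS⟩)⁻¹ * (g₀ * ι ⟨c, hcS⟩ * g₀⁻¹) ∈
          T₀ ⊓ Subgroup.centralizer (T₀ : Set G) := by
        have h0 := hβ₀2 ⟨ι ⟨c, hcS⟩, Subgroup.mem_sup_right hιc⟩ hιc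
        rw [hg₀'] at h0
        exact h0
      have hyS : (c : Ω)⁻¹ * ((β c : ↥(preN ι N ⊔ centralizerIn S (preN ι N))) : Ω) ∈ S :=
        S.mul_mem (S.inv_mem hcS) (hLS (β c).2)
      have hιy : ι ⟨(c : Ω)⁻¹ * ((β c : ↥(preN ι N ⊔ centralizerIn S (preN ι N))) : Ω), hyS⟩ =
          (ι ⟨c, hcS⟩)⁻¹ * (g₀ * ι ⟨c, hcS⟩ * g₀⁻¹) := by
        have e : (⟨(c : Ω)⁻¹ * ((β c : ↥(preN ι N ⊔ centralizerIn S (preN ι N))) : Ω), hyS⟩ : S) =
            (⟨c, hcS⟩ : S)⁻¹ * ⟨β₁ c, hβ₁S c⟩ := by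
          apply Subtype.ext
          exact congrArg (fun t => (c : Ω)⁻¹ * t) (hββ₁ c)
        rw [e, map_mul, map_inv, hβ₁ι c (hβ₁S c)]
      refine Subgroup.mem_inf.mpr ⟨?_, ?_⟩
      · apply (mem_preN ι N ⟨_, hyS⟩).mpr
        rw [hιy]
        exact hT₀N h1.1
      · rw [Subgroup.mem_centralizer_iff]
        intro t ht
        have h2 := Subgroup.mem_centralizer_iff.mp h1.2 (ι ⟨t, hTS ht⟩) (hιT₀ ⟨t, hTS ht⟩ ht)
        rw [← hιy, ← map_mul, ← map_mul] at h2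
        exact congrArg Subtype.val (hinj h2)

theorem quot_realized [Finite G] (p : ℕ) [Fact p.Prime] (F : Cfsg.FusionSystem S) (ι : S →* G)
    (hι : F.IsRealizedBy ι) (T : Sylow p G) (hT : (T : Subgroup G) = ι.range) (N : Subgroup G)
    [hN : N.Normal] (hNT : N ⊓ ι.range = ⊥) :
    F.IsRealizedBy ((QuotientGroup.mk' N).comp ι) ∧
      ∃ T' : Sylow p (G ⧸ N), (T' : Subgroup (G ⧸ N)) = ((QuotientGroup.mk' N).comp ι).range := by
  refine ⟨⟨?_, ?_⟩, ?_⟩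
  · intro x y hxy
    have h1 : ((ι x : G) : G ⧸ N) = ((ι y : G) : G ⧸ N) := hxy
    have h2 : (ι x)⁻¹ * ι y ∈ N := QuotientGroup.eq.mp h1
    have h3 : (ι x)⁻¹ * ι y ∈ N ⊓ ι.range := ⟨h2, ⟨x⁻¹ * y, by rw [map_mul, map_inv]⟩⟩
    rw [hNT, Subgroup.mem_bot, inv_mul_eq_one] at h3
    exact hι.1 h3
  · intro P hP φ hφ
    rw [hι.2 P hP φ hφ]
    constructor
    · rintro ⟨g, hg⟩
      refine ⟨QuotientGroup.mk' N g, fun x => ?_⟩
      show QuotientGroup.mk' N (ι ⟨φ x, hφ x⟩) = _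
      rw [hg x, map_mul, map_mul, map_inv]; rfl
    · rintro ⟨g', hg'⟩
      obtain ⟨g, rfl⟩ := QuotientGroup.mk'_surjective N g'
      have hcong : ∀ x : P, (ι ⟨φ x, hφ x⟩)⁻¹ * (g * ι ⟨x, hP x.2⟩ * g⁻¹) ∈ N := by
        intro x
        apply QuotientGroup.eq.mp
        have h0 := hg' x
        show QuotientGroup.mk' N (ι ⟨φ x, hφ x⟩) = QuotientGroup.mk' N (g * ι ⟨x, hP x.2⟩ * g⁻¹)
        rw [map_mul, map_mul, map_inv]; exact h0
      have hVp : IsPGroup p ↥(((P.subgroupOf S).map ι).map (MulAut.conj g).toMonoidHom) := by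
        apply IsPGroup.map
        apply T.isPGroup'.to_le
        rintro _ ⟨s, -, rfl⟩
        rw [hT]; exact ⟨s, rfl⟩
      have hVle : ((P.subgroupOf S).map ι).map (MulAut.conj g).toMonoidHom ≤
          (T : Subgroup G) ⊔ N := by
        rintro _ ⟨_, ⟨s, hs, rfl⟩, rfl⟩
        have hsP : (s : Ω) ∈ P := Subgroup.mem_subgroupOf.mp hs
        have h1 := hcong ⟨s, hsP⟩
        have e : (MulAut.conj g).toMonoidHom (ι s) = ι ⟨φ ⟨s, hsP⟩, hφ _⟩ *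
            ((ι ⟨φ ⟨s, hsP⟩, hφ _⟩)⁻¹ * (g * ι s * g⁻¹)) := by
          show g * ι s * g⁻¹ = _
          group
        rw [e]
        exact Subgroup.mul_mem _ (Subgroup.mem_sup_left (by rw [hT]; exact ⟨_, rfl⟩))
          (Subgroup.mem_sup_right h1)
      obtain ⟨k, hk, hkV⟩ := sylow_conj_mod_normal T N _ hVp hVle
      refine ⟨k * g, fun x => ?_⟩
      have h1 : k * (g * ι ⟨x, hP x.2⟩ * g⁻¹) * k⁻¹ ∈ (T : Subgroup G) :=
        hkV _ ⟨_, ⟨⟨x, hP x.2⟩, Subgroup.mem_subgroupOf.mpr x.2, rfl⟩, rfl⟩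
      rw [hT] at h1
      have h2 : (ι ⟨φ x, hφ x⟩)⁻¹ * (k * (g * ι ⟨x, hP x.2⟩ * g⁻¹) * k⁻¹) ∈ N ⊓ ι.range := by
        refine ⟨?_, Subgroup.mul_mem _ (Subgroup.inv_mem _ ⟨_, rfl⟩) h1⟩
        have e : (ι ⟨φ x, hφ x⟩)⁻¹ * (k * (g * ι ⟨x, hP x.2⟩ * g⁻¹) * k⁻¹) =
            ((ι ⟨φ x, hφ x⟩)⁻¹ * (g * ι ⟨x, hP x.2⟩ * g⁻¹)) *
              ((g * ι ⟨x, hP x.2⟩ * g⁻¹)⁻¹ * k * (g * ι ⟨x, hP x.2⟩ * g⁻¹)⁻¹⁻¹ * k⁻¹) := by
          group
        rw [e]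
        exact Subgroup.mul_mem _ (hcong x)
          (Subgroup.mul_mem _ (hN.conj_mem k hk _) (Subgroup.inv_mem _ hk))
      rw [hNT, Subgroup.mem_bot, inv_mul_eq_one] at h2
      rw [h2]; group
  · refine ⟨T.mapSurjective (QuotientGroup.mk'_surjective N), ?_⟩
    rw [Sylow.coe_mapSurjective, MonoidHom.range_comp, hT]

end

theorem main_aux {Ω : Type u} [Group Ω] {S : Subgroup Ω} [Finite S] (p : ℕ) [Fact p.Prime]
    (F : Cfsg.FusionSystem S) (hsimple : F.IsSimple p) :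
    ∀ (n : ℕ) (G : Type u) [Group G] [Finite G] (ι : S →* G), Nat.card G = n →
      F.IsRealizedBy ι → (∃ T : Sylow p G, (T : Subgroup G) = ι.range) →
      ∃ (G' : Type u) (_ : Group G') (_ : Finite G') (_ : IsSimpleGroup G') (ι' : ↥S →* G'),
        F.IsRealizedBy ι' ∧ ∃ T : Sylow p G', (T : Subgroup G') = ι'.range := by
  intro n
  induction n using Nat.strong_induction_on with
  | _ n ih =>
  intro G _ _ ι hcard hι hTex
  obtain ⟨T, hT⟩ := hTex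
  by_cases hsimp : IsSimpleGroup G
  · exact ⟨G, inferInstance, inferInstance, hsimp, ι, hι, T, hT⟩
  · have hSne := hsimple.2.1
    haveI : Nontrivial G := by
      obtain ⟨s, hs⟩ := (Subgroup.ne_bot_iff_exists_ne_one).mp hSne
      exact ⟨⟨ι s, 1, fun h => hs (hι.1 (h.trans (map_one ι).symm))⟩⟩
    obtain ⟨N, hNn, hNbot, hNtop⟩ : ∃ N : Subgroup G, N.Normal ∧ N ≠ ⊥ ∧ N ≠ ⊤ := by
      by_contra hcon
      push_neg at hcon
      exact hsimp { toNontrivial := inferInstance,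
                    eq_bot_or_eq_top_of_normal := fun N hN => by
                      by_cases h : N = ⊥
                      · exact Or.inl h
                      · exact Or.inr (hcon N hN h) }
    haveI := hNn
    have hmul := Subgroup.card_mul_index N
    have hidx : 0 < N.index := Nat.pos_of_ne_zero Subgroup.index_ne_zero_of_finite
    by_cases hNT : N ⊓ ι.range = ⊥
    · obtain ⟨hq1, T', hT'⟩ := quot_realized p F ι hι T hT N hNT
      refine ih (Nat.card (G ⧸ N)) ?_ (G ⧸ N) ((QuotientGroup.mk' N).comp ι) rfl hq1 ⟨T', hT'⟩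
      have h2 : 1 < Nat.card N := N.one_lt_card_iff_ne_bot.mpr hNbot
      rw [← hcard, ← Subgroup.index_eq_card, ← hmul]
      nlinarith
    · have hnorm := subN_normal p F hsimple.1 ι hι T hT N
      rcases hsimple.2.2 _ _ hnorm with hbot | ⟨htop, hHom⟩
      · exfalso
        apply hNT
        rw [eq_bot_iff]
        rintro y ⟨hyN, s, rfl⟩
        have h1 : (s : Ω) ∈ preN ι N := (mem_preN ι N s).mpr hyN
        rw [hbot, Subgroup.mem_bot] at h1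
        have h2 : s = 1 := Subtype.ext h1
        rw [h2, map_one]; exact Subgroup.one_mem _
      · have hrN : ∀ s : S, ι s ∈ N := fun s => (mem_preN ι N s).mp (by rw [htop]; exact s.2)
        have hrange : (T : Subgroup G) ≤ N := by
          rw [hT]; rintro _ ⟨s, rfl⟩; exact hrN s
        refine ih (Nat.card N) ?_ (↥N) (ι.codRestrict N hrN) rfl ⟨?_, ?_⟩
          ⟨T.subtype hrange, ?_⟩
        · have h2 : N.index ≠ 1 := fun h => hNtop (Subgroup.index_eq_one.mp h)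
          have h3 : 0 < Nat.card N := Nat.card_pos
          rw [← hcard, ← hmul]
          have h4 : 2 ≤ N.index := by omega
          nlinarith
        · intro x y hxy
          exact hι.1 (congrArg Subtype.val hxy)
        · intro P hP φ hφ
          rw [← hHom P]
          constructor
          · rintro ⟨-, -, -, n, hn, hφn⟩
            exact ⟨⟨n, hn⟩, fun x => Subtype.ext (hφn x _ _)⟩
          · rintro ⟨n, hn⟩
            have hnx : ∀ (x : P) (hx : (x : Ω) ∈ S) (hy : φ x ∈ S),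
                ι ⟨φ x, hy⟩ = (n : G) * ι ⟨x, hx⟩ * (n : G)⁻¹ :=
              fun x hx hy => congrArg Subtype.val (hn x)
            refine ⟨?_, by rw [htop]; exact hP, fun x => by rw [htop]; exact hφ x, n, n.2, hnx⟩
            rw [hι.2 P hP φ hφ]
            exact ⟨n, fun x => hnx x _ _⟩
        · rw [Sylow.coe_subtype, hT]
          ext y
          rw [Subgroup.mem_subgroupOf]
          constructor
          · rintro ⟨s, hs⟩
            exact ⟨s, Subtype.ext hs⟩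
          · rintro ⟨s, rfl⟩
            exact ⟨s, rfl⟩

/-- Let F be a simple saturated fusion system over a finite p-group S that is realized by some finite group on a Sylow p-subgroup. Then F is realized by a finite simple group on a Sylow p-subgroup. -/
theorem result {Ω : Type u} [Group Ω] {S : Subgroup Ω} [Finite S] (p : ℕ) [Fact p.Prime] (hS : IsPGroup p S) (F : Cfsg.FusionSystem S) (hsimple : F.IsSimple p) (hreal : F.IsRealizable p) : ∃ (G : Type u) (_ : Group G) (_ : Finite G) (_ : IsSimpleGroup G) (ι : ↥S →* G), F.IsRealizedBy ι ∧ ∃ T : Sylow p G, (T : Subgroup G) = ι.range := by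
  obtain ⟨G, hG, hfin, ι, hι, T, hT⟩ := hreal
  exact main_aux p F hsimple _ G ι rfl hι ⟨T, hT⟩

end Cfsg.Agent.S5343
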