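import Cfsg.Statements.S5126
import Mathlib
import Cfsg.Agent.Lib.Helper1.FusNorm
import Cfsg.Agent.S5098
import Cfsg.Agent.S5343
import Cfsg.Agent.Lib.Helper7.PCore
import Cfsg.Agent.Lib.Helper6.PCore
import Cfsg.Agent.Lib.Helper2.SylowAux

set_option autoImplicit false
open Cfsg

open Cfsg.Agent.Lib.Helper1 Cfsg.FusionSystem

namespace Cfsg.Agent.S5126

/-- In a saturated fusion system over a finite p-group S, the normalizer system of a fully normalized, centric, radical subgroup R is constrained, and in every model of that normalizer system the largest normal p-subgroup is the image of R. -/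
theorem result {Ω : Type*} [Group Ω] {S : Subgroup Ω} [Finite S] (p : ℕ) [Fact p.Prime] (hS : IsPGroup p S) (F : Cfsg.FusionSystem S) (hF : F.IsSaturated p) (R : Subgroup Ω) (hRn : F.IsFullyNormalized R) (hRc : F.IsCentric R) (hRr : F.IsRadical p R) (E : Cfsg.FusionSystem (Cfsg.FusionSystem.normalizerIn S R)) (hE : F.IsNormalizerSystem R E) {G : Type*} [Group G] (ι : ↥(Cfsg.FusionSystem.normalizerIn S R) →* G) : E.IsConstrained p ∧ (E.IsModel p G ι → (Cfsg.pCore p G : Subgroup G) = (R.subgroupOf (Cfsg.FusionSystem.normalizerIn S R)).map ι) := by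
  have hRS : R ≤ S := hRn.1
  have hNS : normalizerIn S R ≤ S := inf_le_left
  have hRN : R ≤ normalizerIn S R := fs_le_normalizerIn hRS
  haveI : Finite R := fs_finite_of_le hRS
  haveI : Finite ↥(normalizerIn S R) := fs_finite_of_le hNS
  have hsat : E.IsSaturated p := Cfsg.Agent.S5098.result p hS F hF R hRn E hE
  have hnormal : E.IsNormal R := by
    refine ⟨hRN, fun P φ hφ => ?_⟩
    have hφ' := hφ
    rw [hE] at hφ'
    obtain ⟨hφF, hPN, hφN, ψ, hψ, hψP, hψR⟩ := hφ'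
    refine ⟨ψ, ?_, hψP, hψR⟩
    have hle : (P ⊔ R) ⊔ R ≤ P ⊔ R := sup_le le_rfl le_sup_right
    have hζ : ψ.comp (Subgroup.inclusion hle) ∈ F.Hom ((P ⊔ R) ⊔ R) := fs_restrict F hle hψ
    have h := nrm_hom_of_ext F R hRS E hE (P ⊔ R) (sup_le hPN hRN) _ hζ
      (fun q => nrm_mem_of_map_eq ψ hψR q)
    exact fs_mem_of_eq E rfl _ _ h (fun x hx hx' => rfl)
  have hcentric : E.IsCentric R := by
    refine ⟨hRN, fun R' hconj => ?_⟩
    obtain ⟨φ, hφ, rfl⟩ := hconj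
    rw [hE] at hφ
    obtain ⟨hφF, -, hφN, ψ, hψ, hψP, hψR⟩ := hφ
    have hrange : φ.range = R := by
      apply le_antisymm
      · rintro _ ⟨x, rfl⟩
        rw [← hψP]
        exact hψR.le ⟨_, Subgroup.mem_subgroupOf.mpr x.2, rfl⟩
      · intro r hr
        obtain ⟨z, hz, rfl⟩ := hψR.ge hr
        exact ⟨⟨z, Subgroup.mem_subgroupOf.mp hz⟩, (hψP _).symm⟩
    rw [hrange]
    intro c hc
    exact hRc.2 R (fs_isConj_refl F hRS)
      (Subgroup.mem_inf.mpr ⟨hNS (Subgroup.mem_inf.mp hc).1, (Subgroup.mem_inf.mp hc).2⟩)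
  refine ⟨⟨hsat, R, hnormal, hcentric⟩, ?_⟩
  rintro ⟨hfin, hι, ⟨T, hT⟩, hcent⟩
  haveI := hfin
  have hιinj := hι.1
  have hreal := hι.2
  have hUn : (Cfsg.pCore p G).Normal := Cfsg.Agent.Lib.Helper7.pCore_normal p G
  have hUp : IsPGroup p (Cfsg.pCore p G) := Cfsg.Agent.Lib.Helper6.pc_isPGroup p G
  have hUT : Cfsg.pCore p G ≤ ι.range := by
    rw [← hT]
    exact Cfsg.Agent.Lib.Helper2.normal_pGroup_le_sylow (Cfsg.pCore p G) hUn hUp T
  have hÛN : Cfsg.Agent.S5343.preN ι (Cfsg.pCore p G) ≤ normalizerIn S R :=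
    Cfsg.Agent.S5343.preN_le ι _
  have hÛmem := Cfsg.Agent.S5343.mem_preN ι (Cfsg.pCore p G)
  have hRbar : ∀ y : G, y ∈ (R.subgroupOf (normalizerIn S R)).map ι ↔
      ∃ r : R, ι ⟨r, hRN r.2⟩ = y := by
    intro y
    constructor
    · rintro ⟨z, hz, rfl⟩
      exact ⟨⟨z, Subgroup.mem_subgroupOf.mp hz⟩, rfl⟩
    · rintro ⟨r, rfl⟩
      exact ⟨⟨r, hRN r.2⟩, Subgroup.mem_subgroupOf.mpr r.2, rfl⟩
  have hRbarN : ((R.subgroupOf (normalizerIn S R)).map ι).Normal := by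
    constructor
    intro y hy g
    obtain ⟨r, rfl⟩ := (hRbar y).mp hy
    have hg : ∀ x : Cfsg.Agent.S5343.preN ι (Cfsg.pCore p G),
        g * ι ⟨x, hÛN x.2⟩ * g⁻¹ ∈ ι.range := by
      intro x
      exact hUT (hUn.conj_mem _ ((hÛmem ⟨x, hÛN x.2⟩).mp x.2) g)
    obtain ⟨β, hβ, hβι⟩ := Cfsg.Agent.S5343.conj_pull E ι hι _ hÛN g hg
    obtain ⟨ψ, hψ, hψβ, hψR⟩ := hnormal.2 _ β hβ
    have hψN := (E.le_of_mem hψ).2
    have hle : Cfsg.Agent.S5343.preN ι (Cfsg.pCore p G) ⊔ R ≤ normalizerIn S R :=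
      sup_le hÛN hRN
    obtain ⟨h, hh⟩ := (hreal _ hle ψ hψN).mp hψ
    have hgh : ∀ x : Cfsg.Agent.S5343.preN ι (Cfsg.pCore p G),
        g * ι ⟨x, hÛN x.2⟩ * g⁻¹ = h * ι ⟨x, hÛN x.2⟩ * h⁻¹ := by
      intro x
      have h1 := hh (Subgroup.inclusion le_sup_left x)
      have h2 := hβι x ((E.le_of_mem hβ).2 x)
      have e : (⟨ψ (Subgroup.inclusion le_sup_left x), hψN _⟩ : normalizerIn S R) =
          ⟨β x, (E.le_of_mem hβ).2 x⟩ := Subtype.ext (hψβ x)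
      rw [e, h2] at h1
      exact h1
    have hcU : h⁻¹ * g ∈ Subgroup.centralizer ((Cfsg.pCore p G : Subgroup G) : Set G) := by
      rw [Subgroup.mem_centralizer_iff]
      intro u hu
      obtain ⟨s, rfl⟩ := hUT hu
      have hsÛ : (s : Ω) ∈ Cfsg.Agent.S5343.preN ι (Cfsg.pCore p G) := (hÛmem s).mpr hu
      have h3 : g * ι s * g⁻¹ = h * ι s * h⁻¹ := hgh ⟨s, hsÛ⟩
      have e : ι s * (h⁻¹ * g) = h⁻¹ * (h * ι s * h⁻¹) * g := by group
      rw [e, ← h3]; group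
    have hmemU := hcent hcU
    obtain ⟨s, hs⟩ := hUT hmemU
    have hgeq : g = h * ι s := by rw [hs]; group
    have hsN : (s : Ω) ∈ Subgroup.normalizer (R : Set Ω) := (Subgroup.mem_inf.mp s.2).2
    have hr' : (s : Ω) * r * (s : Ω)⁻¹ ∈ R := (Subgroup.mem_normalizer_iff.mp hsN _).mp r.2
    have h5 : ψ (Subgroup.inclusion le_sup_right ⟨_, hr'⟩) ∈ R := nrm_mem_of_map_eq ψ hψR _
    have h4 : ι ⟨ψ (Subgroup.inclusion le_sup_right ⟨_, hr'⟩), hRN h5⟩ =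
        h * ι ⟨(s : Ω) * r * (s : Ω)⁻¹, hRN hr'⟩ * h⁻¹ :=
      hh (Subgroup.inclusion le_sup_right ⟨_, hr'⟩)
    rw [hRbar]
    refine ⟨⟨_, h5⟩, ?_⟩
    have e1 : (⟨(s : Ω) * r * (s : Ω)⁻¹, hRN hr'⟩ : normalizerIn S R) =
        s * ⟨r, hRN r.2⟩ * s⁻¹ := Subtype.ext rfl
    rw [hgeq, h4, e1, map_mul, map_mul, map_inv]
    group
  have hRbarP : IsPGroup p ↥((R.subgroupOf (normalizerIn S R)).map ι) :=
    ((hS.to_le hRS).comap_subtype).map ι
  have hÛnorm : Cfsg.Agent.S5343.preN ι (Cfsg.pCore p G) ≤ Subgroup.normalizer (R : Set Ω) :=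
    fun x hx => (Subgroup.mem_inf.mp (hÛN hx)).2
  let A₀ : Subgroup (MulAut R) :=
    ((Cfsg.Agent.S5343.preN ι (Cfsg.pCore p G)).subgroupOf
      (Subgroup.normalizer (R : Set Ω))).map R.normalizerMonoidHom
  have hA₀mem : ∀ α : MulAut R, α ∈ A₀ ↔ ∃ s ∈ Cfsg.Agent.S5343.preN ι (Cfsg.pCore p G),
      ∀ x : R, ((α x : R) : Ω) = s * x * s⁻¹ := by
    intro α
    constructor
    · rintro ⟨n, hn, rfl⟩
      exact ⟨n, Subgroup.mem_subgroupOf.mp hn, fun z => rfl⟩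
    · rintro ⟨s, hs, hα⟩
      refine ⟨⟨s, hÛnorm hs⟩, Subgroup.mem_subgroupOf.mpr hs, ?_⟩
      apply MulEquiv.ext
      intro z
      apply Subtype.ext
      exact (hα z).symm
  have hA₀p : IsPGroup p A₀ := ((hS.to_le (hÛN.trans hNS)).comap_subtype).map _
  have hAp : IsPGroup p ↥(A₀.subgroupOf (F.autGroup R)) := hA₀p.comap_subtype
  have hAn : (A₀.subgroupOf (F.autGroup R)).Normal := by
    constructor
    intro α hα γ
    rw [Subgroup.mem_subgroupOf] at hα ⊢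
    obtain ⟨s, hs, hαs⟩ := (hA₀mem _).mp hα
    have hγE : R.subtype.comp (γ : MulAut R).toMonoidHom ∈ E.Hom R := by
      have hle : R ⊔ R ≤ R := sup_le le_rfl le_rfl
      have hζ : (R.subtype.comp (γ : MulAut R).toMonoidHom).comp (Subgroup.inclusion hle) ∈
          F.Hom (R ⊔ R) := fs_restrict F hle ((fs_mem_autGroup_iff F hRS _).mp γ.2)
      have h := nrm_hom_of_ext F R hRS E hE R hRN _ hζ (fun q => ((γ : MulAut R) _).2)
      exact fs_mem_of_eq E rfl _ _ h (fun x hx hx' => rfl)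
    obtain ⟨g, hg⟩ := (hreal R hRN _ (fun x => hRN ((γ : MulAut R) x).2)).mp hγE
    have hsN : s ∈ normalizerIn S R := hÛN hs
    have hu' : g * ι ⟨s, hsN⟩ * g⁻¹ ∈ Cfsg.pCore p G :=
      hUn.conj_mem _ ((hÛmem ⟨s, hsN⟩).mp hs) g
    obtain ⟨s', hs'⟩ := hUT hu'
    have hs'Û : (s' : Ω) ∈ Cfsg.Agent.S5343.preN ι (Cfsg.pCore p G) :=
      (hÛmem s').mpr (by rw [hs']; exact hu')
    apply (hA₀mem _).mpr
    refine ⟨s', hs'Û, fun y => ?_⟩
    obtain ⟨x, rfl⟩ := (γ : MulAut R).surjective y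
    have e0 : ((γ * α * γ⁻¹ : ↥(F.autGroup R)) : MulAut R) ((γ : MulAut R) x) =
        (γ : MulAut R) ((α : MulAut R) x) := by
      show (γ : MulAut R) ((α : MulAut R) ((γ : MulAut R)⁻¹ ((γ : MulAut R) x))) = _
      rw [MulAut.inv_apply_self]
    rw [e0]
    have hαx : (((α : MulAut R) x : R) : Ω) = s * x * s⁻¹ := hαs x
    have e1 : (⟨(((α : MulAut R) x : R) : Ω), hRN ((α : MulAut R) x).2⟩ : normalizerIn S R) =
        ⟨s, hsN⟩ * ⟨x, hRN x.2⟩ * ⟨s, hsN⟩⁻¹ := Subtype.ext hαx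
    have hy' : (s' : Ω) * ((γ : MulAut R) x : R) * (s' : Ω)⁻¹ ∈ normalizerIn S R :=
      (normalizerIn S R).mul_mem ((normalizerIn S R).mul_mem s'.2 (hRN ((γ : MulAut R) x).2))
        ((normalizerIn S R).inv_mem s'.2)
    have key : ι ⟨(((γ : MulAut R) ((α : MulAut R) x) : R) : Ω),
          hRN ((γ : MulAut R) ((α : MulAut R) x)).2⟩ =
        ι ⟨(s' : Ω) * ((γ : MulAut R) x : R) * (s' : Ω)⁻¹, hy'⟩ := by
      have e2 : (⟨(s' : Ω) * ((γ : MulAut R) x : R) * (s' : Ω)⁻¹, hy'⟩ : normalizerIn S R) =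
          s' * ⟨((γ : MulAut R) x : R), hRN ((γ : MulAut R) x).2⟩ * s'⁻¹ := Subtype.ext rfl
      have h1' : ι ⟨(((γ : MulAut R) ((α : MulAut R) x) : R) : Ω),
            hRN ((γ : MulAut R) ((α : MulAut R) x)).2⟩ =
          g * ι ⟨(((α : MulAut R) x : R) : Ω), hRN ((α : MulAut R) x).2⟩ * g⁻¹ :=
        hg ((α : MulAut R) x)
      have h2' : ι ⟨(((γ : MulAut R) x : R) : Ω), hRN ((γ : MulAut R) x).2⟩ =
          g * ι ⟨x, hRN x.2⟩ * g⁻¹ := hg x
      rw [e2, map_mul, map_mul, map_inv, hs', h1', h2', e1, map_mul, map_mul, map_inv]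
      group
    exact congrArg (fun z : normalizerIn S R => (z : Ω)) (hιinj key)
  apply le_antisymm
  · intro u hu
    obtain ⟨s, rfl⟩ := hUT hu
    have hsÛ : (s : Ω) ∈ Cfsg.Agent.S5343.preN ι (Cfsg.pCore p G) := (hÛmem s).mpr hu
    have hsnorm : (s : Ω) ∈ Subgroup.normalizer (R : Set Ω) := hÛnorm hsÛ
    have hnmhF : R.normalizerMonoidHom ⟨s, hsnorm⟩ ∈ F.autGroup R :=
      fs_nmh_mem_autGroup F hRS ⟨s, hsnorm⟩ (hNS s.2)
    have hmemA : (⟨R.normalizerMonoidHom ⟨s, hsnorm⟩, hnmhF⟩ : ↥(F.autGroup R)) ∈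
        A₀.subgroupOf (F.autGroup R) := by
      rw [Subgroup.mem_subgroupOf]
      exact (hA₀mem _).mpr ⟨s, hsÛ, fun x => rfl⟩
    have hmemcore := Cfsg.Agent.Lib.Helper7.le_pCore hAn hAp hmemA
    have hmemInn : R.normalizerMonoidHom ⟨s, hsnorm⟩ ∈ Inn R := by
      rw [← hRr.2]
      exact ⟨_, hmemcore, rfl⟩
    obtain ⟨r, hr⟩ := hmemInn
    have hcent' : (r : Ω)⁻¹ * s ∈ centralizerIn S R := by
      refine Subgroup.mem_inf.mpr ⟨S.mul_mem (S.inv_mem (hRS r.2)) (hNS s.2), ?_⟩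
      rw [Subgroup.mem_centralizer_iff]
      intro x hx
      have h1 : (r : Ω) * x * (r : Ω)⁻¹ = (s : Ω) * x * (s : Ω)⁻¹ :=
        congrArg (fun f : MulAut R => ((f ⟨x, hx⟩ : R) : Ω)) hr
      have e : x * ((r : Ω)⁻¹ * s) = (r : Ω)⁻¹ * ((r : Ω) * x * (r : Ω)⁻¹) * s := by group
      rw [e, h1]; group
    have hinR := hRc.2 R (fs_isConj_refl F hRS) hcent'
    have hsR : (s : Ω) ∈ R := by
      have h6 := R.mul_mem r.2 hinR
      have e : (r : Ω) * ((r : Ω)⁻¹ * s) = s := by group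
      rwa [e] at h6
    rw [hRbar]
    exact ⟨⟨s, hsR⟩, rfl⟩
  · exact Cfsg.Agent.Lib.Helper7.le_pCore hRbarN hRbarP

end Cfsg.Agent.S5126
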