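import Cfsg.Statements.S5147
import Mathlib
import Cfsg.Agent.Lib.Helper1.GrpNormal
import Cfsg.Agent.S5115

set_option autoImplicit false
open Cfsg

open Cfsg.Agent.Lib.Helper1 Cfsg.Agent.Lib.Helper7 Cfsg.FusionSystem

namespace Cfsg.Agent.S5147

/-- normality of `Q` in the fusion system of a group, in terms of elements -/
theorem grp_normal_conj {Λ : Type*} [Group Λ] (S : Subgroup Λ) (Q : Subgroup Λ)
    (hQn : (Cfsg.groupFusionSystem S).IsNormal Q) (P : Subgroup Λ) (hP : P ≤ S) (g : Λ)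
    (hg : ∀ x ∈ P, g * x * g⁻¹ ∈ S) :
    ∃ n : Λ, (∀ x, x ∈ Q ↔ n * x * n⁻¹ ∈ Q) ∧ ∀ x ∈ P, n * x * n⁻¹ = g * x * g⁻¹ := by
  have hφ : Cfsg.conjHom P g ∈ (Cfsg.groupFusionSystem S).Hom P :=
    ⟨hP, fun x => hg x x.2, g, fun x => rfl⟩
  obtain ⟨ψ, hψ, hψP, hψQ⟩ := hQn.2 P _ hφ
  obtain ⟨-, -, n, hn⟩ := hψ
  refine ⟨n, ?_, ?_⟩
  · intro x
    constructor
    · intro hx
      have h1 : ψ ⟨x, Subgroup.mem_sup_right hx⟩ ∈ Q :=
        hψQ.le ⟨⟨x, Subgroup.mem_sup_right hx⟩, Subgroup.mem_subgroupOf.mpr hx, rfl⟩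
      rw [hn] at h1
      exact h1
    · intro hx
      obtain ⟨q', hq', hψq'⟩ := hψQ.ge hx
      have hq'Q : (q' : Λ) ∈ Q := Subgroup.mem_subgroupOf.mp hq'
      rw [hn] at hψq'
      have : (q' : Λ) = x := mul_left_cancel (mul_right_cancel hψq')
      rw [← this]; exact hq'Q
  · intro x hx
    have h1 := hψP ⟨x, hx⟩
    rw [hn] at h1
    exact h1

/-- a central element of the form `s⁻¹ * y` with `s` in a Sylow subgroup and `y` a `p`-element
lies in the Sylow subgroup -/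
theorem central_p_mem {Λ : Type*} [Group Λ] [Finite Λ] (p : ℕ) [Fact p.Prime] (SL : Sylow p Λ)
    (s : Λ) (hs : s ∈ (SL : Subgroup Λ)) (x : Λ) (hx : x ∈ (SL : Subgroup Λ)) (g : Λ)
    (hz : s⁻¹ * (g * x * g⁻¹) ∈ Subgroup.center Λ) :
    s⁻¹ * (g * x * g⁻¹) ∈ (SL : Subgroup Λ) := by
  obtain ⟨a, ha⟩ := SL.isPGroup' ⟨s, hs⟩
  obtain ⟨b, hb⟩ := SL.isPGroup' ⟨x, hx⟩
  have ha' : s ^ (p ^ a) = 1 := congrArg Subtype.val ha
  have hb' : x ^ (p ^ b) = 1 := congrArg Subtype.val hb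
  have hcomm : Commute s⁻¹ (g * x * g⁻¹) := by
    have h1 := Subgroup.mem_center_iff.mp hz s
    have h2 : g * x * g⁻¹ = s⁻¹ * (g * x * g⁻¹) * s := by
      rw [← h1]; group
    show s⁻¹ * (g * x * g⁻¹) = g * x * g⁻¹ * s⁻¹
    calc s⁻¹ * (g * x * g⁻¹) = s⁻¹ * (g * x * g⁻¹) * s * s⁻¹ := by group
      _ = g * x * g⁻¹ * s⁻¹ := by rw [← h2]
  have hpow : (s⁻¹ * (g * x * g⁻¹)) ^ (p ^ (a + b)) = 1 := by
    rw [hcomm.mul_pow, inv_pow, pow_add, pow_mul, ha', one_pow, inv_one, one_mul, conj_pow,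
      mul_comm (p ^ a) (p ^ b), pow_mul, hb', one_pow, mul_one, mul_inv_cancel]
  have hp : IsPGroup p ↥(Subgroup.zpowers (s⁻¹ * (g * x * g⁻¹))) :=
    Cfsg.Agent.Lib.Helper2.isPGroup_zpowers_of_pow_eq_one' hpow
  have hn : (Subgroup.zpowers (s⁻¹ * (g * x * g⁻¹))).Normal := by
    constructor
    intro y hy g'
    obtain ⟨i, rfl⟩ := Subgroup.mem_zpowers_iff.mp hy
    have hc := Subgroup.mem_center_iff.mp (Subgroup.zpow_mem _ hz i) g'
    have : g' * (s⁻¹ * (g * x * g⁻¹)) ^ i * g'⁻¹ = (s⁻¹ * (g * x * g⁻¹)) ^ i := by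
      rw [hc]; group
    rw [this]; exact hy
  exact Cfsg.Agent.Lib.Helper2.normal_pGroup_le_sylow _ hn hp SL (Subgroup.mem_zpowers _)

/-- an element of `S` acting on the core of a constrained group fusion system trivially modulo
the centre of the group lies in the core -/
theorem core_stab_mem {Λ : Type*} [Group Λ] [Finite Λ] (p : ℕ) [Fact p.Prime] (SL : Sylow p Λ)
    (hFsat : (Cfsg.groupFusionSystem (SL : Subgroup Λ)).IsSaturated p)
    (hcen : centralizerIn (SL : Subgroup Λ) (Cfsg.groupFusionSystem (SL : Subgroup Λ)).core ≤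
      (Cfsg.groupFusionSystem (SL : Subgroup Λ)).core)
    (c : Λ) (hcS : c ∈ (SL : Subgroup Λ))
    (hc : ∀ q ∈ (Cfsg.groupFusionSystem (SL : Subgroup Λ)).core,
      q⁻¹ * (c * q * c⁻¹) ∈ Subgroup.center Λ ∧ q⁻¹ * (c⁻¹ * q * c) ∈ Subgroup.center Λ) :
    c ∈ (Cfsg.groupFusionSystem (SL : Subgroup Λ)).core := by
  have hS : IsPGroup p ↥(SL : Subgroup Λ) := SL.isPGroup'
  have hQn := fs_core_normal (Cfsg.groupFusionSystem (SL : Subgroup Λ))
  have hQS := hQn.1
  have hQsc := fs_normal_stronglyClosed _ _ hQn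
  have hcN : c ∈ Subgroup.normalizer
      ((Cfsg.groupFusionSystem (SL : Subgroup Λ)).core : Set Λ) :=
    fs_stronglyClosed_normal _ _ hQsc hcS
  have hfix : ∀ γ ∈ (Cfsg.groupFusionSystem (SL : Subgroup Λ)).autGroup
      (Cfsg.groupFusionSystem (SL : Subgroup Λ)).core,
      ∀ x : ↥(Cfsg.groupFusionSystem (SL : Subgroup Λ)).core,
        (x : Λ) ∈ Subgroup.center Λ → γ x = x := by
    intro γ hγ x hx
    obtain ⟨-, -, g, hg⟩ := (fs_mem_autGroup_iff _ hQS γ).mp hγ
    have hg' : ((γ x : ↥(Cfsg.groupFusionSystem (SL : Subgroup Λ)).core) : Λ) =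
        g * (x : Λ) * g⁻¹ := hg x
    apply Subtype.ext
    rw [hg', Subgroup.mem_center_iff.mp hx g]
    group
  have hNp : IsPGroup p ↥((Subgroup.center Λ).subgroupOf
      (Cfsg.groupFusionSystem (SL : Subgroup Λ)).core) := (hS.to_le hQS).to_subgroup _
  have hKA : stabSub ((Subgroup.center Λ).subgroupOf
      (Cfsg.groupFusionSystem (SL : Subgroup Λ)).core) ⊤ le_top ⊓
      (Cfsg.groupFusionSystem (SL : Subgroup Λ)).autGroup
        (Cfsg.groupFusionSystem (SL : Subgroup Λ)).core ≤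
      (Cfsg.groupFusionSystem (SL : Subgroup Λ)).autGroup
        (Cfsg.groupFusionSystem (SL : Subgroup Λ)).core := inf_le_right
  have hKn : ((stabSub ((Subgroup.center Λ).subgroupOf
      (Cfsg.groupFusionSystem (SL : Subgroup Λ)).core) ⊤ le_top ⊓
      (Cfsg.groupFusionSystem (SL : Subgroup Λ)).autGroup
        (Cfsg.groupFusionSystem (SL : Subgroup Λ)).core).subgroupOf
      ((Cfsg.groupFusionSystem (SL : Subgroup Λ)).autGroup
        (Cfsg.groupFusionSystem (SL : Subgroup Λ)).core)).Normal := by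
    constructor
    intro a ha γ
    have ha' := Subgroup.mem_subgroupOf.mp ha
    apply Subgroup.mem_subgroupOf.mpr
    refine ⟨?_, (γ * a * γ⁻¹).2⟩
    show γ.1 * a.1 * γ.1⁻¹ ∈ stabSub _ ⊤ le_top
    apply stabSub_conj _ ⊤ le_top γ.1 ?_ ?_ ha'.1
    · intro x hx
      have hx' : (x : Λ) ∈ Subgroup.center Λ := Subgroup.mem_subgroupOf.mp hx
      rw [hfix γ γ.2 x hx']; exact hx
    · intro x _; exact Subgroup.mem_top _
  have hKp : IsPGroup p ↥(stabSub ((Subgroup.center Λ).subgroupOf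
      (Cfsg.groupFusionSystem (SL : Subgroup Λ)).core) ⊤ le_top ⊓
      (Cfsg.groupFusionSystem (SL : Subgroup Λ)).autGroup
        (Cfsg.groupFusionSystem (SL : Subgroup Λ)).core) := by
    apply isPGroup_of_forall_pow
    intro α hα
    have h1 := stab_step α ((Subgroup.center Λ).subgroupOf
      (Cfsg.groupFusionSystem (SL : Subgroup Λ)).core) ⊤ le_top
      (fun x hx => (hα.1 x hx).1) 1 (fun x hx => by
        rw [pow_one]; exact hfix α hα.2 x (Subgroup.mem_subgroupOf.mp hx))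
    obtain ⟨k, hk⟩ := IsPGroup.iff_card.mp hNp
    refine ⟨k, ?_⟩
    ext x
    rw [← hk, ← one_mul (Nat.card _), h1 x (Subgroup.mem_top x)]
    rfl
  have hmemK : (Cfsg.groupFusionSystem (SL : Subgroup Λ)).core.normalizerMonoidHom ⟨c, hcN⟩ ∈
      stabSub ((Subgroup.center Λ).subgroupOf
        (Cfsg.groupFusionSystem (SL : Subgroup Λ)).core) ⊤ le_top ⊓
      (Cfsg.groupFusionSystem (SL : Subgroup Λ)).autGroup
        (Cfsg.groupFusionSystem (SL : Subgroup Λ)).core := by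
    refine ⟨?_, ?_⟩
    · intro x _
      constructor
      · apply Subgroup.mem_subgroupOf.mpr
        exact (hc x x.2).1
      · apply Subgroup.mem_subgroupOf.mpr
        show ((x : Λ))⁻¹ * ((((Cfsg.groupFusionSystem
          (SL : Subgroup Λ)).core.normalizerMonoidHom ⟨c, hcN⟩)⁻¹ x :
            ↥(Cfsg.groupFusionSystem (SL : Subgroup Λ)).core) : Λ) ∈ _
        rw [nmh_inv_apply]
        exact (hc x x.2).2
    · apply (fs_mem_autGroup_iff _ hQS _).mpr
      exact ⟨hQS, fun x => hQS (Subtype.property _), c, fun x => rfl⟩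
  have hWO := le_pCore hKn hKp.comap_subtype
  apply fs_core_radical p hS _ hFsat hcen c hcS hcN
  exact ⟨⟨_, hKA hmemK⟩, hWO (Subgroup.mem_subgroupOf.mpr hmemK), rfl⟩

/-- the fusion system of the central quotient of a group with constrained fusion system is
constrained -/
theorem quot_center_constrained {Λ : Type*} [Group Λ] [Finite Λ] (p : ℕ) [Fact p.Prime]
    (SL : Sylow p Λ) (hF : (Cfsg.groupFusionSystem (SL : Subgroup Λ)).IsConstrained p) :
    (Cfsg.groupFusionSystem ((SL : Subgroup Λ).map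
      (QuotientGroup.mk' (Subgroup.center Λ)))).IsConstrained p := by
  obtain ⟨hFsat, Q₁, hQ₁n, hQ₁c⟩ := hF
  have hQn := fs_core_normal (Cfsg.groupFusionSystem (SL : Subgroup Λ))
  have hQS := hQn.1
  have hcen : centralizerIn (SL : Subgroup Λ) (Cfsg.groupFusionSystem (SL : Subgroup Λ)).core ≤
      (Cfsg.groupFusionSystem (SL : Subgroup Λ)).core := by
    have h1 : Q₁ ≤ (Cfsg.groupFusionSystem (SL : Subgroup Λ)).core := le_sSup hQ₁n
    have h2 := hQ₁c.2 Q₁ (fs_isConj_refl _ hQ₁n.1)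
    intro c hc
    exact h1 (h2 ⟨hc.1, Subgroup.centralizer_le h1 hc.2⟩)
  refine constrained_of_gcond p _
    ((SL : Subgroup Λ).map (QuotientGroup.mk' (Subgroup.center Λ))).subtype (grp_realized _)
    (SL.mapSurjective (QuotientGroup.mk'_surjective _)) ?_ ?_
  · rw [Subgroup.range_subtype, Sylow.coe_mapSurjective]
  · rw [Subgroup.range_subtype]
    refine ⟨(Cfsg.groupFusionSystem (SL : Subgroup Λ)).core.map
      (QuotientGroup.mk' (Subgroup.center Λ)), Subgroup.map_mono hQS, ?_, ?_⟩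
    · intro P' hP' g' hg'
      obtain ⟨g, rfl⟩ := QuotientGroup.mk'_surjective (Subgroup.center Λ) g'
      have hPg : ∀ x ∈ (P'.comap (QuotientGroup.mk' (Subgroup.center Λ))) ⊓
          (SL : Subgroup Λ), g * x * g⁻¹ ∈ (SL : Subgroup Λ) := by
        rintro x ⟨hx1, hx2⟩
        obtain ⟨s, hs, hsx⟩ := hg' _ hx1
        have h2 : (QuotientGroup.mk' (Subgroup.center Λ)) s =
            (QuotientGroup.mk' (Subgroup.center Λ)) (g * x * g⁻¹) := by
          rw [hsx, map_mul, map_mul, map_inv]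
        have h3 : s⁻¹ * (g * x * g⁻¹) ∈ Subgroup.center Λ := QuotientGroup.eq.mp h2
        have h4 := central_p_mem p SL s hs x hx2 g h3
        have : g * x * g⁻¹ = s * (s⁻¹ * (g * x * g⁻¹)) := by group
        rw [this]; exact Subgroup.mul_mem _ hs h4
      obtain ⟨n, hnQ, hnP⟩ := grp_normal_conj _ _ hQn _ inf_le_right g hPg
      refine ⟨QuotientGroup.mk' _ n, ?_, ?_⟩
      · intro x'
        constructor
        · rintro ⟨q, hq, rfl⟩
          exact ⟨n * q * n⁻¹, (hnQ q).mp hq, by rw [map_mul, map_mul, map_inv]⟩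
        · rintro ⟨q', hq', hq'x⟩
          refine ⟨n⁻¹ * q' * n, ?_, ?_⟩
          · apply (hnQ _).mpr
            have : n * (n⁻¹ * q' * n) * n⁻¹ = q' := by group
            rw [this]; exact hq'
          · rw [map_mul, map_mul, map_inv, hq'x]; group
      · intro x' hx'
        obtain ⟨s, hs, rfl⟩ := hP' hx'
        have h5 := congrArg (QuotientGroup.mk' (Subgroup.center Λ)) (hnP s ⟨hx', hs⟩)
        rw [map_mul, map_mul, map_inv, map_mul, map_mul, map_inv] at h5
        exact h5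
    · rintro c' ⟨c, hc, rfl⟩ hcomm
      refine ⟨c, ?_, rfl⟩
      apply core_stab_mem p SL hFsat hcen c hc
      intro q hq
      have h1 := hcomm _ ⟨q, hq, rfl⟩
      constructor
      · apply (QuotientGroup.eq_one_iff _).mp
        show (QuotientGroup.mk' (Subgroup.center Λ)) (q⁻¹ * (c * q * c⁻¹)) = 1
        rw [map_mul, map_mul, map_mul, map_inv, map_inv, h1]; group
      · apply (QuotientGroup.eq_one_iff _).mp
        show (QuotientGroup.mk' (Subgroup.center Λ)) (q⁻¹ * (c⁻¹ * q * c)) = 1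
        rw [map_mul, map_mul, map_mul, map_inv, map_inv]
        have h2 : ∀ a b : Λ ⧸ Subgroup.center Λ, a⁻¹ * (b⁻¹ * a * b) = a⁻¹ * (b⁻¹ * (a * b)) := by
          intro a b; group
        rw [h2, ← h1]; group

/-- Let G be a finite group with Sylow 2-subgroup S whose 2-fusion system on S is constrained, and L a component of G (a subnormal quasisimple subgroup). Then the 2-fusion system of L/Z(L) on the image of S ∩ L is constrained. -/
theorem result {G : Type*} [Group G] [Finite G] (S : Sylow 2 G) (hF : (Cfsg.groupFusionSystem (S : Subgroup G)).IsConstrained 2) (L : Subgroup G) (hL : Cfsg.IsComponent L) : (Cfsg.groupFusionSystem (((S : Subgroup G).subgroupOf L).map (QuotientGroup.mk' (Subgroup.center L)))).IsConstrained 2 := by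
  haveI : Fact (Nat.Prime 2) := ⟨Nat.prime_two⟩
  obtain ⟨SL, hSL⟩ := Cfsg.Agent.Lib.Helper3.exists_sylow_subgroupOf_subnormal S hL.1
  rw [Subgroup.inf_subgroupOf_right] at hSL
  have h1 := Cfsg.Agent.S5115.result S hF L hL.1
  rw [← hSL] at h1 ⊢
  exact quot_center_constrained 2 SL h1

end Cfsg.Agent.S5147
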