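import Cfsg.Statements.S5256
import Mathlib
import Cfsg.Agent.Lib.Helper1.FusHyp
import Cfsg.Agent.Lib.Helper6.PResidual
import Cfsg.Agent.S5134

set_option autoImplicit false
open Cfsg

open Cfsg.Agent.Lib.Helper1

namespace Cfsg.Agent.S5256

/-- Let F be a saturated fusion system over a finite p-group S, T a subgroup of S strongly closed in F, and E a factor system F/T realised along a homomorphism θ of S with kernel T. Then the hyperfocal subgroup of E is the image under θ of the hyperfocal subgroup of F (hyp(F/T) = T·hyp(F)/T). -/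
theorem result {Ω : Type*} [Group Ω] {S : Subgroup Ω} [Finite S] (p : ℕ) [Fact p.Prime] (hS : IsPGroup p S) (F : Cfsg.FusionSystem S) (hF : F.IsSaturated p) (T : Subgroup Ω) (hT : F.StronglyClosed T) {Ω' : Type*} [Group Ω'] {S' : Subgroup Ω'} (θ : ↥S →* Ω') (E : Cfsg.FusionSystem S') (hE : F.IsFactorSystem T θ E) : E.hyperfocalSubgroup p = ((F.hyperfocalSubgroup p).subgroupOf S).map θ := by
  have hmor := Cfsg.Agent.S5134.result p hS F hF T hT θ E hE
  obtain ⟨hTS, hker, hrange, hhom⟩ := hE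
  have hθS' : ∀ s : S, θ s ∈ S' := fun s => hrange ▸ ⟨s, rfl⟩
  haveI : Finite ↥S' := by
    rw [← hrange]
    exact Finite.of_surjective θ.rangeRestrict θ.rangeRestrict_surjective
  apply le_antisymm
  · apply fs_hyp_le_of_coprime
    intro P' hP' α' hα'
    have hα'E := (fs_mem_autGroup_iff E hP' _).mp α'.2
    obtain ⟨-, φ, hφ, hPS, hφS, hPP', hind⟩ := (hhom P' _).mp hα'E
    have hφP : ∀ x : ↥(FusionSystem.preimageAlong θ P'),
        φ x ∈ FusionSystem.preimageAlong θ P' := by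
      intro x
      refine ⟨⟨φ x, hφS x⟩, ?_, rfl⟩
      show θ ⟨φ x, hφS x⟩ ∈ P'
      rw [← hind x]
      exact ((α' : MulAut P') _).2
    obtain ⟨α, hα, hαφ⟩ := fs_aut_of_hom F hPS hφ hφP
    haveI : Finite ↥(FusionSystem.preimageAlong θ P') := fs_finite_of_le hPS
    have hθα : ∀ x : ↥(FusionSystem.preimageAlong θ P'),
        (⟨θ ⟨(α x : ↥(FusionSystem.preimageAlong θ P')), hPS (α x).2⟩, hPP' (α x)⟩ : P') =
          (α' : MulAut P') ⟨θ ⟨x, hPS x.2⟩, hPP' x⟩ := by
      intro x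
      apply Subtype.ext
      show θ ⟨(α x : ↥(FusionSystem.preimageAlong θ P')), hPS (α x).2⟩ = _
      have h1 := hind x
      have e : (⟨((α x : ↥(FusionSystem.preimageAlong θ P')) : Ω), hPS (α x).2⟩ : S) =
          ⟨φ x, hφS x⟩ := Subtype.ext (hαφ x)
      rw [e, ← h1]
      rfl
    have hrel : ∀ (j : ℕ) (x : ↥(FusionSystem.preimageAlong θ P')),
        (⟨θ ⟨((α ^ j) x : ↥(FusionSystem.preimageAlong θ P')), hPS ((α ^ j) x).2⟩,
          hPP' ((α ^ j) x)⟩ : P') =
          ((α' : MulAut P') ^ j) ⟨θ ⟨x, hPS x.2⟩, hPP' x⟩ := by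
      intro j
      induction j with
      | zero => intro x; rfl
      | succ j ih =>
        intro x
        have e1 : (α ^ (j + 1)) x = α ((α ^ j) x) := by
          rw [pow_succ', MulAut.mul_apply]
        have e2 : ((α' : MulAut P') ^ (j + 1)) ⟨θ ⟨x, hPS x.2⟩, hPP' x⟩ =
            (α' : MulAut P') (((α' : MulAut P') ^ j) ⟨θ ⟨x, hPS x.2⟩, hPP' x⟩) := by
          rw [pow_succ', MulAut.mul_apply]
        rw [e2, ← ih x, ← hθα ((α ^ j) x)]
        apply Subtype.ext
        show θ _ = θ _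
        congr 1
        exact Subtype.ext (congrArg (fun y : ↥(FusionSystem.preimageAlong θ P') => (y : Ω)) e1)
    obtain ⟨a, ha⟩ := Cfsg.Agent.Lib.Helper6.pres_pow_mem (p := p) (⟨α, hα⟩ : F.autGroup _)
    have hpa : ((α' : MulAut P') ^ (p ^ a)) ∈ hypStab P'
        (((F.hyperfocalSubgroup p).subgroupOf S).map θ) := by
      intro x'
      obtain ⟨s, hs⟩ : ∃ s : S, θ s = (x' : Ω') := by
        have := hP' x'.2
        rw [← hrange] at this
        exact this
      have hsP : (s : Ω) ∈ FusionSystem.preimageAlong θ P' :=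
        ⟨s, (by show θ s ∈ P'; rw [hs]; exact x'.2), rfl⟩
      have ex : x' = ⟨θ ⟨(s : Ω), hPS hsP⟩, hPP' ⟨s, hsP⟩⟩ := Subtype.ext hs.symm
      rw [ex, ← hrel (p ^ a) ⟨s, hsP⟩]
      refine ⟨(⟨(s : Ω), hPS hsP⟩ : S)⁻¹ *
        ⟨(((α ^ (p ^ a)) ⟨s, hsP⟩ : ↥(FusionSystem.preimageAlong θ P')) : Ω), hPS (Subtype.property _)⟩,
        ?_, ?_⟩
      · rw [SetLike.mem_coe, Subgroup.mem_subgroupOf]
        apply Subgroup.subset_closure
        exact ⟨_, (⟨α, hα⟩ : F.autGroup _) ^ (p ^ a), ⟨s, hsP⟩, hPS, ha, rfl⟩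
      · rw [map_mul, map_inv]
    obtain ⟨c, hc⟩ := exists_pow_eq_self_of_coprime (x := α') (n := p ^ a)
      (Nat.Coprime.pow_left a hα'.symm)
    have hc' : ((α' : MulAut P') ^ (p ^ a)) ^ c = (α' : MulAut P') := congrArg Subtype.val hc
    rw [← hc']
    exact Subgroup.pow_mem _ hpa c
  · rw [Subgroup.map_le_iff_le_comap]
    have hK : F.hyperfocalSubgroup p ≤
        ((E.hyperfocalSubgroup p).comap θ).map S.subtype := by
      apply fs_hyp_le_of_coprime
      intro P hPS α hα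
      have hαF := (fs_mem_autGroup_iff F hPS _).mp α.2
      obtain ⟨φ', hφ', hPS', hφS, hPP', hind⟩ := hmor.1.2 P _ hαF
      have hP'S' : FusionSystem.imageAlong θ P ≤ S' := by
        rintro _ ⟨b, -, rfl⟩; exact hθS' b
      have hφ'P' : ∀ y : ↥(FusionSystem.imageAlong θ P), φ' y ∈ FusionSystem.imageAlong θ P := by
        intro y
        obtain ⟨b, hb, hby⟩ := y.2
        have ey : y = ⟨θ ⟨((⟨b, Subgroup.mem_subgroupOf.mp hb⟩ : P) : Ω), hPS' (Subgroup.mem_subgroupOf.mp hb)⟩,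
            hPP' ⟨b, Subgroup.mem_subgroupOf.mp hb⟩⟩ := Subtype.ext hby.symm
        rw [ey, hind]
        exact hPP' _
      obtain ⟨α', hα'E, hα'φ⟩ := fs_aut_of_hom E hP'S' hφ' hφ'P'
      have hθα : ∀ x : P,
          (⟨θ ⟨(((α : MulAut P) x : P) : Ω), hPS' (Subtype.property _)⟩, hPP' ((α : MulAut P) x)⟩ :
            ↥(FusionSystem.imageAlong θ P)) = α' ⟨θ ⟨x, hPS' x.2⟩, hPP' x⟩ := by
        intro x
        apply Subtype.ext
        rw [hα'φ, hind]
        rfl
      have hrel : ∀ (j : ℕ) (x : P),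
          (⟨θ ⟨((((α : MulAut P) ^ j) x : P) : Ω), hPS' (Subtype.property _)⟩,
            hPP' (((α : MulAut P) ^ j) x)⟩ : ↥(FusionSystem.imageAlong θ P)) =
            (α' ^ j) ⟨θ ⟨x, hPS' x.2⟩, hPP' x⟩ := by
        intro j
        induction j with
        | zero => intro x; rfl
        | succ j ih =>
          intro x
          have e1 : ((α : MulAut P) ^ (j + 1)) x = (α : MulAut P) (((α : MulAut P) ^ j) x) := by
            rw [pow_succ', MulAut.mul_apply]
          have e2 : (α' ^ (j + 1)) ⟨θ ⟨x, hPS' x.2⟩, hPP' x⟩ =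
              α' ((α' ^ j) ⟨θ ⟨x, hPS' x.2⟩, hPP' x⟩) := by
            rw [pow_succ', MulAut.mul_apply]
          rw [e2, ← ih x, ← hθα (((α : MulAut P) ^ j) x)]
          apply Subtype.ext
          show θ _ = θ _
          congr 1
          exact Subtype.ext (congrArg (fun y : P => (y : Ω)) e1)
      have hpow : α' ^ orderOf α = 1 := by
        ext y
        obtain ⟨b, hb, hby⟩ := y.2
        have ey : y = ⟨θ ⟨((⟨b, Subgroup.mem_subgroupOf.mp hb⟩ : P) : Ω), hPS' (Subgroup.mem_subgroupOf.mp hb)⟩,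
            hPP' ⟨b, Subgroup.mem_subgroupOf.mp hb⟩⟩ := Subtype.ext hby.symm
        rw [ey, ← hrel]
        have h1 : (α : MulAut P) ^ orderOf α = 1 := by
          rw [← Subgroup.coe_pow, pow_orderOf_eq_one]; rfl
        rw [h1]
        rfl
      have hdvd : orderOf (⟨α', hα'E⟩ : E.autGroup (FusionSystem.imageAlong θ P)) ∣ orderOf α := by
        apply orderOf_dvd_of_pow_eq_one
        exact Subtype.ext hpow
      have hres : (⟨α', hα'E⟩ : E.autGroup (FusionSystem.imageAlong θ P)) ∈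
          pResidual p (E.autGroup (FusionSystem.imageAlong θ P)) :=
        Subgroup.subset_closure (Nat.Coprime.coprime_dvd_left hdvd hα)
      intro x
      refine ⟨(⟨(x : Ω), hPS' x.2⟩ : S)⁻¹ * ⟨(((α : MulAut P) x : P) : Ω), hPS' (Subtype.property _)⟩,
        ?_, rfl⟩
      show θ _ ∈ E.hyperfocalSubgroup p
      rw [map_mul, map_inv]
      apply Subgroup.subset_closure
      refine ⟨_, ⟨α', hα'E⟩, ⟨θ ⟨x, hPS' x.2⟩, hPP' x⟩, hP'S', hres, ?_⟩
      rw [← hθα x]
    intro s hs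
    rw [Subgroup.mem_subgroupOf] at hs
    obtain ⟨s', hs', hss'⟩ := hK hs
    have e : s' = s := Subtype.ext hss'
    rw [← e]; exact hs'

end Cfsg.Agent.S5256
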