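import Cfsg.Statements.S5185
import Mathlib
import Cfsg.Agent.Lib.Helper1.FusBasic
import Cfsg.Agent.Lib.Helper1.RankTwo
import Cfsg.Agent.Lib.Helper7.PCore
import Cfsg.Agent.S5080

set_option autoImplicit false
universe u
open Cfsg

open Cfsg.Agent.Lib.Helper1 Cfsg.Agent.Lib.Helper7

namespace Cfsg.Agent.S5185

/-- Let F be a saturated fusion system over a finite p-group S and H an essential subgroup of order p². Then H is elementary abelian (isomorphic to C_p × C_p) and its F-automorphism group contains a subgroup isomorphic to SL(2,p). -/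
theorem result {Ω : Type u} [Group Ω] {S : Subgroup Ω} [Finite S] (p : ℕ) [Fact p.Prime] (hS : IsPGroup p S)
    (F : Cfsg.FusionSystem S) (hF : F.IsSaturated p) (H : Subgroup Ω) (hH : F.IsEssential p H) (hcard : Nat.card H = p ^ 2) :
    Cfsg.IsElementaryAbelian p H ∧
      ∃ K : Subgroup ↥(F.autGroup H), Nonempty (↥K ≃* Matrix.SpecialLinearGroup (Fin 2) (ZMod p)) := by
  obtain ⟨hcen, hfn, hI, E, hE⟩ := hH
  have hrad := Cfsg.Agent.S5080.result p hS F hF H ⟨hcen, hfn, hI, E, hE⟩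
  have hHS : H ≤ S := hfn.1
  haveI : Finite H := fs_finite_of_le hHS
  have hp := (Fact.out : p.Prime)
  have hcomm : ∀ a b : H, a * b = b * a :=
    fun a b => (IsPGroup.isMulCommutative_of_card_eq_prime_sq hcard).is_comm.comm a b
  have hInn : Cfsg.Inn H = ⊥ := by
    rw [eq_bot_iff]
    rintro _ ⟨x, rfl⟩
    rw [Subgroup.mem_bot]
    apply MulEquiv.ext
    intro y
    rw [MulAut.conj_apply, hcomm x y, mul_inv_cancel_right]
    rfl
  have hO : Cfsg.pCore p ↥(F.autGroup H) = ⊥ := by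
    have h1 := hrad.2
    rw [hInn] at h1
    exact (Subgroup.map_eq_bot_iff_of_injective _ (Subgroup.subtype_injective _)).mp h1
  have hpdvd : p ∣ Nat.card ↥(F.autGroup H) := hE.1.trans (Subgroup.card_quotient_dvd_card _)
  obtain ⟨α, hα⟩ := exists_prime_orderOf_dvd_card' p hpdvd
  have hnn : ∃ γ : ↥(F.autGroup H), γ * α * γ⁻¹ ∉ Subgroup.zpowers α := by
    by_contra hall
    push_neg at hall
    have hnorm : (Subgroup.zpowers α).Normal := by
      refine ⟨fun n hn g => ?_⟩
      obtain ⟨z, rfl⟩ := Subgroup.mem_zpowers_iff.mp hn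
      rw [← conj_zpow]
      exact Subgroup.zpow_mem _ (hall g) z
    have hPg : IsPGroup p ↥(Subgroup.zpowers α) :=
      IsPGroup.of_card (n := 1) (by rw [Nat.card_zpowers, hα, pow_one])
    have hle := le_pCore hnorm hPg
    rw [hO] at hle
    have h1 : α = 1 := by simpa using hle (Subgroup.mem_zpowers α)
    rw [h1, orderOf_one] at hα
    exact hp.one_lt.ne hα
  obtain ⟨γ, hγ⟩ := hnn
  obtain ⟨hexp, K, hK⟩ := r2_main hcard (F.autGroup H)
    ⟨α.1, γ.1, α.2, γ.2, by rw [← hα]; exact Subgroup.orderOf_coe α, fun hmem => hγ (by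
      obtain ⟨z, hz⟩ := Subgroup.mem_zpowers_iff.mp hmem
      refine Subgroup.mem_zpowers_iff.mpr ⟨z, Subtype.ext ?_⟩
      simpa using hz)⟩
  exact ⟨⟨⟨⟨fun a b => hcomm a b⟩⟩, fun a ha => congrArg Subtype.val (hexp ⟨a, ha⟩)⟩, K, hK⟩

end Cfsg.Agent.S5185
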