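import Cfsg.Statements.S5186
import Mathlib
import Cfsg.Agent.Lib.Helper1.FusBasic
import Cfsg.Agent.Lib.Helper1.OrderPCube
import Cfsg.Agent.S5080

set_option autoImplicit false
universe u
open Cfsg

open Cfsg.Agent.Lib.Helper1

namespace Cfsg.Agent.S5186

/-- Let F be a saturated fusion system over a finite p-group S and H an essential subgroup of order p³. Then H is elementary abelian, or p is odd and H is extraspecial of exponent p, or p = 2 and H is the quaternion group of order 8. -/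
theorem result {Ω : Type u} [Group Ω] {S : Subgroup Ω} [Finite S] (p : ℕ) [Fact p.Prime] (hS : IsPGroup p S)
    (F : Cfsg.FusionSystem S) (hF : F.IsSaturated p) (H : Subgroup Ω) (hH : F.IsEssential p H) (hcard : Nat.card H = p ^ 3) :
    Cfsg.IsElementaryAbelian p H ∨ (Odd p ∧ Cfsg.IsExtraspecial p ↥H ∧ ∀ x ∈ H, x ^ p = 1) ∨
      (p = 2 ∧ Nonempty (↥H ≃* QuaternionGroup 2)) := by
  obtain ⟨hcen, hfn, hI, E, hE⟩ := hH
  have hHS : H ≤ S := hfn.1
  haveI : Finite H := fs_finite_of_le hHS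
  have hO := Cfsg.Agent.S5080.pCore_eq_bot_of_spe hE
  have hpd := hE.1
  haveI := hI
  rcases pcube_main hcard (F.autGroup H) ((Cfsg.Inn ↥H).subgroupOf (F.autGroup H)) hO hpd with
    ⟨hc, he⟩ | ⟨ho, hx, he⟩ | ⟨h2, hq⟩
  · left
    exact ⟨⟨⟨fun a b => hc a b⟩⟩, fun a ha => congrArg Subtype.val (he ⟨a, ha⟩)⟩
  · right; left
    exact ⟨ho, hx, fun x hx' => congrArg Subtype.val (he ⟨x, hx'⟩)⟩
  · right; right
    exact ⟨h2, hq⟩

end Cfsg.Agent.S5186
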