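import Cfsg.Statements.S5187
import Mathlib
import Cfsg.Agent.Lib.Helper1.FusBasic
import Cfsg.Agent.Lib.Helper1.Ab2Gen
import Cfsg.Agent.S5080

set_option autoImplicit false
universe u
open Cfsg

open Cfsg.Agent.Lib.Helper1

namespace Cfsg.Agent.S5187

/-- Let F be a saturated fusion system over a finite p-group S and H an abelian essential subgroup that can be generated by two elements (its Frattini quotient has order at most p²). Then H is elementary abelian of order p², or p ≤ 3 and H is homocyclic of rank two, that is isomorphic to C_{pᵏ} × C_{pᵏ} for some k. -/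
theorem result {Ω : Type u} [Group Ω] {S : Subgroup Ω} [Finite S] (p : ℕ) [Fact p.Prime] (hS : IsPGroup p S)
    (F : Cfsg.FusionSystem S) (hF : F.IsSaturated p) (H : Subgroup Ω) (hH : F.IsEssential p H) (hab : IsMulCommutative ↥H) (hrk : (frattini ↥H).index ≤ p ^ 2) :
    (Cfsg.IsElementaryAbelian p H ∧ Nat.card H = p ^ 2) ∨
      (p ≤ 3 ∧ ∃ k : ℕ, Nonempty (↥H ≃* Multiplicative (ZMod (p ^ k) × ZMod (p ^ k)))) := by
  obtain ⟨hcen, hfn, hI, E, hE⟩ := hH
  have hrad := Cfsg.Agent.S5080.result p hS F hF H ⟨hcen, hfn, hI, E, hE⟩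
  have hHS : H ≤ S := hfn.1
  haveI : Finite H := fs_finite_of_le hHS
  have hp := (Fact.out : p.Prime)
  have hcomm : ∀ a b : H, a * b = b * a := fun a b => hab.is_comm.comm a b
  have hInn : Cfsg.Inn H = ⊥ := by
    rw [eq_bot_iff]
    rintro _ ⟨x, rfl⟩
    rw [Subgroup.mem_bot]
    apply MulEquiv.ext
    intro y
    rw [MulAut.conj_apply, hcomm x y, mul_inv_cancel_right]
    rfl
  have hO : Cfsg.pCore p ↥(F.autGroup H) = ⊥ := by
    have h1 := hrad.2
    rw [hInn] at h1
    exact (Subgroup.map_eq_bot_iff_of_injective _ (Subgroup.subtype_injective _)).mp h1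
  have hpdvd : p ∣ Nat.card ↥(F.autGroup H) := hE.1.trans (Subgroup.card_quotient_dvd_card _)
  have hP : IsPGroup p ↥H := hS.to_le hHS
  letI : CommGroup ↥H := IsMulCommutative.instCommGroup
  rcases ab2_main (H := ↥H) hP hrk (F.autGroup H) hO hpdvd with ⟨he, hc⟩ | ⟨h3, k, hk⟩
  · left
    exact ⟨⟨hab, fun a ha => congrArg Subtype.val (he ⟨a, ha⟩)⟩, hc⟩
  · right
    exact ⟨h3, k, hk⟩

end Cfsg.Agent.S5187
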