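import Cfsg.Statements.S5191
import Cfsg.Agent.Lib.Helper2.SylowAux
-- import your own Cfsg.Agent.* helpers here

set_option autoImplicit false
open Cfsg

namespace Cfsg.Agent.S5191

/-- Fusion in a finite group G and in its quotient by O_{p'}(G) agree. Let S be a Sylow p-subgroup of G, N = O_{p'}(G) and P ≤ S. If an element of G/N conjugates the image of P into the image of S, then some element g of G conjugates P into S and induces the same map on P modulo N. (Together with the injectivity of S → G/N this says that g ↦ gN induces an isomorphism of the fusion system of G on S with that of G/N on SN/N.) -/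
theorem result {G : Type*} [Group G] [Finite G] {p : ℕ} [Fact p.Prime]
    [hN : (Cfsg.pPrimeCore p G).Normal] (S : Sylow p G) (P : Subgroup G) (hP : P ≤ (S : Subgroup G))
    (γ : G ⧸ Cfsg.pPrimeCore p G)
    (hγ : ∀ x ∈ P, γ * QuotientGroup.mk x * γ⁻¹ ∈ ((S : Subgroup G).map (QuotientGroup.mk' (Cfsg.pPrimeCore p G)))) :
    ∃ g : G, ∀ x ∈ P, g * x * g⁻¹ ∈ S ∧
      (QuotientGroup.mk (g * x * g⁻¹) : G ⧸ Cfsg.pPrimeCore p G) = γ * QuotientGroup.mk x * γ⁻¹ := by
  classical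
  obtain ⟨g0, rfl⟩ := QuotientGroup.mk_surjective γ
  have hSH : (S : Subgroup G) ≤ (S : Subgroup G) ⊔ Cfsg.pPrimeCore p G := le_sup_left
  have hP' : ∀ x ∈ P, g0 * x * g0⁻¹ ∈ (S : Subgroup G) ⊔ Cfsg.pPrimeCore p G := by
    intro x hx
    obtain ⟨s, hs, hsx⟩ := hγ x hx
    have h1 : (QuotientGroup.mk s : G ⧸ Cfsg.pPrimeCore p G) = QuotientGroup.mk (g0 * x * g0⁻¹) := by
      rw [QuotientGroup.mk_mul, QuotientGroup.mk_mul, QuotientGroup.mk_inv]; exact hsx
    rw [QuotientGroup.eq] at h1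
    have h2 : g0 * x * g0⁻¹ = s * (s⁻¹ * (g0 * x * g0⁻¹)) := by group
    rw [h2]
    exact Subgroup.mul_mem _ (hSH hs) (le_sup_right (a := (S : Subgroup G)) h1)
  have hQp : IsPGroup p (P.map (MulAut.conj g0).toMonoidHom) := (S.2.to_le hP).map _
  have hQH : P.map (MulAut.conj g0).toMonoidHom ≤ (S : Subgroup G) ⊔ Cfsg.pPrimeCore p G := by
    rintro _ ⟨x, hx, rfl⟩; exact hP' x hx
  have hQp' : IsPGroup p ((P.map (MulAut.conj g0).toMonoidHom).subgroupOf
      ((S : Subgroup G) ⊔ Cfsg.pPrimeCore p G)) :=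
    hQp.comap_of_injective _ (Subgroup.subtype_injective _)
  obtain ⟨R, hR⟩ := hQp'.exists_le_sylow
  obtain ⟨h, hh⟩ := MulAction.exists_smul_eq (↥((S : Subgroup G) ⊔ Cfsg.pPrimeCore p G : Subgroup G)) R (S.subtype hSH)
  obtain ⟨s, hs, n, hn, hsn⟩ := Subgroup.mem_sup_of_normal_right.mp h.2
  refine ⟨n * g0, fun x hx => ⟨?_, ?_⟩⟩
  · have hy : (⟨g0 * x * g0⁻¹, hP' x hx⟩ : ((S : Subgroup G) ⊔ Cfsg.pPrimeCore p G : Subgroup G)) ∈
        (R : Subgroup _) := hR (Subgroup.mem_subgroupOf.mpr ⟨x, hx, rfl⟩)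
    have h3 := Cfsg.Agent.Lib.Helper2.conj_mem_sylow_smul R h _ hy
    rw [hh] at h3
    have h4 : (h : G) * (g0 * x * g0⁻¹) * (h : G)⁻¹ ∈ (S : Subgroup G) := by
      exact h3
    rw [← hsn] at h4
    have h5 : n * g0 * x * (n * g0)⁻¹ = s⁻¹ * (s * n * (g0 * x * g0⁻¹) * (s * n)⁻¹) * s := by group
    rw [h5]
    exact Subgroup.mul_mem _ (Subgroup.mul_mem _ (Subgroup.inv_mem _ hs) h4) hs
  · have hn1 : (QuotientGroup.mk n : G ⧸ Cfsg.pPrimeCore p G) = 1 := (QuotientGroup.eq_one_iff n).mpr hn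
    simp only [QuotientGroup.mk_mul, QuotientGroup.mk_inv, hn1, one_mul, mul_inv_rev, inv_one, mul_one]

end Cfsg.Agent.S5191
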