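import Cfsg.Statements.S5251
import Mathlib
import Cfsg.Agent.Lib.Helper1.FusRad2
import Cfsg.Agent.Lib.Helper1.FusCent3
import Cfsg.Agent.Lib.Helper1.FusAlp
import Cfsg.Agent.S5132

set_option autoImplicit false
open Cfsg

open Cfsg.Agent.Lib.Helper1

namespace Cfsg.Agent.S5251

/-- Let F be a saturated fusion system over a finite p-group S, E a normal subsystem of F over T, and P an F-centric subgroup of S such that P ∩ T is not E-centric. Then some F-conjugate P* of P satisfies Out_S(P*) ∩ O_p(Out_F(P*)) ≠ 1: there is an element of N_S(P*) outside P* whose conjugation action on P* lies in O_p(Aut_F(P*)). In particular P is not both centric and radical in F. -/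
theorem result {Ω : Type*} [Group Ω] {S : Subgroup Ω} [Finite S] (p : ℕ) [Fact p.Prime] (hS : IsPGroup p S) (F : Cfsg.FusionSystem S) (hF : F.IsSaturated p) {T : Subgroup Ω} (E : Cfsg.FusionSystem T) (hE : E.IsNormalIn F p) (P : Subgroup Ω) (hP : F.IsCentric P) (hPT : ¬ E.IsCentric (P ⊓ T)) : (∃ φ ∈ F.Hom P, ∃ x ∈ S ⊓ Subgroup.normalizer (φ.range : Set Ω), x ∉ φ.range ∧ ∃ α ∈ ((Cfsg.pCore p ↥(F.autGroup φ.range)).map (F.autGroup φ.range).subtype : Subgroup (MulAut ↥φ.range)), ∀ y : ↥φ.range, ((α y : ↥φ.range) : Ω) = x * (y : Ω) * x⁻¹) ∧ ¬ F.IsRadical p P := by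
  obtain ⟨⟨hEsat, -, hsub, hTsc, -, -⟩, -⟩ := hE
  have hTS := hTsc.1
  have hTn : S ≤ Subgroup.normalizer (T : Set Ω) := fs_stronglyClosed_normal F T hTsc
  have hPS := hP.1
  -- a conjugate of `P ⊓ T` in `E` that is not self-centralizing in `T`
  obtain ⟨Q', hQ'conj, hQ'c⟩ : ∃ Q', E.IsConj (P ⊓ T) Q' ∧
      ¬ Cfsg.FusionSystem.centralizerIn T Q' ≤ Q' := by
    by_contra hcon
    apply hPT
    refine ⟨inf_le_right, fun Q' hQ' => ?_⟩
    by_contra h2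
    exact hcon ⟨Q', hQ', h2⟩
  obtain ⟨c, hc, hcQ⟩ := SetLike.not_le_iff_exists.mp hQ'c
  obtain ⟨hcT, hcC⟩ := Subgroup.mem_inf.mp hc
  have hP₀S : P ⊓ T ≤ S := inf_le_left.trans hPS
  obtain ⟨P₁, ψ, hconj, hP₁a, hP₁r, hψ, hψN, hψP⟩ := fs_sat_setup p hS F hF (P ⊓ T) hP₀S
  have hP₁S : P₁ ≤ S := hP₁a.1
  -- `Q'` is `F`-conjugate to `P₁`
  have hQ'P₁ : F.IsConj Q' P₁ := by
    obtain ⟨χ, hχ, hχr⟩ := hQ'conj
    exact fs_isConj_trans F (fs_isConj_symm F ⟨χ, hsub _ hχ, hχr⟩) hconj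
  obtain ⟨ρ, hρ, hρr⟩ := hQ'P₁
  obtain ⟨ρh, hρh, hρhv⟩ := hP₁r.2 Q' ρ hρ hρr
  have hQ'S : Q' ≤ S := (F.le_of_mem hρ).1
  have hcE : c ∈ Cfsg.FusionSystem.extender S Q' ρ :=
    fs_centralizer_le_extender S Q' ρ (Subgroup.mem_inf.mpr ⟨hTS hcT, hcC⟩)
  have hQ'E : Q' ≤ Cfsg.FusionSystem.extender S Q' ρ := fs_le_extender F hρ
  have hx₀T : ρh ⟨c, hcE⟩ ∈ T := fs_sc_mem F T hTsc hρh ⟨c, hcE⟩ hcT
  have hx₀C : ρh ⟨c, hcE⟩ ∈ Subgroup.centralizer (P₁ : Set Ω) := by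
    rw [Subgroup.mem_centralizer_iff]
    intro y hy
    rw [← hρr] at hy
    obtain ⟨q, rfl⟩ := hy
    rw [← hρhv q q.2 (hQ'E q.2), ← map_mul, ← map_mul]
    congr 1
    apply Subtype.ext
    exact Subgroup.mem_centralizer_iff.mp hcC q q.2
  have hx₀P : ρh ⟨c, hcE⟩ ∉ P₁ := by
    intro h
    rw [← hρr] at h
    obtain ⟨q, hq⟩ := h
    rw [← hρhv q q.2 (hQ'E q.2)] at hq
    have h2 := F.injective_of_mem hρh hq
    apply hcQ
    have h3 : (q : Ω) = c := congrArg (fun z : ↥(Cfsg.FusionSystem.extender S Q' ρ) => (z : Ω)) h2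
    rw [← h3]; exact q.2
  -- the conjugate of `P`
  have hPN : P ≤ Cfsg.FusionSystem.normalizerIn S (P ⊓ T) := by
    intro y hy
    refine Subgroup.mem_inf.mpr ⟨hPS hy, ?_⟩
    rw [Subgroup.mem_normalizer_iff]
    intro h
    have hyT := Subgroup.mem_normalizer_iff.mp (hTn (hPS hy)) h
    constructor
    · intro hh
      obtain ⟨h1, h2⟩ := Subgroup.mem_inf.mp hh
      exact Subgroup.mem_inf.mpr ⟨P.mul_mem (P.mul_mem hy h1) (P.inv_mem hy), hyT.mp h2⟩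
    · intro hh
      obtain ⟨h1, h2⟩ := Subgroup.mem_inf.mp hh
      refine Subgroup.mem_inf.mpr ⟨?_, hyT.mpr h2⟩
      have e : h = y⁻¹ * (y * h * y⁻¹) * y := by group
      rw [e]
      exact P.mul_mem (P.mul_mem (P.inv_mem hy) h1) hy
  have hφ := fs_restrict F hPN hψ
  have hRS : (ψ.comp (Subgroup.inclusion hPN)).range ≤ S := fs_range_le F hφ
  haveI : Finite ↥(ψ.comp (Subgroup.inclusion hPN)).range := fs_finite_of_le hRS
  have hRT : ∀ z, z ∈ (ψ.comp (Subgroup.inclusion hPN)).range → z ∈ T → z ∈ P₁ := by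
    rintro _ ⟨y, rfl⟩ hz
    have hyT : (y : Ω) ∈ T := Cfsg.Agent.S5132.key1 F T hTsc hφ y hz
    rw [← hψP]
    exact ⟨Subgroup.inclusion hPN y, Subgroup.mem_subgroupOf.mpr
      (Subgroup.mem_inf.mpr ⟨y.2, hyT⟩), rfl⟩
  have hP₁R : ∀ z, z ∈ P₁ → z ∈ (ψ.comp (Subgroup.inclusion hPN)).range ∧ z ∈ T := by
    intro z hz
    rw [← hψP] at hz
    obtain ⟨w, hw, rfl⟩ := hz
    have hw' : (w : Ω) ∈ P ⊓ T := Subgroup.mem_subgroupOf.mp hw
    obtain ⟨hwP, hwT⟩ := Subgroup.mem_inf.mp hw'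
    exact ⟨⟨⟨w, hwP⟩, rfl⟩, fs_sc_mem F T hTsc hψ w hwT⟩
  -- `X = C_T(P₁)` is normalized by the conjugate
  have hXS : Cfsg.FusionSystem.centralizerIn T P₁ ≤ S := inf_le_left.trans hTS
  haveI : Finite ↥(Cfsg.FusionSystem.centralizerIn T P₁) := fs_finite_of_le hXS
  have hRnX : (ψ.comp (Subgroup.inclusion hPN)).range ≤
      Subgroup.normalizer ((Cfsg.FusionSystem.centralizerIn T P₁ : Subgroup Ω) : Set Ω) := by
    intro y hy
    apply Cfsg.Agent.Lib.Helper6.sy_mem_normalizer_of_conj_le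
    intro d hd
    obtain ⟨hdT, hdC⟩ := Subgroup.mem_inf.mp hd
    have hyS := hRS hy
    refine Subgroup.mem_inf.mpr ⟨(Subgroup.mem_normalizer_iff.mp (hTn hyS) d).mp hdT, ?_⟩
    rw [Subgroup.mem_centralizer_iff]
    intro z hz
    obtain ⟨hzR, hzT⟩ := hP₁R z hz
    have hz' : y⁻¹ * z * y ∈ P₁ := by
      apply hRT
      · exact Subgroup.mul_mem _ (Subgroup.mul_mem _ (Subgroup.inv_mem _ hy) hzR) hy
      · have := (Subgroup.mem_normalizer_iff.mp (Subgroup.inv_mem _ (hTn hyS)) z).mp hzT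
        simpa using this
    have h1 := Subgroup.mem_centralizer_iff.mp hdC _ hz'
    calc z * (y * d * y⁻¹) = y * ((y⁻¹ * z * y) * d) * y⁻¹ := by group
      _ = y * (d * (y⁻¹ * z * y)) * y⁻¹ := by rw [h1]
      _ = y * d * y⁻¹ * z := by group
  have hx₀X : ρh ⟨c, hcE⟩ ∈ Cfsg.FusionSystem.centralizerIn T P₁ :=
    Subgroup.mem_inf.mpr ⟨hx₀T, hx₀C⟩
  have hne : (ψ.comp (Subgroup.inclusion hPN)).range ≠
      (ψ.comp (Subgroup.inclusion hPN)).range ⊔ Cfsg.FusionSystem.centralizerIn T P₁ := by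
    intro e
    apply hx₀P
    apply hRT _ _ hx₀T
    rw [e]
    exact Subgroup.mem_sup_right hx₀X
  have hBS : (ψ.comp (Subgroup.inclusion hPN)).range ⊔ Cfsg.FusionSystem.centralizerIn T P₁ ≤ S :=
    sup_le hRS hXS
  haveI : Finite ↥((ψ.comp (Subgroup.inclusion hPN)).range ⊔
      Cfsg.FusionSystem.centralizerIn T P₁) := fs_finite_of_le hBS
  obtain ⟨n, hnB, hnN, hnP⟩ := fs_normalizer_growth (hS.to_le hBS) le_sup_left hne
  obtain ⟨y, hy, x, hx, rfl⟩ := mem_sup_of_le_normalizer hRnX hnB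
  have hxN : x ∈ Subgroup.normalizer (((ψ.comp (Subgroup.inclusion hPN)).range : Subgroup Ω) : Set Ω) := by
    have e : x = y⁻¹ * (y * x) := by group
    rw [e]
    exact Subgroup.mul_mem _ (Subgroup.inv_mem _ (Subgroup.le_normalizer hy)) hnN
  have hxP : x ∉ (ψ.comp (Subgroup.inclusion hPN)).range :=
    fun h => hnP (Subgroup.mul_mem _ hy h)
  obtain ⟨hxT, hxC⟩ := Subgroup.mem_inf.mp hx
  have hxS := hTS hxT
  have hα := fs_nmh_mem_pCore p hS F T hTsc _ hRS x hxN hxT (by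
    intro z hz hzT
    exact (Subgroup.mem_centralizer_iff.mp hxC z (hRT z hz hzT)).symm)
  refine ⟨⟨_, hφ, x, Subgroup.mem_inf.mpr ⟨hxS, hxN⟩, hxP, _, hα, fun y => rfl⟩, ?_⟩
  intro hrad
  have hle := fs_pCore_le_inn_of_conj p F hrad hφ
  have hCR := hP.2 _ ⟨_, hφ, rfl⟩
  exact hxP (fs_mem_of_nmh_mem_inn hRS hCR ⟨x, hxN⟩ hxS (hle hα))

end Cfsg.Agent.S5251
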