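import Cfsg.Statements.S5299
import Mathlib
import Cfsg.Agent.Lib.Helper8.Basic

set_option autoImplicit false
universe u
open Cfsg

namespace Cfsg.Agent.S5299

open Cfsg.Agent.Lib.Helper8

theorem involves_iff {H : Type*} [Group H] {G : Type*} [Group G] :
    Cfsg.Involves H G ↔ ∃ (K : Subgroup G) (f : K →* H), Function.Surjective f := by
  constructor
  · rintro ⟨K, R, hR, ⟨e⟩⟩
    exact ⟨K, e.toMonoidHom.comp (QuotientGroup.mk' _),
      e.surjective.comp (QuotientGroup.mk'_surjective _)⟩
  · rintro ⟨K, f, hf⟩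
    have hker : (f.ker.map K.subtype).subgroupOf K = f.ker :=
      Subgroup.comap_map_eq_self_of_injective K.subtype_injective _
    refine ⟨K, f.ker.map K.subtype, ?_, ?_⟩
    · rw [hker]; infer_instance
    · haveI : ((f.ker.map K.subtype).subgroupOf K).Normal := by rw [hker]; infer_instance
      exact ⟨(QuotientGroup.quotientMulEquivOfEq hker).trans
        (QuotientGroup.quotientKerEquivOfSurjective f hf)⟩

theorem involves_of_injective {H : Type*} [Group H] {G G' : Type*} [Group G] [Group G']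
    (u : G' →* G) (hu : Function.Injective u) (h : Cfsg.Involves H G') : Cfsg.Involves H G := by
  rw [involves_iff] at h ⊢
  obtain ⟨K, f, hf⟩ := h
  exact ⟨K.map u, f.comp (K.equivMapOfInjective u hu).symm.toMonoidHom,
    hf.comp (K.equivMapOfInjective u hu).symm.surjective⟩

theorem involves_subgroup {H : Type*} [Group H] {G : Type*} [Group G] (Q : Subgroup H)
    (h : Cfsg.Involves H G) : Cfsg.Involves Q G := by
  rw [involves_iff] at h ⊢
  obtain ⟨K, f, hf⟩ := h
  refine ⟨(Q.comap f).map K.subtype,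
    (f.subgroupComap Q).comp ((Q.comap f).equivMapOfInjective K.subtype
      K.subtype_injective).symm.toMonoidHom, ?_⟩
  exact (f.subgroupComap_surjective_of_surjective Q hf).comp
    ((Q.comap f).equivMapOfInjective K.subtype K.subtype_injective).symm.surjective

/-- a `p`-group involved in a finite group is involved in each of its Sylow `p`-subgroups -/
theorem involves_sylow {Q : Type*} [Group Q] [Finite Q] {L : Type*} [Group L] [Finite L] (p : ℕ)
    [Fact p.Prime] (hQ : IsPGroup p Q) (T : Sylow p L) (h : Cfsg.Involves Q L) :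
    Cfsg.Involves Q ↥(T : Subgroup L) := by
  rw [involves_iff] at h
  obtain ⟨K, f, hf⟩ := h
  obtain ⟨P₁⟩ : Nonempty (Sylow p ↥K) := inferInstance
  -- `f` maps `P₁` onto `Q`
  have hmap : (P₁ : Subgroup ↥K).map f = ⊤ := by
    rw [← Subgroup.index_eq_one]
    have h1 : ((P₁ : Subgroup ↥K).map f).index ∣ (P₁ : Subgroup ↥K).index :=
      Subgroup.index_map_dvd _ hf
    obtain ⟨k, hk⟩ := IsPGroup.iff_card.mp hQ
    have h2 : ((P₁ : Subgroup ↥K).map f).index ∣ p ^ k := by
      rw [← hk]; exact Subgroup.index_dvd_card _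
    obtain ⟨j, -, hj⟩ := (Nat.dvd_prime_pow Fact.out).mp h2
    rcases Nat.eq_zero_or_pos j with h0 | hpos
    · rw [hj, h0, pow_zero]
    · exfalso
      apply P₁.not_dvd_index
      refine dvd_trans ?_ h1
      rw [hj]
      exact dvd_pow_self p (by omega)
  have hP₁' : IsPGroup p ↥((P₁ : Subgroup ↥K).map K.subtype) := P₁.isPGroup'.map _
  obtain ⟨g, hg⟩ := h8_exists_conj_sylow_ge T hP₁'
  -- the injective homomorphism `P₁ → T`
  have hmem : ∀ x : ↥(P₁ : Subgroup ↥K),
      ((MulAut.conj g⁻¹).toMonoidHom.comp (K.subtype.comp (P₁ : Subgroup ↥K).subtype)) x ∈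
        (T : Subgroup L) := by
    intro x
    have := hg ((x : ↥K) : L) ⟨(x : ↥K), x.2, rfl⟩
    show g⁻¹ * ((x : ↥K) : L) * g⁻¹⁻¹ ∈ (T : Subgroup L)
    rwa [inv_inv]
  have hinj : Function.Injective (((MulAut.conj g⁻¹).toMonoidHom.comp
      (K.subtype.comp (P₁ : Subgroup ↥K).subtype)).codRestrict (T : Subgroup L) hmem) := by
    intro a b hab
    have h1 : (MulAut.conj g⁻¹) (((a : ↥K) : L)) = (MulAut.conj g⁻¹) (((b : ↥K) : L)) :=
      congrArg Subtype.val hab
    exact Subtype.ext (Subtype.ext ((MulAut.conj g⁻¹).injective h1))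
  apply involves_of_injective _ hinj
  rw [involves_iff]
  refine ⟨⊤, (f.comp (P₁ : Subgroup ↥K).subtype).comp (⊤ : Subgroup ↥(P₁ : Subgroup ↥K)).subtype, ?_⟩
  intro q
  have hq : q ∈ (P₁ : Subgroup ↥K).map f := by rw [hmap]; exact Subgroup.mem_top q
  obtain ⟨x, hx, rfl⟩ := hq
  exact ⟨⟨⟨x, hx⟩, Subgroup.mem_top _⟩, rfl⟩

/-- Let F be a saturated fusion system over a finite p-group S, H a finite group and Q a p-subgroup of H. If Q is not involved in S (no section of S is isomorphic to Q), then F is H-free: H is involved in no model of the normalizer system of a fully normalized centric subgroup. -/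
theorem result {Ω : Type u} [Group Ω] {S : Subgroup Ω} [Finite S] (p : ℕ) [Fact p.Prime] (hS : IsPGroup p S)
    (F : Cfsg.FusionSystem S) (hF : F.IsSaturated p) (H : Type*) [Group H] [Finite H] (Q : Subgroup H) (hQ : IsPGroup p Q)
    (hfree : ¬ Cfsg.Involves (↥Q) (↥S)) : F.IsSectionFree p H := by
  intro Q₀ hfn hcen N hN L _ ι hmodel hinv
  obtain ⟨hLfin, ⟨hιinj, -⟩, ⟨T, hT⟩, -⟩ := hmodel
  haveI := hLfin
  haveI : Finite ↥Q := inferInstance
  have h1 : Cfsg.Involves ↥Q L := involves_subgroup Q hinv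
  have h2 : Cfsg.Involves ↥Q ↥(T : Subgroup L) := involves_sylow p hQ T h1
  rw [hT] at h2
  have h3 : Cfsg.Involves ↥Q ↥(Cfsg.FusionSystem.normalizerIn S Q₀) :=
    involves_of_injective (MonoidHom.ofInjective hιinj).symm.toMonoidHom
      (MonoidHom.ofInjective hιinj).symm.injective h2
  exact hfree (involves_of_injective (Subgroup.inclusion inf_le_left)
    (Subgroup.inclusion_injective _) h3)

end Cfsg.Agent.S5299
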