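import Cfsg.Statements.S5315
import Mathlib
import Cfsg.Agent.Lib.Helper1.FusFoc
import Cfsg.Agent.Lib.Helper1.FusAlp
import Cfsg.Agent.Lib.Helper1.FusStab
import Cfsg.Agent.S5084
import Cfsg.Agent.S5132
import Cfsg.Agent.S5134

set_option autoImplicit false
open Cfsg

open Cfsg.Agent.Lib.Helper1 Cfsg.FusionSystem

namespace Cfsg.Agent.S5315

/-- the maps of `F` fixing the elements of `Q` in their source -/
def fixSys {Ω : Type*} [Group Ω] {S : Subgroup Ω} (F : Cfsg.FusionSystem S) (Q : Subgroup Ω)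
    (hQsc : F.StronglyClosed Q) (hc : ∀ q ∈ Q, ∀ s ∈ S, q * s = s * q) : Cfsg.FusionSystem S where
  Hom P := {φ | φ ∈ F.Hom P ∧ ∀ x : P, (x : Ω) ∈ Q → φ x = x}
  le_of_mem h := F.le_of_mem h.1
  injective_of_mem h := F.injective_of_mem h.1
  conj_mem := by
    intro P g hP hg
    refine ⟨F.conj_mem hP hg, fun x hx => ?_⟩
    show g * (x : Ω) * g⁻¹ = x
    rw [← hc x hx g hg]; group
  comp_mem := by
    rintro P R φ ψ ⟨hφ, h1⟩ ⟨hψ, h2⟩ h
    refine ⟨F.comp_mem hφ hψ h, fun x hx => ?_⟩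
    show ψ ⟨φ x, h x⟩ = x
    have e := h1 x hx
    have hm : ((⟨φ x, h x⟩ : R) : Ω) ∈ Q := by
      show φ x ∈ Q
      rw [e]; exact hx
    rw [h2 ⟨φ x, h x⟩ hm]
    exact e
  inv_mem := by
    rintro P φ ⟨hφ, h1⟩
    obtain ⟨ψ, hψ, hψφ⟩ := F.inv_mem hφ
    refine ⟨ψ, ⟨hψ, ?_⟩, hψφ⟩
    rintro ⟨_, x, rfl⟩ hy
    have hx : (x : Ω) ∈ Q := Cfsg.Agent.S5132.key1 F Q hQsc hφ x hy
    rw [hψφ x]
    exact (h1 x hx).symm

/-- automorphisms of `P` fixing `P ∩ Q` elementwise -/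
def fixAut {Ω : Type*} [Group Ω] (P Q : Subgroup Ω) : Subgroup (MulAut P) where
  carrier := {β | ∀ x : P, (x : Ω) ∈ Q → β x = x}
  one_mem' := fun x _ => rfl
  mul_mem' := by
    intro a b ha hb x hx
    show a (b x) = x
    rw [hb x hx, ha x hx]
  inv_mem' := by
    intro a ha x hx
    rw [MulAut.inv_apply, MulEquiv.symm_apply_eq]
    exact (ha x hx).symm

theorem grp_aux {G : Type*} [Group G] (q a b w : G)
    (h3 : w * b * w⁻¹ * b⁻¹ = q * a * q⁻¹ * a⁻¹) (hcomm : b * (q⁻¹ * w) = (q⁻¹ * w) * b) :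
    q * (a⁻¹ * b) = (a⁻¹ * b) * q := by
  have h4 : q * b * q⁻¹ * b⁻¹ = w * b * w⁻¹ * b⁻¹ := by
    calc q * b * q⁻¹ * b⁻¹ = q * (b * (q⁻¹ * w)) * w⁻¹ * b⁻¹ := by group
      _ = q * ((q⁻¹ * w) * b) * w⁻¹ * b⁻¹ := by rw [hcomm]
      _ = w * b * w⁻¹ * b⁻¹ := by group
  have h5 : b * q⁻¹ * b⁻¹ = a * q⁻¹ * a⁻¹ := by
    have h6 := congrArg (fun t => q⁻¹ * t) (h4.trans h3)
    simpa [mul_assoc] using h6
  calc q * (a⁻¹ * b) = q * (a⁻¹ * (b * q⁻¹ * b⁻¹) * b) * q := by group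
    _ = q * (a⁻¹ * (a * q⁻¹ * a⁻¹) * b) * q := by rw [h5]
    _ = (a⁻¹ * b) * q := by group

theorem grp_aux2 {G : Type*} [Group G] (q a u v : G)
    (h2 : q * (a⁻¹ * v) = (a⁻¹ * v) * q) (hz : q * (u⁻¹ * v) = (u⁻¹ * v) * q) :
    q * (a⁻¹ * u) = (a⁻¹ * u) * q := by
  have c1 : Commute q (a⁻¹ * v) := h2
  have c2 : Commute q (u⁻¹ * v) := hz
  have c3 : Commute q ((a⁻¹ * v) * (u⁻¹ * v)⁻¹) := c1.mul_right c2.inv_right
  have e : (a⁻¹ * v) * (u⁻¹ * v)⁻¹ = a⁻¹ * u := by group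
  rw [e] at c3
  exact c3

theorem key {Ω : Type*} [Group Ω] {S : Subgroup Ω} [Finite S] (p : ℕ) [Fact p.Prime]
    (hS : IsPGroup p S) (F : Cfsg.FusionSystem S) (hF : F.IsSaturated p)
    (hperf : F.hyperfocalSubgroup p = S) {Ω' : Type*} [Group Ω'] {S' : Subgroup Ω'}
    (θ : S →* Ω') (E : Cfsg.FusionSystem S') (hE : F.IsFactorSystem F.center θ E) :
    E.center = ⊥ := by
  classical
  have hZc : F.IsCentral F.center := fs_center_central F
  have hEsave := hE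
  obtain ⟨hZS, hker, hrange, hhom⟩ := hE
  have hcen := (Cfsg.Agent.S5084.result p hS F hF F.center).mp hZc
  have hZcomm : ∀ z ∈ F.center, ∀ g ∈ S, g * z = z * g := by
    intro z hz g hg
    have hzp : Subgroup.zpowers z ≤ S := by rw [Subgroup.zpowers_le]; exact hZS hz
    have h1 : F.IsConjElt z (g * z * g⁻¹) := ⟨_, F.conj_mem hzp hg, rfl⟩
    have h2 := hcen.2 z hz _ h1
    calc g * z = (g * z * g⁻¹) * g := by group
      _ = z * g := by rw [h2]
  have hZfix : ∀ {R : Subgroup Ω} {ψ : R →* Ω}, ψ ∈ F.Hom R → ∀ x : R, (x : Ω) ∈ F.center →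
      ψ x = x := by
    intro R ψ hψ x hx
    have hzp : Subgroup.zpowers (x : Ω) ≤ R := by rw [Subgroup.zpowers_le]; exact x.2
    have h1 : F.IsConjElt (x : Ω) (ψ x) := ⟨_, fs_restrict F hzp hψ, rfl⟩
    exact hcen.2 _ hx _ h1
  have hZsc : F.StronglyClosed F.center :=
    ⟨hZS, fun R hR φ hφ x => by rw [hZfix hφ x (hR x.2)]; exact hR x.2⟩
  have hmor := (Cfsg.Agent.S5134.result p hS F hF F.center hZsc θ E hEsave).1
  have hθeq : ∀ a b : S, θ a = θ b → (a : Ω)⁻¹ * (b : Ω) ∈ F.center := by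
    intro a b h
    have h1 : θ (a⁻¹ * b) = 1 := by rw [map_mul, map_inv, h, inv_mul_cancel]
    exact (hker _).mp h1
  show sSup {Q' : Subgroup Ω' | E.IsCentral Q'} = ⊥
  rw [sSup_eq_bot]
  intro Q' hQ'
  have hQ'c : E.IsCentral Q' := hQ'
  obtain ⟨Q, hQdef⟩ : ∃ Q : Subgroup Ω, Q = FusionSystem.preimageAlong θ Q' := ⟨_, rfl⟩
  have hQS : Q ≤ S := hQdef ▸ Cfsg.Agent.S5132.pre_le θ Q'
  have hmemQ : ∀ x : Ω, x ∈ Q ↔ ∃ hx : x ∈ S, θ ⟨x, hx⟩ ∈ Q' := by
    intro x; rw [hQdef]; exact Cfsg.Agent.S5132.mem_pre θ Q' x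
  have hZQ : F.center ≤ Q := by
    intro z hz
    refine (hmemQ z).mpr ⟨hZS hz, ?_⟩
    rw [(hker ⟨z, hZS hz⟩).mpr hz]
    exact Q'.one_mem
  -- maps of F move the elements of Q inside their cosets of the centre
  have hb : ∀ {R : Subgroup Ω} {φ : R →* Ω}, φ ∈ F.Hom R → ∀ x : R, (x : Ω) ∈ Q →
      (x : Ω)⁻¹ * φ x ∈ F.center := by
    intro R φ hφ x hx
    obtain ⟨φ', hφ', hRS, hφS, hR', hind⟩ := hmor.2 R φ hφ
    obtain ⟨ψ', hψ', hψ'1, hψ'2⟩ := hQ'c.2 _ φ' hφ'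
    obtain ⟨hxS, hxQ'⟩ := (hmemQ _).mp hx
    have h1 := hψ'1 ⟨θ ⟨x, hRS x.2⟩, hR' x⟩
    have h2 := hψ'2 ⟨θ ⟨x, hRS x.2⟩, hxQ'⟩
    have h3 := hind x
    have h4 : θ ⟨x, hRS x.2⟩ = θ ⟨φ x, hφS x⟩ := by
      rw [← h3, ← h1]
      exact h2.symm
    exact hθeq _ _ h4
  have hQsc : F.StronglyClosed Q := by
    refine ⟨hQS, fun R hR φ hφ x => ?_⟩
    have h1 := hb hφ x (hR x.2)
    have e : φ x = (x : Ω) * ((x : Ω)⁻¹ * φ x) := by group
    rw [e]
    exact Q.mul_mem (hR x.2) (hZQ h1)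
  have ha : ∀ q ∈ Q, ∀ s ∈ S, q⁻¹ * (s * q * s⁻¹) ∈ F.center := by
    intro q hq s hs
    have hzp : Subgroup.zpowers q ≤ S := by rw [Subgroup.zpowers_le]; exact hQS hq
    exact hb (F.conj_mem hzp hs) ⟨q, Subgroup.mem_zpowers q⟩ hq
  have hkey : ∀ {R : Subgroup Ω} {ψ : R →* Ω}, ψ ∈ F.Hom R → Q ≤ R → ∀ (x : R), ∀ q ∈ Q,
      q * ((x : Ω)⁻¹ * ψ x) = ((x : Ω)⁻¹ * ψ x) * q := by
    intro R ψ hψ hQR x q hq
    have hRS := (F.le_of_mem hψ).1
    have hψS := (F.le_of_mem hψ).2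
    have hc : q * (x : Ω) * q⁻¹ * (x : Ω)⁻¹ ∈ F.center := by
      have h1 := ha q⁻¹ (Q.inv_mem hq) x (hRS x.2)
      have e : q * (x : Ω) * q⁻¹ * (x : Ω)⁻¹ = (q⁻¹)⁻¹ * ((x : Ω) * q⁻¹ * (x : Ω)⁻¹) := by group
      rw [e]; exact h1
    have h2 := hZfix hψ (⟨q, hQR hq⟩ * x * ⟨q, hQR hq⟩⁻¹ * x⁻¹) hc
    have h3 : ψ ⟨q, hQR hq⟩ * ψ x * (ψ ⟨q, hQR hq⟩)⁻¹ * (ψ x)⁻¹ =
        q * (x : Ω) * q⁻¹ * (x : Ω)⁻¹ := by
      have e : ψ (⟨q, hQR hq⟩ * x * ⟨q, hQR hq⟩⁻¹ * x⁻¹) =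
          ψ ⟨q, hQR hq⟩ * ψ x * (ψ ⟨q, hQR hq⟩)⁻¹ * (ψ x)⁻¹ := by
        simp only [map_mul, map_inv]
      rw [← e]; exact h2
    have hz := hb hψ ⟨q, hQR hq⟩ hq
    have hcomm := hZcomm _ hz (ψ x) (hψS x)
    exact grp_aux q (x : Ω) (ψ x) (ψ ⟨q, hQR hq⟩) h3 hcomm
  have hSQ : ∀ s ∈ S, ∀ q ∈ Q, q * s = s * q := by
    have h1 : F.hyperfocalSubgroup p ≤ Subgroup.centralizer (Q : Set Ω) := by
      unfold FusionSystem.hyperfocalSubgroup
      rw [Subgroup.closure_le]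
      rintro y ⟨P, α, x, hPS, -, rfl⟩
      apply Subgroup.mem_centralizer_iff.mpr
      intro q hq
      have hαF : P.subtype.comp (α : MulAut P).toMonoidHom ∈ F.Hom P :=
        (fs_mem_autGroup_iff F hPS _).mp α.2
      obtain ⟨φ', hφ', hPS', hφS, hP', hind⟩ := hmor.2 P _ hαF
      obtain ⟨ψ', hψ', hψ'1, hψ'2⟩ := hQ'c.2 _ φ' hφ'
      obtain ⟨hle', ψ, hψ, hRS, hψS, hR', hind2⟩ := (hhom _ ψ').mp hψ'
      have hPR : P ≤ FusionSystem.preimageAlong θ (FusionSystem.imageAlong θ P ⊔ Q') := by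
        intro u hu
        exact (Cfsg.Agent.S5132.mem_pre θ _ u).mpr
          ⟨hPS hu, Subgroup.mem_sup_left (hP' ⟨u, hu⟩)⟩
      have hQR : Q ≤ FusionSystem.preimageAlong θ (FusionSystem.imageAlong θ P ⊔ Q') := by
        intro u hu
        obtain ⟨huS, huQ'⟩ := (hmemQ u).mp hu
        exact (Cfsg.Agent.S5132.mem_pre θ _ u).mpr ⟨huS, Subgroup.mem_sup_right huQ'⟩
      have h2 := hkey hψ hQR ⟨x, hPR x.2⟩ q hq
      have h3 := hind2 ⟨x, hPR x.2⟩
      have h4 := hψ'1 ⟨θ ⟨x, hPS x.2⟩, hP' x⟩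
      have h5 := hind x
      have h6 : θ ⟨(P.subtype.comp (α : MulAut P).toMonoidHom) x, hφS x⟩ =
          θ ⟨ψ ⟨x, hPR x.2⟩, hψS _⟩ := by
        rw [← h5, ← h4]; exact h3
      have hz := hθeq _ _ h6
      have hzc := hZcomm _ hz q (hQS hq)
      exact grp_aux2 q (x : Ω) (((α : MulAut P) x : P) : Ω) (ψ ⟨x, hPR x.2⟩) h2 hzc
    intro s hs q hq
    exact Subgroup.mem_centralizer_iff.mp (h1 (hperf.ge hs)) q hq
  have hfixQ : ∀ {R : Subgroup Ω} {ψ : R →* Ω}, ψ ∈ F.Hom R → ∀ x : R, (x : Ω) ∈ Q →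
      ψ x = x := by
    intro R ψ hψ
    have hE' : ∀ P : Subgroup Ω, (P = S ∨ F.IsEssential p P) →
        F.autGroup P ≤ (fixSys F Q hQsc (fun q hq s hs => hSQ s hs q hq)).autGroup P := by
      intro P hP α hα
      have hPS : P ≤ S := by
        rcases hP with h | h
        · exact h.le
        · exact h.1.1
      obtain ⟨r, hr, g, hgS, hg, hαe⟩ := fs_aut_decomp p F P
        (fs_fullyAutomized_of_top_or_essential p hS F hF P hP) α hα
      apply (fs_mem_autGroup_iff _ hPS α).mpr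
      refine ⟨(fs_mem_autGroup_iff F hPS α).mp hα, fun x hx => ?_⟩
      have hres : pResidual p (F.autGroup P) ≤ (fixAut P Q).comap (F.autGroup P).subtype := by
        refine (Subgroup.closure_le _).mpr ?_
        intro β hβ
        have hβ' : Nat.Coprime (orderOf β) p := hβ
        show (β : MulAut P) ∈ fixAut P Q
        intro y hy
        have hβF : P.subtype.comp (β : MulAut P).toMonoidHom ∈ F.Hom P :=
          (fs_mem_autGroup_iff F hPS _).mp β.2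
        obtain ⟨z, hzdef⟩ : ∃ z : P, z = y⁻¹ * (β : MulAut P) y := ⟨_, rfl⟩
        have hzZ : (z : Ω) ∈ F.center := by
          rw [hzdef]; exact hb hβF y hy
        have hzfix : (β : MulAut P) z = z := Subtype.ext (hZfix hβF z hzZ)
        have hβy : (β : MulAut P) y = y * z := by rw [hzdef]; group
        have hpow : ∀ k : ℕ, ((β : MulAut P) ^ k) y = y * z ^ k := by
          intro k
          induction k with
          | zero => simp
          | succ k ih =>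
            rw [pow_succ' (β : MulAut P) k, MulAut.mul_apply, ih, map_mul, map_pow, hzfix, hβy,
              pow_succ' z k, mul_assoc]
        have h1 := hpow (orderOf (β : MulAut P))
        rw [pow_orderOf_eq_one] at h1
        have h1' : y = y * z ^ orderOf (β : MulAut P) := h1
        have h2 : z ^ orderOf (β : MulAut P) = 1 := by
          have := mul_left_cancel (a := y) (b := z ^ orderOf (β : MulAut P)) (c := 1)
            (by rw [mul_one]; exact h1'.symm)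
          exact this
        have hcop : Nat.Coprime (orderOf (β : MulAut P)) p := by
          rw [Subgroup.orderOf_coe]; exact hβ'
        have hz1 : z = 1 := by
          obtain ⟨j, hj⟩ := (hS.to_le hPS) z
          have d1 : orderOf z ∣ p ^ j := orderOf_dvd_of_pow_eq_one hj
          have d2 : orderOf z ∣ orderOf (β : MulAut P) := orderOf_dvd_of_pow_eq_one h2
          have hc : Nat.Coprime (p ^ j) (orderOf (β : MulAut P)) :=
            Nat.Coprime.pow_left j hcop.symm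
          exact orderOf_eq_one_iff.mp (Nat.eq_one_of_dvd_coprimes hc d1 d2)
        rw [hβy, hz1, mul_one]
      have hrx : (r : MulAut P) x = x := hres hr x hx
      have hgx : P.normalizerMonoidHom ⟨g, hg⟩ x = x := by
        apply Subtype.ext
        rw [nmh_apply]
        rw [← hSQ g hgS x hx]; group
      show (((α x : P)) : Ω) = x
      rw [hαe, MulAut.mul_apply, hgx, hrx]
    intro x hx
    exact (fs_alperin p hS F hF _ hE' R ψ hψ).2 x hx
  have hQc : F.IsCentral Q := by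
    apply (Cfsg.Agent.S5084.result p hS F hF Q).mpr
    refine ⟨hQS, ?_⟩
    rintro x hx y ⟨φ, hφ, rfl⟩
    exact hfixQ hφ ⟨x, Subgroup.mem_zpowers x⟩ hx
  have hQZ : Q ≤ F.center := le_sSup hQc
  rw [eq_bot_iff]
  intro q' hq'
  have hq'S : q' ∈ θ.range := by
    rw [hrange]; exact hQ'c.1 hq'
  obtain ⟨s, rfl⟩ := hq'S
  have hsQ : (s : Ω) ∈ Q := (hmemQ _).mpr ⟨s.2, hq'⟩
  rw [Subgroup.mem_bot]
  exact (hker s).mpr (hQZ hsQ)

/-- An analogue of Grün's lemma for fusion systems. Let F be a saturated fusion system over a finite p-group S that is perfect in the sense that its hyperfocal subgroup is all of S (F coincides with its p-residual subsystem). Then the second centre of F equals its centre: every fusion system over S/(Z(F) ∩ S) that is the factor system of F modulo its centre Z(F), read through the quotient map, has trivial centre. -/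
theorem result {Ω : Type*} [Group Ω] {S : Subgroup Ω} [Finite S] (p : ℕ) [Fact p.Prime] (hS : IsPGroup p S) (F : Cfsg.FusionSystem S) (hF : F.IsSaturated p)
    (hperf : F.hyperfocalSubgroup p = S)
    (E : Cfsg.FusionSystem (⊤ : Subgroup (↥S ⧸ (F.center).subgroupOf S)))
    (hE : F.IsFactorSystem F.center (QuotientGroup.mk' ((F.center).subgroupOf S)) E) : E.center = ⊥ := by
  exact key p hS F hF hperf _ E hE

end Cfsg.Agent.S5315
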