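import Mathlib
import Cfsg.Statements.S5726

set_option autoImplicit false
open Cfsg

namespace Cfsg.Agent.S5726

/-- If a finite group acts faithfully and transitively on a set with p^k elements, p a prime and k ≥ 1, then some element of order p fixes no point. -/
theorem result {G Ω : Type*} [Group G] [Finite G] [MulAction G Ω] [FaithfulSMul G Ω] [Fintype Ω] (htr : MulAction.IsPretransitive G Ω)
    (p k : ℕ) (hp : p.Prime) (hk : 1 ≤ k) (hΩ : Fintype.card Ω = p ^ k) :
    ∃ g : G, orderOf g = p ∧ ∀ ω : Ω, g • ω ≠ ω := by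
-----
  classical
  haveI : Fact p.Prime := ⟨hp⟩
  obtain ⟨P⟩ : Nonempty (Sylow p G) := inferInstance
  have hcardΩ : Nat.card Ω = p ^ k := by rw [Nat.card_eq_fintype_card, hΩ]
  -- P is transitive
  have htrans : ∀ ω ω' : Ω, ∃ x : G, x ∈ (P : Subgroup G) ∧ x • ω = ω' := by
    intro ω ω'
    have hS : (MulAction.stabilizer G ω).index = p ^ k := by
      rw [MulAction.index_stabilizer_of_transitive, hcardΩ]
    have h1 : ((P : Subgroup G) ⊓ MulAction.stabilizer G ω).index
        = (MulAction.stabilizer G ω).relIndex (P : Subgroup G) * (P : Subgroup G).index := by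
      rw [← Subgroup.inf_relIndex_left, Subgroup.relIndex_mul_index inf_le_left]
    have h2' : ((P : Subgroup G) ⊓ MulAction.stabilizer G ω).index
        = (P : Subgroup G).relIndex (MulAction.stabilizer G ω) * p ^ k := by
      rw [← hS, ← Subgroup.inf_relIndex_right, Subgroup.relIndex_mul_index inf_le_right]
    have h3 : p ^ k ∣ (MulAction.stabilizer G ω).relIndex (P : Subgroup G) * (P : Subgroup G).index := by
      rw [← h1, h2']; exact dvd_mul_left _ _
    have h4 : Nat.Coprime (p ^ k) (P : Subgroup G).index :=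
      Nat.Coprime.pow_left k ((Nat.Prime.coprime_iff_not_dvd hp).mpr P.not_dvd_index)
    have h5 : p ^ k ∣ (MulAction.stabilizer G ω).relIndex (P : Subgroup G) := h4.dvd_of_dvd_mul_right h3
    have h6 : MulAction.stabilizer (P : Subgroup G) ω = (MulAction.stabilizer G ω).subgroupOf (P : Subgroup G) := by
      ext x
      simp only [MulAction.mem_stabilizer_iff, Subgroup.mem_subgroupOf]
      rfl
    have h7 : Nat.card (MulAction.orbit (P : Subgroup G) ω) = (MulAction.stabilizer G ω).relIndex (P : Subgroup G) := by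
      rw [Subgroup.relIndex, ← h6, Subgroup.index]
      exact Nat.card_congr (MulAction.orbitEquivQuotientStabilizer (P : Subgroup G) ω)
    have h8 : p ^ k ≤ Nat.card (MulAction.orbit (P : Subgroup G) ω) := by
      rw [h7]
      apply Nat.le_of_dvd _ h5
      rw [← h7]
      exact Nat.card_pos_iff.mpr ⟨⟨⟨ω, MulAction.mem_orbit_self ω⟩⟩, inferInstance⟩
    have h9 : MulAction.orbit (P : Subgroup G) ω = Set.univ := by
      apply Set.eq_univ_of_forall
      by_contra hne
      push Not at hne
      obtain ⟨y, hy⟩ := hne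
      have hlt : Nat.card (MulAction.orbit (P : Subgroup G) ω) < Nat.card Ω := by
        rw [Nat.card_coe_set_eq, ← Set.ncard_univ]
        apply Set.ncard_lt_ncard _ (Set.toFinite _)
        exact ⟨Set.subset_univ _, fun h => hy (h (Set.mem_univ y))⟩
      omega
    have h10 : ω' ∈ MulAction.orbit (P : Subgroup G) ω := by rw [h9]; exact Set.mem_univ _
    obtain ⟨x, hx⟩ := h10
    exact ⟨x.1, x.2, hx⟩
  -- central element of order p
  haveI : Nonempty Ω := by
    apply Nat.card_pos_iff.mp _ |>.1
    rw [hcardΩ]; exact pow_pos hp.pos k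
  obtain ⟨ω0⟩ : Nonempty Ω := inferInstance
  have hpG : p ∣ Nat.card G := by
    have h := Subgroup.index_dvd_card (MulAction.stabilizer G ω0)
    rw [MulAction.index_stabilizer_of_transitive, hcardΩ] at h
    exact (dvd_pow_self p (by omega)).trans h
  have hPnt : Nontrivial (P : Subgroup G) := by
    rw [← Finite.one_lt_card_iff_nontrivial]
    have h := P.card_eq_multiplicity
    have h' : (Nat.card G).factorization p ≠ 0 := by
      have := (hp.factorization_pos_of_dvd (Nat.card_pos.ne') hpG)
      omega
    rw [h]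
    exact Nat.one_lt_pow h' hp.one_lt
  haveI := hPnt
  have hcn : Nontrivial (Subgroup.center (P : Subgroup G)) := P.2.center_nontrivial
  have hcp : IsPGroup p (Subgroup.center (P : Subgroup G)) := P.2.to_subgroup _
  obtain ⟨n, hn⟩ := IsPGroup.iff_card.mp hcp
  have hn0 : n ≠ 0 := by
    rintro rfl
    have := Finite.one_lt_card_iff_nontrivial.mpr hcn
    rw [hn, pow_zero] at this
    omega
  have hpz : p ∣ Nat.card (Subgroup.center (P : Subgroup G)) := by
    rw [hn]; exact dvd_pow_self p hn0
  obtain ⟨z, hz⟩ := exists_prime_orderOf_dvd_card' p hpz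
  refine ⟨((z : (P : Subgroup G)) : G), ?_, ?_⟩
  · rw [Subgroup.orderOf_coe, Subgroup.orderOf_coe, hz]
  · intro ω hω
    have hall : ∀ ω' : Ω, ((z : (P : Subgroup G)) : G) • ω' = (1 : G) • ω' := by
      intro ω'
      obtain ⟨x, hxP, hx⟩ := htrans ω ω'
      have hcomm : ((z : (P : Subgroup G)) : G) * x = x * ((z : (P : Subgroup G)) : G) := by
        have := Subgroup.mem_center_iff.mp z.2 ⟨x, hxP⟩
        have h' := congrArg (Subtype.val) this
        simpa using h'.symm
      rw [one_smul, ← hx, smul_smul, hcomm, ← smul_smul, hω]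
    have h1 : ((z : (P : Subgroup G)) : G) = 1 := FaithfulSMul.eq_of_smul_eq_smul hall
    have h2' : orderOf z = 1 := by
      rw [← Subgroup.orderOf_coe, ← Subgroup.orderOf_coe, h1, orderOf_one]
    rw [hz] at h2'
    exact hp.one_lt.ne' h2'

end Cfsg.Agent.S5726
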