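import Mathlib
import Cfsg.Statements.S5727
import Cfsg.Agent.S5726

set_option autoImplicit false
open Cfsg

namespace Cfsg.Agent.S5727

open scoped Classical in
theorem pgroup_fpf {Q Ω : Type*} [Group Q] [Finite Q] [MulAction Q Ω] [Fintype Ω]
    (p m : ℕ) (hp : p.Prime) (hQ : IsPGroup p Q) (hm : 1 ≤ m) (hmp : m < p)
    (hΩ : Fintype.card Ω = m * p)
    (hidx : ∀ ω : Ω, (MulAction.stabilizer Q ω).index = p) :
    ∃ g : Q, (∀ ω : Ω, g • ω ≠ ω) ∧ (∀ ω : Ω, g ^ p • ω = ω) := by
  haveI := Fintype.ofFinite Q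
  haveI : Fact p.Prime := ⟨hp⟩
  haveI : Nonempty Ω := by
    apply Fintype.card_pos_iff.mp
    rw [hΩ]; exact Nat.mul_pos (by omega) hp.pos
  obtain ⟨ω0⟩ : Nonempty Ω := inferInstance
  obtain ⟨n, hn⟩ := IsPGroup.iff_card.mp hQ
  have hpQ : p ∣ Nat.card Q := by
    rw [← hidx ω0]; exact Subgroup.index_dvd_card _
  have hn0 : n ≠ 0 := by
    rintro rfl
    rw [hn, pow_zero] at hpQ
    exact hp.one_lt.ne' (Nat.dvd_one.mp hpQ)
  have hmin : (Nat.card Q).minFac = p := by
    rw [hn, Nat.pow_minFac hn0, hp.minFac_eq]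
  have hnorm : ∀ ω : Ω, (MulAction.stabilizer Q ω).Normal := fun ω =>
    Subgroup.normal_of_index_eq_minFac_card (by rw [hidx ω, hmin])
  have hpow : ∀ (g : Q) (ω : Ω), g ^ p • ω = ω := by
    intro g ω
    haveI := hnorm ω
    have := Subgroup.pow_index_mem (MulAction.stabilizer Q ω) g
    rw [hidx ω] at this
    exact this
  by_contra hcon
  push Not at hcon
  have hfix : ∀ g : Q, ∃ ω : Ω, g • ω = ω := by
    intro g
    by_contra h
    push Not at h
    obtain ⟨ω, hω⟩ := hcon g h
    exact hω (hpow g ω)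
  -- stabilizer cardinality
  obtain ⟨c, hc⟩ := hpQ
  have hcpos : 1 ≤ c := by
    rcases Nat.eq_zero_or_pos c with h | h
    · rw [h, mul_zero] at hc
      exact absurd hc Nat.card_pos.ne'
    · exact h
  have hstab : ∀ ω : Ω, (Finset.univ.filter (fun g : Q => g • ω = ω)).card = c := by
    intro ω
    have h1 := Subgroup.index_mul_card (MulAction.stabilizer Q ω)
    rw [hidx ω, hc] at h1
    have h2' : Nat.card (MulAction.stabilizer Q ω) = c := Nat.eq_of_mul_eq_mul_left hp.pos h1
    rw [← h2', Nat.card_eq_fintype_card]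
    symm
    apply Fintype.card_of_subtype
    intro x
    simp [MulAction.mem_stabilizer_iff]
  have hfixcard : ∀ g : Q, p ≤ (Finset.univ.filter (fun ω : Ω => g • ω = ω)).card := by
    intro g
    obtain ⟨ω, hω⟩ := hfix g
    have h1 : Nat.card (MulAction.orbit Q ω) = p := by
      rw [← hidx ω, Subgroup.index]
      exact Nat.card_congr (MulAction.orbitEquivQuotientStabilizer Q ω)
    have h2' : MulAction.orbit Q ω ⊆ {ω' : Ω | g • ω' = ω'} := by
      rintro _ ⟨y, rfl⟩
      haveI := hnorm ω
      have h3 : y⁻¹ * g * y ∈ MulAction.stabilizer Q ω := by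
        have := (hnorm ω).conj_mem g hω y⁻¹
        simpa using this
      have h4 : (y⁻¹ * g * y) • ω = ω := h3
      show g • y • ω = y • ω
      calc g • y • ω = y • (y⁻¹ * g * y) • ω := by simp [smul_smul, mul_assoc]
        _ = y • ω := by rw [h4]
    rw [← h1, Nat.card_coe_set_eq]
    have h5 : ({ω' : Ω | g • ω' = ω'} : Set Ω).ncard = (Finset.univ.filter (fun ω : Ω => g • ω = ω)).card := by
      rw [Set.ncard_eq_toFinset_card']
      congr 1
      ext x
      simp
    rw [← h5]
    exact Set.ncard_le_ncard h2' (Set.toFinite _)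
  have hdc := Finset.sum_card_bipartiteAbove_eq_sum_card_bipartiteBelow
    (s := (Finset.univ : Finset Q)) (t := (Finset.univ : Finset Ω)) (fun g ω => g • ω = ω)
  simp only [Finset.bipartiteAbove, Finset.bipartiteBelow] at hdc
  have hR : ∑ ω : Ω, (Finset.univ.filter (fun g : Q => g • ω = ω)).card = m * p * c := by
    rw [Finset.sum_congr rfl (fun ω _ => hstab ω)]
    simp [hΩ]
  have hL : m * p + (p * c - 1) * p ≤ ∑ g : Q, (Finset.univ.filter (fun ω : Ω => g • ω = ω)).card := by
    rw [← Finset.add_sum_erase Finset.univ _ (Finset.mem_univ (1 : Q))]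
    have h1 : (Finset.univ.filter (fun ω : Ω => (1 : Q) • ω = ω)).card = m * p := by
      simp [hΩ]
    have h2' : (p * c - 1) * p ≤ ∑ g ∈ Finset.univ.erase (1 : Q), (Finset.univ.filter (fun ω : Ω => g • ω = ω)).card := by
      have := Finset.card_nsmul_le_sum (Finset.univ.erase (1 : Q))
        (fun g => (Finset.univ.filter (fun ω : Ω => g • ω = ω)).card) p (fun g _ => hfixcard g)
      rw [Finset.card_erase_of_mem (Finset.mem_univ _), Finset.card_univ, ← Nat.card_eq_fintype_card, hc, smul_eq_mul] at this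
      exact this
    omega
  rw [hdc, hR] at hL
  have hpc : 1 ≤ p * c := Nat.mul_pos hp.pos hcpos
  obtain ⟨d, hd⟩ : ∃ d, p = m + 1 + d := ⟨p - m - 1, by omega⟩
  have h6 : m * p + (p * c) * p ≤ m * p * c + p := by
    have : (p * c - 1) * p + p = (p * c) * p := by
      rw [Nat.sub_mul, one_mul]
      have : p ≤ p * c * p := by nlinarith
      omega
    omega
  have h7 : m + p * c ≤ m * c + 1 := by
    have h8 : (m + p * c) * p ≤ (m * c + 1) * p := by nlinarith
    exact Nat.le_of_mul_le_mul_right h8 hp.pos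
  subst hd
  nlinarith

theorem sylow_orbit {G Ω : Type*} [Group G] [Finite G] [MulAction G Ω] [Finite Ω]
    (htr : MulAction.IsPretransitive G Ω) (p : ℕ) [Fact p.Prime] (P : Sylow p G) (ω : Ω)
    (hd : p ∣ Nat.card Ω) :
    p ∣ (MulAction.stabilizer (P : Subgroup G) ω).index ∧
      (MulAction.stabilizer (P : Subgroup G) ω).index ≤ Nat.card Ω := by
  have hp : p.Prime := Fact.out
  have hS : (MulAction.stabilizer G ω).index = Nat.card Ω := by
    rw [MulAction.index_stabilizer_of_transitive]
  have h1 : ((P : Subgroup G) ⊓ MulAction.stabilizer G ω).index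
      = (MulAction.stabilizer G ω).relIndex (P : Subgroup G) * (P : Subgroup G).index := by
    rw [← Subgroup.inf_relIndex_left, Subgroup.relIndex_mul_index inf_le_left]
  have h2' : ((P : Subgroup G) ⊓ MulAction.stabilizer G ω).index
      = (P : Subgroup G).relIndex (MulAction.stabilizer G ω) * Nat.card Ω := by
    rw [← hS, ← Subgroup.inf_relIndex_right, Subgroup.relIndex_mul_index inf_le_right]
  have h3 : p ∣ (MulAction.stabilizer G ω).relIndex (P : Subgroup G) * (P : Subgroup G).index := by
    rw [← h1, h2']; exact hd.trans (dvd_mul_left _ _)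
  have h5 : p ∣ (MulAction.stabilizer G ω).relIndex (P : Subgroup G) := by
    rcases (Nat.Prime.dvd_mul hp).mp h3 with h | h
    · exact h
    · exact absurd h P.not_dvd_index
  have h6 : MulAction.stabilizer (P : Subgroup G) ω = (MulAction.stabilizer G ω).subgroupOf (P : Subgroup G) := by
    ext x
    simp only [MulAction.mem_stabilizer_iff, Subgroup.mem_subgroupOf]
    rfl
  have h7 : Nat.card (MulAction.orbit (P : Subgroup G) ω) = (MulAction.stabilizer (P : Subgroup G) ω).index := by
    rw [Subgroup.index]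
    exact Nat.card_congr (MulAction.orbitEquivQuotientStabilizer (P : Subgroup G) ω)
  refine ⟨?_, ?_⟩
  · rw [h6]; exact h5
  · rw [← h7]
    exact Finite.card_subtype_le _

/-- If a finite group acts faithfully and transitively on a set with m·p elements, where p is a prime and 1 ≤ m ≤ p, then some element of order p fixes no point. -/
theorem result {G Ω : Type*} [Group G] [Finite G] [MulAction G Ω] [FaithfulSMul G Ω] [Fintype Ω] (htr : MulAction.IsPretransitive G Ω)
    (p m : ℕ) (hp : p.Prime) (hm : 1 ≤ m) (hmp : m ≤ p) (hΩ : Fintype.card Ω = m * p) :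
    ∃ g : G, orderOf g = p ∧ ∀ ω : Ω, g • ω ≠ ω := by
  classical
  haveI : Fact p.Prime := ⟨hp⟩
  rcases Nat.lt_or_ge m p with hlt | hge
  · obtain ⟨P⟩ : Nonempty (Sylow p G) := inferInstance
    have hcardΩ : Nat.card Ω = m * p := by rw [Nat.card_eq_fintype_card, hΩ]
    have hidx : ∀ ω : Ω, (MulAction.stabilizer (P : Subgroup G) ω).index = p := by
      intro ω
      obtain ⟨h1, h2'⟩ := sylow_orbit htr p P ω (by rw [hcardΩ]; exact dvd_mul_left _ _)
      obtain ⟨n, hn⟩ := IsPGroup.iff_card.mp P.2
      have h3 : (MulAction.stabilizer (P : Subgroup G) ω).index ∣ p ^ n := by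
        rw [← hn]; exact Subgroup.index_dvd_card _
      obtain ⟨j, -, hj⟩ := (Nat.dvd_prime_pow hp).mp h3
      rw [hj] at h1 h2' ⊢
      rw [hcardΩ] at h2'
      have hj0 : j ≠ 0 := by
        rintro rfl
        rw [pow_zero] at h1
        exact hp.one_lt.ne' (Nat.dvd_one.mp h1)
      have hj2 : j < 2 := by
        by_contra h
        push Not at h
        have h4 : p ^ 2 ≤ p ^ j := Nat.pow_le_pow_right hp.pos h
        have h5 : m * p < p * p := Nat.mul_lt_mul_of_pos_right hlt hp.pos
        rw [sq] at h4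
        omega
      have hj1 : j = 1 := by omega
      rw [hj1, pow_one]
    obtain ⟨g, hg1, hg2⟩ := pgroup_fpf (Q := (P : Subgroup G)) p m hp P.2 hm hlt hΩ hidx
    refine ⟨(g : G), ?_, ?_⟩
    · apply orderOf_eq_prime
      · apply FaithfulSMul.eq_of_smul_eq_smul (α := Ω)
        intro ω
        rw [one_smul]
        exact hg2 ω
      · intro h1
        haveI : Nonempty Ω := by
          apply Fintype.card_pos_iff.mp
          rw [hΩ]; exact Nat.mul_pos (by omega) hp.pos
        obtain ⟨ω0⟩ : Nonempty Ω := inferInstance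
        apply hg1 ω0
        show (g : G) • ω0 = ω0
        rw [h1, one_smul]
    · intro ω
      exact hg1 ω
  · have hmeq : m = p := le_antisymm hmp hge
    subst hmeq
    exact Cfsg.Agent.S5726.result htr m 2 hp (by norm_num) (by rw [hΩ, sq])

end Cfsg.Agent.S5727
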