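import Mathlib
import Cfsg.Statements.S5728

set_option autoImplicit false
open Cfsg

namespace Cfsg.Agent.S5728

theorem aff_mk {F : Type*} [Field F] (c : F) (hc : c ≠ 0) (d : F) :
    ∃ x ∈ Cfsg.affineGroup F, (∀ y, x y = c * y + d) ∧ (∀ y, x⁻¹ y = c⁻¹ * (y - d)) := by
  refine ⟨⟨fun y => c * y + d, fun y => c⁻¹ * (y - d), fun y => by field_simp; ring, fun y => by field_simp; ring⟩,
    ⟨Units.mk0 c hc, d, fun y => rfl⟩, fun y => rfl, fun y => rfl⟩

/-- An elusive transitive action. Let p = 2^s − 1 be a prime and let F be the field with p² elements. Inside the group of affine maps x ↦ a·x + b of F (a ≠ 0), consider the subgroup of maps with both coefficients in the prime field. Then every element of prime order of the affine group is conjugate, within the affine group, to an element of that subgroup; equivalently, in the transitive action of the affine group on the cosets of that subgroup (of degree p(p + 1)) every element of prime order fixes a point. -/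
theorem result (p s : ℕ) [Fact p.Prime] (hs : p = 2 ^ s - 1)
    (g : Equiv.Perm (GaloisField p 2)) (hg : g ∈ Cfsg.affineGroup (GaloisField p 2)) (hord : (orderOf g).Prime) :
    ∃ x ∈ Cfsg.affineGroup (GaloisField p 2), ∃ a b : ZMod p, a ≠ 0 ∧
      ∀ y : GaloisField p 2, (x * g * x⁻¹) y = algebraMap (ZMod p) (GaloisField p 2) a * y + algebraMap (ZMod p) (GaloisField p 2) b := by
  classical
  have hp : p.Prime := Fact.out
  obtain ⟨α, β, hαβ⟩ := hg
  by_cases hα : α = 1
  · subst hα
    have hβ : β ≠ 0 := by
      rintro rfl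
      have h1 : g = 1 := by
        ext y
        simp [hαβ y]
      rw [h1, orderOf_one] at hord
      exact Nat.not_prime_one hord
    obtain ⟨x, hx, hx1, hx2⟩ := aff_mk (β⁻¹) (inv_ne_zero hβ) 0
    refine ⟨x, hx, 1, 1, one_ne_zero, ?_⟩
    intro y
    simp only [Equiv.Perm.coe_mul, Function.comp_apply, map_one, one_mul]
    rw [hx2, hαβ, hx1]
    simp only [Units.val_one, one_mul, inv_inv, sub_zero, add_zero]
    field_simp
  · have hα' : (α : GaloisField p 2) ≠ 1 := fun h => hα (Units.ext h)
    have hα1 : (1 : GaloisField p 2) - α ≠ 0 := fun h => hα' (sub_eq_zero.mp h).symm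
    obtain ⟨x, hx, hx1, hx2⟩ := aff_mk (1 : GaloisField p 2) one_ne_zero (-(β / (1 - α)))
    have hconj : ∀ y, (x * g * x⁻¹) y = (α : GaloisField p 2) * y := by
      intro y
      simp only [Equiv.Perm.coe_mul, Function.comp_apply]
      rw [hx2, hαβ, hx1]
      field_simp
      ring
    have hpow : ∀ (k : ℕ) (y : GaloisField p 2), ((x * g * x⁻¹) ^ k) y = (α : GaloisField p 2) ^ k * y := by
      intro k
      induction k with
      | zero => intro y; simp
      | succ k ih =>
        intro y
        rw [pow_succ, Equiv.Perm.coe_mul, Function.comp_apply, hconj, ih, pow_succ]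
        ring
    have hαr : α ^ orderOf g = 1 := by
      have h1 : (x * g * x⁻¹) ^ orderOf g = 1 := by
        rw [conj_pow, pow_orderOf_eq_one, mul_one, mul_inv_cancel]
      have h2 := hpow (orderOf g) 1
      rw [h1] at h2
      apply Units.ext
      simpa using h2.symm
    have hord2 : orderOf α = orderOf g := by
      rcases (Nat.dvd_prime hord).mp (orderOf_dvd_of_pow_eq_one hαr) with h | h
      · exact absurd (orderOf_eq_one_iff.mp h) hα
      · exact h
    have hcard : Nat.card (GaloisField p 2)ˣ = p ^ 2 - 1 := by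
      rw [Nat.card_units, GaloisField.card p 2 (by norm_num)]
    have hdvd : orderOf g ∣ p ^ 2 - 1 := by
      rw [← hord2, ← hcard]
      exact orderOf_dvd_natCard α
    have hs2 : 2 ≤ s := by
      by_contra h
      push Not at h
      interval_cases s
      · simp at hs; subst hs; exact Nat.not_prime_zero hp
      · simp at hs; subst hs; exact Nat.not_prime_one hp
    obtain ⟨k, rfl⟩ : ∃ k, s = k + 2 := ⟨s - 2, by omega⟩
    have h2k : 1 ≤ 2 ^ k := Nat.one_le_two_pow
    have hp4 : p = 4 * 2 ^ k - 1 := by rw [hs, pow_add]; ring_nf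
    have hfact : p ^ 2 - 1 = (p - 1) * 2 ^ (k + 2) := by
      have h1 : p + 1 = 2 ^ (k + 2) := by rw [pow_add]; omega
      rw [← h1]
      have h3 : 1 ≤ p := hp.one_lt.le
      obtain ⟨q, rfl⟩ : ∃ q, p = q + 1 := ⟨p - 1, by omega⟩
      simp only [Nat.add_sub_cancel]
      have : (q + 1) ^ 2 = q * (q + 1 + 1) + 1 := by ring
      rw [this, Nat.add_sub_cancel]
    have hdvd2 : orderOf g ∣ p - 1 := by
      rw [hfact] at hdvd
      rcases (Nat.Prime.dvd_mul hord).mp hdvd with h | h
      · exact h
      · have h3 := Nat.Prime.dvd_of_dvd_pow hord h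
        have h4 : orderOf g = 2 := (Nat.prime_dvd_prime_iff_eq hord Nat.prime_two).mp h3
        rw [h4]
        exact ⟨2 * 2 ^ k - 1, by omega⟩
    have hαp : (α : GaloisField p 2) ^ p = α := by
      obtain ⟨m, hm⟩ := hdvd2
      have h1 : α ^ (p - 1) = 1 := by rw [hm, pow_mul, hαr, one_pow]
      have h2 : (α : GaloisField p 2) ^ (p - 1) = 1 := by
        have := congrArg Units.val h1
        simpa using this
      have h3 : p = (p - 1) + 1 := by have := hp.one_lt; omega
      calc (α : GaloisField p 2) ^ p = (α : GaloisField p 2) ^ ((p - 1) + 1) := by rw [← h3]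
        _ = α := by rw [pow_succ, h2, one_mul]
    have hmem : (α : GaloisField p 2) ∈ (⊥ : Subfield (GaloisField p 2)) :=
      (Subfield.mem_bot_iff_pow_eq_self (GaloisField p 2) p).mpr hαp
    rw [Subfield.bot_eq_of_zMod_algebra p] at hmem
    obtain ⟨a, ha⟩ := hmem
    refine ⟨x, hx, a, 0, ?_, ?_⟩
    · rintro rfl
      rw [map_zero] at ha
      exact α.ne_zero ha.symm
    · intro y
      rw [hconj, map_zero, add_zero, ha]

end Cfsg.Agent.S5728
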