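import Mathlib
import Cfsg.Statements.S5905

set_option autoImplicit false
open Cfsg

namespace Cfsg.Agent.S5905

variable {Ω : Type*} [Fintype Ω] [DecidableEq Ω] {b : ℕ}

/-- the set of partition-preserving permutations -/
def PS (f : Ω → Fin b) : Set (Equiv.Perm Ω) := {g | ∀ x y : Ω, f x = f y ↔ f (g x) = f (g y)}

theorem ps_one (f : Ω → Fin b) : (1 : Equiv.Perm Ω) ∈ PS f := fun _ _ => Iff.rfl

theorem ps_mul (f : Ω → Fin b) (g h : Equiv.Perm Ω) (hg : g ∈ PS f) (hh : h ∈ PS f) :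
    g * h ∈ PS f := by
  intro x y
  rw [hh x y, hg (h x) (h y)]
  rfl

theorem ps_inv (f : Ω → Fin b) (g : Equiv.Perm Ω) (hg : g ∈ PS f) : g⁻¹ ∈ PS f := by
  intro x y
  have h := hg (g⁻¹ x) (g⁻¹ y)
  rw [← Equiv.Perm.mul_apply, ← Equiv.Perm.mul_apply, mul_inv_cancel] at h
  exact h.symm

theorem mem_closure_ps (f : Ω → Fin b) (g : Equiv.Perm Ω) :
    g ∈ Subgroup.closure (PS f) ↔ g ∈ PS f := by
  constructor
  · intro h
    induction h using Subgroup.closure_induction with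
    | mem x hx => exact hx
    | one => exact ps_one f
    | mul x y _ _ hx hy => exact ps_mul f x y hx hy
    | inv x _ hx => exact ps_inv f x hx
  · exact fun h => Subgroup.subset_closure h

theorem swap_mem (f : Ω → Fin b) (x y : Ω) (h : f x = f y) : Equiv.swap x y ∈ PS f := by
  intro u v
  have key : ∀ w, f (Equiv.swap x y w) = f w := by
    intro w
    by_cases hx : w = x
    · subst hx; rw [Equiv.swap_apply_left]; exact h.symm
    · by_cases hy : w = y
      · subst hy; rw [Equiv.swap_apply_right]; exact h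
      · rw [Equiv.swap_apply_of_ne_of_ne hx hy]
  rw [key, key]

/-- the coordinatisation -/
theorem exists_coord (a : ℕ) (f : Ω → Fin b) (hf : ∀ i : Fin b, Nat.card {x : Ω // f x = i} = a) :
    ∃ φ : Ω ≃ Fin b × Fin a, ∀ x, (φ x).1 = f x :=
  ⟨(Equiv.sigmaFiberEquiv f).symm.trans
    ((Equiv.sigmaCongrRight fun i => Finite.equivFinOfCardEq (hf i)).trans
      (Equiv.sigmaEquivProd _ _)), fun _ => rfl⟩

/-- lift of a permutation of the labels -/
def lift {a : ℕ} (φ : Ω ≃ Fin b × Fin a) (σ : Equiv.Perm (Fin b)) : Equiv.Perm Ω :=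
  φ.trans ((Equiv.prodCongr σ (Equiv.refl _)).trans φ.symm)

theorem f_lift {a : ℕ} (f : Ω → Fin b) (φ : Ω ≃ Fin b × Fin a) (hφ : ∀ x, (φ x).1 = f x)
    (σ : Equiv.Perm (Fin b)) (x : Ω) : f (lift φ σ x) = σ (f x) := by
  rw [← hφ, ← hφ]
  simp [lift]

theorem lift_mem {a : ℕ} (f : Ω → Fin b) (φ : Ω ≃ Fin b × Fin a) (hφ : ∀ x, (φ x).1 = f x)
    (σ : Equiv.Perm (Fin b)) : lift φ σ ∈ PS f := by
  intro x y
  rw [f_lift f φ hφ, f_lift f φ hφ]
  exact σ.injective.eq_iff.symm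

theorem perm_exists {α : Type*} [DecidableEq α] (i j i' j' : α) (hij : i ≠ j) (hij' : i' ≠ j') :
    ∃ σ : Equiv.Perm α, σ i = i' ∧ σ j = j' := by
  refine ⟨Equiv.swap (Equiv.swap i i' j) j' * Equiv.swap i i', ?_, ?_⟩
  · rw [Equiv.Perm.mul_apply, Equiv.swap_apply_left, Equiv.swap_apply_of_ne_of_ne _ hij']
    intro e
    have h : Equiv.swap i i' i = Equiv.swap i i' j := by rw [Equiv.swap_apply_left]; exact e
    exact hij ((Equiv.swap i i').injective h)
  · rw [Equiv.Perm.mul_apply, Equiv.swap_apply_left]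

theorem not_top (a : ℕ) (ha : 2 ≤ a) (hb : 2 ≤ b) (f : Ω → Fin b)
    (hf : ∀ i : Fin b, Nat.card {x : Ω // f x = i} = a) : Subgroup.closure (PS f) ≠ ⊤ := by
  intro htop
  obtain ⟨φ, hφ⟩ := exists_coord a f hf
  have hx : f (φ.symm (⟨0, by omega⟩, ⟨0, by omega⟩)) = ⟨0, by omega⟩ := by rw [← hφ]; simp
  have hy : f (φ.symm (⟨0, by omega⟩, ⟨1, by omega⟩)) = ⟨0, by omega⟩ := by rw [← hφ]; simp
  have hz : f (φ.symm (⟨1, by omega⟩, ⟨0, by omega⟩)) = ⟨1, by omega⟩ := by rw [← hφ]; simp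
  have hxy : φ.symm ((⟨0, by omega⟩ : Fin b), (⟨0, by omega⟩ : Fin a)) ≠
      φ.symm ((⟨0, by omega⟩ : Fin b), (⟨1, by omega⟩ : Fin a)) := by
    intro e
    have e' := φ.symm.injective e
    simp at e'
  have hxz : φ.symm ((⟨0, by omega⟩ : Fin b), (⟨0, by omega⟩ : Fin a)) ≠
      φ.symm ((⟨1, by omega⟩ : Fin b), (⟨0, by omega⟩ : Fin a)) := by
    intro e
    have e' := φ.symm.injective e
    simp at e'
  have hmem : Equiv.swap (φ.symm ((⟨0, by omega⟩ : Fin b), (⟨1, by omega⟩ : Fin a)))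
      (φ.symm ((⟨1, by omega⟩ : Fin b), (⟨0, by omega⟩ : Fin a))) ∈ PS f :=
    (mem_closure_ps f _).1 (htop ▸ Subgroup.mem_top _)
  have h1 := (hmem _ _).1 (hx.trans hy.symm)
  rw [Equiv.swap_apply_of_ne_of_ne hxy hxz, Equiv.swap_apply_left, hx, hz] at h1
  simp at h1

theorem eq_top_of_lt (a : ℕ) (f : Ω → Fin b)
    (hf : ∀ i : Fin b, Nat.card {x : Ω // f x = i} = a) (X : Subgroup (Equiv.Perm Ω))
    (hX : Subgroup.closure (PS f) < X) : X = ⊤ := by
  obtain ⟨φ, hφ⟩ := exists_coord a f hf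
  have hG : ∀ g ∈ PS f, g ∈ X := fun g hg => hX.le (Subgroup.subset_closure hg)
  obtain ⟨g, hgX, hgG⟩ := SetLike.exists_of_lt hX
  rw [mem_closure_ps] at hgG
  have h1 : ∃ u v, f u ≠ f v ∧ Equiv.swap u v ∈ X := by
    simp only [PS, Set.mem_setOf_eq, not_forall] at hgG
    obtain ⟨x, y, hxy⟩ := hgG
    by_cases h : f x = f y
    · have h' : f (g x) ≠ f (g y) := fun h' => hxy ⟨fun _ => h', fun _ => h⟩
      refine ⟨g x, g y, h', ?_⟩
      rw [Equiv.swap_apply_apply]
      exact X.mul_mem (X.mul_mem hgX (hG _ (swap_mem f x y h))) (X.inv_mem hgX)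
    · have h' : f (g x) = f (g y) := by
        by_contra h'; exact hxy ⟨fun h0 => absurd h0 h, fun h0 => absurd h0 h'⟩
      refine ⟨x, y, h, ?_⟩
      have e : Equiv.swap x y = g⁻¹ * Equiv.swap (g x) (g y) * g := by
        rw [Equiv.swap_apply_apply]; group
      rw [e]
      exact X.mul_mem (X.mul_mem (X.inv_mem hgX) (hG _ (swap_mem f _ _ h'))) hgX
  obtain ⟨u, v, huv, hsw⟩ := h1
  have h2 : ∀ u' v', f u' ≠ f v' → Equiv.swap u' v' ∈ X := by
    intro u' v' huv'
    obtain ⟨σ, hσ1, hσ2⟩ := perm_exists (f u) (f v) (f u') (f v') huv huv'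
    have hh : lift φ σ ∈ X := hG _ (lift_mem f φ hφ σ)
    have e1 : f (lift φ σ u) = f u' := by rw [f_lift f φ hφ, hσ1]
    have e2 : f (lift φ σ v) = f v' := by rw [f_lift f φ hφ, hσ2]
    have s1 : Equiv.swap (lift φ σ u) (lift φ σ v) ∈ X := by
      rw [Equiv.swap_apply_apply]; exact X.mul_mem (X.mul_mem hh hsw) (X.inv_mem hh)
    have k1 : (Equiv.swap (lift φ σ u) u' * Equiv.swap (lift φ σ v) v') (lift φ σ u) = u' := by
      have n1 : lift φ σ u ≠ lift φ σ v := by
        intro e; rw [e] at e1; exact huv' (e1.symm.trans e2)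
      have n2 : lift φ σ u ≠ v' := by
        intro e; rw [e] at e1; exact huv' e1.symm
      rw [Equiv.Perm.mul_apply, Equiv.swap_apply_of_ne_of_ne n1 n2, Equiv.swap_apply_left]
    have k2 : (Equiv.swap (lift φ σ u) u' * Equiv.swap (lift φ σ v) v') (lift φ σ v) = v' := by
      have n1 : v' ≠ lift φ σ u := by
        intro e; rw [← e] at e1; exact huv' e1.symm
      have n2 : v' ≠ u' := fun e => huv' (congrArg f e).symm
      rw [Equiv.Perm.mul_apply, Equiv.swap_apply_left, Equiv.swap_apply_of_ne_of_ne n1 n2]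
    have hk : (Equiv.swap (lift φ σ u) u' * Equiv.swap (lift φ σ v) v') ∈ X :=
      X.mul_mem (hG _ (swap_mem f _ _ e1)) (hG _ (swap_mem f _ _ e2))
    have e : Equiv.swap u' v' = (Equiv.swap (lift φ σ u) u' * Equiv.swap (lift φ σ v) v') *
        Equiv.swap (lift φ σ u) (lift φ σ v) *
        (Equiv.swap (lift φ σ u) u' * Equiv.swap (lift φ σ v) v')⁻¹ := by
      rw [← Equiv.swap_apply_apply, k1, k2]
    rw [e]; exact X.mul_mem (X.mul_mem hk s1) (X.inv_mem hk)
  rw [eq_top_iff, ← Equiv.Perm.closure_isSwap, Subgroup.closure_le]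
  rintro σ ⟨x, y, hxy, rfl⟩
  by_cases h : f x = f y
  · exact hG _ (swap_mem f x y h)
  · exact h2 x y h

/-- Let Ω be a finite set and f : Ω → Fin b a map onto b ≥ 2 labels whose fibres all have the same size a ≥ 2 (a partition of Ω into b blocks of size a, so |Ω| = ab). Then the stabilizer of this partition in the symmetric group on Ω — the permutations g such that x and y lie in the same block exactly when g x and g y do, a group isomorphic to the imprimitive wreath product S_a ≀ S_b — is a maximal subgroup of the symmetric group. -/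
theorem result {Ω : Type*} [Fintype Ω] [DecidableEq Ω] (a b : ℕ) (ha : 2 ≤ a) (hb : 2 ≤ b)
    (f : Ω → Fin b) (hf : ∀ i : Fin b, Nat.card {x : Ω // f x = i} = a) :
    IsCoatom (Subgroup.closure {g : Equiv.Perm Ω | ∀ x y : Ω, f x = f y ↔ f (g x) = f (g y)}) := by
  exact ⟨not_top a ha hb f hf, fun X hX => eq_top_of_lt a f hf X hX⟩

end Cfsg.Agent.S5905
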