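import Mathlib
import Cfsg.Statements.S5894
import Cfsg.Agent.S5905

set_option autoImplicit false
open Cfsg

namespace Cfsg.Agent.S5894

theorem isCoatom_subgroupOf {G : Type*} [Group G] (H M : Subgroup G) (hHM : H ≤ M) (hne : H ≠ M)
    (hmax : ∀ L : Subgroup G, H < L → L ≤ M → L = M) : IsCoatom (H.subgroupOf M) := by
  refine ⟨?_, ?_⟩
  · intro h
    rw [Subgroup.subgroupOf_eq_top] at h
    exact hne (le_antisymm hHM h)
  · intro X hX
    obtain ⟨x, hxX, hxH⟩ := SetLike.exists_of_lt hX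
    have hL : H < X.map M.subtype := by
      refine lt_of_le_of_ne ?_ ?_
      · intro h hh
        exact ⟨⟨h, hHM hh⟩, hX.le (Subgroup.mem_subgroupOf.2 hh), rfl⟩
      · intro e
        apply hxH
        rw [Subgroup.mem_subgroupOf, e]
        exact ⟨x, hxX, rfl⟩
    have hLM := hmax _ hL (Subgroup.map_subtype_le X)
    rw [eq_top_iff]
    intro y _
    have hy : y.1 ∈ X.map M.subtype := by rw [hLM]; exact y.2
    obtain ⟨x', hx', hxy⟩ := hy
    have e : x' = y := Subtype.ext hxy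
    rw [← e]; exact hx'

theorem not_isCoatom_subgroupOf {G : Type*} [Group G] (H P K : Subgroup G) (hHP : H ≤ P)
    (x : G) (hxP : x ∈ P) (hxK : x ∈ K) (hxH : x ∉ H) (y : G) (hyK : y ∈ K) (hyP : y ∉ P) :
    ¬ IsCoatom (H.subgroupOf K) := by
  intro hc
  have hlt : H.subgroupOf K < P.subgroupOf K := by
    refine lt_of_le_of_ne ?_ ?_
    · intro z hz
      exact Subgroup.mem_subgroupOf.2 (hHP (Subgroup.mem_subgroupOf.1 hz))
    · intro e
      have h1 : (⟨x, hxK⟩ : ↥K) ∈ P.subgroupOf K := Subgroup.mem_subgroupOf.2 hxP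
      rw [← e] at h1
      exact hxH (Subgroup.mem_subgroupOf.1 h1)
  have htop := hc.2 _ hlt
  rw [Subgroup.subgroupOf_eq_top] at htop
  exact hyP (htop hyK)

theorem mem_of_swaps {α : Type*} [Fintype α] [DecidableEq α] (x₀ : α)
    (L : Subgroup (Equiv.Perm α))
    (hL : ∀ u v : α, u ≠ x₀ → v ≠ x₀ → Equiv.swap u v ∈ L) :
    ∀ n : ℕ, ∀ g : Equiv.Perm α, g.support.card = n → g x₀ = x₀ → g ∈ L := by
  intro n
  induction n using Nat.strong_induction_on with
  | _ n ih =>
    intro g hn hg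
    by_cases h1 : g = 1
    · rw [h1]; exact L.one_mem
    · obtain ⟨u, hu⟩ : ∃ u, g u ≠ u := by
        by_contra hcon
        push_neg at hcon
        exact h1 (Equiv.ext hcon)
      have hu0 : u ≠ x₀ := fun e => hu (e ▸ hg)
      have hgu0 : g u ≠ x₀ := fun e => hu0 (g.injective (e.trans hg.symm))
      have hlt := Equiv.Perm.card_support_swap_mul hu
      have h2 : Equiv.swap u (g u) * g ∈ L := ih _ (hn ▸ hlt) _ rfl (by
        rw [Equiv.Perm.mul_apply, hg]; exact Equiv.swap_apply_of_ne_of_ne hu0.symm hgu0.symm)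
      have h3 : g = Equiv.swap u (g u) * (Equiv.swap u (g u) * g) := by
        rw [← mul_assoc, Equiv.swap_mul_self, one_mul]
      rw [h3]; exact L.mul_mem (hL _ _ hu0 hgu0) h2

section core
variable {Ω : Type*} [Fintype Ω] [DecidableEq Ω]

/-- label-preserving permutations -/
def P (f : Ω → Fin 2) : Subgroup (Equiv.Perm Ω) where
  carrier := {g | ∀ x, f (g x) = f x}
  mul_mem' := by
    intro g h hg hh x
    rw [Equiv.Perm.mul_apply, hg, hh]
  one_mem' := fun x => rfl
  inv_mem' := by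
    intro g hg x
    have h := hg (g⁻¹ x)
    rw [← Equiv.Perm.mul_apply, mul_inv_cancel] at h
    exact h.symm

theorem mem_P (f : Ω → Fin 2) (g : Equiv.Perm Ω) : g ∈ P f ↔ ∀ x, f (g x) = f x := Iff.rfl

theorem swap_mem_P (f : Ω → Fin 2) (x y : Ω) (h : f x = f y) : Equiv.swap x y ∈ P f := by
  intro w
  by_cases hx : w = x
  · subst hx; rw [Equiv.swap_apply_left]; exact h.symm
  · by_cases hy : w = y
    · subst hy; rw [Equiv.swap_apply_right]; exact h
    · rw [Equiv.swap_apply_of_ne_of_ne hx hy]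

theorem fin2 (i : Fin 2) : i = 0 ∨ i = 1 := by
  fin_cases i
  · left; rfl
  · right; rfl

theorem fin2_ne {i j : Fin 2} (h : i ≠ j) : (i = 0 ∧ j = 1) ∨ (i = 1 ∧ j = 0) := by
  rcases fin2 i with rfl | rfl <;> rcases fin2 j with rfl | rfl
  · exact absurd rfl h
  · exact Or.inl ⟨rfl, rfl⟩
  · exact Or.inr ⟨rfl, rfl⟩
  · exact absurd rfl h

/-- the key maximality statement -/
theorem max_in_M (m : ℕ) (hm : 2 ≤ m) (f : Ω → Fin 2)
    (hf : ∀ i : Fin 2, Nat.card {x : Ω // f x = i} = m) (x₀ : Ω) (hx₀ : f x₀ = 0)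
    (L : Subgroup (Equiv.Perm Ω))
    (hlt : MulAction.stabilizer (Equiv.Perm Ω) x₀ ⊓ P f < L)
    (hle : L ≤ MulAction.stabilizer (Equiv.Perm Ω) x₀) :
    L = MulAction.stabilizer (Equiv.Perm Ω) x₀ := by
  have hH : ∀ g : Equiv.Perm Ω, g x₀ = x₀ → g ∈ P f → g ∈ L := fun g h1 h2 =>
    hlt.le ⟨MulAction.mem_stabilizer_iff.2 h1, h2⟩
  have hswH : ∀ p q : Ω, p ≠ x₀ → q ≠ x₀ → f p = f q → Equiv.swap p q ∈ L := fun p q hp hq h =>
    hH _ (Equiv.swap_apply_of_ne_of_ne hp.symm hq.symm) (swap_mem_P f p q h)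
  obtain ⟨g, hgL, hgH⟩ := SetLike.exists_of_lt hlt
  have hg0 : g x₀ = x₀ := MulAction.mem_stabilizer_iff.1 (hle hgL)
  have hgP : g ∉ P f := fun h => hgH ⟨hle hgL, h⟩
  -- cardinalities
  have cA : (Finset.univ.filter (fun x : Ω => f x = 0)).card = m := by
    rw [← Fintype.card_subtype, ← Nat.card_eq_fintype_card]; exact hf 0
  have cB : (Finset.univ.filter (fun x : Ω => f x = 1)).card = m := by
    rw [← Fintype.card_subtype, ← Nat.card_eq_fintype_card]; exact hf 1
  -- a point of B mapped into B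
  obtain ⟨v, hv, hgv⟩ : ∃ v, f v = 1 ∧ f (g v) = 1 := by
    by_contra hcon
    push_neg at hcon
    have hmaps : Set.MapsTo g (Finset.univ.filter (fun x : Ω => f x = 1) : Finset Ω)
        (((Finset.univ.filter (fun x : Ω => f x = 0)).erase x₀ : Finset Ω)) := by
      intro w hw
      rw [Finset.mem_coe, Finset.mem_filter] at hw
      rw [Finset.mem_coe, Finset.mem_erase, Finset.mem_filter]
      refine ⟨?_, Finset.mem_univ _, ?_⟩
      · intro e
        have e2 : w = x₀ := g.injective (e.trans hg0.symm)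
        rw [e2, hx₀] at hw
        exact absurd hw.2 (by decide)
      · rcases fin2 (f (g w)) with h | h
        · exact h
        · exact absurd h (hcon w hw.2)
    have hc := Finset.card_le_card_of_injOn g hmaps (g.injective.injOn)
    rw [cB, Finset.card_erase_of_mem (by
      rw [Finset.mem_filter]; exact ⟨Finset.mem_univ _, hx₀⟩), cA] at hc
    omega
  have hv0 : v ≠ x₀ := by
    intro e; rw [e, hx₀] at hv; exact absurd hv (by decide)
  have hgv0 : g v ≠ x₀ := fun e => hv0 (g.injective (e.trans hg0.symm))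
  -- a mixed swap
  obtain ⟨u, w, hu0, hw0, hu, hw, hsw⟩ : ∃ u w : Ω, u ≠ x₀ ∧ w ≠ x₀ ∧ f u = 0 ∧ f w = 1 ∧
      Equiv.swap u w ∈ L := by
    rw [mem_P] at hgP
    push_neg at hgP
    obtain ⟨x, hx⟩ := hgP
    have hx0 : x ≠ x₀ := by
      intro e; rw [e, hg0] at hx; exact hx rfl
    have hgx0 : g x ≠ x₀ := fun e => hx0 (g.injective (e.trans hg0.symm))
    rcases fin2_ne hx with ⟨h1, h2⟩ | ⟨h1, h2⟩
    · -- f (g x) = 0, f x = 1 : x, v both in B, images in different parts
      refine ⟨g x, g v, hgx0, hgv0, h1, hgv, ?_⟩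
      rw [Equiv.swap_apply_apply]
      exact L.mul_mem (L.mul_mem hgL (hswH x v hx0 hv0 (h2.trans hv.symm))) (L.inv_mem hgL)
    · -- f (g x) = 1, f x = 0 : x in A, v in B, images both in B
      refine ⟨x, v, hx0, hv0, h2, hv, ?_⟩
      have e : Equiv.swap x v = g⁻¹ * Equiv.swap (g x) (g v) * g := by
        rw [Equiv.swap_apply_apply]; group
      rw [e]
      exact L.mul_mem (L.mul_mem (L.inv_mem hgL) (hswH _ _ hgx0 hgv0 (h1.trans hgv.symm))) hgL
  -- all mixed swaps
  have hmixed : ∀ u' w' : Ω, u' ≠ x₀ → w' ≠ x₀ → f u' = 0 → f w' = 1 →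
      Equiv.swap u' w' ∈ L := by
    intro u' w' hu'0 hw'0 hu' hw'
    have n1 : u ≠ w := fun e => by rw [e, hw] at hu; exact absurd hu (by decide)
    have n2 : u ≠ w' := fun e => by rw [e, hw'] at hu; exact absurd hu (by decide)
    have n3 : w' ≠ u := fun e => n2 e.symm
    have n4 : w' ≠ u' := fun e => by rw [e, hu'] at hw'; exact absurd hw' (by decide)
    have k1 : (Equiv.swap u u' * Equiv.swap w w') u = u' := by
      rw [Equiv.Perm.mul_apply, Equiv.swap_apply_of_ne_of_ne n1 n2, Equiv.swap_apply_left]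
    have k2 : (Equiv.swap u u' * Equiv.swap w w') w = w' := by
      rw [Equiv.Perm.mul_apply, Equiv.swap_apply_left, Equiv.swap_apply_of_ne_of_ne n3 n4]
    have hk : Equiv.swap u u' * Equiv.swap w w' ∈ L :=
      L.mul_mem (hswH _ _ hu0 hu'0 (hu.trans hu'.symm)) (hswH _ _ hw0 hw'0 (hw.trans hw'.symm))
    have e : Equiv.swap u' w' = (Equiv.swap u u' * Equiv.swap w w') * Equiv.swap u w *
        (Equiv.swap u u' * Equiv.swap w w')⁻¹ := by
      rw [← Equiv.swap_apply_apply, k1, k2]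
    rw [e]; exact L.mul_mem (L.mul_mem hk hsw) (L.inv_mem hk)
  -- all swaps avoiding x₀
  have hall : ∀ p q : Ω, p ≠ x₀ → q ≠ x₀ → Equiv.swap p q ∈ L := by
    intro p q hp hq
    by_cases h : f p = f q
    · exact hswH p q hp hq h
    · rcases fin2_ne h with ⟨h1, h2⟩ | ⟨h1, h2⟩
      · exact hmixed p q hp hq h1 h2
      · rw [Equiv.swap_comm]; exact hmixed q p hq hp h2 h1
  apply le_antisymm hle
  intro g' hg'
  exact mem_of_swaps x₀ L hall _ g' rfl (MulAction.mem_stabilizer_iff.1 hg')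

theorem core (m : ℕ) (hm : 2 ≤ m) (f : Ω → Fin 2)
    (hf : ∀ i : Fin 2, Nat.card {x : Ω // f x = i} = m) (x₀ : Ω) (hx₀ : f x₀ = 0) :
    ∃ M H K : Subgroup (Equiv.Perm Ω), IsCoatom M ∧ M.index = Fintype.card Ω ∧ H ≤ M ∧
      IsCoatom (H.subgroupOf M) ∧ IsCoatom K ∧ H ≤ K ∧ ¬ IsCoatom (H.subgroupOf K) := by
  have cA : (Finset.univ.filter (fun x : Ω => f x = 0)).card = m := by
    rw [← Fintype.card_subtype, ← Nat.card_eq_fintype_card]; exact hf 0
  have cB : (Finset.univ.filter (fun x : Ω => f x = 1)).card = m := by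
    rw [← Fintype.card_subtype, ← Nat.card_eq_fintype_card]; exact hf 1
  obtain ⟨a₁, ha₁, ha₁0⟩ := Finset.exists_mem_ne (by omega :
    1 < (Finset.univ.filter (fun x : Ω => f x = 0)).card) x₀
  rw [Finset.mem_filter] at ha₁
  obtain ⟨b₁, hb₁⟩ : (Finset.univ.filter (fun x : Ω => f x = 1)).Nonempty :=
    Finset.card_pos.1 (by omega)
  rw [Finset.mem_filter] at hb₁
  have hb₁0 : b₁ ≠ x₀ := by
    intro e; rw [e, hx₀] at hb₁; exact absurd hb₁.2 (by decide)
  have hab : a₁ ≠ b₁ := by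
    intro e; rw [e, hb₁.2] at ha₁; exact absurd ha₁.2 (by decide)
  haveI : Nontrivial Ω := ⟨⟨a₁, x₀, ha₁0⟩⟩
  refine ⟨MulAction.stabilizer (Equiv.Perm Ω) x₀, MulAction.stabilizer (Equiv.Perm Ω) x₀ ⊓ P f,
    Subgroup.closure {g : Equiv.Perm Ω | ∀ x y : Ω, f x = f y ↔ f (g x) = f (g y)},
    ?_, ?_, inf_le_left, ?_, ?_, ?_, ?_⟩
  · exact (MulAction.isCoatom_stabilizer_iff_preprimitive (Equiv.Perm Ω) x₀).2 inferInstance
  · rw [MulAction.index_stabilizer_of_transitive, Nat.card_eq_fintype_card]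
  · apply isCoatom_subgroupOf _ _ inf_le_left
    · intro e
      have h1 : Equiv.swap a₁ b₁ ∈ MulAction.stabilizer (Equiv.Perm Ω) x₀ :=
        MulAction.mem_stabilizer_iff.2 (Equiv.swap_apply_of_ne_of_ne ha₁0.symm hb₁0.symm)
      rw [← e] at h1
      have h2 := h1.2 a₁
      rw [Equiv.swap_apply_left, hb₁.2, ha₁.2] at h2
      exact absurd h2 (by decide)
    · intro L hlt hle
      exact max_in_M m hm f hf x₀ hx₀ L hlt hle
  · exact Cfsg.Agent.S5905.result m 2 hm (le_refl 2) f hf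
  · intro g hg
    apply Subgroup.subset_closure
    intro x y
    rw [hg.2 x, hg.2 y]
  · obtain ⟨φ, hφ⟩ := Cfsg.Agent.S5905.exists_coord m f hf
    apply not_isCoatom_subgroupOf _ (P f) _ inf_le_right (Equiv.swap x₀ a₁)
      (swap_mem_P f x₀ a₁ (hx₀.trans ha₁.2.symm))
      (Subgroup.subset_closure (Cfsg.Agent.S5905.swap_mem f x₀ a₁ (hx₀.trans ha₁.2.symm)))
      ?_ (Cfsg.Agent.S5905.lift φ (Equiv.swap 0 1))
      (Subgroup.subset_closure (Cfsg.Agent.S5905.lift_mem f φ hφ _)) ?_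
    · intro h
      have h1 := MulAction.mem_stabilizer_iff.1 h.1
      rw [Equiv.Perm.smul_def, Equiv.swap_apply_left] at h1
      exact ha₁0 h1
    · intro h
      have h1 := h x₀
      rw [Cfsg.Agent.S5905.f_lift f φ hφ, hx₀, Equiv.swap_apply_left] at h1
      exact absurd h1 (by decide)

end core

/-- For every m ≥ 2 the symmetric group on 2m letters has a maximal subgroup M of index 2m together with a maximal subgroup H of M that is not second maximal: some maximal subgroup K of the symmetric group contains H without H being maximal in K. (One may take M the stabiliser of a letter, H ≅ S_m × S_{m−1} inside it, and K ≅ S_m ≀ S₂ the stabiliser of a partition into two m-sets, with H < S_m × S_m < K.) So the prime-index hypothesis in the second-maximality criterion cannot be relaxed to any even index ≥ 4. -/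
theorem result (m : ℕ) (hm : 2 ≤ m) :
    ∃ M H K : Subgroup (Equiv.Perm (Fin (2 * m))), IsCoatom M ∧ M.index = 2 * m ∧ H ≤ M ∧ IsCoatom (H.subgroupOf M) ∧
      IsCoatom K ∧ H ≤ K ∧ ¬ IsCoatom (H.subgroupOf K) := by
  have hfib : ∀ i : Fin 2, Nat.card {x : Fin (2 * m) //
      (fun x : Fin (2 * m) => (finProdFinEquiv.symm x).1) x = i} = m := by
    intro i
    rw [Nat.card_congr ((finProdFinEquiv (m := 2) (n := m)).symm.subtypeEquiv
      (p := fun x => (finProdFinEquiv.symm x).1 = i) (q := fun y : Fin 2 × Fin m => y.1 = i)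
      (fun x => Iff.rfl))]
    rw [Nat.card_congr (⟨fun y => y.1.2, fun j => ⟨(i, j), rfl⟩, by
      rintro ⟨⟨a, b⟩, h⟩
      simp only at h
      subst h
      rfl, fun j => rfl⟩ : {y : Fin 2 × Fin m // y.1 = i} ≃ Fin m), Nat.card_fin]
  obtain ⟨M, H, K, h1, h2, h3, h4, h5, h6, h7⟩ := core m hm
    (fun x : Fin (2 * m) => (finProdFinEquiv.symm x).1) hfib
    (finProdFinEquiv ((0 : Fin 2), (⟨0, by omega⟩ : Fin m))) (by simp)
  refine ⟨M, H, K, h1, ?_, h3, h4, h5, h6, h7⟩
  rw [h2, Fintype.card_fin]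

end Cfsg.Agent.S5894
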