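import Mathlib
import Cfsg.Statements.S5895
import Cfsg.Agent.S5894

set_option autoImplicit false
open Cfsg

namespace Cfsg.Agent.S5895

open scoped Pointwise

theorem coatom_ker {G Q : Type*} [Group G] [Group Q] [Finite G] (f : G →* Q)
    (hQ : (Nat.card Q).Prime) (hf : Function.Surjective f) : IsCoatom f.ker := by
  have hidx : f.ker.index = Nat.card Q := by
    rw [Subgroup.index_ker, MonoidHom.range_eq_top.2 hf, Subgroup.card_top]
  refine ⟨?_, ?_⟩
  · intro h
    rw [h, Subgroup.index_top] at hidx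
    rw [← hidx] at hQ
    exact Nat.not_prime_one hQ
  · intro X hX
    have h1 := Subgroup.relIndex_mul_index hX.le
    rw [hidx] at h1
    have h2 : X.index ∣ Nat.card Q := Dvd.intro_left _ h1
    rcases (Nat.dvd_prime hQ).1 h2 with h3 | h3
    · exact Subgroup.index_eq_one.1 h3
    · exfalso
      rw [h3] at h1
      have h4 : f.ker.relIndex X = 1 := by
        have hpos : 0 < Nat.card Q := hQ.pos
        exact Nat.eq_of_mul_eq_mul_right hpos (by rw [h1, one_mul])
      exact absurd (Subgroup.relIndex_eq_one.1 h4) (not_le_of_gt hX)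

section wr
variable (p d : ℕ) [Fact p.Prime] [NeZero d]

/-- the underlying space -/
abbrev V := ZMod d → ZMod p

/-- the ambient group -/
abbrev Gam := Equiv.Perm (V p d) × Multiplicative (ZMod d)

/-- the monomial affine group, with the shift recorded -/
def G₀ : Subgroup (Gam p d) where
  carrier := {γ | ∃ (a : ZMod d → (ZMod p)ˣ) (b : V p d), ∀ (v : V p d) (i : ZMod d),
    γ.1 v i = (a i : ZMod p) * v (i + Multiplicative.toAdd γ.2) + b i}
  mul_mem' := by
    rintro γ γ' ⟨a, b, h⟩ ⟨a', b', h'⟩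
    refine ⟨fun i => a i * a' (i + Multiplicative.toAdd γ.2),
      fun i => a i * b' (i + Multiplicative.toAdd γ.2) + b i, ?_⟩
    intro v i
    show γ.1 (γ'.1 v) i = _
    rw [h, h']
    simp only [Prod.snd_mul, toAdd_mul, Units.val_mul]
    rw [add_assoc]
    ring
  one_mem' := ⟨fun _ => 1, 0, fun v i => by simp⟩
  inv_mem' := by
    rintro γ ⟨a, b, h⟩
    refine ⟨fun i => (a (i - Multiplicative.toAdd γ.2))⁻¹,
      fun i => - (((a (i - Multiplicative.toAdd γ.2))⁻¹ : (ZMod p)ˣ) : ZMod p) *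
        b (i - Multiplicative.toAdd γ.2), ?_⟩
    intro v i
    have h1 := h (γ.1⁻¹ v) (i - Multiplicative.toAdd γ.2)
    have h2 : γ.1 (γ.1⁻¹ v) = v := by
      rw [← Equiv.Perm.mul_apply, mul_inv_cancel]; rfl
    rw [h2, sub_add_cancel] at h1
    simp only [Prod.fst_inv, Prod.snd_inv, toAdd_inv, ← sub_eq_add_neg]
    rw [h1]
    have h3 : (((a (i - Multiplicative.toAdd γ.2))⁻¹ : (ZMod p)ˣ) : ZMod p) *
        (a (i - Multiplicative.toAdd γ.2) : ZMod p) = 1 := Units.inv_mul _
    linear_combination (- (γ.1⁻¹ v) i) * h3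

/-- translations -/
def tr (b : V p d) : Gam p d := (Equiv.addRight b, 1)

theorem tr_mem (b : V p d) : tr p d b ∈ G₀ p d :=
  ⟨fun _ => 1, b, fun v i => by simp [tr]⟩

/-- diagonal maps -/
def dg (a : ZMod d → (ZMod p)ˣ) : Gam p d :=
  (⟨fun v i => (a i : ZMod p) * v i, fun v i => (((a i)⁻¹ : (ZMod p)ˣ) : ZMod p) * v i,
    fun v => by
      funext i
      show (((a i)⁻¹ : (ZMod p)ˣ) : ZMod p) * ((a i : ZMod p) * v i) = v i
      rw [← mul_assoc, Units.inv_mul, one_mul],
    fun v => by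
      funext i
      show (a i : ZMod p) * ((((a i)⁻¹ : (ZMod p)ˣ) : ZMod p) * v i) = v i
      rw [← mul_assoc, Units.mul_inv, one_mul]⟩, 1)

theorem dg_mem (a : ZMod d → (ZMod p)ˣ) : dg p d a ∈ G₀ p d :=
  ⟨a, 0, fun v i => by
    show (a i : ZMod p) * v i = (a i : ZMod p) *
      v (i + Multiplicative.toAdd (1 : Multiplicative (ZMod d))) + (0 : V p d) i
    rw [toAdd_one, add_zero, Pi.zero_apply, add_zero]⟩

/-- shifts -/
def sf (c : ZMod d) : Gam p d :=
  (⟨fun v i => v (i + c), fun v i => v (i - c),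
    fun v => by funext i; simp, fun v => by funext i; simp⟩, Multiplicative.ofAdd c)

theorem sf_mem (c : ZMod d) : sf p d c ∈ G₀ p d :=
  ⟨fun _ => 1, 0, fun v i => by simp [sf]⟩

/-- first projection -/
def fstHom : ↥(G₀ p d) →* Equiv.Perm (V p d) := (MonoidHom.fst _ _).comp (G₀ p d).subtype

/-- second projection -/
def sndHom : ↥(G₀ p d) →* Multiplicative (ZMod d) := (MonoidHom.snd _ _).comp (G₀ p d).subtype

/-- the stabiliser of the origin -/
def Mg : Subgroup ↥(G₀ p d) :=
  (MulAction.stabilizer (Equiv.Perm (V p d)) (0 : V p d)).comap (fstHom p d)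

theorem mem_Mg (γ : ↥(G₀ p d)) : γ ∈ Mg p d ↔ γ.1.1 0 = 0 := Iff.rfl

/-- translations in the group -/
def T' (b : V p d) : ↥(G₀ p d) := ⟨tr p d b, tr_mem p d b⟩

theorem T'_apply (b v : V p d) : (T' p d b).1.1 v = v + b := rfl

theorem T'_add (b b' : V p d) : T' p d (b + b') = T' p d b * T' p d b' := by
  apply Subtype.ext
  refine Prod.ext (Equiv.ext fun v => ?_) (mul_one (1 : Multiplicative (ZMod d))).symm
  show v + (b + b') = v + b' + b
  abel

theorem T'_zero : T' p d 0 = 1 := by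
  apply Subtype.ext
  refine Prod.ext (Equiv.ext fun v => ?_) rfl
  show v + 0 = v
  simp

theorem T'_neg (b : V p d) : T' p d (-b) = (T' p d b)⁻¹ := by
  apply eq_inv_of_mul_eq_one_left
  rw [← T'_add, neg_add_cancel, T'_zero]

theorem lin (γ : ↥(G₀ p d)) (hγ : γ ∈ Mg p d) (v w : V p d) :
    γ.1.1 (v + w) = γ.1.1 v + γ.1.1 w := by
  obtain ⟨a, b, h⟩ := γ.2
  have hb : b = 0 := by
    funext i
    have h1 := h 0 i
    rw [(mem_Mg p d γ).1 hγ] at h1
    simpa using h1.symm
  funext i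
  rw [Pi.add_apply, h, h, h, hb]
  simp [mul_add]

theorem conj_T' (γ : ↥(G₀ p d)) (hγ : γ ∈ Mg p d) (b : V p d) :
    γ * T' p d b * γ⁻¹ = T' p d (γ.1.1 b) := by
  apply Subtype.ext
  refine Prod.ext (Equiv.ext fun v => ?_) ?_
  · show γ.1.1 (γ.1.1⁻¹ v + b) = v + γ.1.1 b
    rw [lin p d γ hγ]
    congr 1
    rw [← Equiv.Perm.mul_apply, mul_inv_cancel]; rfl
  · show γ.1.2 * 1 * γ.1.2⁻¹ = 1
    simp

/-- diagonal elements of the group -/
def D' (a : ZMod d → (ZMod p)ˣ) : ↥(G₀ p d) := ⟨dg p d a, dg_mem p d a⟩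

theorem D'_mem (a : ZMod d → (ZMod p)ˣ) : D' p d a ∈ Mg p d := by
  rw [mem_Mg]
  funext i
  show (a i : ZMod p) * (0 : V p d) i = 0
  simp

theorem D'_apply (a : ZMod d → (ZMod p)ˣ) (v : V p d) (i : ZMod d) :
    (D' p d a).1.1 v i = (a i : ZMod p) * v i := rfl

/-- shifts in the group -/
def S' (c : ZMod d) : ↥(G₀ p d) := ⟨sf p d c, sf_mem p d c⟩

theorem S'_mem (c : ZMod d) : S' p d c ∈ Mg p d := by
  rw [mem_Mg]
  funext i
  rfl

theorem S'_apply (c : ZMod d) (v : V p d) (i : ZMod d) : (S' p d c).1.1 v i = v (i + c) := rfl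

theorem two_ne (hp2 : p ≠ 2) : (2 : ZMod p) ≠ 0 := by
  intro h
  have h1 : ((2 : ℕ) : ZMod p) = 0 := by exact_mod_cast h
  rw [ZMod.natCast_eq_zero_iff] at h1
  have h2 := Nat.le_of_dvd (by norm_num) h1
  have h3 := (Fact.out : p.Prime).two_le
  omega

theorem Mg_max (hp2 : p ≠ 2) (X : Subgroup ↥(G₀ p d)) (hX : Mg p d < X) : X = ⊤ := by
  classical
  have hconj : ∀ γ ∈ Mg p d, ∀ b, T' p d b ∈ X → T' p d (γ.1.1 b) ∈ X := by
    intro γ hγ b hb
    rw [← conj_T' p d γ hγ]
    exact X.mul_mem (X.mul_mem (hX.le hγ) hb) (X.inv_mem (hX.le hγ))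
  have hadd : ∀ b b', T' p d b ∈ X → T' p d b' ∈ X → T' p d (b + b') ∈ X := by
    intro b b' hb hb'
    rw [T'_add]; exact X.mul_mem hb hb'
  have hneg : ∀ b, T' p d b ∈ X → T' p d (-b) ∈ X := by
    intro b hb
    rw [T'_neg]; exact X.inv_mem hb
  -- a nonzero translation
  obtain ⟨γ, hγX, hγM⟩ := SetLike.exists_of_lt hX
  have hb0 : γ.1.1 0 ≠ 0 := hγM
  have hT0 : T' p d (γ.1.1 0) ∈ X := by
    have h1 : γ⁻¹ * T' p d (γ.1.1 0) ∈ Mg p d := by
      rw [mem_Mg]
      show γ.1.1⁻¹ ((0 : V p d) + γ.1.1 0) = 0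
      rw [zero_add, ← Equiv.Perm.mul_apply, inv_mul_cancel]; rfl
    have h2 : T' p d (γ.1.1 0) = γ * (γ⁻¹ * T' p d (γ.1.1 0)) := by group
    rw [h2]; exact X.mul_mem hγX (hX.le h1)
  obtain ⟨i₀, hi₀⟩ := Function.ne_iff.1 hb0
  rw [Pi.zero_apply] at hi₀
  -- single i₀ x₀
  have hs0 : T' p d (Pi.single i₀ (γ.1.1 0 i₀)) ∈ X := by
    have h1 := hconj _ (D'_mem p d (Function.update (fun _ => 1) i₀ (Units.mk0 2 (two_ne p hp2))))
      _ hT0
    have h2 := hadd _ _ h1 (hneg _ hT0)
    have e : (D' p d (Function.update (fun _ => 1) i₀ (Units.mk0 2 (two_ne p hp2)))).1.1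
        (γ.1.1 0) + -(γ.1.1 0) = Pi.single i₀ (γ.1.1 0 i₀) := by
      funext i
      rw [Pi.add_apply, Pi.neg_apply, D'_apply]
      by_cases hi : i = i₀
      · subst hi
        rw [Function.update_self, Pi.single_eq_same, Units.val_mk0]
        ring
      · rw [Function.update_of_ne hi, Pi.single_eq_of_ne hi]
        simp
    rw [e] at h2
    exact h2
  -- single i₀ y
  have hs1 : ∀ y : ZMod p, T' p d (Pi.single i₀ y) ∈ X := by
    intro y
    by_cases hy : y = 0
    · rw [hy, Pi.single_zero, T'_zero]; exact X.one_mem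
    · have h1 := hconj _ (D'_mem p d (Function.update (fun _ => 1) i₀
        (Units.mk0 (y / γ.1.1 0 i₀) (div_ne_zero hy hi₀)))) _ hs0
      have e : (D' p d (Function.update (fun _ => 1) i₀
          (Units.mk0 (y / γ.1.1 0 i₀) (div_ne_zero hy hi₀)))).1.1
          (Pi.single i₀ (γ.1.1 0 i₀)) = Pi.single i₀ y := by
        funext i
        rw [D'_apply]
        by_cases hi : i = i₀
        · subst hi
          rw [Function.update_self, Pi.single_eq_same, Pi.single_eq_same, Units.val_mk0]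
          field_simp
        · rw [Pi.single_eq_of_ne hi, Pi.single_eq_of_ne hi, mul_zero]
      rw [e] at h1
      exact h1
  -- single j y
  have hs2 : ∀ (j : ZMod d) (y : ZMod p), T' p d (Pi.single j y) ∈ X := by
    intro j y
    have h1 := hconj _ (S'_mem p d (i₀ - j)) _ (hs1 y)
    have e : (S' p d (i₀ - j)).1.1 (Pi.single i₀ y) = Pi.single j y := by
      funext i
      rw [S'_apply]
      by_cases hi : i = j
      · subst hi
        rw [Pi.single_eq_same, add_sub_cancel, Pi.single_eq_same]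
      · rw [Pi.single_eq_of_ne hi, Pi.single_eq_of_ne]
        intro h
        apply hi
        linear_combination h
    rw [e] at h1
    exact h1
  -- all translations
  have hall : ∀ b : V p d, T' p d b ∈ X := by
    intro b
    rw [← Finset.univ_sum_single b]
    apply Finset.sum_induction _ (fun b => T' p d b ∈ X) hadd
    · rw [T'_zero]; exact X.one_mem
    · intro j _
      exact hs2 j (b j)
  rw [eq_top_iff]
  intro γ' _
  have h1 : T' p d (-(γ'.1.1 0)) * γ' ∈ Mg p d := by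
    rw [mem_Mg]
    show γ'.1.1 0 + -(γ'.1.1 0) = 0
    rw [add_neg_cancel]
  have h2 : γ' = T' p d (γ'.1.1 0) * (T' p d (-(γ'.1.1 0)) * γ') := by
    rw [T'_neg]; group
  rw [h2]; exact X.mul_mem (hall _) (hX.le h1)


theorem odd_case (hp2 : p ≠ 2) (hd : 2 ≤ d) :
    ∃ (M H K : Subgroup ↥(G₀ p d)), IsCoatom M ∧ M.index = p ^ d ∧ H ≤ M ∧
      IsCoatom (H.subgroupOf M) ∧ IsCoatom K ∧ H ≤ K ∧ ¬ IsCoatom (H.subgroupOf K) := by
  classical
  have hℓ : (d.minFac).Prime := Nat.minFac_prime (by omega)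
  haveI : Fact (d.minFac).Prime := ⟨hℓ⟩
  have hdvd : d.minFac ∣ d := Nat.minFac_dvd d
  let red : Multiplicative (ZMod d) →* Multiplicative (ZMod d.minFac) :=
    AddMonoidHom.toMultiplicative (ZMod.castHom hdvd (ZMod d.minFac)).toAddMonoidHom
  let sh : ↥(G₀ p d) →* Multiplicative (ZMod d.minFac) := red.comp (sndHom p d)
  have hsh : ∀ γ : ↥(G₀ p d), sh γ = 1 ↔
      (ZMod.castHom hdvd (ZMod d.minFac)) (Multiplicative.toAdd γ.1.2) = 0 := fun γ => Iff.rfl
  have hcard : (Nat.card (Multiplicative (ZMod d.minFac))).Prime := by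
    rw [Nat.card_congr Multiplicative.toAdd, Nat.card_eq_fintype_card, ZMod.card]; exact hℓ
  have hsurjM : Function.Surjective (sh.comp (Mg p d).subtype) := by
    intro z
    obtain ⟨c, hc⟩ := ZMod.ringHom_surjective (ZMod.castHom hdvd (ZMod d.minFac))
      (Multiplicative.toAdd z)
    refine ⟨⟨S' p d c, S'_mem p d c⟩, ?_⟩
    show Multiplicative.ofAdd ((ZMod.castHom hdvd (ZMod d.minFac)) c) = z
    rw [hc]; rfl
  have hsurj : Function.Surjective sh := fun z => by
    obtain ⟨m, hm⟩ := hsurjM z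
    exact ⟨m.1, hm⟩
  have hTker : ∀ b : V p d, T' p d b ∈ sh.ker := by
    intro b
    rw [MonoidHom.mem_ker, hsh]
    show (ZMod.castHom hdvd (ZMod d.minFac)) 0 = 0
    rw [map_zero]
  have hTnotM : ∀ (j : ZMod d), T' p d (Pi.single j 1) ∉ Mg p d := by
    intro j h
    rw [mem_Mg] at h
    have h2 := congrFun h j
    rw [T'_apply, Pi.add_apply, Pi.zero_apply, zero_add, Pi.single_eq_same] at h2
    exact one_ne_zero h2
  refine ⟨Mg p d, Mg p d ⊓ sh.ker, sh.ker, ?_, ?_, inf_le_left, ?_,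
    coatom_ker sh hcard hsurj, inf_le_right, ?_⟩
  · refine ⟨?_, fun X hX => Mg_max p d hp2 X hX⟩
    intro h
    exact hTnotM 0 (by rw [h]; exact Subgroup.mem_top _)
  · letI : MulAction ↥(G₀ p d) (V p d) := MulAction.compHom (V p d) (fstHom p d)
    haveI : MulAction.IsPretransitive ↥(G₀ p d) (V p d) := ⟨fun v w => ⟨T' p d (w - v), by
      show v + (w - v) = w
      abel⟩⟩
    have hM : Mg p d = MulAction.stabilizer ↥(G₀ p d) (0 : V p d) := by
      ext γ; rfl
    rw [hM, MulAction.index_stabilizer_of_transitive, Nat.card_eq_fintype_card,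
      Fintype.card_fun, ZMod.card, ZMod.card]
  · have h1 := coatom_ker (sh.comp (Mg p d).subtype) hcard hsurjM
    have e : (Mg p d ⊓ sh.ker).subgroupOf (Mg p d) = (sh.comp (Mg p d).subtype).ker := by
      ext x
      rw [Subgroup.mem_subgroupOf, Subgroup.mem_inf, MonoidHom.mem_ker, MonoidHom.mem_ker]
      constructor
      · intro h; exact h.2
      · intro h; exact ⟨x.2, h⟩
    rw [e]; exact h1
  · have hW : ∀ (W : Set (V p d)) (g : Equiv.Perm (V p d)),
        g ∈ MulAction.stabilizer (Equiv.Perm (V p d)) W ↔ ∀ v ∈ W, g v ∈ W := by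
      intro W g
      rw [MulAction.mem_stabilizer_set_iff_smul_set_subset (Set.toFinite W)]
      constructor
      · intro h v hv
        exact h ⟨v, hv, rfl⟩
      · rintro h _ ⟨v, hv, rfl⟩
        exact h v hv
    apply Cfsg.Agent.S5894.not_isCoatom_subgroupOf (Mg p d ⊓ sh.ker)
      (sh.ker ⊓ (MulAction.stabilizer (Equiv.Perm (V p d))
        {v : V p d | ∀ i : ZMod d, (ZMod.castHom hdvd (ZMod d.minFac)) i ≠ 0 → v i = 0}).comap
          (fstHom p d)) sh.ker ?_ (T' p d (Pi.single 0 1)) ?_ (hTker _) ?_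
      (T' p d (Pi.single 1 1)) (hTker _) ?_
    · intro γ hγ
      refine ⟨hγ.2, ?_⟩
      show γ.1.1 ∈ MulAction.stabilizer (Equiv.Perm (V p d)) _
      rw [hW]
      intro v hv i hi
      obtain ⟨a, b, h⟩ := γ.2
      have hb : b = 0 := by
        funext i
        have h1 := h 0 i
        rw [(mem_Mg p d γ).1 hγ.1] at h1
        simpa using h1.symm
      have hc : (ZMod.castHom hdvd (ZMod d.minFac)) (Multiplicative.toAdd γ.1.2) = 0 :=
        (hsh γ).1 hγ.2
      rw [h, hb, hv (i + Multiplicative.toAdd γ.1.2) (by rw [map_add, hc, add_zero]; exact hi)]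
      simp
    · refine ⟨hTker _, ?_⟩
      show (T' p d (Pi.single 0 1)).1.1 ∈ MulAction.stabilizer (Equiv.Perm (V p d)) _
      rw [hW]
      intro v hv i hi
      rw [T'_apply, Pi.add_apply, hv i hi,
        Pi.single_eq_of_ne (fun e => hi (by rw [e, map_zero])), add_zero]
    · intro h
      exact hTnotM 0 h.1
    · intro h
      have h1 : (T' p d (Pi.single 1 1)).1.1 ∈ MulAction.stabilizer (Equiv.Perm (V p d))
          {v : V p d | ∀ i : ZMod d, (ZMod.castHom hdvd (ZMod d.minFac)) i ≠ 0 → v i = 0} := h.2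
      rw [hW] at h1
      have h2 := h1 0 (fun i _ => rfl) 1 (by rw [map_one]; exact one_ne_zero)
      rw [T'_apply, Pi.add_apply, Pi.zero_apply, zero_add, Pi.single_eq_same] at h2
      exact one_ne_zero h2

end wr

/-- For every prime p and every d ≥ 2 there is a finite group G with a maximal subgroup M of index p^d and a maximal subgroup H of M that is not second maximal in G: some maximal subgroup K of G contains H without H being maximal in K. (One may take G the affine group V ⋊ GL(V) of V = 𝔽_p^d, M = GL(V), H the stabiliser in M of a line W of V, and K = V ⋊ H, with H < W ⋊ H < K.) So the prime-index hypothesis in the second-maximality criterion cannot be relaxed to prime-power index. -/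
theorem result (p d : ℕ) (hp : p.Prime)
    (hd : 2 ≤ d) :
    ∃ (G : Type) (_ : Group G) (_ : Finite G) (M H K : Subgroup G), IsCoatom M ∧ M.index = p ^ d ∧ H ≤ M ∧
      IsCoatom (H.subgroupOf M) ∧ IsCoatom K ∧ H ≤ K ∧ ¬ IsCoatom (H.subgroupOf K) := by
  by_cases hp2 : p = 2
  · subst hp2
    obtain ⟨M, H, K, h1, h2, h3, h4, h5, h6, h7⟩ := Cfsg.Agent.S5894.result (2 ^ (d - 1)) (by
      calc 2 = 2 ^ 1 := by norm_num
        _ ≤ 2 ^ (d - 1) := Nat.pow_le_pow_right (by norm_num) (by omega))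
    refine ⟨Equiv.Perm (Fin (2 * 2 ^ (d - 1))), inferInstance, inferInstance, M, H, K, h1, ?_,
      h3, h4, h5, h6, h7⟩
    rw [h2, ← pow_succ', Nat.sub_add_cancel (by omega)]
  · haveI : Fact p.Prime := ⟨hp⟩
    haveI : NeZero d := ⟨by omega⟩
    obtain ⟨M, H, K, h⟩ := odd_case p d hp2 hd
    exact ⟨↥(G₀ p d), inferInstance, inferInstance, M, H, K, h⟩

end Cfsg.Agent.S5895
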