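import Mathlib
import Cfsg.Statements.S5910
import Cfsg.Agent.S5905
import Cfsg.Agent.S5894

set_option autoImplicit false

open Cfsg

namespace Cfsg.Agent.S5910

/-- The eight points in coordinates. -/
abbrev E := Fin 4 × Fin 2

/-- Bitwise xor on `Fin 4`. -/
def xr (i j : Fin 4) : Fin 4 :=
  (![![0, 1, 2, 3], ![1, 0, 3, 2], ![2, 3, 0, 1], ![3, 2, 1, 0]] : Fin 4 → Fin 4 → Fin 4) i j

/-- The ternary sum `x + y + z` of the affine space `F₂³`. -/
def tri (x y z : E) : E := (xr (xr x.1 y.1) z.1, x.2 + y.2 + z.2)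

/-- Affine permutations. -/
def Aff (g : Equiv.Perm E) : Prop := ∀ x y z : E, g (tri x y z) = tri (g x) (g y) (g z)

instance (g : Equiv.Perm E) : Decidable (Aff g) := by unfold Aff; infer_instance

theorem fin2_add (a b : Fin 2) : a + b + b = a := by revert a b; decide

theorem fin2_ne (a b : Fin 2) (h : a ≠ b) : a = 1 + b := by revert a b; decide

theorem fin2_cases (a : Fin 2) : a = 0 ∨ a = 1 := by revert a; decide

/-- The permutation `(i, ε) ↦ (σ i, ε + c i)`. -/
def mk (σ : Equiv.Perm (Fin 4)) (c : Fin 4 → Fin 2) : Equiv.Perm E where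
  toFun p := (σ p.1, p.2 + c p.1)
  invFun p := (σ.symm p.1, p.2 + c (σ.symm p.1))
  left_inv p := by
    apply Prod.ext
    · show σ.symm (σ p.1) = p.1
      exact σ.symm_apply_apply _
    · show p.2 + c p.1 + c (σ.symm (σ p.1)) = p.2
      rw [σ.symm_apply_apply, fin2_add]
  right_inv p := by
    apply Prod.ext
    · show σ (σ.symm p.1) = p.1
      exact σ.apply_symm_apply _
    · show p.2 + c (σ.symm p.1) + c (σ.symm p.1) = p.2
      rw [fin2_add]

theorem mk_aff : ∀ (σ : Equiv.Perm (Fin 4)) (c : Fin 4 → Fin 2),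
    Equiv.Perm.sign (mk σ c) = 1 → Aff (mk σ c) := by
  decide +kernel

theorem decomp (g : Equiv.Perm E) (hg : ∀ x y : E, x.1 = y.1 ↔ (g x).1 = (g y).1) :
    ∃ σ c, g = mk σ c := by
  have hs : Function.Injective (fun i : Fin 4 => (g (i, 0)).1) := by
    intro i j h
    exact (hg (i, 0) (j, 0)).mpr h
  refine ⟨Equiv.ofBijective _ (Finite.injective_iff_bijective.mp hs), fun i => (g (i, 0)).2, ?_⟩
  ext p : 1
  obtain ⟨i, ε⟩ := p
  have h1 : (g (i, ε)).1 = (g (i, 0)).1 := (hg (i, ε) (i, 0)).mp rfl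
  apply Prod.ext
  · exact h1
  · show (g (i, ε)).2 = ε + (g (i, 0)).2
    rcases fin2_cases ε with rfl | rfl
    · rw [zero_add]
    · apply fin2_ne
      intro h2
      have h3 : g (i, 1) = g (i, 0) := Prod.ext h1 h2
      have h4 := g.injective h3
      have h5 : (1 : Fin 2) = 0 := congrArg Prod.snd h4
      exact absurd h5 (by decide)

/-- The affine group. -/
def AffG : Subgroup (Equiv.Perm E) where
  carrier := {g | Aff g}
  one_mem' := fun _ _ _ => rfl
  mul_mem' := by
    intro a b ha hb x y z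
    show a (b (tri x y z)) = tri (a (b x)) (a (b y)) (a (b z))
    rw [hb, ha]
  inv_mem' := by
    intro a ha x y z
    apply a.injective
    rw [ha]
    simp

/-- An even affine permutation not preserving the partition. -/
def xe : Equiv.Perm E := Equiv.swap (0, 1) (2, 0) * Equiv.swap (1, 1) (3, 0)

/-- An even permutation that is not affine. -/
def ye : Equiv.Perm E := Equiv.swap (0, 0) (0, 1) * Equiv.swap (0, 1) (1, 0)

theorem xe_aff : Aff xe := by decide +kernel
theorem xe_sign : Equiv.Perm.sign xe = 1 := by decide +kernel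
theorem ye_sign : Equiv.Perm.sign ye = 1 := by decide +kernel
theorem ye_not_aff : ¬ Aff ye := by decide +kernel
theorem xe_00 : xe (0, 0) = (0, 0) := by decide
theorem xe_01 : xe (0, 1) = (2, 0) := by decide

theorem congr_symm {Ω : Type*} (φ : Ω ≃ E) (g : Equiv.Perm E) :
    φ.permCongr (φ.symm.permCongr g) = g := by
  ext e : 1
  simp [Equiv.permCongr_apply]

/-- Let Ω be a set with 8 elements and f : Ω → Fin 4 a labelling whose four fibres all have size 2 (a partition of the 8 points into 4 pairs). Then the group of even permutations preserving this partition, (S₂ ≀ S₄) ∩ A₈, is not a maximal subgroup of the alternating group A₈ (it lies in a subgroup isomorphic to the affine group AGL₃(2)). -/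
theorem result {Ω : Type*} [Fintype Ω] [DecidableEq Ω] (h8 : Fintype.card Ω = 8)
    (f : Ω → Fin 4) (hf : ∀ i : Fin 4, Nat.card {x : Ω // f x = i} = 2) :
    ¬ IsCoatom ((Subgroup.closure {g : Equiv.Perm Ω | ∀ x y : Ω, f x = f y ↔ f (g x) = f (g y)} ⊓ alternatingGroup Ω).subgroupOf (alternatingGroup Ω)) := by
  classical
  obtain ⟨φ, hφ⟩ := Cfsg.Agent.S5905.exists_coord 2 f hf
  -- the intermediate subgroup
  let P : Subgroup (Equiv.Perm Ω) := AffG.comap (φ.permCongrHom : Equiv.Perm Ω ≃* Equiv.Perm E).toMonoidHom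
  have hP : ∀ g : Equiv.Perm Ω, g ∈ P ↔ Aff (φ.permCongr g) := fun g => Iff.rfl
  have hfφ : ∀ e : E, f (φ.symm e) = e.1 := by
    intro e
    rw [← hφ, Equiv.apply_symm_apply]
  refine Cfsg.Agent.S5894.not_isCoatom_subgroupOf
    (Subgroup.closure {g : Equiv.Perm Ω | ∀ x y : Ω, f x = f y ↔ f (g x) = f (g y)} ⊓
      alternatingGroup Ω) P (alternatingGroup Ω) ?_
    (φ.symm.permCongr xe) ?_ ?_ ?_ (φ.symm.permCongr ye) ?_ ?_
  · -- H ≤ P
    intro g hg
    obtain ⟨hg1, hg2⟩ := Subgroup.mem_inf.mp hg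
    have hg1' : g ∈ Cfsg.Agent.S5905.PS f := (Cfsg.Agent.S5905.mem_closure_ps f g).mp hg1
    rw [hP]
    have hfib : ∀ x y : E, x.1 = y.1 ↔ (φ.permCongr g x).1 = (φ.permCongr g y).1 := by
      intro x y
      rw [Equiv.permCongr_apply, Equiv.permCongr_apply, hφ, hφ, ← hfφ x, ← hfφ y]
      exact hg1' _ _
    obtain ⟨σ, c, e⟩ := decomp _ hfib
    have hsign : Equiv.Perm.sign (φ.permCongr g) = 1 := by
      rw [Equiv.Perm.sign_permCongr]
      exact Equiv.Perm.mem_alternatingGroup.mp hg2
    rw [e] at hsign ⊢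
    exact mk_aff σ c hsign
  · -- x ∈ P
    rw [hP, congr_symm]
    exact xe_aff
  · -- x even
    rw [Equiv.Perm.mem_alternatingGroup, Equiv.Perm.sign_permCongr]
    exact xe_sign
  · -- x ∉ H
    intro hx
    have hx1 := (Cfsg.Agent.S5905.mem_closure_ps f _).mp (Subgroup.mem_inf.mp hx).1
    have h1 := (hx1 (φ.symm (0, 0)) (φ.symm (0, 1))).mp (by rw [hfφ, hfφ])
    rw [Equiv.permCongr_apply, Equiv.permCongr_apply, Equiv.symm_symm, Equiv.apply_symm_apply,
      Equiv.apply_symm_apply, hfφ, hfφ, xe_00, xe_01] at h1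
    exact absurd h1 (by decide)
  · -- y even
    rw [Equiv.Perm.mem_alternatingGroup, Equiv.Perm.sign_permCongr]
    exact ye_sign
  · -- y ∉ P
    rw [hP, congr_symm]
    exact ye_not_aff

end Cfsg.Agent.S5910
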