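import Mathlib
import Cfsg.Statements.S5911
import Cfsg.Agent.S5894

set_option autoImplicit false
open Cfsg

namespace Cfsg.Agent.S5911

open scoped Pointwise

theorem Q_ineq : ∀ j : ℕ, 4 ≤ j → 2 ^ j * j.factorial < 2 * (2 * j - 2).factorial := by
  intro j hj
  induction j, hj using Nat.le_induction with
  | base => decide
  | succ j hj ih =>
    obtain ⟨t, ht⟩ : ∃ t, 2 * j - 2 = t := ⟨_, rfl⟩
    have e1 : 2 * (j + 1) - 2 = t + 2 := by omega
    rw [e1, Nat.factorial_succ (t + 1), Nat.factorial_succ t, Nat.factorial_succ j, pow_succ]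
    rw [ht] at ih
    have hpos : 0 < t.factorial := Nat.factorial_pos t
    have h1 : 2 * (j + 1) ≤ (t + 1 + 1) * (t + 1) := by
      have h2 : t + 2 = 2 * j := by omega
      nlinarith
    calc 2 ^ j * 2 * ((j + 1) * j.factorial) = 2 * (j + 1) * (2 ^ j * j.factorial) := by ring
      _ < 2 * (j + 1) * (2 * t.factorial) := by
        apply Nat.mul_lt_mul_of_pos_left ih (by omega)
      _ = 2 * ((2 * (j + 1)) * t.factorial) := by ring
      _ ≤ 2 * (((t + 1 + 1) * (t + 1)) * t.factorial) :=
        Nat.mul_le_mul_left _ (Nat.mul_le_mul_right _ h1)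
      _ = 2 * ((t + 1 + 1) * ((t + 1) * t.factorial)) := by ring

theorem F_ineq : ∀ m j : ℕ, 2 ≤ j → 7 ≤ m + 2 * j →
    m.factorial * 2 ^ j * j.factorial < 2 * (m + 2 * j - 2).factorial := by
  intro m
  induction m with
  | zero =>
    intro j hj h7
    have h := Q_ineq j (by omega)
    simpa using h
  | succ m ih =>
    intro j hj h7
    by_cases h : 7 ≤ m + 2 * j
    · have ih' := ih j hj h
      obtain ⟨t, ht⟩ : ∃ t, m + 2 * j - 2 = t := ⟨_, rfl⟩
      have e1 : m + 1 + 2 * j - 2 = t + 1 := by omega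
      rw [e1, Nat.factorial_succ, Nat.factorial_succ]
      rw [ht] at ih'
      have hpos : 0 < t.factorial := Nat.factorial_pos t
      calc (m + 1) * m.factorial * 2 ^ j * j.factorial
          = (m + 1) * (m.factorial * 2 ^ j * j.factorial) := by ring
        _ < (m + 1) * (2 * t.factorial) := Nat.mul_lt_mul_of_pos_left ih' (by omega)
        _ = 2 * ((m + 1) * t.factorial) := by ring
        _ ≤ 2 * ((t + 1) * t.factorial) :=
          Nat.mul_le_mul_left _ (Nat.mul_le_mul_right _ (by omega))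
    · have h' : (m = 2 ∧ j = 2) ∨ (m = 0 ∧ j = 3) := by omega
      rcases h' with ⟨rfl, rfl⟩ | ⟨rfl, rfl⟩ <;> decide

theorem ineq (n j : ℕ) (h5 : 5 ≤ n) (h6 : n ≠ 6) (hj : 2 ≤ j) (hjn : 2 * j ≤ n) :
    (n - 2 * j).factorial * 2 ^ j * j.factorial ≠ 2 * (n - 2).factorial := by
  by_cases h7 : 7 ≤ n
  · have h := F_ineq (n - 2 * j) j hj (by omega)
    have e : n - 2 * j + 2 * j - 2 = n - 2 := by omega
    rw [e] at h
    exact h.ne
  · have hn : n = 5 := by omega
    have hj2 : j = 2 := by omega
    subst hn hj2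
    decide

theorem choose_gt : ∀ n k : ℕ, 2 ≤ k → k + 2 ≤ n → n < n.choose k := by
  intro n
  induction n with
  | zero => intro k h2 h; omega
  | succ n ih =>
    intro k h2 hk
    obtain ⟨k', rfl⟩ : ∃ k', k = k' + 1 := ⟨k - 1, by omega⟩
    rw [Nat.choose_succ_succ']
    by_cases h : k' + 1 + 2 ≤ n
    · have h1 := ih (k' + 1) h2 h
      have h3 : 0 < n.choose k' := Nat.choose_pos (by omega)
      omega
    · have hn : n = k' + 2 := by omega
      subst hn
      have h1 : (k' + 2).choose (k' + 1) = k' + 2 := Nat.choose_succ_self_right (k' + 1)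
      have h3 : 2 ≤ (k' + 2).choose k' := by
        rw [← Nat.choose_symm (by omega : k' ≤ k' + 2)]
        have e : k' + 2 - k' = 2 := by omega
        rw [e, Nat.choose_two_right]
        have h4 : 3 ≤ k' + 2 := by omega
        have h5 : 2 * 2 ≤ (k' + 2) * (k' + 2 - 1) := by
          have : k' + 2 - 1 = k' + 1 := by omega
          rw [this]; nlinarith
        omega
      omega

theorem card_centralizer_swap {A : Type*} [Fintype A] [DecidableEq A] (σ : Equiv.Perm A)
    (hσ : σ.IsSwap) :
    Nat.card (Subgroup.centralizer {σ}) = 2 * (Fintype.card A - 2).factorial := by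
  rw [Equiv.Perm.nat_card_centralizer, hσ.isCycle.cycleType,
    Equiv.Perm.card_support_eq_two.2 hσ]
  simp
  ring

theorem card_centralizer_invol {A : Type*} [Fintype A] [DecidableEq A] (π : Equiv.Perm A)
    (k : ℕ) (hπ : π.cycleType = Multiset.replicate (k + 1) 2) :
    Nat.card (Subgroup.centralizer {π}) =
      (Fintype.card A - 2 * (k + 1)).factorial * 2 ^ (k + 1) * (k + 1).factorial := by
  rw [Equiv.Perm.nat_card_centralizer, hπ]
  have h1 : (Multiset.replicate (k + 1) 2).toFinset = {2} := by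
    rw [Multiset.toFinset_replicate, if_neg (by omega)]
  rw [h1, Finset.prod_singleton, Multiset.count_replicate_self, Multiset.sum_replicate,
    Multiset.prod_replicate, smul_eq_mul, mul_comm (k + 1) 2]

theorem swap_of_iso {A B : Type*} [Fintype A] [DecidableEq A] [Fintype B] [DecidableEq B]
    (hcard : Fintype.card A = Fintype.card B) (h5 : 5 ≤ Fintype.card A)
    (h6 : Fintype.card A ≠ 6) (e : Equiv.Perm A ≃* Equiv.Perm B) (σ : Equiv.Perm A)
    (hσ : σ.IsSwap) : (e σ).IsSwap := by
  have hord : orderOf (e σ) = 2 := by rw [MulEquiv.orderOf_eq, hσ.orderOf]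
  obtain ⟨k, hk⟩ := Equiv.Perm.cycleType_prime_order (σ := e σ) (by rw [hord]; exact Nat.prime_two)
  rw [hord] at hk
  have hc1 := card_centralizer_swap σ hσ
  have hc2 := card_centralizer_invol (e σ) k hk
  have hceq : Nat.card (Subgroup.centralizer {e σ}) = Nat.card (Subgroup.centralizer {σ}) := by
    apply Nat.card_congr
    exact (e.toEquiv.subtypeEquiv (fun x => by
      simp only [Subgroup.mem_centralizer_iff, Set.mem_singleton_iff, forall_eq]
      show σ * x = x * σ ↔ e σ * e x = e x * e σ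
      rw [← map_mul, ← map_mul, e.injective.eq_iff])).symm
  have hsum := Equiv.Perm.sum_cycleType_le (e σ)
  rw [hk, Multiset.sum_replicate, smul_eq_mul] at hsum
  have hk0 : k = 0 := by
    by_contra hk0
    have h1 := ineq (Fintype.card B) (k + 1) (by omega) (by omega) (by omega) (by omega)
    apply h1
    rw [← hc2, hceq, hc1, hcard]
  subst hk0
  rw [← Equiv.Perm.card_support_eq_two, ← Equiv.Perm.sum_cycleType, hk]
  simp

theorem fixed_of_orbit {Ω : Type*} [Fintype Ω] [DecidableEq Ω] (H : Subgroup (Equiv.Perm Ω))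
    (hH : H.index = Fintype.card Ω) (x : Ω) (hx : ∃ y, y ∉ MulAction.orbit H x) :
    ∃ z : Ω, H ≤ MulAction.stabilizer (Equiv.Perm Ω) z := by
  classical
  obtain ⟨y, hy⟩ := hx
  have hinv : ∀ h ∈ H, ∀ z, z ∈ MulAction.orbit H x → h z ∈ MulAction.orbit H x := by
    rintro h hh z ⟨g, rfl⟩
    refine ⟨⟨h, hh⟩ * g, ?_⟩
    show (⟨h, hh⟩ * g : ↥H) • x = h (g • x)
    rw [mul_smul]; rfl
  have hinv' : ∀ h ∈ H, ∀ z, h z ∈ MulAction.orbit H x → z ∈ MulAction.orbit H x := by
    intro h hh z hz
    have h1 := hinv h⁻¹ (H.inv_mem hh) _ hz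
    rwa [← Equiv.Perm.mul_apply, inv_mul_cancel] at h1
  obtain ⟨s, hs⟩ : ∃ s : Finset Ω, (s : Set Ω) = MulAction.orbit H x :=
    ⟨(Set.toFinite (MulAction.orbit H x)).toFinset, Set.Finite.coe_toFinset _⟩
  have hmem : ∀ z, z ∈ s ↔ z ∈ MulAction.orbit H x := by
    intro z; rw [← hs]; exact Iff.rfl
  have hxs : x ∈ s := (hmem x).2 (MulAction.mem_orbit_self x)
  have hys : y ∉ s := fun h => hy ((hmem y).1 h)
  -- the stabiliser
  have hle : H ≤ MulAction.stabilizer (Equiv.Perm Ω) (⟨s, rfl⟩ : Set.powersetCard Ω s.card) := by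
    intro h hh
    rw [Set.powersetCard.stabilizer_coe, MulAction.mem_stabilizer_set_iff_smul_set_subset
      (Set.toFinite _)]
    rintro _ ⟨z, hz, rfl⟩
    exact (hmem _).2 (hinv h hh z ((hmem z).1 hz))
  have hidx : (MulAction.stabilizer (Equiv.Perm Ω)
      (⟨s, rfl⟩ : Set.powersetCard Ω s.card)).index = (Fintype.card Ω).choose s.card := by
    haveI := Set.powersetCard.isPretransitive (α := Ω) (n := s.card)
    rw [MulAction.index_stabilizer_of_transitive, Set.powersetCard.card,
      Nat.card_eq_fintype_card]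
  have hdvd := Subgroup.index_dvd_of_le hle
  rw [hidx, hH] at hdvd
  have hn0 : 0 < Fintype.card Ω := Fintype.card_pos_iff.2 ⟨x⟩
  have hle2 := Nat.le_of_dvd hn0 hdvd
  have hk1 : 1 ≤ s.card := Finset.card_pos.2 ⟨x, hxs⟩
  have hk2 : s.card < Fintype.card Ω := by
    apply Finset.card_lt_card
    exact ⟨Finset.subset_univ _, fun h => hys (h (Finset.mem_univ y))⟩
  have hcases : s.card = 1 ∨ s.card + 1 = Fintype.card Ω := by
    by_contra hcon
    push_neg at hcon
    have h1 := choose_gt (Fintype.card Ω) s.card (by omega) (by omega)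
    omega
  rcases hcases with h1 | h1
  · obtain ⟨a, ha⟩ := Finset.card_eq_one.1 h1
    refine ⟨x, fun h hh => ?_⟩
    rw [MulAction.mem_stabilizer_iff]
    have h2 : h x ∈ s := (hmem _).2 (hinv h hh x (MulAction.mem_orbit_self x))
    rw [ha, Finset.mem_singleton] at h2 hxs
    show h x = x
    rw [h2, hxs]
  · have h2 : sᶜ.card = 1 := by rw [Finset.card_compl]; omega
    obtain ⟨a, ha⟩ := Finset.card_eq_one.1 h2
    have hya : y = a := by
      have h3 : y ∈ sᶜ := Finset.mem_compl.2 hys
      rw [ha, Finset.mem_singleton] at h3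
      exact h3
    refine ⟨y, fun h hh => ?_⟩
    rw [MulAction.mem_stabilizer_iff]
    have h3 : h y ∈ sᶜ := by
      rw [Finset.mem_compl]
      intro h4
      exact hy (hinv' h hh y ((hmem _).1 h4))
    rw [ha, Finset.mem_singleton] at h3
    show h y = y
    rw [h3, hya]

theorem gen_by_swaps {Ω : Type*} [Fintype Ω] [DecidableEq Ω] (H : Subgroup (Equiv.Perm Ω))
    (hH : H.index = Fintype.card Ω) (h5 : 5 ≤ Fintype.card Ω) (h6 : Fintype.card Ω ≠ 6) :
    H ≤ Subgroup.closure {σ : Equiv.Perm Ω | σ.IsSwap ∧ σ ∈ H} := by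
  classical
  haveI : Fintype (Equiv.Perm Ω ⧸ H) := Fintype.ofFinite _
  have hXcard : Fintype.card (Equiv.Perm Ω ⧸ H) = Fintype.card Ω := by
    rw [← hH, Subgroup.index, Nat.card_eq_fintype_card]
  haveI : Nontrivial Ω := Fintype.one_lt_card_iff_nontrivial.1 (by omega)
  have hker : (MulAction.toPermHom (Equiv.Perm Ω) (Equiv.Perm Ω ⧸ H)).ker = ⊥ := by
    rw [← Subgroup.normalCore_eq_ker]
    by_contra hne
    have hnt : Nontrivial H.normalCore := (Subgroup.nontrivial_iff_ne_bot _).2 hne
    have h1 := Equiv.Perm.alternatingGroup_le_of_normal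
      (by rw [Nat.card_eq_fintype_card]; exact h5) hnt
    have h2 := Subgroup.index_dvd_of_le (h1.trans (Subgroup.normalCore_le H))
    rw [hH, alternatingGroup.index_eq_two] at h2
    have h3 := Nat.le_of_dvd (by norm_num) h2
    omega
  have hinj : Function.Injective (MulAction.toPermHom (Equiv.Perm Ω) (Equiv.Perm Ω ⧸ H)) :=
    (MonoidHom.ker_eq_bot_iff _).1 hker
  have hbij : Function.Bijective (MulAction.toPermHom (Equiv.Perm Ω) (Equiv.Perm Ω ⧸ H)) := by
    rw [Fintype.bijective_iff_injective_and_card]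
    exact ⟨hinj, by rw [Fintype.card_perm, Fintype.card_perm, hXcard]⟩
  have hpt : ∀ g : Equiv.Perm Ω, g ∈ H ↔
      MulAction.toPermHom (Equiv.Perm Ω) (Equiv.Perm Ω ⧸ H) g
        ((1 : Equiv.Perm Ω) : Equiv.Perm Ω ⧸ H) = ((1 : Equiv.Perm Ω) : Equiv.Perm Ω ⧸ H) := by
    intro g
    conv_lhs => rw [← MulAction.stabilizer_quotient H]
    exact MulAction.mem_stabilizer_iff
  intro h hh
  have hL : ∀ u v : Equiv.Perm Ω ⧸ H, u ≠ ((1 : Equiv.Perm Ω) : Equiv.Perm Ω ⧸ H) →
      v ≠ ((1 : Equiv.Perm Ω) : Equiv.Perm Ω ⧸ H) → Equiv.swap u v ∈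
        (Subgroup.closure {σ : Equiv.Perm Ω | σ.IsSwap ∧ σ ∈ H}).map
          (MulAction.toPermHom (Equiv.Perm Ω) (Equiv.Perm Ω ⧸ H)) := by
    intro u v hu hv
    by_cases huv : u = v
    · rw [huv, Equiv.swap_self]; exact Subgroup.one_mem _
    · have he : MulAction.toPermHom (Equiv.Perm Ω) (Equiv.Perm Ω ⧸ H)
          ((MulEquiv.ofBijective _ hbij).symm (Equiv.swap u v)) = Equiv.swap u v :=
        (MulEquiv.ofBijective _ hbij).apply_symm_apply _
      refine ⟨(MulEquiv.ofBijective _ hbij).symm (Equiv.swap u v),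
        Subgroup.subset_closure ⟨?_, ?_⟩, he⟩
      · exact swap_of_iso hXcard (by omega) (by omega) (MulEquiv.ofBijective _ hbij).symm _
          ⟨u, v, huv, rfl⟩
      · rw [hpt, he]
        exact Equiv.swap_apply_of_ne_of_ne hu.symm hv.symm
  have hmem := Cfsg.Agent.S5894.mem_of_swaps ((1 : Equiv.Perm Ω) : Equiv.Perm Ω ⧸ H) _ hL _
    (MulAction.toPermHom (Equiv.Perm Ω) (Equiv.Perm Ω ⧸ H) h) rfl ((hpt h).1 hh)
  obtain ⟨t, ht, hte⟩ := hmem
  rw [← hinj hte]
  exact ht

/-- Let Ω be a finite set whose size n is not 6. Then every subgroup of the symmetric group on Ω of index n is the stabilizer of a point. -/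
theorem result {Ω : Type*} [Fintype Ω] [DecidableEq Ω] (h6 : Fintype.card Ω ≠ 6)
    (H : Subgroup (Equiv.Perm Ω)) (hH : H.index = Fintype.card Ω) :
    ∃ x : Ω, H = MulAction.stabilizer (Equiv.Perm Ω) x := by
  classical
  have hn0 : Fintype.card Ω ≠ 0 := by rw [← hH]; exact Subgroup.index_ne_zero_of_finite
  obtain ⟨x⟩ : Nonempty Ω := Fintype.card_pos_iff.1 (by omega)
  have hfix : ∃ z : Ω, H ≤ MulAction.stabilizer (Equiv.Perm Ω) z := by
    by_cases hone : Fintype.card Ω = 1
    · refine ⟨x, fun h _ => ?_⟩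
      rw [MulAction.mem_stabilizer_iff]
      haveI : Subsingleton Ω := Fintype.card_le_one_iff_subsingleton.1 (by omega)
      exact Subsingleton.elim _ _
    · by_cases htr : ∃ y, y ∉ MulAction.orbit H x
      · exact fixed_of_orbit H hH x htr
      · exfalso
        push_neg at htr
        by_cases h5 : 5 ≤ Fintype.card Ω
        · have hgen := gen_by_swaps H hH h5 h6
          have htop : Subgroup.closure {σ : Equiv.Perm Ω | σ.IsSwap ∧ σ ∈ H} = ⊤ := by
            haveI : MulAction.IsPretransitive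
                (Subgroup.closure {σ : Equiv.Perm Ω | σ.IsSwap ∧ σ ∈ H}) Ω := by
              refine ⟨fun a b => ?_⟩
              obtain ⟨g, hg⟩ := htr a
              obtain ⟨g', hg'⟩ := htr b
              refine ⟨⟨g'.1 * g.1⁻¹, Subgroup.mul_mem _ (hgen g'.2)
                (Subgroup.inv_mem _ (hgen g.2))⟩, ?_⟩
              have e1 : g.1 x = a := hg
              have e2 : g'.1 x = b := hg'
              have e3 : g.1⁻¹ (g.1 x) = x := by
                rw [← Equiv.Perm.mul_apply, inv_mul_cancel]; rfl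
              show g'.1 (g.1⁻¹ a) = b
              rw [← e1, e3]
              exact e2
            exact closure_of_isSwap_of_isPretransitive (fun σ hσ => hσ.1)
          have hHtop : H = ⊤ :=
            top_le_iff.1 (htop ▸ (Subgroup.closure_le H).2 (fun σ hσ => hσ.2))
          rw [hHtop, Subgroup.index_top] at hH
          omega
        · have hdvd : Fintype.card Ω ∣ Nat.card H := by
            have h1 := MulAction.index_stabilizer H x
            have h2 : MulAction.orbit H x = Set.univ := Set.eq_univ_of_forall htr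
            rw [h2, Set.ncard_univ, Nat.card_eq_fintype_card] at h1
            rw [← h1]
            exact Subgroup.index_dvd_card _
          have hcardH : Nat.card H * Fintype.card Ω = (Fintype.card Ω).factorial := by
            have h1 := Subgroup.card_mul_index H
            rw [hH, Nat.card_eq_fintype_card (α := Equiv.Perm Ω), Fintype.card_perm] at h1
            exact h1
          obtain ⟨c, hc⟩ := hdvd
          rw [hc] at hcardH
          have hsmall : Fintype.card Ω = 2 ∨ Fintype.card Ω = 3 ∨ Fintype.card Ω = 4 := by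
            omega
          rcases hsmall with h | h | h <;> rw [h] at hcardH <;>
            simp [Nat.factorial] at hcardH <;> omega
  obtain ⟨z, hz⟩ := hfix
  refine ⟨z, le_antisymm hz ?_⟩
  have hidx : (MulAction.stabilizer (Equiv.Perm Ω) z).index = Fintype.card Ω := by
    rw [MulAction.index_stabilizer_of_transitive, Nat.card_eq_fintype_card]
  have h1 := Subgroup.relIndex_mul_index hz
  rw [hidx, hH] at h1
  have h2 : H.relIndex (MulAction.stabilizer (Equiv.Perm Ω) z) = 1 := by
    have hpos : 0 < Fintype.card Ω := by omega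
    exact Nat.eq_of_mul_eq_mul_right hpos (by rw [h1, one_mul])
  exact Subgroup.relIndex_eq_one.1 h2

end Cfsg.Agent.S5911
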